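import Cfsg.Agent.Omega.NOThreeL.RWide.Coord
import Mathlib.Algebra.CharP.Lemmas
import Mathlib.Algebra.CharP.Two
import Mathlib.FieldTheory.Finite.Basic
import Mathlib.LinearAlgebra.Matrix.SpecialLinearGroup

/-!
# Natural blocks of `V*` under a Sylow 2-subgroup (helper848 #24915 (A), helper902 #25389)

`V = ∏ N b`, `N b` a natural `SL₂(F b)`-module for `E b` with line `l b`, `S` permutes the pairs `(N b, l b)` and acts
semilinearly; `B = C_S(∏ l b)`, `T` = the kernel of `S` on the blocks.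

* `NB`, `Bls` : the structures; `TT`, `BB`, `FF` : `T`, `B`, `F b = C_{l b}(T)`;
* `Kd` : coordinates `x v b`, `y v b ∈ F b` of `v ∈ V`; `Bls.exists_kd`;
* `Kd.actB` : `b ∈ B` acts as `x ↦ x + t y`, `y ↦ y`.
-/

set_option autoImplicit false
set_option linter.unusedSectionVars false

namespace Cfsg.Agent.Omega.NOThreeL.RWide.TBlk

open Subgroup Cfsg.Agent.ZN.ChoiceBase

universe u v

variable {G : Type u} [Group G]

/-- A natural block. -/
structure NB (S E N l : Subgroup G) (F : Type) [Field F] (e : G → Fin 2 → F) : Prop where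
  mul : ∀ v ∈ N, ∀ w ∈ N, e (v * w) = e v + e w
  inj : ∀ v ∈ N, e v = 0 → v = 1
  sur : ∀ x : Fin 2 → F, ∃ v ∈ N, e v = x
  line : ∀ v, v ∈ l ↔ v ∈ N ∧ e v 1 = 0
  full : ∀ M : Matrix.SpecialLinearGroup (Fin 2) F, ∃ g ∈ E, ∀ v ∈ N, e (g * v * g⁻¹) = M.1.mulVec (e v)
  root : ∀ c : F, ∃ s ∈ S ⊓ E, ∀ v ∈ N, e (s * v * s⁻¹) = ![e v 0 + c * e v 1, e v 1]
  semi : ∀ s ∈ S, s ∈ normalizer (N : Set G) → ∃ (σ : F ≃+* F) (a b d : F),
    ∀ v ∈ N, e (s * v * s⁻¹) = ![a * σ (e v 0) + b * σ (e v 1), d * σ (e v 1)]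

variable {ι : Type v}

/-- Natural blocks of `V`. -/
structure Bls (S V : Subgroup G) (N l E : ι → Subgroup G) : Prop where
  com : ∀ v ∈ V, ∀ w ∈ V, v * w = w * v
  sup : ⨆ b, N b = V
  ind : ∀ b, N b ⊓ (⨆ c : {c // c ≠ b}, N c) = ⊥
  EN : ∀ b, E b ≤ normalizer (N b : Set G)
  EC : ∀ b c, b ≠ c → E b ≤ centralizer (N c : Set G)
  nat : ∀ b, ∃ (F : Type) (_ : Field F) (_ : Finite F) (_ : CharP F 2) (e : G → Fin 2 → F), NB S (E b) (N b) (l b) F e
  perm : ∀ s ∈ S, ∀ b, ∃ c, cj s (N b) = N c ∧ cj s (l b) = l c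

/-- the kernel of `S` on the blocks -/
def TT (S : Subgroup G) (N : ι → Subgroup G) : Subgroup G := S ⊓ ⨅ b, normalizer (N b : Set G)

/-- `B = C_S(Z_J)` -/
def BB (S : Subgroup G) (l : ι → Subgroup G) : Subgroup G := S ⊓ centralizer ((⨆ b, l b : Subgroup G) : Set G)

/-- `F b = C_{l b}(T)` -/
def FF (S : Subgroup G) (N l : ι → Subgroup G) (b : ι) : Subgroup G := l b ⊓ centralizer (TT S N : Set G)

/-- Coordinates of `V`. -/
structure Kd (S V : Subgroup G) (N l E : ι → Subgroup G) {F : ι → Type} [∀ b, Field (F b)] (x y : G → ∀ b, F b) :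
    Prop where
  com : ∀ v ∈ V, ∀ w ∈ V, v * w = w * v
  xm : ∀ v ∈ V, ∀ w ∈ V, ∀ b, x (v * w) b = x v b + x w b
  ym : ∀ v ∈ V, ∀ w ∈ V, ∀ b, y (v * w) b = y v b + y w b
  inj : ∀ v ∈ V, (∀ b, x v b = 0) → (∀ b, y v b = 0) → v = 1
  sur : ∀ a c : ∀ b, F b, ∃ v ∈ V, (∀ b, x v b = a b) ∧ ∀ b, y v b = c b
  memN : ∀ b v, v ∈ N b ↔ v ∈ V ∧ (∀ c, c ≠ b → x v c = 0) ∧ ∀ c, c ≠ b → y v c = 0
  meml : ∀ b v, v ∈ l b ↔ v ∈ V ∧ (∀ c, c ≠ b → x v c = 0) ∧ ∀ c, y v c = 0
  EV : ∀ b, E b ≤ normalizer (V : Set G)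
  full : ∀ b (α β γ δ : F b), α * δ - β * γ = 1 → ∃ h ∈ E b, ∀ v ∈ V,
    (x (h * v * h⁻¹) b = α * x v b + β * y v b ∧ y (h * v * h⁻¹) b = γ * x v b + δ * y v b) ∧
    ∀ c, c ≠ b → x (h * v * h⁻¹) c = x v c ∧ y (h * v * h⁻¹) c = y v c
  SV : S ≤ normalizer (V : Set G)
  root : ∀ b (a : F b), ∃ s ∈ S, ∀ v ∈ V,
    (x (s * v * s⁻¹) b = x v b + a * y v b ∧ y (s * v * s⁻¹) b = y v b) ∧
    ∀ c, c ≠ b → x (s * v * s⁻¹) c = x v c ∧ y (s * v * s⁻¹) c = y v c
  semi : ∀ s ∈ S, ∀ b, s ∈ normalizer (N b : Set G) → ∃ (σ : F b ≃+* F b) (a c d : F b),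
    ∀ v ∈ V, x (s * v * s⁻¹) b = a * σ (x v b) + c * σ (y v b) ∧ y (s * v * s⁻¹) b = d * σ (y v b)
  perm : ∀ s ∈ S, ∀ b, ∃ c, cj s (N b) = N c ∧ cj s (l b) = l c

/-- components under an element permuting the factors -/
theorem co_conj {N : ι → Subgroup G} {κ : G → ι → G} (h : Co N κ) {g : G} {π : ι → ι} (hπ : Function.Injective π)
    (hg : ∀ i, ∀ v ∈ N i, g * v * g⁻¹ ∈ N (π i)) {v : G} (hv : v ∈ ⨆ i, N i) :
    g * v * g⁻¹ ∈ ⨆ i, N i ∧ ∀ c, κ (g * v * g⁻¹) (π c) = g * κ v c * g⁻¹ := by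
  induction hv using Subgroup.iSup_induction' with
  | hp i w hw =>
    have h1 := hg i w hw
    refine ⟨(le_iSup N (π i)) h1, fun c => ?_⟩
    by_cases hc : c = i
    · subst hc
      rw [h.self _ _ h1, h.self _ _ hw]
    · rw [h.off _ _ h1 _ (fun e => hc (hπ e)), h.off _ _ hw _ hc, mul_one, mul_inv_cancel]
  | h1 => exact ⟨by rw [mul_one, mul_inv_cancel]; exact one_mem _, fun c => by
      rw [mul_one, mul_inv_cancel, h.one, h.one, mul_one, mul_inv_cancel]⟩
  | hmul a b ha hb iha ihb =>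
    have e1 : g * (a * b) * g⁻¹ = (g * a * g⁻¹) * (g * b * g⁻¹) := by group
    rw [e1]
    refine ⟨mul_mem iha.1 ihb.1, fun c => ?_⟩
    rw [h.mul _ iha.1 _ ihb.1, iha.2, ihb.2, h.mul _ ha _ hb]
    group

section exists_kd

variable [Finite ι] {S V : Subgroup G} {N l E : ι → Subgroup G}

theorem Bls.comm (h : Bls S V N l E) (i j : ι) : ∀ v ∈ N i, ∀ w ∈ N j, v * w = w * v := fun v hv w hw =>
  h.com v (h.sup ▸ (le_iSup N i) hv) w (h.sup ▸ (le_iSup N j) hw)

theorem Bls.indep (h : Bls S V N l E) : iSupIndep N := by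
  intro b
  rw [disjoint_iff]
  have h1 := h.ind b
  rwa [iSup_subtype] at h1

/-- every element of `V` is determined by prescribed components -/
theorem exists_comp {κ : G → ι → G} (h : Co N κ) (f : ι → G) (hf : ∀ b, f b ∈ N b) :
    ∃ v ∈ ⨆ b, N b, ∀ b, κ v b = f b := by
  classical
  have := Fintype.ofFinite ι
  have key : ∀ s : Finset ι, ∃ v ∈ ⨆ b, N b, ∀ b, κ v b = if b ∈ s then f b else 1 := by
    intro s
    induction s using Finset.induction_on with
    | empty => exact ⟨1, one_mem _, fun b => by simp [h.one]⟩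
    | insert c s hcs ih =>
      obtain ⟨v, hv, h1⟩ := ih
      refine ⟨v * f c, mul_mem hv ((le_iSup N c) (hf c)), fun b => ?_⟩
      rw [h.mul _ hv _ ((le_iSup N c) (hf c)), h1]
      by_cases hb : b = c
      · subst hb
        simp [hcs, h.self _ _ (hf b)]
      · rw [h.off _ _ (hf c) _ hb]
        by_cases hbs : b ∈ s <;> simp [hb, hbs]
  obtain ⟨v, hv, h1⟩ := key Finset.univ
  exact ⟨v, hv, fun b => by rw [h1]; simp⟩

theorem Bls.exists_kd (h : Bls S V N l E) : ∃ (F : ι → Type) (_ : ∀ b, Field (F b)) (_ : ∀ b, Finite (F b))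
    (_ : ∀ b, CharP (F b) 2) (x y : G → ∀ b, F b), Kd S V N l E x y := by
  classical
  obtain ⟨κ, hκ⟩ := exists_co h.comm h.indep
  choose F i1 i2 i3 e he using h.nat
  refine ⟨F, i1, i2, i3, fun v b => e b (κ v b) 0, fun v b => e b (κ v b) 1, ?_⟩
  have hV : ∀ {v : G}, v ∈ V → v ∈ ⨆ b, N b := fun {v} hv => h.sup ▸ hv
  have hV' : ∀ {v : G}, v ∈ ⨆ b, N b → v ∈ V := fun {v} hv => h.sup ▸ hv
  have hNV : ∀ b, N b ≤ V := fun b => h.sup ▸ le_iSup N b
  have e1 : ∀ b, e b 1 = 0 := fun b => by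
    have h1 := (he b).mul 1 (one_mem _) 1 (one_mem _)
    rw [mul_one] at h1
    exact left_eq_add.1 h1
  have hcomp : ∀ {v : G}, v ∈ V → ∀ b, κ v b ∈ N b := fun hv b => hκ.mem _ (hV hv) b
  have hinj : ∀ {v : G}, v ∈ V → ∀ b, e b (κ v b) 0 = 0 → e b (κ v b) 1 = 0 → κ v b = 1 := by
    intro v hv b h0 h1
    refine (he b).inj _ (hcomp hv b) ?_
    funext i
    fin_cases i
    · exact h0
    · exact h1
  have hzero : ∀ {v : G} {b c : ι}, v ∈ N b → c ≠ b → κ v c = 1 := fun hv hc => hκ.off _ _ hv _ hc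
  have hE : ∀ b, ∀ g ∈ E b, ∀ i, ∀ v ∈ N i, g * v * g⁻¹ ∈ N i := by
    intro b g hg i v hv
    by_cases hbi : b = i
    · subst hbi
      exact (mem_normalizer_iff.1 (h.EN b hg) v).1 hv
    · have h1 := mem_centralizer_iff.1 (h.EC b i hbi hg) v hv
      rw [← h1, mul_inv_cancel_right]
      exact hv
  have hN1 : ∀ {v : G}, (b : ι) → v ∈ V → (∀ c, c ≠ b → κ v c = 1) → v ∈ N b := by
    intro v b hv hc
    have h1 : v = κ v b := by
      refine hκ.ext' (hV hv) ((le_iSup N b) (hcomp hv b)) fun c => ?_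
      by_cases hcb : c = b
      · subst hcb
        rw [hκ.self _ _ (hcomp hv c)]
      · rw [hc c hcb, hzero (hcomp hv b) hcb]
    rw [h1]; exact hcomp hv b
  have hact : ∀ {s : G}, s ∈ S → ∀ {v : G}, v ∈ V → s * v * s⁻¹ ∈ V ∧ ∀ b, s ∈ normalizer (N b : Set G) →
      κ (s * v * s⁻¹) b = s * κ v b * s⁻¹ := by
    intro s hs v hv
    choose π hπ using fun b => (h.perm s hs b)
    have hinjN : Function.Injective N := by
      intro b c hbc
      by_contra hne
      obtain ⟨v, hv, hv1⟩ := (he b).sur (fun _ => 1)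
      have h1 : κ v b = 1 := hzero (hbc ▸ hv : v ∈ N c) hne
      rw [hκ.self _ _ hv] at h1
      rw [h1, e1] at hv1
      exact zero_ne_one (congrFun hv1 0)
    have hπi : Function.Injective π := by
      intro b c hbc
      apply hinjN
      have h1 : cj s (N b) = cj s (N c) := by rw [(hπ b).1, (hπ c).1, hbc]
      have h2 := congrArg (cj s⁻¹) h1
      rwa [cj_inv_cj, cj_inv_cj] at h2
    have h1 := co_conj hκ (g := s) hπi (fun i v hv => by rw [← (hπ i).1]; exact conj_mem_cj hv) (hV hv)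
    refine ⟨hV' h1.1, fun b hb => ?_⟩
    have h2 : π b = b := hinjN ((hπ b).1.symm.trans (cj_eq_of_mem_normalizer hb))
    have h3 := h1.2 b
    rwa [h2] at h3
  constructor
  · exact h.com
  · intro v hv w hw b
    rw [hκ.mul _ (hV hv) _ (hV hw), (he b).mul _ (hcomp hv b) _ (hcomp hw b)]; rfl
  · intro v hv w hw b
    rw [hκ.mul _ (hV hv) _ (hV hw), (he b).mul _ (hcomp hv b) _ (hcomp hw b)]; rfl
  · intro v hv h0 h1
    exact hκ.ext _ (hV hv) fun b => hinj hv b (h0 b) (h1 b)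
  · intro a c
    choose f hf hf' using fun b => (he b).sur ![a b, c b]
    obtain ⟨v, hv, h1⟩ := exists_comp hκ f hf
    refine ⟨v, hV' hv, fun b => ?_, fun b => ?_⟩
    · simp only [h1, hf']; rfl
    · simp only [h1, hf']; rfl
  · intro b v
    constructor
    · intro hv
      refine ⟨hNV b hv, fun c hc => ?_, fun c hc => ?_⟩
      · simp only [hzero hv hc, e1]; rfl
      · simp only [hzero hv hc, e1]; rfl
    · rintro ⟨hv, h0, h1⟩
      exact hN1 b hv fun c hc => hinj hv c (h0 c hc) (h1 c hc)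
  · intro b v
    rw [(he b).line]
    constructor
    · rintro ⟨hv, h1⟩
      refine ⟨hNV b hv, fun c hc => ?_, fun c => ?_⟩
      · simp only [hzero hv hc, e1]; rfl
      · by_cases hc : c = b
        · subst hc
          simp only [hκ.self _ _ hv, h1]
        · simp only [hzero hv hc, e1]; rfl
    · rintro ⟨hv, h0, h1⟩
      have h2 : v ∈ N b := hN1 b hv fun c hc => hinj hv c (h0 c hc) (h1 c)
      refine ⟨h2, ?_⟩
      have h3 := h1 b
      simp only [hκ.self _ _ h2] at h3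
      exact h3
  · intro b g hg
    rw [← h.sup]
    refine mem_normalizer_iff.2 fun v => ⟨fun hv => (hκ.conj (hE b g hg) hv).1, fun hv => ?_⟩
    have h1 := (hκ.conj (hE b g⁻¹ (inv_mem hg)) hv).1
    have e2 : g⁻¹ * (g * v * g⁻¹) * g⁻¹⁻¹ = v := by group
    rwa [e2] at h1
  · intro b α β γ δ hdet
    obtain ⟨g, hg, hgv⟩ := (he b).full ⟨!![α, β; γ, δ], by rw [Matrix.det_fin_two_of]; exact hdet⟩
    refine ⟨g, hg, fun v hv => ?_⟩
    have h1 := (hκ.conj (hE b g hg) (hV hv)).2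
    have h2 := hgv _ (hcomp hv b)
    refine ⟨⟨?_, ?_⟩, fun c hc => ?_⟩
    · simp only [h1, h2]
      simp [Matrix.mulVec, dotProduct, Fin.sum_univ_two]
    · simp only [h1, h2]
      simp [Matrix.mulVec, dotProduct, Fin.sum_univ_two]
    · have h3 : g * κ v c * g⁻¹ = κ v c := by
        rw [← mem_centralizer_iff.1 (h.EC b c (Ne.symm hc) hg) _ (hcomp hv c), mul_inv_cancel_right]
      simp only [h1, h3, and_self]
  · intro s hs
    refine mem_normalizer_iff.2 fun v => ⟨fun hv => (hact hs hv).1, fun hv => ?_⟩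
    have h1 := (hact (inv_mem hs) hv).1
    have e2 : s⁻¹ * (s * v * s⁻¹) * s⁻¹⁻¹ = v := by group
    rwa [e2] at h1
  · intro b a
    obtain ⟨s, hs, hsv⟩ := (he b).root a
    refine ⟨s, hs.1, fun v hv => ?_⟩
    have h1 := (hκ.conj (hE b s hs.2) (hV hv)).2
    have h2 := hsv _ (hcomp hv b)
    refine ⟨⟨?_, ?_⟩, fun c hc => ?_⟩
    · simp only [h1, h2]; rfl
    · simp only [h1, h2]; rfl
    · have h3 : s * κ v c * s⁻¹ = κ v c := by
        rw [← mem_centralizer_iff.1 (h.EC b c (Ne.symm hc) hs.2) _ (hcomp hv c), mul_inv_cancel_right]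
      simp only [h1, h3, and_self]
  · intro s hs b hb
    obtain ⟨σ, a, c, d, h1⟩ := (he b).semi s hs hb
    refine ⟨σ, a, c, d, fun v hv => ?_⟩
    have h2 := (hact hs hv).2 b hb
    have h3 := h1 _ (hcomp hv b)
    constructor
    · simp only [h2, h3]; rfl
    · simp only [h2, h3]; rfl
  · exact h.perm

end exists_kd

/-! ### Coordinates -/

namespace Kd

variable {S V : Subgroup G} {N l E : ι → Subgroup G} {F : ι → Type} [∀ b, Field (F b)] {x y : G → ∀ b, F b}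
  (h : Kd S V N l E x y)
include h

theorem lN (b : ι) : l b ≤ N b := fun v hv => by
  obtain ⟨h1, h2, h3⟩ := (h.meml b v).1 hv
  exact (h.memN b v).2 ⟨h1, h2, fun c _ => h3 c⟩

theorem NV (b : ι) : N b ≤ V := fun v hv => ((h.memN b v).1 hv).1

theorem lV (b : ι) : l b ≤ V := (h.lN b).trans (h.NV b)

theorem x_one (b : ι) : x 1 b = 0 := by
  have h1 := h.xm 1 (one_mem _) 1 (one_mem _) b
  rw [mul_one] at h1
  exact left_eq_add.1 h1

theorem y_one (b : ι) : y 1 b = 0 := by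
  have h1 := h.ym 1 (one_mem _) 1 (one_mem _) b
  rw [mul_one] at h1
  exact left_eq_add.1 h1

theorem x_inv {v : G} (hv : v ∈ V) (b : ι) : x v⁻¹ b = - x v b := by
  have h1 := h.xm v hv v⁻¹ (inv_mem hv) b
  rw [mul_inv_cancel, h.x_one] at h1
  exact eq_neg_of_add_eq_zero_right h1.symm

theorem y_inv {v : G} (hv : v ∈ V) (b : ι) : y v⁻¹ b = - y v b := by
  have h1 := h.ym v hv v⁻¹ (inv_mem hv) b
  rw [mul_inv_cancel, h.y_one] at h1
  exact eq_neg_of_add_eq_zero_right h1.symm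

/-- elements of `V` are determined by their coordinates -/
theorem ext {v w : G} (hv : v ∈ V) (hw : w ∈ V) (h0 : ∀ b, x v b = x w b) (h1 : ∀ b, y v b = y w b) : v = w := by
  have h2 : v * w⁻¹ = 1 := h.inj _ (mul_mem hv (inv_mem hw))
    (fun b => by rw [h.xm _ hv _ (inv_mem hw), h.x_inv hw, h0, add_neg_cancel])
    (fun b => by rw [h.ym _ hv _ (inv_mem hw), h.y_inv hw, h1, add_neg_cancel])
  exact mul_inv_eq_one.1 h2

theorem exists_x (b : ι) (a : F b) : ∃ v ∈ l b, x v b = a := by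
  classical
  obtain ⟨v, hv, h1, h2⟩ := h.sur (Function.update 0 b a) 0
  refine ⟨v, (h.meml b v).2 ⟨hv, fun c hc => by rw [h1, Function.update_of_ne hc]; rfl, fun c => by rw [h2]; rfl⟩, ?_⟩
  rw [h1, Function.update_self]

theorem exists_y (b : ι) (a c : F b) : ∃ v ∈ N b, x v b = a ∧ y v b = c := by
  classical
  obtain ⟨v, hv, h1, h2⟩ := h.sur (Function.update 0 b a) (Function.update 0 b c)
  refine ⟨v, (h.memN b v).2 ⟨hv, fun d hd => by rw [h1, Function.update_of_ne hd]; rfl,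
    fun d hd => by rw [h2, Function.update_of_ne hd]; rfl⟩, ?_, ?_⟩
  · rw [h1, Function.update_self]
  · rw [h2, Function.update_self]

theorem l_inj {b c : ι} (e : l b = l c) : b = c := by
  by_contra hne
  obtain ⟨v, hv, h1⟩ := h.exists_x b 1
  have h2 := ((h.meml c v).1 (e ▸ hv)).2.1 b hne
  rw [h1] at h2
  exact one_ne_zero h2

theorem N_inj {b c : ι} (e : N b = N c) : b = c := by
  by_contra hne
  obtain ⟨v, hv, h1⟩ := h.exists_x b 1
  have h2 := ((h.memN c v).1 (e ▸ h.lN b hv)).2.1 b hne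
  rw [h1] at h2
  exact one_ne_zero h2

theorem sup_l_coord (s : Set ι) {v : G} (hv : v ∈ ⨆ b : s, l b) :
    v ∈ V ∧ (∀ b, y v b = 0) ∧ ∀ b, b ∉ s → x v b = 0 := by
  induction hv using Subgroup.iSup_induction' with
  | hp i w hw =>
    obtain ⟨h1, h2, h3⟩ := (h.meml i w).1 hw
    exact ⟨h1, h3, fun b hb => h2 b fun e => hb (e ▸ i.2)⟩
  | h1 => exact ⟨one_mem _, h.y_one, fun b _ => h.x_one b⟩
  | hmul a c ha hc iha ihc =>
    refine ⟨mul_mem iha.1 ihc.1, fun b => ?_, fun b hb => ?_⟩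
    · rw [h.ym _ iha.1 _ ihc.1, iha.2.1, ihc.2.1, add_zero]
    · rw [h.xm _ iha.1 _ ihc.1, iha.2.2 b hb, ihc.2.2 b hb, add_zero]

/-- `v ∈ ⨆ b ∈ s, l b` -/
theorem mem_sup_l [Finite ι] (s : Set ι) {v : G} (hv : v ∈ V) (hx : ∀ b, b ∉ s → x v b = 0) (hy : ∀ b, y v b = 0) :
    v ∈ ⨆ b : s, l b := by
  classical
  have := Fintype.ofFinite ι
  have key : ∀ r : Finset ι, ∃ u ∈ ⨆ b : s, l b, ∀ b ∈ r, x u b = x v b := by
    intro r
    induction r using Finset.induction_on with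
    | empty => exact ⟨1, one_mem _, fun b hb => absurd hb (Finset.notMem_empty b)⟩
    | insert c r hc ih =>
      obtain ⟨u, hu, h1⟩ := ih
      obtain ⟨huV, hy', hx'⟩ := h.sup_l_coord s hu
      by_cases hcs : c ∈ s
      · obtain ⟨w, hw, h3⟩ := h.exists_x c (x v c - x u c)
        refine ⟨u * w, mul_mem hu (mem_iSup_of_mem (⟨c, hcs⟩ : s) hw), fun b hb => ?_⟩
        rw [h.xm _ huV _ (h.lV c hw)]
        rcases Finset.mem_insert.1 hb with rfl | hb
        · rw [h3]; ring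
        · rw [h1 b hb, ((h.meml c w).1 hw).2.1 b (fun e => hc (e ▸ hb)), add_zero]
      · refine ⟨u, hu, fun b hb => ?_⟩
        rcases Finset.mem_insert.1 hb with rfl | hb
        · rw [hx b hcs, hx' b hcs]
        · exact h1 b hb
  obtain ⟨u, hu, h1⟩ := key Finset.univ
  obtain ⟨huV, hy', hx'⟩ := h.sup_l_coord s hu
  rw [← h.ext huV hv (fun b => h1 b (Finset.mem_univ b)) fun b => by rw [hy', hy]]
  exact hu

theorem sup_l_le : (⨆ b, l b) ≤ V := iSup_le h.lV

/-- `Z_J = ∏ l b = {y = 0}` -/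
theorem memZ [Finite ι] {v : G} : v ∈ ⨆ b, l b ↔ v ∈ V ∧ ∀ b, y v b = 0 := by
  constructor
  · intro hv
    refine ⟨h.sup_l_le hv, fun b => ?_⟩
    induction hv using Subgroup.iSup_induction' with
    | hp i w hw => exact ((h.meml i w).1 hw).2.2 b
    | h1 => exact h.y_one b
    | hmul a c ha hc iha ihc => rw [h.ym _ (h.sup_l_le ha) _ (h.sup_l_le hc), iha, ihc, add_zero]
  · rintro ⟨hv, hy⟩
    have h1 := h.mem_sup_l Set.univ hv (fun b hb => absurd (Set.mem_univ b) hb) hy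
    exact (iSup_le fun b : (Set.univ : Set ι) => le_iSup l b.1 : (⨆ b : (Set.univ : Set ι), l b) ≤ ⨆ b, l b) h1

/-- elements of `BB S l` normalise all `N b` -/
theorem BB_norm {s : G} (hs : s ∈ BB S l) (b : ι) : s ∈ normalizer (N b : Set G) := by
  obtain ⟨hsS, hsc⟩ := mem_inf.1 hs
  obtain ⟨c, h1, h2⟩ := h.perm s hsS b
  have h3 : cj s (l b) = l b := cj_eq_of_mem_normalizer
    (centralizer_le_normalizer _ (centralizer_le (by exact_mod_cast le_iSup l b) hsc))
  rw [h3] at h2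
  rw [← h.l_inj h2] at h1
  exact mem_normalizer_iff_cj.2 h1

theorem conj_mem {g : G} (hg : g ∈ normalizer (V : Set G)) {v : G} (hv : v ∈ V) : g * v * g⁻¹ ∈ V :=
  (mem_normalizer_iff.1 hg v).1 hv

/-- a 2-element acting on a coordinate as multiplication by `d` has `d = 1` -/
theorem pow_act {s : G} (hs : s ∈ normalizer (V : Set G)) {b : ι} {d : F b} (hd : ∀ v ∈ V, y (s * v * s⁻¹) b = d * y v b)
    (k : ℕ) : ∀ v ∈ V, y (s ^ k * v * (s ^ k)⁻¹) b = d ^ k * y v b := by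
  induction k with
  | zero => intro v _; simp
  | succ k ih =>
    intro v hv
    have e : s ^ (k + 1) * v * (s ^ (k + 1))⁻¹ = s ^ k * (s * v * s⁻¹) * (s ^ k)⁻¹ := by
      rw [pow_succ]; group
    rw [e, ih _ (h.conj_mem hs hv), hd v hv, pow_succ]; ring

/-- **elements of `B` act as products of root elements** -/
theorem actB [∀ b, CharP (F b) 2] (hS : IsPGroup 2 S) {s : G} (hs : s ∈ BB S l) :
    ∃ t : ∀ b, F b, ∀ v ∈ V, ∀ b, x (s * v * s⁻¹) b = x v b + t b * y v b ∧ y (s * v * s⁻¹) b = y v b := by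
  have key : ∀ b, ∃ t : F b, ∀ v ∈ V, x (s * v * s⁻¹) b = x v b + t * y v b ∧ y (s * v * s⁻¹) b = y v b := by
    intro b
    obtain ⟨σ, a, c, d, h1⟩ := h.semi s hs.1 b (h.BB_norm hs b)
    have hl : ∀ u : F b, a * σ u = u := by
      intro u
      obtain ⟨v, hv, e⟩ := h.exists_x b u
      have h2 : s * v * s⁻¹ = v := by
        have h3 := mem_centralizer_iff.1 hs.2 v ((le_iSup l b) hv)
        rw [← h3, mul_inv_cancel_right]
      have h4 := (h1 v (h.lV b hv)).1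
      rw [h2, e, ((h.meml b v).1 hv).2.2 b, map_zero, mul_zero, add_zero] at h4
      exact h4.symm
    have ha : a = 1 := by
      have := hl 1
      rwa [map_one, mul_one] at this
    have hσ : ∀ u, σ u = u := fun u => by
      have := hl u
      rwa [ha, one_mul] at this
    have hd1 : ∀ v ∈ V, y (s * v * s⁻¹) b = d * y v b := fun v hv => by rw [(h1 v hv).2, hσ]
    have hd : d = 1 := by
      obtain ⟨k, hk⟩ := hS ⟨s, hs.1⟩
      have hk' : s ^ 2 ^ k = 1 := by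
        have := congrArg Subtype.val hk
        simpa using this
      obtain ⟨v, hv, -, e⟩ := h.exists_y b 0 1
      have h2 := h.pow_act (h.SV hs.1) hd1 (2 ^ k) v (h.NV b hv)
      rw [hk', one_mul, inv_one, mul_one, e, mul_one] at h2
      have h3 : (d - 1) ^ 2 ^ k = 0 := by
        rw [sub_pow_char_pow, one_pow, ← h2, sub_self]
      exact sub_eq_zero.1 (pow_eq_zero_iff (by positivity) |>.1 h3)
    refine ⟨c, fun v hv => ⟨?_, ?_⟩⟩
    · rw [(h1 v hv).1, ha, one_mul, hσ, hσ]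
    · rw [hd1 v hv, hd, one_mul]
  choose t ht using key
  exact ⟨t, fun v hv b => ht b v hv⟩

end Kd

end Cfsg.Agent.Omega.NOThreeL.RWide.TBlk
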