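import Cfsg.Agent.Omega.NOThreeL.RWide.TBlk

/-!
# `B = C_S(Z_J)` is weakly closed in `N_G(V*)` (helper655 #26055, #26581; helper848 #24915 (A))

Over the coordinates `Kd` of `TBlk`: if `g ∈ N(V)` and `g B g⁻¹ ≤ S` then `g` normalises `Z_J = ∏ l b` and
`g B g⁻¹ = B`. Element text, no counting: for `a ∈ F b` let `t a = g (root b a) g⁻¹ ∈ S`; then
`t a w (t a)⁻¹ = w · lam (a · Y w)` for all `w ∈ V` (`Tr`), with `Y : V → F b`, `lam : F b → V` additive.

* `Tr.norm` : `t a` normalises every block `N d` (`a ≠ 0`);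
* `Tr.Y_l` : `Y = 0` on every line `l d` [otherwise `σ_a` is an involution with `Fix σ_a` independent of `a`, so
  `σ_a = σ_{a'}`];
* **`Kd.wcZ`**, **`Kd.wc`**, **`Bls.wc`**.
-/

set_option autoImplicit false
set_option linter.unusedSectionVars false

namespace Cfsg.Agent.Omega.NOThreeL.RWide.TWc

open Subgroup Cfsg.Agent.ZN.ChoiceBase Cfsg.Agent.Omega.NOThreeL.RWide.TBlk

universe u v

variable {G : Type u} [Group G] {ι : Type v}

/-- A full group of transvections with common axis `ker Y` and centre `lam K`. -/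
structure Tr (V : Subgroup G) {K : Type} [Field K] (t : K → G) (Y : G → K) (lam : K → G) : Prop where
  act : ∀ a, ∀ w ∈ V, t a * w * (t a)⁻¹ = w * lam (a * Y w)
  lamV : ∀ u, lam u ∈ V
  inj : Function.Injective lam
  one : lam 0 = 1
  Ylam : ∀ u, Y (lam u) = 0
  Ymul : ∀ v ∈ V, ∀ w ∈ V, Y (v * w) = Y v + Y w

section

variable {S V : Subgroup G} {N l E : ι → Subgroup G} {F : ι → Type} [∀ b, Field (F b)] {x y : G → ∀ b, F b}

theorem sq [∀ b, CharP (F b) 2] (h : Kd S V N l E x y) {v : G} (hv : v ∈ V) : v * v = 1 := by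
  refine h.inj _ (mul_mem hv hv) (fun b => ?_) fun b => ?_
  · rw [h.xm _ hv _ hv]; exact CharTwo.add_self_eq_zero _
  · rw [h.ym _ hv _ hv]; exact CharTwo.add_self_eq_zero _

variable {K : Type} [Field K] {t : K → G} {Y : G → K} {lam : K → G}

theorem Tr.lam_ne (T : Tr V t Y lam) {u : K} (hu : u ≠ 0) : lam u ≠ 1 := fun e => hu (T.inj (e.trans T.one.symm))

theorem Tr.Y_one (T : Tr V t Y lam) : Y 1 = 0 := by
  have h1 := T.Ymul 1 (one_mem _) 1 (one_mem _)
  rw [mul_one] at h1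
  exact left_eq_add.1 h1

theorem Tr.Y_inv (T : Tr V t Y lam) {v : G} (hv : v ∈ V) : Y v⁻¹ = - Y v := by
  have h1 := T.Ymul v hv v⁻¹ (inv_mem hv)
  rw [mul_inv_cancel, T.Y_one] at h1
  exact eq_neg_of_add_eq_zero_right h1.symm

/-- `t a` normalises all blocks -/
theorem Tr.norm [∀ b, CharP (F b) 2] (h : Kd S V N l E x y) (T : Tr V t Y lam) (hS : ∀ a, t a ∈ S) {a : K}
    (ha : a ≠ 0) (d : ι) : t a ∈ normalizer (N d : Set G) := by
  obtain ⟨d', h1, -⟩ := h.perm (t a) (hS a) d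
  suffices hd : d' = d by
    rw [hd] at h1
    exact mem_normalizer_iff_cj.2 h1
  by_contra hd
  have hVd : ∀ {v : G}, v ∈ N d → v ∈ V := fun hv => h.NV d hv
  have hto : ∀ v ∈ N d, t a * v * (t a)⁻¹ ∈ N d' := fun v hv => by rw [← h1]; exact conj_mem_cj hv
  have hY : ∀ v ∈ N d, v ≠ 1 → Y v ≠ 0 := by
    intro v hv hv1 hY
    apply hv1
    have h2 := hto v hv
    rw [T.act a v (hVd hv), hY, mul_zero, T.one, mul_one] at h2
    obtain ⟨_, h3, h4⟩ := (h.memN d v).1 hv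
    obtain ⟨_, h5, h6⟩ := (h.memN d' v).1 h2
    refine h.inj v (hVd hv) (fun b => ?_) fun b => ?_
    · by_cases hb : b = d
      · exact h5 b fun e => hd (by rw [← e, hb])
      · exact h3 b hb
    · by_cases hb : b = d
      · exact h6 b fun e => hd (by rw [← e, hb])
      · exact h4 b hb
  obtain ⟨v, hv, hvx, hvy⟩ := h.exists_y d 1 0
  obtain ⟨v', hv', hvx', hvy'⟩ := h.exists_y d 0 1
  have hv1 : v ≠ 1 := fun e => by
    rw [e, h.x_one] at hvx
    exact zero_ne_one hvx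
  have hv1' : v' ≠ 1 := fun e => by
    rw [e, h.y_one] at hvy'
    exact zero_ne_one hvy'
  have hne : Y v ≠ Y v' := by
    intro e
    refine hY (v * v'⁻¹) (mul_mem hv (inv_mem hv')) ?_ ?_
    · intro e1
      rw [mul_inv_eq_one.1 e1, hvx'] at hvx
      exact zero_ne_one hvx
    · rw [T.Ymul _ (hVd hv) _ (inv_mem (hVd hv')), T.Y_inv (hVd hv'), e, add_neg_cancel]
  have hYv := hY v hv hv1
  have hYv' := hY v' hv' hv1'
  obtain ⟨a', ha'⟩ : ∃ a', a' = a * Y v * (Y v')⁻¹ := ⟨_, rfl⟩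
  have ha0 : a' ≠ 0 := by
    rw [ha']
    exact mul_ne_zero (mul_ne_zero ha hYv) (inv_ne_zero hYv')
  have haa : a' ≠ a := by
    intro e
    rw [ha', mul_assoc] at e
    have e1 : Y v * (Y v')⁻¹ = 1 := mul_left_cancel₀ ha (by rw [e, mul_one])
    exact hne (mul_inv_eq_one₀ hYv' |>.1 e1)
  obtain ⟨e1, h2, -⟩ := h.perm (t a') (hS a') d
  obtain ⟨e2, h3, -⟩ := h.perm (t a') (hS a') d'
  have he : e1 ≠ e2 := by
    rintro rfl
    have h4 : cj (t a') (N d) = cj (t a') (N d') := by rw [h2, h3]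
    have h5 := congrArg (cj (t a')⁻¹) h4
    rw [cj_inv_cj, cj_inv_cj] at h5
    exact hd (h.N_inj h5).symm
  have hp1 := hto v hv
  have hr : t a' * v * (t a')⁻¹ ∈ N e1 := by rw [← h2]; exact conj_mem_cj hv
  have hr1 : t a' * (t a * v * (t a)⁻¹) * (t a')⁻¹ ∈ N e2 := by rw [← h3]; exact conj_mem_cj hp1
  -- `v * t_a(v) = lam (a Y v)` is fixed by `t a'`
  have hu : v * (t a * v * (t a)⁻¹) = lam (a * Y v) := by
    rw [T.act a v (hVd hv), ← mul_assoc, sq h (hVd hv), one_mul]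
  have hfix : t a' * (v * (t a * v * (t a)⁻¹)) * (t a')⁻¹ = v * (t a * v * (t a)⁻¹) := by
    rw [hu, T.act a' _ (T.lamV _), T.Ylam, mul_zero, T.one, mul_one]
  have hmul : (t a' * v * (t a')⁻¹) * (t a' * (t a * v * (t a)⁻¹) * (t a')⁻¹) = v * (t a * v * (t a)⁻¹) := by
    rw [← hfix]; group
  have hVr := h.NV e1 hr
  have hVr1 := h.NV e2 hr1
  have hVp1 := h.NV d' hp1
  obtain ⟨_, hrx, hry⟩ := (h.memN e1 _).1 hr
  obtain ⟨_, hr1x, hr1y⟩ := (h.memN e2 _).1 hr1
  obtain ⟨_, hpx, hpy⟩ := (h.memN d _).1 hv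
  obtain ⟨_, hp1x, hp1y⟩ := (h.memN d' _).1 hp1
  -- compare the coordinates at `e1`
  have hx : x (t a' * v * (t a')⁻¹) e1 = x (v * (t a * v * (t a)⁻¹)) e1 := by
    rw [← hmul, h.xm _ hVr _ hVr1, hr1x e1 he, add_zero]
  have hy : y (t a' * v * (t a')⁻¹) e1 = y (v * (t a * v * (t a)⁻¹)) e1 := by
    rw [← hmul, h.ym _ hVr _ hVr1, hr1y e1 he, add_zero]
  rw [h.xm _ (hVd hv) _ hVp1] at hx
  rw [h.ym _ (hVd hv) _ hVp1] at hy
  by_cases hc1 : e1 = d
  · -- `t a' v = v`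
    have h4 : t a' * v * (t a')⁻¹ = v := by
      refine h.ext hVr (hVd hv) (fun b => ?_) fun b => ?_
      · by_cases hb : b = e1
        · subst hb
          rw [hx, hp1x b (fun e => hd (by rw [← e, hc1])), add_zero]
        · rw [hrx b hb, hpx b (fun e => hb (by rw [e, hc1]))]
      · by_cases hb : b = e1
        · subst hb
          rw [hy, hp1y b (fun e => hd (by rw [← e, hc1])), add_zero]
        · rw [hry b hb, hpy b (fun e => hb (by rw [e, hc1]))]
    rw [T.act a' v (hVd hv)] at h4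
    exact T.lam_ne (mul_ne_zero ha0 hYv) (mul_eq_left.1 h4)
  · by_cases hc2 : e1 = d'
    · -- `t a' v = t a v`
      have h4 : t a' * v * (t a')⁻¹ = t a * v * (t a)⁻¹ := by
        refine h.ext hVr hVp1 (fun b => ?_) fun b => ?_
        · by_cases hb : b = e1
          · subst hb
            rw [hx, hpx b hc1, zero_add]
          · rw [hrx b hb, hp1x b (fun e => hb (by rw [e, hc2]))]
        · by_cases hb : b = e1
          · subst hb
            rw [hy, hpy b hc1, zero_add]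
          · rw [hry b hb, hp1y b (fun e => hb (by rw [e, hc2]))]
      rw [T.act a' v (hVd hv), T.act a v (hVd hv)] at h4
      exact haa (mul_right_cancel₀ hYv (T.inj (mul_left_cancel h4)))
    · -- `t a' v = 1`
      have h4 : t a' * v * (t a')⁻¹ = 1 := by
        refine h.inj _ hVr (fun b => ?_) fun b => ?_
        · by_cases hb : b = e1
          · subst hb
            rw [hx, hpx b hc1, hp1x b hc2, add_zero]
          · exact hrx b hb
        · by_cases hb : b = e1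
          · subst hb
            rw [hy, hpy b hc1, hp1y b hc2, add_zero]
          · exact hry b hb
      have h5 : v = 1 := by
        have h6 : v = (t a')⁻¹ * (t a' * v * (t a')⁻¹) * t a' := by group
        rw [h6, h4]; group
      exact hv1 h5

/-- **`Y` vanishes on the lines** -/
theorem Tr.Y_l [∀ b, CharP (F b) 2] (h : Kd S V N l E x y) (T : Tr V t Y lam) (hS : ∀ a, t a ∈ S) {d : ι} {z : G}
    (hz : z ∈ l d) : Y z = 0 := by
  by_contra hYz
  have hzV := h.lV d hz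
  obtain ⟨_, hzx, hzy⟩ := (h.meml d z).1 hz
  -- `t a`, `a ≠ 0`, normalises `N d` and `l d`
  have hN : ∀ a, a ≠ 0 → t a ∈ normalizer (N d : Set G) := fun a ha => T.norm h hS ha d
  have hl : ∀ a, a ≠ 0 → ∀ w ∈ l d, t a * w * (t a)⁻¹ ∈ l d := by
    intro a ha w hw
    obtain ⟨c, h1, h2⟩ := h.perm (t a) (hS a) d
    rw [cj_eq_of_mem_normalizer (hN a ha)] at h1
    rw [← h.N_inj h1] at h2
    rw [← h2]
    exact conj_mem_cj hw
  -- the centre `c0 = [z, t 1]`
  set c0 : G := lam (Y z) with hc0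
  have hc0l : c0 ∈ l d := by
    have h1 := hl 1 one_ne_zero z hz
    rw [T.act 1 z hzV, one_mul] at h1
    have h2 := mul_mem (inv_mem hz) h1
    rwa [inv_mul_cancel_left] at h2
  have hc01 : c0 ≠ 1 := T.lam_ne hYz
  have hx0 : x c0 d ≠ 0 := by
    intro e
    apply hc01
    obtain ⟨h1, h2, h3⟩ := (h.meml d c0).1 hc0l
    refine h.inj _ h1 (fun b => ?_) h3
    by_cases hb : b = d
    · subst hb; exact e
    · exact h2 b hb
  set x0 : F d := x c0 d with hx0d
  -- `zz w` : the element of `l d` with coordinate `x0 w`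
  choose zz hzz hzx' using fun w : F d => h.exists_x d (x0 * w)
  have hzzV : ∀ w, zz w ∈ V := fun w => h.lV d (hzz w)
  have hlext : ∀ p ∈ l d, ∀ r ∈ l d, x p d = x r d → p = r := by
    intro p hp r hr e
    obtain ⟨h1, h2, h3⟩ := (h.meml d p).1 hp
    obtain ⟨h4, h5, h6⟩ := (h.meml d r).1 hr
    refine h.ext h1 h4 (fun b => ?_) fun b => by rw [h3, h6]
    by_cases hb : b = d
    · subst hb; exact e
    · rw [h2 b hb, h5 b hb]
  have hzzi : ∀ w w', zz w = zz w' → w = w' := fun w w' e => by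
    have h1 := hzx' w
    rw [e, hzx'] at h1
    exact (mul_left_cancel₀ hx0 h1).symm
  have hzza : ∀ w w', zz (w + w') = zz w * zz w' := fun w w' =>
    hlext _ (hzz _) _ (mul_mem (hzz _) (hzz _)) (by
      rw [h.xm _ (hzzV w) _ (hzzV w'), hzx', hzx', hzx', mul_add])
  -- semilinear data
  have hsemi : ∀ a, a ≠ 0 → ∃ σ : F d ≃+* F d, (∀ w, zz (σ w) = zz w * lam (a * Y (zz w))) ∧
      ∃ δ : F d, ∀ v ∈ N d, y (t a * v * (t a)⁻¹) d = δ * σ (y v d) := by
    intro a ha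
    obtain ⟨σ, α, γ, δ, h1⟩ := h.semi (t a) (hS a) d (hN a ha)
    have h2 : α * σ x0 = x0 := by
      have h3 := (h1 c0 (h.lV d hc0l)).1
      rw [T.act a c0 (h.lV d hc0l), hc0, T.Ylam, mul_zero, T.one, mul_one, ← hc0,
        ((h.meml d c0).1 hc0l).2.2 d, map_zero, mul_zero, add_zero] at h3
      exact h3.symm
    refine ⟨σ, fun w => ?_, δ, fun v hv => (h1 v (h.NV d hv)).2⟩
    rw [← T.act a _ (hzzV w)]
    refine hlext _ (hzz _) _ (hl a ha _ (hzz w)) ?_
    rw [(h1 _ (hzzV w)).1, ((h.meml d _).1 (hzz w)).2.2 d, map_zero, mul_zero, add_zero, hzx', hzx', map_mul,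
      ← mul_assoc, h2]
  have hzzY : ∀ a, a ≠ 0 → ∀ (σ : F d ≃+* F d), (∀ w, zz (σ w) = zz w * lam (a * Y (zz w))) →
      (∀ w, σ w = w ↔ Y (zz w) = 0) ∧ ∀ w, σ (σ w) = w := by
    intro a ha σ hσ
    refine ⟨fun w => ⟨fun e => ?_, fun e => ?_⟩, fun w => ?_⟩
    · have h1 := hσ w
      rw [e] at h1
      by_contra hne
      exact T.lam_ne (mul_ne_zero ha hne) (left_eq_mul.1 h1)
    · refine hzzi _ _ ?_
      rw [hσ, e, mul_zero, T.one, mul_one]
    · refine hzzi _ _ ?_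
      rw [hσ (σ w), hσ w, T.Ymul _ (hzzV w) _ (T.lamV _), T.Ylam, add_zero, mul_assoc, sq h (T.lamV _), mul_one]
  obtain ⟨σ, hσ, δ, hδ⟩ := hsemi 1 one_ne_zero
  obtain ⟨hfix, hinv⟩ := hzzY 1 one_ne_zero σ hσ
  -- `z = zz w0`
  obtain ⟨w0, hw0⟩ : ∃ w0, zz w0 = z := by
    refine ⟨x0⁻¹ * x z d, hlext _ (hzz _) _ hz ?_⟩
    rw [hzx', mul_inv_cancel_left₀ hx0]
  have hσ0 : σ w0 ≠ w0 := fun e => hYz (by rw [← hw0]; exact (hfix w0).1 e)
  -- a second scalar `a'`
  obtain ⟨η, hη⟩ : ∃ η : F d, δ * σ η ≠ η := by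
    by_contra hcon
    push Not at hcon
    have h1 : δ = 1 := by
      have := hcon 1
      rwa [map_one, mul_one] at this
    have h2 := hcon w0
    rw [h1, one_mul] at h2
    exact hσ0 h2
  obtain ⟨v, hv, -, hvy⟩ := h.exists_y d 0 η
  have hvV := h.NV d hv
  have h5 : y (lam (Y v)) d ≠ 0 := by
    intro e
    apply hη
    have h6 := hδ v hv
    rw [T.act 1 v hvV, one_mul, h.ym _ hvV _ (T.lamV _), e, add_zero, hvy] at h6
    exact h6.symm
  have hYv0 : Y v ≠ 0 := by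
    intro e
    rw [e, T.one, h.y_one] at h5
    exact h5 rfl
  have hYvz : Y v ≠ Y z := by
    intro e
    rw [e] at h5
    exact h5 (((h.meml d c0).1 hc0l).2.2 d)
  obtain ⟨a', ha'⟩ : ∃ a', a' = Y v * (Y z)⁻¹ := ⟨_, rfl⟩
  have ha0 : a' ≠ 0 := by rw [ha']; exact mul_ne_zero hYv0 (inv_ne_zero hYz)
  have ha1 : a' ≠ 1 := by
    rw [ha']
    exact fun e => hYvz ((mul_inv_eq_one₀ hYz).1 e)
  obtain ⟨τ, hτ, -⟩ := hsemi a' ha0
  obtain ⟨hfix', -⟩ := hzzY a' ha0 τ hτ
  have hp : τ (w0 + σ w0) = w0 + σ w0 := (hfix' _).2 ((hfix _).1 (by rw [map_add, hinv, add_comm]))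
  have hr : τ (w0 * σ w0) = w0 * σ w0 := (hfix' _).2 ((hfix _).1 (by rw [map_mul, hinv, mul_comm]))
  have hq : (τ w0 + w0) * (τ w0 + σ w0) = 0 := by
    have h7 : w0 * w0 = (w0 + σ w0) * w0 + w0 * σ w0 := by
      have h8 : w0 * σ w0 + w0 * σ w0 = 0 := CharTwo.add_self_eq_zero _
      linear_combination h8 * (-1 : F d)
    have h9 := congrArg τ h7
    rw [map_mul, map_add, map_mul, hp, hr] at h9
    have h10 : (τ w0 + w0) * (τ w0 + σ w0) = τ w0 * τ w0 + ((w0 + σ w0) * τ w0 + w0 * σ w0) := by ring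
    rw [h10, ← h9]
    exact CharTwo.add_self_eq_zero _
  rcases mul_eq_zero.1 hq with h11 | h11
  · have h12 : τ w0 = w0 := by
      have h13 : w0 + w0 = 0 := CharTwo.add_self_eq_zero _
      linear_combination h11 - h13
    apply hYz
    rw [← hw0]
    exact (hfix' w0).1 h12
  · have h12 : τ w0 = σ w0 := by
      have h13 : σ w0 + σ w0 = 0 := CharTwo.add_self_eq_zero _
      linear_combination h11 - h13
    have h14 := hτ w0
    rw [h12, hσ w0, hw0] at h14
    have h15 := T.inj (mul_left_cancel h14)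
    exact ha1 (mul_right_cancel₀ hYz h15).symm

end

section wc

variable {S V : Subgroup G} {N l E : ι → Subgroup G} {F : ι → Type} [∀ b, Field (F b)] {x y : G → ∀ b, F b}

/-- root elements lie in `B` -/
theorem root_mem [Finite ι] (h : Kd S V N l E x y) {b : ι} {a : F b} {s : G} (hs : s ∈ S)
    (hsv : ∀ v ∈ V, (x (s * v * s⁻¹) b = x v b + a * y v b ∧ y (s * v * s⁻¹) b = y v b) ∧
      ∀ c, c ≠ b → x (s * v * s⁻¹) c = x v c ∧ y (s * v * s⁻¹) c = y v c) : s ∈ BB S l := by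
  refine mem_inf.2 ⟨hs, mem_centralizer_iff.2 fun z hz => ?_⟩
  obtain ⟨hzV, hzy⟩ := h.memZ.1 hz
  obtain ⟨⟨h1, h2⟩, h3⟩ := hsv z hzV
  have h4 : s * z * s⁻¹ = z := by
    refine h.ext (h.conj_mem (h.SV hs) hzV) hzV (fun c => ?_) fun c => ?_
    · by_cases hc : c = b
      · subst hc; rw [h1, hzy, mul_zero, add_zero]
      · exact (h3 c hc).1
    · by_cases hc : c = b
      · subst hc; exact h2
      · exact (h3 c hc).2
  calc z * s = (s * z * s⁻¹) * s := by rw [h4]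
    _ = s * z := by group

/-- **`g ∈ N(V)`, `g B g⁻¹ ≤ S` ⟹ `g⁻¹ (∏ l b) g ≤ ∏ l b`**, coordinate form -/
theorem _root_.Cfsg.Agent.Omega.NOThreeL.RWide.TBlk.Kd.wcZ [Finite ι] [∀ b, CharP (F b) 2]
    (h : Kd S V N l E x y) {g : G} (hg : g ∈ normalizer (V : Set G)) (hB : cj g (BB S l) ≤ S) {z : G}
    (hz : z ∈ ⨆ b, l b) : g⁻¹ * z * g ∈ ⨆ b, l b := by
  have hgV : ∀ v ∈ V, g * v * g⁻¹ ∈ V := fun v hv => h.conj_mem hg hv
  have hgV' : ∀ v ∈ V, g⁻¹ * v * g ∈ V := fun v hv => by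
    have h1 := h.conj_mem (inv_mem hg) hv
    rwa [inv_inv] at h1
  have key : ∀ b d, ∀ z ∈ l d, y (g⁻¹ * z * g) b = 0 := by
    intro b d z hz
    choose s hs hsv using h.root b
    choose ell hell hellx using h.exists_x b
    let t : F b → G := fun a => g * s a * g⁻¹
    let Y : G → F b := fun w => y (g⁻¹ * w * g) b
    let lam : F b → G := fun u => g * ell u * g⁻¹
    have hellV : ∀ u, ell u ∈ V := fun u => h.lV b (hell u)
    have T : Tr V t Y lam := by
      constructor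
      · intro a w hw
        have hw' := hgV' w hw
        have h1 : s a * (g⁻¹ * w * g) * (s a)⁻¹ = (g⁻¹ * w * g) * ell (a * y (g⁻¹ * w * g) b) := by
          obtain ⟨⟨h2, h3⟩, h4⟩ := hsv a _ hw'
          refine h.ext (h.conj_mem (h.SV (hs a)) hw') (mul_mem hw' (hellV _)) (fun c => ?_) fun c => ?_
          · rw [h.xm _ hw' _ (hellV _)]
            by_cases hc : c = b
            · subst hc; rw [h2, hellx]
            · rw [(h4 c hc).1, ((h.meml b _).1 (hell _)).2.1 c hc, add_zero]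
          · rw [h.ym _ hw' _ (hellV _), ((h.meml b _).1 (hell _)).2.2 c, add_zero]
            by_cases hc : c = b
            · subst hc; exact h3
            · exact (h4 c hc).2
        show g * s a * g⁻¹ * w * (g * s a * g⁻¹)⁻¹ = w * (g * ell (a * y (g⁻¹ * w * g) b) * g⁻¹)
        have e1 : g * s a * g⁻¹ * w * (g * s a * g⁻¹)⁻¹ = g * (s a * (g⁻¹ * w * g) * (s a)⁻¹) * g⁻¹ := by group
        rw [e1, h1]; group
      · intro u
        exact hgV _ (hellV u)
      · intro u u' e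
        have e1 : ell u = ell u' := by
          have h1 : g * ell u * g⁻¹ = g * ell u' * g⁻¹ := e
          exact mul_left_cancel (mul_right_cancel h1)
        have h2 := hellx u
        rw [e1, hellx] at h2
        exact h2.symm
      · have h1 : ell 0 = 1 := by
          refine h.inj _ (hellV 0) (fun c => ?_) fun c => ((h.meml b _).1 (hell 0)).2.2 c
          by_cases hc : c = b
          · subst hc; exact hellx 0
          · exact ((h.meml b _).1 (hell 0)).2.1 c hc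
        show g * ell 0 * g⁻¹ = 1
        rw [h1]; group
      · intro u
        show y (g⁻¹ * (g * ell u * g⁻¹) * g) b = 0
        have e1 : g⁻¹ * (g * ell u * g⁻¹) * g = ell u := by group
        rw [e1]
        exact ((h.meml b _).1 (hell u)).2.2 b
      · intro v hv w hw
        show y (g⁻¹ * (v * w) * g) b = _
        have e1 : g⁻¹ * (v * w) * g = (g⁻¹ * v * g) * (g⁻¹ * w * g) := by group
        rw [e1, h.ym _ (hgV' v hv) _ (hgV' w hw)]
    exact T.Y_l h (fun a => hB (conj_mem_cj (root_mem h (hs a) (hsv a)))) hz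
  have hzV := (h.memZ.1 hz).1
  refine h.memZ.2 ⟨hgV' z hzV, fun b => ?_⟩
  induction hz using Subgroup.iSup_induction' with
  | hp d w hw => exact key b d w hw
  | h1 =>
    have e1 : g⁻¹ * 1 * g = 1 := by group
    rw [e1]; exact h.y_one b
  | hmul p r hp hr ihp ihr =>
    have hpV := (h.memZ.1 hp).1
    have hrV := (h.memZ.1 hr).1
    have e1 : g⁻¹ * (p * r) * g = (g⁻¹ * p * g) * (g⁻¹ * r * g) := by group
    rw [e1, h.ym _ (hgV' p hpV) _ (hgV' r hrV), ihp hpV, ihr hrV, add_zero]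

/-- `g` normalises `Z_J` -/
theorem _root_.Cfsg.Agent.Omega.NOThreeL.RWide.TBlk.Kd.norm_Z [Finite G] [Finite ι] [∀ b, CharP (F b) 2]
    (h : Kd S V N l E x y) {g : G} (hg : g ∈ normalizer (V : Set G)) (hB : cj g (BB S l) ≤ S) :
    g ∈ normalizer ((⨆ b, l b : Subgroup G) : Set G) := by
  have h1 : cj g⁻¹ (⨆ b, l b) ≤ ⨆ b, l b := by
    rintro w hw
    obtain ⟨z, hz, rfl⟩ := hw
    have h2 := h.wcZ hg hB hz
    change g⁻¹ * z * g⁻¹⁻¹ ∈ _
    rwa [inv_inv]
  have h2 : cj g⁻¹ (⨆ b, l b) = ⨆ b, l b := by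
    refine Subgroup.eq_of_le_of_card_ge h1 ?_
    exact (card_cj g⁻¹ (⨆ b, l b)).ge
  have h3 : g⁻¹ ∈ normalizer ((⨆ b, l b : Subgroup G) : Set G) := mem_normalizer_iff_cj.2 h2
  have h4 := inv_mem h3
  rwa [inv_inv] at h4

/-- **`B` is weakly closed in `N_G(V)`.** -/
theorem _root_.Cfsg.Agent.Omega.NOThreeL.RWide.TBlk.Kd.wc [Finite G] [Finite ι] [∀ b, CharP (F b) 2]
    (h : Kd S V N l E x y) {g : G} (hg : g ∈ normalizer (V : Set G)) (hB : cj g (BB S l) ≤ S) :
    cj g (BB S l) = BB S l := by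
  have h1 : cj g (BB S l) ≤ BB S l := by
    refine le_inf hB ?_
    rintro w ⟨β, hβ, rfl⟩
    have hβ' : β ∈ centralizer ((⨆ b, l b : Subgroup G) : Set G) := (mem_inf.1 hβ).2
    change g * β * g⁻¹ ∈ centralizer ((⨆ b, l b : Subgroup G) : Set G)
    rw [mem_centralizer_iff]
    intro z hz
    have h2 := mem_centralizer_iff.1 hβ' _ (h.wcZ hg hB hz)
    calc z * (g * β * g⁻¹) = g * ((g⁻¹ * z * g) * β) * g⁻¹ := by group
      _ = g * (β * (g⁻¹ * z * g)) * g⁻¹ := by rw [h2]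
      _ = g * β * g⁻¹ * z := by group
  exact Subgroup.eq_of_le_of_card_ge h1 (card_cj g (BB S l)).ge

theorem _root_.Cfsg.Agent.Omega.NOThreeL.RWide.TBlk.Bls.wc [Finite G] [Finite ι] (h : Bls S V N l E) {g : G}
    (hg : g ∈ normalizer (V : Set G)) (hB : cj g (BB S l) ≤ S) : cj g (BB S l) = BB S l := by
  obtain ⟨F, i1, _, i3, x, y, hk⟩ := h.exists_kd
  exact hk.wc hg hB

theorem _root_.Cfsg.Agent.Omega.NOThreeL.RWide.TBlk.Bls.norm_Z [Finite G] [Finite ι] (h : Bls S V N l E) {g : G}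
    (hg : g ∈ normalizer (V : Set G)) (hB : cj g (BB S l) ≤ S) :
    g ∈ normalizer ((⨆ b, l b : Subgroup G) : Set G) := by
  obtain ⟨F, i1, _, i3, x, y, hk⟩ := h.exists_kd
  exact hk.norm_Z hg hB

end wc

end Cfsg.Agent.Omega.NOThreeL.RWide.TWc
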