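import Cfsg.Agent.Omega.OmThm.SideBase

/-!
# Coordinates of a direct product of subgroups; root groups (helper540, for LEMMA PERM, helper892 #23931)

* `Co V e` : `e v i` is the component in `V i` of `v ∈ ⨆ V`; `exists_co`;
* `Rt B W Z` : `B` acts on `W` as a group of root elements with centre `Z`; `Rt.conj`, `Rt.mono`.
-/

set_option autoImplicit false
set_option linter.unusedSectionVars false

namespace Cfsg.Agent.Omega.NOThreeL.RWide

open Subgroup Cfsg.Agent.ZN.ChoiceBase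
open Cfsg.Agent.Omega.OmThm.SideBase (card_sup_comm)

variable {G : Type*} [Group G] {ι : Type*}

/-- `e v i` is the component in `V i` of `v ∈ ⨆ V` -/
structure Co (V : ι → Subgroup G) (e : G → ι → G) : Prop where
  mem : ∀ v ∈ ⨆ i, V i, ∀ c, e v c ∈ V c
  mul : ∀ v ∈ ⨆ i, V i, ∀ w ∈ ⨆ i, V i, ∀ c, e (v * w) c = e v c * e w c
  self : ∀ c, ∀ v ∈ V c, e v c = v
  off : ∀ c, ∀ v ∈ V c, ∀ i, i ≠ c → e v i = 1
  ext : ∀ v ∈ ⨆ i, V i, (∀ c, e v c = 1) → v = 1

theorem exists_co [Finite ι] {V : ι → Subgroup G} (hc : ∀ i j, ∀ v ∈ V i, ∀ w ∈ V j, v * w = w * v)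
    (hi : iSupIndep V) : ∃ e, Co V e := by
  classical
  have := Fintype.ofFinite ι
  have hcomm : Pairwise fun i j : ι => ∀ x y : G, x ∈ V i → y ∈ V j → Commute x y :=
    fun i j _ x y hx hy => hc i j x hx y hy
  set f := Subgroup.noncommPiCoprod hcomm with hf
  have hinj : Function.Injective f := Subgroup.injective_noncommPiCoprod_of_iSupIndep hi
  have hr : f.range = ⨆ i, V i := Subgroup.noncommPiCoprod_range
  have hex : ∀ v : G, v ∈ ⨆ i, V i → ∃ p, f p = v := fun v hv => by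
    rw [← hr] at hv
    exact hv
  let e : G → ι → G := fun v c => if h : v ∈ ⨆ i, V i then ((Classical.choose (hex v h) c : V c) : G) else 1
  have he : ∀ v (h : v ∈ ⨆ i, V i) c, e v c = ((Classical.choose (hex v h) c : V c) : G) := fun v h c => dif_pos h
  have hp : ∀ v (h : v ∈ ⨆ i, V i) p, f p = v → Classical.choose (hex v h) = p := fun v h p hpv =>
    hinj ((Classical.choose_spec (hex v h)).trans hpv.symm)
  refine ⟨e, fun v hv c => ?_, fun v hv w hw c => ?_, fun c v hv => ?_, fun c v hv i hic => ?_, fun v hv h => ?_⟩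
  · rw [he v hv]; exact SetLike.coe_mem _
  · rw [he v hv, he w hw, he _ (mul_mem hv hw)]
    rw [hp _ (mul_mem hv hw) (Classical.choose (hex v hv) * Classical.choose (hex w hw)) (by
      rw [map_mul, Classical.choose_spec (hex v hv), Classical.choose_spec (hex w hw)])]
    rfl
  · have hv' : v ∈ ⨆ i, V i := (le_iSup V c) hv
    rw [he v hv', hp v hv' (Pi.mulSingle c ⟨v, hv⟩) (by rw [hf, Subgroup.noncommPiCoprod_mulSingle])]
    simp
  · have hv' : v ∈ ⨆ i, V i := (le_iSup V c) hv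
    rw [he v hv', hp v hv' (Pi.mulSingle c ⟨v, hv⟩) (by rw [hf, Subgroup.noncommPiCoprod_mulSingle])]
    simp [Pi.mulSingle_eq_of_ne hic]
  · have h1 : Classical.choose (hex v hv) = 1 := by
      funext c
      have h2 := h c
      rw [he v hv] at h2
      exact Subtype.ext h2
    rw [← Classical.choose_spec (hex v hv), h1, map_one]

namespace Co

variable {V : ι → Subgroup G} {e : G → ι → G} (h : Co V e)
include h

theorem one (c : ι) : e 1 c = 1 := by
  have h1 := h.mul 1 (one_mem _) 1 (one_mem _) c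
  rw [mul_one] at h1
  exact left_eq_mul.1 h1

theorem inv {v : G} (hv : v ∈ ⨆ i, V i) (c : ι) : e v⁻¹ c = (e v c)⁻¹ := by
  have h1 := h.mul v hv v⁻¹ (inv_mem hv) c
  rw [mul_inv_cancel, h.one] at h1
  exact (inv_eq_of_mul_eq_one_right h1.symm).symm

/-- two elements with the same components -/
theorem ext' {v w : G} (hv : v ∈ ⨆ i, V i) (hw : w ∈ ⨆ i, V i) (he : ∀ c, e v c = e w c) : v = w := by
  have h1 : v * w⁻¹ = 1 := h.ext _ (mul_mem hv (inv_mem hw)) fun c => by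
    rw [h.mul _ hv _ (inv_mem hw), h.inv hw, he, mul_inv_cancel]
  exact mul_inv_eq_one.1 h1

/-- equivariance -/
theorem conj {g : G} (hg : ∀ i, ∀ v ∈ V i, g * v * g⁻¹ ∈ V i) {v : G} (hv : v ∈ ⨆ i, V i) :
    g * v * g⁻¹ ∈ ⨆ i, V i ∧ ∀ c, e (g * v * g⁻¹) c = g * e v c * g⁻¹ := by
  induction hv using Subgroup.iSup_induction' with
  | hp i x hx =>
    have h1 := hg i x hx
    refine ⟨(le_iSup V i) h1, fun c => ?_⟩
    by_cases hc : c = i
    · subst hc
      rw [h.self _ _ h1, h.self _ _ hx]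
    · rw [h.off _ _ h1 _ hc, h.off _ _ hx _ hc, mul_one, mul_inv_cancel]
  | h1 => exact ⟨by rw [mul_one, mul_inv_cancel]; exact one_mem _, fun c => by
      rw [mul_one, mul_inv_cancel, h.one, mul_one, mul_inv_cancel]⟩
  | hmul x y hx hy ihx ihy =>
    have e1 : g * (x * y) * g⁻¹ = (g * x * g⁻¹) * (g * y * g⁻¹) := by group
    rw [e1]
    refine ⟨mul_mem ihx.1 ihy.1, fun c => ?_⟩
    rw [h.mul _ ihx.1 _ ihy.1, ihx.2, ihy.2, h.mul _ hx _ hy]
    group

/-- an element which centralises all components of `v` centralises `v` -/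
theorem comm_of {g : G} (hg : ∀ i, ∀ v ∈ V i, g * v * g⁻¹ ∈ V i) {v : G} (hv : v ∈ ⨆ i, V i)
    (hc : ∀ c, g * e v c = e v c * g) : g * v = v * g := by
  have h1 := h.conj hg hv
  have h2 : g * v * g⁻¹ = v := h.ext' h1.1 hv fun c => by
    rw [h1.2, hc, mul_inv_cancel_right]
  exact mul_inv_eq_iff_eq_mul.1 h2

theorem e_comm {g : G} (hg : ∀ i, ∀ v ∈ V i, g * v * g⁻¹ ∈ V i) {v : G} (hv : v ∈ ⨆ i, V i) (c : ι) :
    g * v * g⁻¹ * v⁻¹ ∈ ⨆ i, V i ∧ e (g * v * g⁻¹ * v⁻¹) c = g * e v c * g⁻¹ * (e v c)⁻¹ := by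
  have h1 := h.conj hg hv
  refine ⟨mul_mem h1.1 (inv_mem hv), ?_⟩
  rw [h.mul _ h1.1 _ (inv_mem hv), h1.2, h.inv hv]

/-- an element with trivial `c`-component is in the product of the other factors -/
theorem mem_off {v : G} (hv : v ∈ ⨆ i, V i) {c : ι} (hc : e v c = 1)
    (hcomm : ∀ i j, ∀ v ∈ V i, ∀ w ∈ V j, v * w = w * v) : v ∈ ⨆ (i) (_ : i ≠ c), V i := by
  have key : ∀ v ∈ ⨆ i, V i, v * (e v c)⁻¹ ∈ ⨆ (i) (_ : i ≠ c), V i := by
    intro v hv
    induction hv using Subgroup.iSup_induction' with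
    | hp i x hx =>
      by_cases hi : i = c
      · subst hi
        rw [h.self _ _ hx, mul_inv_cancel]
        exact one_mem _
      · rw [h.off _ _ hx _ (Ne.symm hi), inv_one, mul_one]
        exact (le_iSup₂ (f := fun i (_ : i ≠ c) => V i) i hi) hx
    | h1 => rw [h.one, inv_one, mul_one]; exact one_mem _
    | hmul x y hx hy ihx ihy =>
      rw [h.mul _ hx _ hy, mul_inv_rev]
      have h1 : (e x c)⁻¹ * (y * (e y c)⁻¹) = y * (e y c)⁻¹ * (e x c)⁻¹ := by
        have h2 : ∀ w ∈ ⨆ i, V i, (e x c)⁻¹ * w = w * (e x c)⁻¹ := by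
          intro w hw
          have h3 : (⨆ i, V i) ≤ centralizer ({(e x c)⁻¹} : Set G) := iSup_le fun j u hu =>
            mem_centralizer_singleton_iff.2 (hcomm j c u hu _ (inv_mem (h.mem x hx c)))
          exact (mem_centralizer_singleton_iff.1 (h3 hw)).symm
        exact h2 _ (mul_mem hy (inv_mem ((le_iSup V c) (h.mem y hy c))))
      have e1 : x * y * ((e y c)⁻¹ * (e x c)⁻¹) = (x * (e x c)⁻¹) * (y * (e y c)⁻¹) := by
        calc x * y * ((e y c)⁻¹ * (e x c)⁻¹) = x * (y * (e y c)⁻¹ * (e x c)⁻¹) := by group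
          _ = x * ((e x c)⁻¹ * (y * (e y c)⁻¹)) := by rw [h1]
          _ = _ := by group
      rw [e1]
      exact mul_mem ihx ihy
  have h1 := key v hv
  rwa [hc, inv_one, mul_one] at h1

/-- the components of an element of `⨆ Z i`, `Z i ≤ V i` -/
theorem mem_of_sup {Z : ι → Subgroup G} (hZ : ∀ i, Z i ≤ V i) {v : G} (hv : v ∈ ⨆ i, Z i) :
    v ∈ ⨆ i, V i ∧ ∀ c, e v c ∈ Z c := by
  induction hv using Subgroup.iSup_induction' with
  | hp i x hx =>
    refine ⟨(le_iSup V i) (hZ i hx), fun c => ?_⟩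
    by_cases hc : c = i
    · subst hc
      rw [h.self _ _ (hZ _ hx)]; exact hx
    · rw [h.off _ _ (hZ _ hx) _ hc]; exact one_mem _
  | h1 => exact ⟨one_mem _, fun c => by rw [h.one]; exact one_mem _⟩
  | hmul x y hx hy ihx ihy =>
    refine ⟨mul_mem ihx.1 ihy.1, fun c => ?_⟩
    rw [h.mul _ ihx.1 _ ihy.1]
    exact mul_mem (ihx.2 c) (ihy.2 c)

end Co

/-- `B` acts on `W` as a group of root elements with centre `Z` -/
structure Rt (B W Z : Subgroup G) : Prop where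
  com : ∀ g ∈ B, ∀ w ∈ W, g * w * g⁻¹ * w⁻¹ ∈ Z
  cen : ∀ g ∈ B, ∀ z ∈ Z, g * z = z * g
  full : ∀ g ∈ B, (∃ w ∈ W, g * w ≠ w * g) → ∀ z ∈ Z, ∃ w ∈ W, g * w * g⁻¹ * w⁻¹ = z
  fix : ∀ g ∈ B, (∃ w ∈ W, g * w ≠ w * g) → ∀ w ∈ W, g * w = w * g → w ∈ Z
  idx : (centralizer (W : Set G)).relIndex B ≤ Nat.card Z

theorem mem_cj' {g x : G} {H : Subgroup G} : x ∈ cj g H ↔ g⁻¹ * x * g ∈ H := mem_cj

theorem conj_mem_cj {g x : G} {H : Subgroup G} (hx : x ∈ H) : g * x * g⁻¹ ∈ cj g H := by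
  rw [mem_cj']
  have e : g⁻¹ * (g * x * g⁻¹) * g = x := by group
  rwa [e]

theorem cj_centralizer (g : G) (H : Subgroup G) :
    cj g (centralizer (H : Set G)) = centralizer ((cj g H : Subgroup G) : Set G) := by
  ext x
  rw [mem_cj', mem_centralizer_iff, mem_centralizer_iff]
  constructor
  · intro h y hy
    have h1 := h _ (mem_cj'.1 hy)
    calc y * x = g * (g⁻¹ * y * g * (g⁻¹ * x * g)) * g⁻¹ := by group
      _ = g * (g⁻¹ * x * g * (g⁻¹ * y * g)) * g⁻¹ := by rw [h1]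
      _ = x * y := by group
  · intro h y hy
    have h1 := h _ (conj_mem_cj (g := g) hy)
    calc y * (g⁻¹ * x * g) = g⁻¹ * (g * y * g⁻¹ * x) * g := by group
      _ = g⁻¹ * (x * (g * y * g⁻¹)) * g := by rw [h1]
      _ = g⁻¹ * x * g * y := by group

theorem relIndex_cj (g : G) (H K : Subgroup G) : (cj g H).relIndex (cj g K) = H.relIndex K :=
  relIndex_map_map_of_injective H K (MulAut.conj g).injective

theorem Rt.conj {B W Z : Subgroup G} (h : Rt B W Z) {y : G} (hy : y ∈ normalizer (B : Set G)) :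
    Rt B (cj y W) (cj y Z) := by
  have hB : ∀ g ∈ B, y⁻¹ * g * y ∈ B := fun g hg => by
    have := (mem_normalizer_iff.1 (inv_mem hy) g).1 hg
    rwa [inv_inv] at this
  have hcom : ∀ g w : G, y⁻¹ * (g * w * g⁻¹ * w⁻¹) * y =
      (y⁻¹ * g * y) * (y⁻¹ * w * y) * (y⁻¹ * g * y)⁻¹ * (y⁻¹ * w * y)⁻¹ := fun g w => by group
  have hne : ∀ g w : G, g * w ≠ w * g → (y⁻¹ * g * y) * (y⁻¹ * w * y) ≠ (y⁻¹ * w * y) * (y⁻¹ * g * y) := by
    intro g w h1 h2
    apply h1
    calc g * w = y * ((y⁻¹ * g * y) * (y⁻¹ * w * y)) * y⁻¹ := by group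
      _ = y * ((y⁻¹ * w * y) * (y⁻¹ * g * y)) * y⁻¹ := by rw [h2]
      _ = w * g := by group
  constructor
  · intro g hg w hw
    rw [mem_cj', hcom]
    exact h.com _ (hB g hg) _ (mem_cj'.1 hw)
  · intro g hg z hz
    have h1 := h.cen _ (hB g hg) _ (mem_cj'.1 hz)
    calc g * z = y * ((y⁻¹ * g * y) * (y⁻¹ * z * y)) * y⁻¹ := by group
      _ = y * ((y⁻¹ * z * y) * (y⁻¹ * g * y)) * y⁻¹ := by rw [h1]
      _ = z * g := by group
  · rintro g hg ⟨w, hw, hgw⟩ z hz
    obtain ⟨w', hw', e1⟩ := h.full _ (hB g hg) ⟨_, mem_cj'.1 hw, hne g w hgw⟩ _ (mem_cj'.1 hz)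
    refine ⟨y * w' * y⁻¹, conj_mem_cj hw', ?_⟩
    calc g * (y * w' * y⁻¹) * g⁻¹ * (y * w' * y⁻¹)⁻¹ =
          y * ((y⁻¹ * g * y) * w' * (y⁻¹ * g * y)⁻¹ * w'⁻¹) * y⁻¹ := by group
      _ = z := by rw [e1]; group
  · rintro g hg ⟨w, hw, hgw⟩ u hu hgu
    rw [mem_cj']
    refine h.fix _ (hB g hg) ⟨_, mem_cj'.1 hw, hne g w hgw⟩ _ (mem_cj'.1 hu) ?_
    calc y⁻¹ * g * y * (y⁻¹ * u * y) = y⁻¹ * (g * u) * y := by group
      _ = y⁻¹ * (u * g) * y := by rw [hgu]
      _ = _ := by group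
  · have h1 := h.idx
    rw [card_cj, ← cj_centralizer]
    conv_lhs => rw [← cj_eq_of_mem_normalizer hy]
    rwa [relIndex_cj]

theorem rne [Finite G] (H K : Subgroup G) : H.relIndex K ≠ 0 := index_ne_zero_of_finite (H := H.subgroupOf K)

theorem Rt.mono [Finite G] {B Q W Z : Subgroup G} (h : Rt B W Z) (hQ : Q ≤ B) : Rt Q W Z where
  com g hg := h.com g (hQ hg)
  cen g hg := h.cen g (hQ hg)
  full g hg := h.full g (hQ hg)
  fix g hg := h.fix g (hQ hg)
  idx := (relIndex_le_of_le_right (H := centralizer (W : Set G)) hQ (rne _ _)).trans h.idx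

/-! ### Counting -/

section count

variable [Finite G]

theorem rmc {A B : Subgroup G} (h : A ≤ B) : A.relIndex B * Nat.card A = Nat.card B := by
  have h1 := (A.subgroupOf B).card_mul_index
  rw [Nat.card_congr (subgroupOfEquivOfLe h).toEquiv] at h1
  rw [mul_comm]
  exact h1

theorem rel_sup {A B : Subgroup G} (h : ∀ a ∈ A, ∀ b ∈ B, a * b = b * a) : A.relIndex (A ⊔ B) = A.relIndex B := by
  have h1 := card_sup_comm h
  have h2 := rmc (le_sup_left : A ≤ A ⊔ B)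
  have h3 : A.relIndex B * Nat.card ↥(A ⊓ B) = Nat.card B := by
    rw [← inf_relIndex_right]
    exact rmc inf_le_right
  have hA : 0 < Nat.card A := Nat.card_pos
  have hAB : 0 < Nat.card ↥(A ⊓ B) := Nat.card_pos
  have h4 : A.relIndex (A ⊔ B) * (Nat.card A * Nat.card ↥(A ⊓ B)) = A.relIndex B * (Nat.card A * Nat.card ↥(A ⊓ B)) := by
    calc A.relIndex (A ⊔ B) * (Nat.card A * Nat.card ↥(A ⊓ B))
        = (A.relIndex (A ⊔ B) * Nat.card A) * Nat.card ↥(A ⊓ B) := by ring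
      _ = Nat.card A * Nat.card B := by rw [h2, h1]
      _ = Nat.card A * (A.relIndex B * Nat.card ↥(A ⊓ B)) := by rw [h3]
      _ = _ := by ring
  exact Nat.eq_of_mul_eq_mul_right (by positivity) h4

end count

end Cfsg.Agent.Omega.NOThreeL.RWide
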