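import Cfsg.Agent.Omega.NOThreeL.RRed.Blk.Def

/-!
# NO-3L, box R: LEMMA M (#24972), `K`-free

`Dec S L U N E R₀` (blocks `N b`, groups `E b`, `L` permutes them); `Om` a set of blocks.

* `le_sup_cent` (2): `Om` is `L`-invariant, `z ∈ ∏_{Om} N b`, its components lie in sets `X b ⊆ N b` on which `E b` is
  transitive and which `L` permutes: `L ≤ ⟨E b : b ∈ Om⟩ (L ∩ C(z))`;  `nonLoc_pair` : `⟨A, C(z)⟩` is nonlocal;
* `exists_fix`, `lin_mem` (1): `d ∈ L` normalises the `R b ≤ N b` (`b ∈ Om`) and acts on them as an element of `E b`: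
  `d ∈ ⟨E b : b ∈ Om⟩ C(Z₀)`, `Z₀ ≤ ∏_{Om} R b`;
* `mv_iff`, `mv_all` (3): the members of `PP` move the blocks like elements of `N(J)`: then `⟨PP⟩` leaves the set of
  blocks moved by `J` invariant; if `⟨PP⟩` is transitive and `J` moves a block, it moves all blocks.
-/

set_option autoImplicit false
set_option linter.unusedSectionVars false

namespace Cfsg.Agent.Omega.NOThreeL.RWide.LemM

open Subgroup Cfsg Cfsg.Agent.Omega.MinPar
open Cfsg.Agent.Omega.NOThreeL.RRed.Blk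
open scoped Pointwise

universe u v

variable {G : Type u} [Group G] {ι : Type v} {S L U : Subgroup G} {N E : ι → Subgroup G} {R₀ : Subgroup G}

theorem smul_of_nor {A : Subgroup G} {g : G} (hg : g ∈ normalizer (A : Set G)) : MulAut.conj g • A = A := by
  ext x
  rw [mem_pointwise_smul_iff_inv_smul_mem, ← map_inv, MulAut.smul_def, MulAut.conj_apply, inv_inv]
  exact ((mem_normalizer_iff''.1 hg x)).symm

theorem smul_inv_of {A B : Subgroup G} {g : G} (h : MulAut.conj g⁻¹ • A = B) : MulAut.conj g • B = A := by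
  rw [← h, map_inv, smul_inv_smul]

theorem smul_mul {A : Subgroup G} {g h : G} : MulAut.conj (g * h) • A = MulAut.conj g • (MulAut.conj h • A) := by
  rw [map_mul, mul_smul]

/-! ### (2) -/

section two

variable (h : Dec S L U N E R₀) (Om : Set ι) (X : ι → Set G)
include h

/-- an element of `E b` changes only the component `b` -/
theorem comp_of_E {b c : ι} (hbc : b ≠ c) {f : G} (hf : f ∈ E b) {x n : G} (hn : IsC N R₀ c x n) :
    IsC N R₀ c (f * x * f⁻¹) n := by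
  have h1 : f ∈ centralizer (N c : Set G) := h.EC b c hbc hf
  have h2 := h.comp_conj (h.EL b hf) (smul_of_nor (centralizer_le_normalizer _ h1)) hn
  rwa [cent h1 hn.1] at h2

theorem exists_move (tr : ∀ b ∈ Om, ∀ x ∈ X b, ∀ y ∈ X b, ∃ e ∈ E b, e * x * e⁻¹ = y) {w z : G}
    (cw : ∀ b ∈ Om, ∃ n ∈ X b, IsC N R₀ b w n) (cz : ∀ b ∈ Om, ∃ n ∈ X b, IsC N R₀ b z n)
    (s : Finset ι) (hs : ∀ b ∈ s, b ∈ Om) :
    ∃ e ∈ ⨆ b : Om, E b, (∀ b ∈ s, ∃ n, IsC N R₀ b (e * w * e⁻¹) n ∧ IsC N R₀ b z n) ∧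
      ∀ b, b ∉ s → ∀ n, IsC N R₀ b w n → IsC N R₀ b (e * w * e⁻¹) n := by
  classical
  induction s using Finset.induction_on with
  | empty => exact ⟨1, one_mem _, by simp, fun b _ n hn => by simpa using hn⟩
  | insert b s hb ih =>
    obtain ⟨e, he, h1, h2⟩ := ih fun c hc => hs c (Finset.mem_insert_of_mem hc)
    have hbO : b ∈ Om := hs b (Finset.mem_insert_self _ _)
    obtain ⟨n, hn1, hn2⟩ := cw b hbO
    obtain ⟨m, hm1, hm2⟩ := cz b hbO
    obtain ⟨f, hf, hfe⟩ := tr b hbO n hn1 m hm1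
    have hb1 : IsC N R₀ b (e * w * e⁻¹) n := h2 b hb n hn2
    have e1 : f * e * w * (f * e)⁻¹ = f * (e * w * e⁻¹) * f⁻¹ := by group
    refine ⟨f * e, mul_mem ((le_iSup (fun c : Om => E c) ⟨b, hbO⟩) hf) he, ?_, ?_⟩
    · intro c hc
      rw [e1]
      rcases Finset.mem_insert.1 hc with hcb | hcs
      · subst hcb
        refine ⟨m, ?_, hm2⟩
        have h3 := h.comp_conj (h.EL c hf) (smul_of_nor (h.EN c hf)) hb1
        rwa [hfe] at h3
      · have hbc : b ≠ c := fun e => hb (e ▸ hcs)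
        obtain ⟨k, hk1, hk2⟩ := h1 c hcs
        exact ⟨k, comp_of_E h hbc hf hk1, hk2⟩
    · intro c hc k hk
      rw [e1]
      have hbc : b ≠ c := fun e => hc (e ▸ Finset.mem_insert_self _ _)
      exact comp_of_E h hbc hf (h2 c (fun h4 => hc (Finset.mem_insert_of_mem h4)) k hk)

variable [Finite ι]

/-- **LEMMA M (2).** -/
theorem le_sup_cent (inv : ∀ g ∈ L, ∀ b c, MulAut.conj g • N b = N c → b ∈ Om → c ∈ Om)
    (eq : ∀ g ∈ L, ∀ b c, MulAut.conj g • N b = N c → b ∈ Om → ∀ x ∈ X b, g * x * g⁻¹ ∈ X c)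
    (tr : ∀ b ∈ Om, ∀ x ∈ X b, ∀ y ∈ X b, ∃ e ∈ E b, e * x * e⁻¹ = y)
    {z : G} (hz : z ∈ ⨆ b : Om, N b) (cz : ∀ b ∈ Om, ∃ n ∈ X b, IsC N R₀ b z n) :
    L ≤ (⨆ b : Om, E b) ⊔ (L ⊓ centralizer ({z} : Set G)) := by
  classical
  have := Fintype.ofFinite ι
  intro g hg
  have hz0 : ∀ b, b ∉ Om → IsC N R₀ b z 1 := fun b hb =>
    h.comp_one ((iSup_le fun c : Om => h.N_le_Co (fun e => hb (by rw [← e]; exact c.2)) :
      (⨆ b : Om, N b) ≤ Co N R₀ b) hz)
  have hzN : (⨆ b : Om, N b) ≤ ⨆ b, N b := iSup_le fun b => le_iSup N b.1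
  have hEN : ∀ e ∈ ⨆ b : Om, E b, e ∈ L := fun e he => (iSup_le fun b : Om => h.EL b.1) he
  -- the preimage of a block
  have hpre : ∀ b, ∃ c, MulAut.conj g • N c = N b := fun b => by
    obtain ⟨c, hc, _⟩ := h.perm g⁻¹ (inv_mem hg) b
    exact ⟨c, smul_inv_of hc⟩
  have hcw : ∀ b ∈ Om, ∃ n ∈ X b, IsC N R₀ b (g * z * g⁻¹) n := fun b hb => by
    obtain ⟨c, hc⟩ := hpre b
    have hcO : c ∈ Om := inv g⁻¹ (inv_mem hg) b c (by rw [← hc, map_inv, inv_smul_smul]) hb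
    obtain ⟨n, hn1, hn2⟩ := cz c hcO
    exact ⟨_, eq g hg c b hc hcO n hn1, h.comp_conj hg hc hn2⟩
  have hw0 : ∀ b, b ∉ Om → IsC N R₀ b (g * z * g⁻¹) 1 := fun b hb => by
    obtain ⟨c, hc⟩ := hpre b
    have hcO : c ∉ Om := fun h1 => hb (inv g hg c b hc h1)
    have h2 := h.comp_conj hg hc (hz0 c hcO)
    simpa using h2
  obtain ⟨e, he, h1, h2⟩ := exists_move h Om X tr hcw cz (Finset.univ.filter (· ∈ Om)) (by simp)
  have hN : ∀ k ∈ L, ∀ x ∈ ⨆ b, N b, k * x * k⁻¹ ∈ ⨆ b, N b := fun k hk x hx => by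
    have h3 : MulAut.conj k • (⨆ b, N b) ≤ ⨆ b, N b := by
      rw [show MulAut.conj k • (⨆ b, N b) = ⨆ b, MulAut.conj k • N b from Subgroup.map_iSup _ _]
      refine iSup_le fun b => ?_
      obtain ⟨c, hc, _⟩ := h.perm k hk b
      rw [hc]
      exact le_iSup N c
    exact h3 ((conj_smul rfl).1 hx)
  have key : e * (g * z * g⁻¹) * e⁻¹ = z := by
    refine h.ext (hN e (hEN e he) _ (hN g hg _ (hzN hz))) (hzN hz) fun b => ?_
    by_cases hb : b ∈ Om
    · exact h1 b (by simpa using hb)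
    · exact ⟨1, h2 b (by simpa using hb) 1 (hw0 b hb), hz0 b hb⟩
  have hc : e * g ∈ L ⊓ centralizer ({z} : Set G) := by
    refine mem_inf.2 ⟨mul_mem (hEN e he) hg, ?_⟩
    rw [mem_centralizer_iff]
    intro y hy
    rw [Set.mem_singleton_iff.1 hy]
    have h3 : (e * g) * z * (e * g)⁻¹ = z := by
      have h6 : (e * g) * z * (e * g)⁻¹ = e * (g * z * g⁻¹) * e⁻¹ := by group
      rw [h6]; exact key
    have h4 : (e * g) * z = z * (e * g) := by
      rw [← mul_inv_eq_iff_eq_mul]; exact h3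
    exact h4.symm
  have h5 : g = e⁻¹ * (e * g) := by group
  rw [h5]
  exact mul_mem (mem_sup_left (inv_mem he)) (mem_sup_right hc)

/-- **LEMMA M (2), nonlocality of the pair.** -/
theorem nonLoc_pair (inv : ∀ g ∈ L, ∀ b c, MulAut.conj g • N b = N c → b ∈ Om → c ∈ Om)
    (eq : ∀ g ∈ L, ∀ b c, MulAut.conj g • N b = N c → b ∈ Om → ∀ x ∈ X b, g * x * g⁻¹ ∈ X c)
    (tr : ∀ b ∈ Om, ∀ x ∈ X b, ∀ y ∈ X b, ∃ e ∈ E b, e * x * e⁻¹ = y)
    {z : G} (hz : z ∈ ⨆ b : Om, N b) (cz : ∀ b ∈ Om, ∃ n ∈ X b, IsC N R₀ b z n)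
    {A C : Subgroup G} (hA : ∀ b ∈ Om, E b ≤ A) (hC : C ≤ A) (hn : NonLoc L C) :
    NonLoc A (centralizer ({z} : Set G)) := by
  intro W hW h1 h2
  refine hn W hW ?_ (hC.trans h1)
  refine (le_sup_cent h Om X inv eq tr hz cz).trans (sup_le (iSup_le fun b => (hA b b.2).trans h1) ?_)
  exact inf_le_right.trans h2

end two

/-! ### (1) -/

section one

variable (h : Dec S L U N E R₀) (Om : Set ι) (R : ι → Subgroup G)
include h

theorem exists_fix_aux (hR : ∀ b, R b ≤ N b) {d : G} (dR : ∀ b ∈ Om, d ∈ normalizer (R b : Set G))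
    (hh : ∀ b ∈ Om, ∃ f ∈ E b, ∀ x ∈ R b, f * x * f⁻¹ = d⁻¹ * x * d) (s : Finset ι) (hs : ∀ b ∈ s, b ∈ Om) :
    ∃ f ∈ ⨆ b : Om, E b, (∀ b ∈ s, ∀ x ∈ R b, f * x * f⁻¹ = d⁻¹ * x * d) ∧
      ∀ b, b ∉ s → ∀ x ∈ N b, f * x * f⁻¹ = x := by
  classical
  induction s using Finset.induction_on with
  | empty => exact ⟨1, one_mem _, by simp, fun b _ x _ => by simp⟩
  | insert b s hb ih =>
    obtain ⟨f, hf, h1, h2⟩ := ih fun c hc => hs c (Finset.mem_insert_of_mem hc)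
    have hbO : b ∈ Om := hs b (Finset.mem_insert_self _ _)
    obtain ⟨k, hk, hk1⟩ := hh b hbO
    have e1 : ∀ x, k * f * x * (k * f)⁻¹ = k * (f * x * f⁻¹) * k⁻¹ := fun x => by group
    refine ⟨k * f, mul_mem ((le_iSup (fun c : Om => E c) ⟨b, hbO⟩) hk) hf, ?_, ?_⟩
    · intro c hc x hx
      rw [e1]
      rcases Finset.mem_insert.1 hc with hcb | hcs
      · subst hcb
        rw [h2 c hb x (hR c hx)]
        exact hk1 x hx
      · have hbc : b ≠ c := fun e => hb (e ▸ hcs)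
        rw [h1 c hcs x hx]
        have h3 : d⁻¹ * x * d ∈ R c := by
          have h4 := conj_of (inv_mem (dR c (hs c (Finset.mem_insert_of_mem hcs)))) hx
          rwa [inv_inv] at h4
        exact cent (h.EC b c hbc hk) (hR c h3)
    · intro c hc x hx
      rw [e1]
      have hbc : b ≠ c := fun e => hc (e ▸ Finset.mem_insert_self _ _)
      rw [h2 c (fun h4 => hc (Finset.mem_insert_of_mem h4)) x hx]
      exact cent (h.EC b c hbc hk) hx

variable [Finite ι]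

/-- **LEMMA M (1)**, element form. -/
theorem exists_fix (hR : ∀ b, R b ≤ N b) {d : G} (dR : ∀ b ∈ Om, d ∈ normalizer (R b : Set G))
    (hh : ∀ b ∈ Om, ∃ f ∈ E b, ∀ x ∈ R b, f * x * f⁻¹ = d⁻¹ * x * d) :
    ∃ f ∈ ⨆ b : Om, E b, (∀ b ∈ Om, d * f ∈ centralizer (R b : Set G)) ∧
      ∀ b, b ∉ Om → f ∈ centralizer (N b : Set G) := by
  classical
  have := Fintype.ofFinite ι
  obtain ⟨f, hf, h1, h2⟩ := exists_fix_aux h Om R hR dR hh (Finset.univ.filter (· ∈ Om)) (by simp)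
  refine ⟨f, hf, fun b hb => ?_, fun b hb => ?_⟩
  · rw [mem_centralizer_iff]
    intro x hx
    have h3 := h1 b (by simpa using hb) x hx
    have h4 : f * x = d⁻¹ * x * d * f := mul_inv_eq_iff_eq_mul.1 h3
    calc x * (d * f) = d * (d⁻¹ * x * d * f) := by group
      _ = d * (f * x) := by rw [h4]
      _ = d * f * x := by group
  · rw [mem_centralizer_iff]
    intro x hx
    have h3 := h2 b (by simpa using hb) x hx
    exact (mul_inv_eq_iff_eq_mul.1 h3).symm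

/-- **LEMMA M (1).** -/
theorem lin_mem (hR : ∀ b, R b ≤ N b) {d : G} (dR : ∀ b ∈ Om, d ∈ normalizer (R b : Set G))
    (hh : ∀ b ∈ Om, ∃ f ∈ E b, ∀ x ∈ R b, f * x * f⁻¹ = d⁻¹ * x * d) {Z₀ : Subgroup G}
    (hZ : Z₀ ≤ ⨆ b : Om, R b) : d ∈ (⨆ b : Om, E b) ⊔ centralizer (Z₀ : Set G) := by
  obtain ⟨f, hf, h1, _⟩ := exists_fix h Om R hR dR hh
  have h2 : d * f ∈ centralizer (Z₀ : Set G) := by
    have h3 : (⨆ b : Om, R b) ≤ centralizer ({d * f} : Set G) := iSup_le fun b x hx => by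
      rw [mem_centralizer_iff]
      intro y hy
      rw [Set.mem_singleton_iff.1 hy]
      exact (mem_centralizer_iff.1 (h1 b b.2) x hx).symm
    rw [mem_centralizer_iff]
    intro x hx
    exact (mem_centralizer_iff.1 (h3 (hZ hx)) _ rfl).symm
  have h5 : d = (d * f) * f⁻¹ := by group
  rw [h5]
  exact mul_mem (mem_sup_right h2) (mem_sup_left (inv_mem hf))

end one

/-! ### (3) -/

section three

variable {J : Subgroup G} {PP : Set (Subgroup G)}

theorem cent_smul {A : Subgroup G} {s : G} (hs : s ∈ normalizer (J : Set G)) :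
    J ≤ centralizer (A : Set G) ↔ J ≤ centralizer ((MulAut.conj s • A : Subgroup G) : Set G) := by
  have aux : ∀ (t : G), t ∈ normalizer (J : Set G) → ∀ B : Subgroup G, J ≤ centralizer (B : Set G) →
      J ≤ centralizer ((MulAut.conj t • B : Subgroup G) : Set G) := by
    intro t ht B hB x hx
    rw [mem_centralizer_iff]
    rintro _ ⟨y, hy, rfl⟩
    have h1 : t⁻¹ * x * t ∈ J := by
      have h2 := conj_of (inv_mem ht) hx
      rwa [inv_inv] at h2
    have h3 := mem_centralizer_iff.1 (hB h1) y hy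
    change t * y * t⁻¹ * x = x * (t * y * t⁻¹)
    calc t * y * t⁻¹ * x = t * (y * (t⁻¹ * x * t)) * t⁻¹ := by group
      _ = t * ((t⁻¹ * x * t) * y) * t⁻¹ := by rw [h3]
      _ = x * (t * y * t⁻¹) := by group
  refine ⟨aux s hs A, fun h1 => ?_⟩
  have h2 := aux s⁻¹ (inv_mem hs) _ h1
  rwa [map_inv, inv_smul_smul] at h2

/-- `⟨PP⟩` leaves the set of blocks moved by `J` invariant. -/
theorem mv_iff (hperm : ∀ g ∈ sSup PP, ∀ b, ∃ c, MulAut.conj g • N b = N c)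
    (hP : ∀ P ∈ PP, ∀ g ∈ P, ∀ b, ∃ s ∈ normalizer (J : Set G), MulAut.conj g • N b = MulAut.conj s • N b) :
    ∀ g ∈ sSup PP, ∀ b c, MulAut.conj g • N b = N c →
      (J ≤ centralizer (N b : Set G) ↔ J ≤ centralizer (N c : Set G)) := by
  have hle : sSup PP = closure (⋃ P : PP, ((P : Subgroup G) : Set G)) := by
    rw [sSup_eq_iSup', iSup_eq_closure]
  intro g hg
  have hg' : g ∈ closure (⋃ P : PP, ((P : Subgroup G) : Set G)) := by rwa [← hle]
  clear hg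
  induction hg' using closure_induction with
  | mem x hx =>
    intro b c hbc
    obtain ⟨P, hxP⟩ := Set.mem_iUnion.1 hx
    obtain ⟨s, hs, e⟩ := hP P P.2 x hxP b
    rw [← hbc, e]
    exact cent_smul hs
  | one =>
    intro b c hbc
    rw [← hbc, map_one, one_smul]
  | mul x y hx hy ihx ihy =>
    intro b c hbc
    obtain ⟨d, hd⟩ := hperm y (by rwa [hle]) b
    rw [smul_mul, hd] at hbc
    exact (ihy b d hd).trans (ihx d c hbc)
  | inv x hx ihx =>
    intro b c hbc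
    exact (ihx c b (smul_inv_of hbc)).symm

/-- **LEMMA M (3).** -/
theorem mv_all (hperm : ∀ g ∈ sSup PP, ∀ b, ∃ c, MulAut.conj g • N b = N c)
    (hP : ∀ P ∈ PP, ∀ g ∈ P, ∀ b, ∃ s ∈ normalizer (J : Set G), MulAut.conj g • N b = MulAut.conj s • N b)
    (tr : ∀ b c, ∃ g ∈ sSup PP, MulAut.conj g • N b = N c) (mv : ∃ b, ¬ J ≤ centralizer (N b : Set G)) :
    ∀ b, ¬ J ≤ centralizer (N b : Set G) := by
  obtain ⟨c, hc⟩ := mv
  intro b hb
  obtain ⟨g, hg, e⟩ := tr b c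
  exact hc ((mv_iff hperm hP g hg b c e).1 hb)

end three

end Cfsg.Agent.Omega.NOThreeL.RWide.LemM
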