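import Cfsg.Agent.Omega.NO3S.SN2.BAOff
import Cfsg.Agent.Omega.MinPar

/-!
# THEOREM PERM+ (helper278, #24948, #25094): the input

One `S`-orbit of blocks `V i` (natural `SL₂(q)`-modules with root lines `Z i`, `S` may permute them and induce fields),
`D = C_G(Z)`, `O = O₂(D)`, the left case `J(O)` moves a block. `P` is a minimal parabolic which is irreducible on
`⨆ V`, `N` the abelian group `N_j ≤ O` normalised by `P` and `D`. Output (PermAll): `D` permutes the `Z i`.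
-/

set_option autoImplicit false
set_option linter.unusedSectionVars false

namespace Cfsg.Agent.Omega.NOThreeL.RWide

open Subgroup Cfsg Cfsg.Agent.ZN Cfsg.Agent.ZN.ChoiceBase Cfsg.Agent.MinSimple.MinParabolic

universe u

variable {G : Type u} [Group G]

/-- `F` acts on `V` trivially or as the full root group with line `Z`. -/
structure RootOn (F V Z : Subgroup G) : Prop where
  norm : F ≤ normalizer (V : Set G)
  fixZ : ∀ f ∈ F, ∀ z ∈ Z, f * z = z * f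
  comm : ∀ f ∈ F, ∀ v ∈ V, f * v * f⁻¹ * v⁻¹ ∈ Z
  full : F ≤ centralizer (V : Set G) ∨ ∀ v ∈ V, v ∉ Z →
    (∀ z ∈ Z, ∃ f ∈ F, f * v * f⁻¹ * v⁻¹ = z) ∧ ∀ f ∈ F, f * v = v * f → f ∈ centralizer (V : Set G)

/-- The input of THEOREM PERM+. -/
structure PIn (S : Sylow 2 G) (D P N : Subgroup G) {ι : Type*} (V Z : ι → Subgroup G) : Prop where
  SD : (S : Subgroup G) ≤ D
  VO : ∀ i, V i ≤ o2 D
  sq : ∀ i, ∀ v ∈ V i, v * v = 1
  noff : ∀ x ∈ D, ∀ i j, ∀ v ∈ V i, ∀ w ∈ cj x (V j), v * w = w * v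
  ind : iSupIndep V
  ZV : ∀ i, Z i ≤ V i
  Zne : ∀ i, Z i ≠ ⊥
  card : ∀ i, Nat.card (V i) = Nat.card (Z i) ^ 2
  perm : ∀ s ∈ normalizer ((S : Subgroup G) : Set G) ⊓ D, ∀ i, ∃ j, cj s (V i) = V j ∧ cj s (Z i) = Z j
  trans : ∀ i j, ∃ s ∈ (S : Subgroup G), cj s (V i) = V j
  root : ∀ i, ∀ g ∈ (S : Subgroup G), (∀ v ∈ V i, g * v * g⁻¹ * v⁻¹ ∈ Z i) → (∀ v ∈ V i, g * v = v * g) ∨
    ∀ z ∈ Z i, ∃ v ∈ V i, g * v * g⁻¹ * v⁻¹ = z
  /-- best offenders of `S` on `⨆ V` are products of full root groups -/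
  ffp : ∀ F : Subgroup G, F ≤ (S : Subgroup G) → IsBestOffenderOn 2 (⨆ i, V i) F → ∀ i, RootOn F (V i) (Z i)
  mov : ∃ A ∈ AA (o2 D), ¬ A ≤ centralizer ((⨆ i, V i : Subgroup G) : Set G)
  Pmin : IsMinPar (S : Subgroup G) P
  PV : P ≤ normalizer ((⨆ i, V i : Subgroup G) : Set G)
  irr : ∀ U : Subgroup G, U ≤ ⨆ i, V i → P ≤ normalizer (U : Set G) → U ≠ ⊥ → U = ⨆ i, V i
  PN : P ≤ normalizer (N : Set G)
  DN : D ≤ normalizer (N : Set G)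
  VN : ∀ i, V i ≤ N
  NO : N ≤ o2 D
  Nsq : ∀ n ∈ N, n * n = 1
  Nab : ∀ m ∈ N, ∀ n ∈ N, m * n = n * m
  /-- a vector of `Z(D) ∩ ⨆ Z` with all components `≠ 1` -/
  vec : ∃ z : G, z ∈ ⨆ i, Z i ∧ (∀ x ∈ D, x * z = z * x) ∧ ∀ i, z ∉ ⨆ (j) (_ : j ≠ i), V j

end Cfsg.Agent.Omega.NOThreeL.RWide
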