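import Cfsg.Agent.Omega.NOThreeL.RWide.NormB

/-!
# The field `gen` of `NormB.NBf` from coordinates (helper644)

`Acts N e k M` : `k` acts on `N` (coordinates `e`) by the matrix `M ∈ SL₂(F)`.
* `Acts.mul`, `Acts.inv`, `Acts.conj_eq` : the calculus;
* `gen` : upper and lower unipotent matrices generate;
* **`gen_of`** : `L` acts on `N` through `SL₂(F)` and contains an element acting as `[[0,1],[-1,0]]`, `B` acts through
  `SL₂(F)`, `A` induces all upper unipotent matrices: the last part of `NBf.gen`.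
-/

set_option autoImplicit false
set_option linter.unusedSectionVars false

namespace Cfsg.Agent.Omega.NOThreeL.RWide.GenSL

open Subgroup Cfsg.Agent.ZN.ChoiceBase Matrix

universe u

variable {G : Type u} [Group G] {F : Type*} [Field F]

local notation "SLF" => Matrix.SpecialLinearGroup (Fin 2) F

/-- `k` acts on `N` by the matrix `M` -/
structure Acts (N : Subgroup G) (e : G → Fin 2 → F) (k : G) (M : Matrix.SpecialLinearGroup (Fin 2) F) : Prop where
  nor : k ∈ normalizer (N : Set G)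
  act : ∀ v ∈ N, e (k * v * k⁻¹) = M.1.mulVec (e v)

/-- `[[1,c],[0,1]]` -/
def U (c : F) : Matrix.SpecialLinearGroup (Fin 2) F := ⟨!![1, c; 0, 1], by simp⟩

/-- `[[1,0],[c,1]]` -/
def Lw (c : F) : Matrix.SpecialLinearGroup (Fin 2) F := ⟨!![1, 0; c, 1], by simp⟩

/-- `[[0,1],[-1,0]]` -/
def W : Matrix.SpecialLinearGroup (Fin 2) F := ⟨!![0, 1; -1, 0], by simp⟩

variable {N : Subgroup G} {e : G → Fin 2 → F} {k k' : G} {M M' : Matrix.SpecialLinearGroup (Fin 2) F}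

theorem Acts.mem (h : Acts N e k M) {v : G} (hv : v ∈ N) : k * v * k⁻¹ ∈ N := (mem_normalizer_iff.1 h.nor v).1 hv

theorem Acts.mul (h : Acts N e k M) (h' : Acts N e k' M') : Acts N e (k * k') (M * M') where
  nor := mul_mem h.nor h'.nor
  act v hv := by
    have h1 := h.act _ (h'.mem hv)
    rw [h'.act v hv] at h1
    have e1 : k * (k' * v * k'⁻¹) * k⁻¹ = k * k' * v * (k * k')⁻¹ := by group
    rw [e1] at h1
    rw [h1, Matrix.SpecialLinearGroup.coe_mul, Matrix.mulVec_mulVec]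

theorem Acts.inv (h : Acts N e k M) : Acts N e k⁻¹ M⁻¹ where
  nor := inv_mem h.nor
  act v hv := by
    have h2 : k⁻¹ * v * k⁻¹⁻¹ ∈ N := (mem_normalizer_iff.1 (inv_mem h.nor) v).1 hv
    have h1 := h.act _ h2
    have e1 : k * (k⁻¹ * v * k⁻¹⁻¹) * k⁻¹ = v := by group
    rw [e1] at h1
    have h3 : (M⁻¹ : Matrix.SpecialLinearGroup (Fin 2) F).1 * M.1 = 1 := by
      rw [← Matrix.SpecialLinearGroup.coe_mul, inv_mul_cancel]; rfl
    rw [h1, Matrix.mulVec_mulVec, h3, Matrix.one_mulVec]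

theorem Acts.conj_eq (h : Acts N e k M) (h' : Acts N e k' M) (mul : ∀ v ∈ N, ∀ w ∈ N, e (v * w) = e v + e w)
    (inj : ∀ v ∈ N, e v = 0 → v = 1) {v : G} (hv : v ∈ N) : k * v * k⁻¹ = k' * v * k'⁻¹ := by
  have h1 := h.mem hv
  have h2 := h'.mem hv
  have h0 : e 1 = 0 := by
    have h3 := mul 1 (one_mem _) 1 (one_mem _)
    rw [mul_one] at h3
    exact left_eq_add.1 h3
  have h3 : e (k * v * k⁻¹ * (k' * v * k'⁻¹)⁻¹) = 0 := by
    have h4 := mul _ h2 _ (inv_mem h2)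
    rw [mul_inv_cancel, h0] at h4
    rw [mul _ h1 _ (inv_mem h2), h.act v hv, ← h'.act v hv]
    exact h4.symm
  exact mul_inv_eq_one.1 (inj _ (mul_mem h1 (inv_mem h2)) h3)

theorem gen {H : Subgroup G} (hU : ∀ c : F, ∃ k ∈ H, Acts N e k (U c)) (hL : ∀ c : F, ∃ k ∈ H, Acts N e k (Lw c))
    (M : Matrix.SpecialLinearGroup (Fin 2) F) : ∃ k ∈ H, Acts N e k M := by
  -- first the case `M₁₀ ≠ 0`
  have key : ∀ M : Matrix.SpecialLinearGroup (Fin 2) F, M.1 1 0 ≠ 0 → ∃ k ∈ H, Acts N e k M := by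
    intro M hc
    obtain ⟨a, ha, ha2⟩ := hU ((M.1 0 0 - 1) / M.1 1 0)
    obtain ⟨b, hb, hb2⟩ := hL (M.1 1 0)
    obtain ⟨d, hd, hd2⟩ := hU ((M.1 1 1 - 1) / M.1 1 0)
    refine ⟨a * b * d, mul_mem (mul_mem ha hb) hd, ?_⟩
    have h1 := (ha2.mul hb2).mul hd2
    have hdet : M.1 0 0 * M.1 1 1 - M.1 0 1 * M.1 1 0 = 1 := by
      have := M.2
      rwa [Matrix.det_fin_two] at this
    have h2 : U ((M.1 0 0 - 1) / M.1 1 0) * Lw (M.1 1 0) * U ((M.1 1 1 - 1) / M.1 1 0) = M := by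
      apply Subtype.ext
      rw [Matrix.SpecialLinearGroup.coe_mul, Matrix.SpecialLinearGroup.coe_mul]
      ext i j
      fin_cases i <;> fin_cases j
      · simp [U, Lw, Matrix.mul_apply, Fin.sum_univ_two]
        field_simp
        ring
      · simp [U, Lw, Matrix.mul_apply, Fin.sum_univ_two]
        field_simp
        linear_combination hdet
      · simp [U, Lw, Matrix.mul_apply, Fin.sum_univ_two]
      · simp [U, Lw, Matrix.mul_apply, Fin.sum_univ_two]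
        field_simp
        ring
    rwa [h2] at h1
  by_cases hc : M.1 1 0 = 0
  · have hdet : M.1 0 0 * M.1 1 1 - M.1 0 1 * M.1 1 0 = 1 := by
      have := M.2
      rwa [Matrix.det_fin_two] at this
    have hd : M.1 1 1 ≠ 0 := by
      intro h0
      rw [hc, h0] at hdet
      simp at hdet
    obtain ⟨k, hk, hk2⟩ := key (M * Lw 1) (by
      rw [Matrix.SpecialLinearGroup.coe_mul]
      simp [Lw, Matrix.mul_apply, Fin.sum_univ_two, hc, hd])
    obtain ⟨b, hb, hb2⟩ := hL (1 : F)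
    refine ⟨k * b⁻¹, mul_mem hk (inv_mem hb), ?_⟩
    have h1 := hk2.mul hb2.inv
    rwa [mul_inv_cancel_right] at h1
  · exact key M hc

/-- **the field `gen` of `NBf`** -/
theorem gen_of {A B L l : Subgroup G} (mul : ∀ v ∈ N, ∀ w ∈ N, e (v * w) = e v + e w)
    (inj : ∀ v ∈ N, e v = 0 → v = 1) (line : ∀ v, v ∈ l ↔ v ∈ N ∧ e v 1 = 0)
    (hL : ∀ x ∈ L, ∃ M : Matrix.SpecialLinearGroup (Fin 2) F, Acts N e x M)
    (hW : ∃ g ∈ L, Acts N e g (W (F := F)))
    (hB : ∀ β ∈ B, ∃ M : Matrix.SpecialLinearGroup (Fin 2) F, Acts N e β M)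
    (hA : ∀ c : F, ∃ a ∈ A, Acts N e a (U c)) :
    ∃ g ∈ L, cj g l ⊓ l = ⊥ ∧ ∀ x ∈ L, ∀ β ∈ B, ∃ h ∈ A ⊔ cj g A, ∀ v ∈ N,
      x * β * x⁻¹ * v * (x * β * x⁻¹)⁻¹ = h * v * h⁻¹ := by
  obtain ⟨g, hg, hgW⟩ := hW
  refine ⟨g, hg, ?_, fun x hx β hβ => ?_⟩
  · rw [eq_bot_iff]
    rintro v ⟨hv1, hv2⟩
    have h1 := mem_cj.1 hv1
    obtain ⟨h2, h3⟩ := (line _).1 h1
    obtain ⟨h4, h5⟩ := (line _).1 hv2
    have h6 := hgW.act _ h2
    have e1 : g * (g⁻¹ * v * g) * g⁻¹ = v := by group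
    rw [e1] at h6
    have h7 := congrFun h6 1
    have h8 := congrFun h6 0
    simp [W, Matrix.mulVec, dotProduct, Fin.sum_univ_two] at h7 h8
    rw [h5] at h7
    rw [h3] at h8
    refine mem_bot.2 (inj v h4 ?_)
    funext i
    fin_cases i
    · exact h8
    · exact h5
  · obtain ⟨M, hM⟩ := hL x hx
    obtain ⟨M', hM'⟩ := hB β hβ
    have h1 := (hM.mul hM').mul hM.inv
    have hUU : ∀ c : F, ∃ k ∈ A ⊔ cj g A, Acts N e k (U c) := fun c => by
      obtain ⟨a, ha, ha2⟩ := hA c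
      exact ⟨a, (le_sup_left : A ≤ A ⊔ cj g A) ha, ha2⟩
    have hLL : ∀ c : F, ∃ k ∈ A ⊔ cj g A, Acts N e k (Lw c) := fun c => by
      obtain ⟨a, ha, ha2⟩ := hA (-c)
      refine ⟨g * a * g⁻¹, (le_sup_right : cj g A ≤ A ⊔ cj g A) (conj_mem_cj ha), ?_⟩
      have h2 := (hgW.mul ha2).mul hgW.inv
      have h3 : W * U (-c) * W⁻¹ = Lw c := by
        rw [mul_inv_eq_iff_eq_mul]
        apply Subtype.ext
        rw [Matrix.SpecialLinearGroup.coe_mul, Matrix.SpecialLinearGroup.coe_mul]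
        ext i j
        fin_cases i <;> fin_cases j <;> simp [W, U, Lw, Matrix.mul_apply, Fin.sum_univ_two]
      rwa [h3] at h2
    obtain ⟨k, hk, hk2⟩ := gen hUU hLL (M * M' * M⁻¹)
    exact ⟨k, hk, fun v hv => h1.conj_eq hk2 mul inj hv⟩

end Cfsg.Agent.Omega.NOThreeL.RWide.GenSL
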