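import Cfsg.Agent.Omega.NOThreeL.RRed.NS.Act
import Cfsg.Agent.Omega.NOThreeL.RRed.NS.Spl
import Cfsg.Agent.Omega.NOThreeL.RWide.PIn

/-!
# Natural modules without radical: the module part of `PIn` (helper540, for socket [P], helper278 #25393)

`M : NatKM F S P V D k`, `h : Nb M`, `spl : ∀ j, DD M j = ⊥` (`blk M j ∩ D = 1`), lines `YY h j ≤ blk M j`.

* `ext`, `mem_blk_iff`, `ind`, `cj_blk`, `trans`, `card_YY`;
* `root` : an element of 2-power order with `[blk M i, g] ≤ YY h i` is trivial or `[blk M i, g] = YY h i`;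
* `blk_le_of`, `irr` : `P` is irreducible on `⨆ blk M j`;
* `rootOn` : offenders in `S` are products of full root groups;
* `mem_iSup_YY`, `vec`.
-/

set_option autoImplicit false
set_option linter.unusedSectionVars false

namespace Cfsg.Agent.Omega.NOThreeL.RWide.PNat

open Subgroup Cfsg Cfsg.Agent.ZN Cfsg.Agent.ZN.ChoiceBase
open Cfsg.Agent.Omega.FFThm Cfsg.Agent.Lib.SL2Mat
open Cfsg.Agent.Omega.NatPair hiding cj mem_cj
open Cfsg.Agent.Omega.NO3S.ThmB Cfsg.Agent.Omega.NO3S.KeyRad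
open Cfsg.Agent.Omega.NOThreeL.RRed.NS

universe u

variable {G : Type u} [Group G] {F : Type} [Field F] [CharP F 2] {S P V D : Subgroup G} {k : ℕ}
  {M : NatKM F S P V D k} (h : Nb M)

/-- `{x ∈ V : e x i = 0}` -/
def kr (h : Nb M) (i : Fin k) : Subgroup G where
  carrier := {x | x ∈ V ∧ M.e x i = 0}
  one_mem' := ⟨one_mem _, by rw [Nb.e_one (M := M)]; rfl⟩
  mul_mem' := by
    rintro a b ⟨ha, ha0⟩ ⟨hb, hb0⟩
    exact ⟨mul_mem ha hb, by rw [M.mul a ha b hb, Pi.add_apply, ha0, hb0, add_zero]⟩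
  inv_mem' := by
    rintro a ⟨ha, ha0⟩
    exact ⟨inv_mem ha, by rw [h.e_inv ha, ha0]⟩

include h

theorem sup_le_V : (⨆ j, blk M j) ≤ V := iSup_le (blk_le h)

theorem e_off {i : Fin k} {x : G} (hx : x ∈ ⨆ (j) (_ : j ≠ i), blk M j) : M.e x i = 0 := by
  have h2 : x ∈ kr h i :=
    (iSup₂_le fun j hj w hw => (⟨blk_le h j hw, e_blk h (Ne.symm hj) hw⟩ : w ∈ kr h i) :
      (⨆ (j) (_ : j ≠ i), blk M j) ≤ kr h i) hx
  exact h2.2

variable (spl : ∀ j, DD M j = ⊥)
include spl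

theorem eq_one {x : G} (hx : x ∈ ⨆ j, blk M j) (hxD : x ∈ D) : x = 1 := by
  have h1 := iSup_DD h hx hxD
  simp only [spl, iSup_bot] at h1
  exact mem_bot.1 h1

theorem ext {x y : G} (hx : x ∈ ⨆ j, blk M j) (hy : y ∈ ⨆ j, blk M j) (he : M.e x = M.e y) : x = y := by
  have hV := sup_le_V h
  have h1 : x * y⁻¹ ∈ D := (h.mem_D (hV hx) (hV hy)).2 he
  exact mul_inv_eq_one.1 (eq_one h spl (mul_mem hx (inv_mem hy)) h1)

theorem blk_ext {i : Fin k} {x y : G} (hx : x ∈ blk M i) (hy : y ∈ blk M i) (he : M.e x i = M.e y i) : x = y := by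
  refine ext h spl ((le_iSup (blk M) i : blk M i ≤ _) hx) ((le_iSup (blk M) i : blk M i ≤ _) hy) ?_
  funext l
  by_cases hl : l = i
  · rw [hl]; exact he
  · rw [e_blk h hl hx, e_blk h hl hy]

theorem mem_blk_iff {j : Fin k} {y : G} : y ∈ blk M j ↔ y ∈ (⨆ j, blk M j) ∧ ∀ l, l ≠ j → M.e y l = 0 := by
  refine ⟨fun hy => ⟨(le_iSup (blk M) j : blk M j ≤ _) hy, fun l hl => e_blk h hl hy⟩, fun ⟨hy, h0⟩ => ?_⟩
  obtain ⟨w, hw, hwj⟩ := exists_blk_e h j (M.e y j)
  have e : y = w := by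
    refine ext h spl hy ((le_iSup (blk M) j : blk M j ≤ _) hw) ?_
    funext l
    by_cases hl : l = j
    · rw [hl, hwj]
    · rw [h0 l hl, e_blk h hl hw]
  rw [e]
  exact hw

theorem ind : iSupIndep (fun j => blk M j) := by
  intro i
  rw [disjoint_iff_inf_le]
  rintro x ⟨hx1, hx2⟩
  have h3 : M.e x = 0 := by
    funext l
    by_cases hl : l = i
    · rw [hl]; exact e_off h hx2
    · exact e_blk h hl hx1
  have h4 : x ∈ DD M i := ⟨hx1, (M.ker x (blk_le h i hx1)).1 h3⟩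
  rwa [spl i] at h4

theorem conj_mem_blk {g : G} (hg : g ∈ P) {σ : Equiv.Perm (Fin k)}
    (hσ : ∀ v ∈ V, ∀ i, M.e (g * v * g⁻¹) (σ i) = 0 ↔ M.e v i = 0) {j : Fin k} {y : G} (hy : y ∈ blk M j) :
    g * y * g⁻¹ ∈ blk M (σ j) := by
  refine (mem_blk_iff h spl).2 ⟨conj_iSup_blk h hg ((le_iSup (blk M) j : blk M j ≤ _) hy), fun l hl => ?_⟩
  have h1 := hσ y (blk_le h j hy) (σ.symm l)
  rw [σ.apply_symm_apply] at h1
  exact h1.2 (e_blk h (fun h2 => hl (by rw [← h2, σ.apply_symm_apply])) hy)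

omit spl in
theorem perm_inv {g : G} (hg : g ∈ P) {σ : Equiv.Perm (Fin k)}
    (hσ : ∀ v ∈ V, ∀ i, M.e (g * v * g⁻¹) (σ i) = 0 ↔ M.e v i = 0) :
    ∀ v ∈ V, ∀ i, M.e (g⁻¹ * v * g⁻¹⁻¹) (σ.symm i) = 0 ↔ M.e v i = 0 := by
  intro v hv i
  have h1 := hσ _ (h.memV (inv_mem hg) hv) (σ.symm i)
  rw [σ.apply_symm_apply] at h1
  have e : g * (g⁻¹ * v * g⁻¹⁻¹) * g⁻¹ = v := by group
  rw [e] at h1
  exact h1.symm

theorem cj_blk {g : G} (hg : g ∈ P) {σ : Equiv.Perm (Fin k)}
    (hσ : ∀ v ∈ V, ∀ i, M.e (g * v * g⁻¹) (σ i) = 0 ↔ M.e v i = 0) (j : Fin k) :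
    cj g (blk M j) = blk M (σ j) := by
  ext x
  rw [mem_cj]
  constructor
  · intro hx
    have h1 := conj_mem_blk h spl hg hσ hx
    have e : g * (g⁻¹ * x * g) * g⁻¹ = x := by group
    rwa [e] at h1
  · intro hx
    have h1 := conj_mem_blk h spl (inv_mem hg) (perm_inv h hg hσ) hx
    rw [inv_inv, σ.symm_apply_apply] at h1
    exact h1

theorem trans (i j : Fin k) : ∃ s ∈ S, cj s (blk M i) = blk M j := by
  obtain ⟨t, ht, h1⟩ := M.trans i j
  obtain ⟨σ, hσ⟩ := M.perm t (h.SP' ht)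
  refine ⟨t, ht, ?_⟩
  have h2 : σ i = j := by
    by_contra hne
    obtain ⟨v, hv, hvi, hvl⟩ := Nb.exists_single M i ![1, 0]
    have h3 : M.e (t * v * t⁻¹) j = 0 := by
      have h4 := hσ v hv (σ.symm j)
      rw [σ.apply_symm_apply] at h4
      exact h4.2 (hvl _ fun h5 => hne (by rw [← h5, σ.apply_symm_apply]))
    rw [h1 v hv, hvi] at h3
    exact one_ne_zero (congrFun h3 0)
  rw [cj_blk h spl (h.SP' ht) hσ, h2]

theorem card_blk' (j : Fin k) : Nat.card (blk M j) = Nat.card F ^ 2 := by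
  rw [card_blk h, spl, card_bot, mul_one]

theorem card_YY (j : Fin k) : Nat.card (YY h j) = Nat.card F := by
  have hf : Function.Bijective (fun w : YY h j => M.e (w : G) j 0) := by
    constructor
    · rintro ⟨x, hx⟩ ⟨y, hy⟩ hxy
      exact Subtype.ext (blk_ext h spl hx.1 hy.1 (vec_eq hxy (hx.2.trans hy.2.symm)))
    · intro c
      obtain ⟨w, hw, hwj⟩ := exists_blk_e h j ![c, 0]
      exact ⟨⟨w, hw, by rw [hwj]; rfl⟩, by simp [hwj]⟩
  exact Nat.card_congr (Equiv.ofBijective _ hf)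

theorem card_eq (j : Fin k) : Nat.card (blk M j) = Nat.card (YY h j) ^ 2 := by
  rw [card_blk' h spl, card_YY h spl]

theorem YY_ne (j : Fin k) : YY h j ≠ ⊥ := by
  intro h0
  obtain ⟨w, hw, hwj⟩ := exists_blk_e h j ![1, 0]
  have h1 : w ∈ YY h j := ⟨hw, by rw [hwj]; rfl⟩
  rw [h0, mem_bot] at h1
  rw [h1, Nb.e_one (M := M)] at hwj
  exact one_ne_zero (congrFun hwj 0).symm

/-! ### Elements which induce root elements -/

theorem exists_B {i : Fin k} {g : G} (hg : g ∈ P) (hn : ∀ v ∈ blk M i, g * v * g⁻¹ ∈ blk M i)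
    (A : Matrix.SpecialLinearGroup (Fin 2) F) : ∃ B : Matrix.SpecialLinearGroup (Fin 2) F,
      ∀ v ∈ blk M i, ∀ w ∈ blk M i, M.e w i = ap A (M.e v i) →
        M.e (g * w * g⁻¹) i = ap B (M.e (g * v * g⁻¹) i) := by
  obtain ⟨c, hc, hcA⟩ := M.lift (sg i A)
  obtain ⟨B, hB⟩ := M.norm g hg c hc _ hcA.1
  refine ⟨B i, fun v hv w hw hvw => ?_⟩
  have h1 : w = c * v * c⁻¹ := by
    refine blk_ext h spl hw (conj_blk h hc hcA hv) ?_
    rw [hvw, e_conj_blk h hcA hv]
  have h2 := hB (g * v * g⁻¹) (blk_le h i (hn v hv)) i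
  have e : g * c * g⁻¹ * (g * v * g⁻¹) * (g * c * g⁻¹)⁻¹ = g * (c * v * c⁻¹) * g⁻¹ := by group
  rw [e] at h2
  rw [h1, h2]

theorem root {g : G} (hg : g ∈ P) {n : ℕ} (hgn : g ^ 2 ^ n = 1) {i : Fin k}
    (hc : ∀ v ∈ blk M i, g * v * g⁻¹ * v⁻¹ ∈ YY h i) :
    (∀ v ∈ blk M i, g * v = v * g) ∨ ∀ z ∈ YY h i, ∃ v ∈ blk M i, g * v * g⁻¹ * v⁻¹ = z := by
  have hn : ∀ v ∈ blk M i, g * v * g⁻¹ ∈ blk M i := fun v hv => by
    have e : g * v * g⁻¹ = g * v * g⁻¹ * v⁻¹ * v := by group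
    rw [e]; exact mul_mem (YY_le h i (hc v hv)) hv
  have h1 : ∀ v ∈ blk M i, M.e (g * v * g⁻¹) i 1 = M.e v i 1 := fun v hv => by
    have h2 := (hc v hv).2
    rw [h.e_div (blk_le h i (hn v hv)) (blk_le h i hv), Pi.add_apply, Pi.add_apply] at h2
    exact CharTwo.add_eq_zero.1 h2
  choose s hs hse using fun x => exists_blk_e (M := M) h i x
  have hadd : ∀ v ∈ blk M i, ∀ w ∈ blk M i, M.e (g * (v * w) * g⁻¹) i = M.e (g * v * g⁻¹) i + M.e (g * w * g⁻¹) i :=
    fun v hv w hw => by rw [e_conj_mul h hg (blk_le h i hv) (blk_le h i hw), Pi.add_apply]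
  have hsadd : ∀ x y, s (x + y) = s x * s y := fun x y => by
    refine blk_ext h spl (hs _) (mul_mem (hs _) (hs _)) ?_
    rw [M.mul _ (blk_le h i (hs _)) _ (blk_le h i (hs _)), Pi.add_apply, hse, hse, hse]
  have hsu : ∀ v ∈ blk M i, v = s (M.e v i) := fun v hv => blk_ext h spl hv (hs _) (by rw [hse])
  set α : F → F := fun t => M.e (g * s ![t, 0] * g⁻¹) i 0 with hα
  set β : F → F := fun t => M.e (g * s ![0, t] * g⁻¹) i 0 with hβ
  have hφ0 : ∀ t, M.e (g * s ![t, 0] * g⁻¹) i = ![α t, 0] := fun t => vec_eq rfl (by rw [h1 _ (hs _), hse]; rfl)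
  have hφ1 : ∀ t, M.e (g * s ![0, t] * g⁻¹) i = ![β t, t] := fun t => vec_eq rfl (by rw [h1 _ (hs _), hse]; rfl)
  have hφ : ∀ x y, M.e (g * s ![x, y] * g⁻¹) i = ![α x + β y, y] := fun x y => by
    have e : (![x, y] : Fin 2 → F) = ![x, 0] + ![0, y] := by
      refine vec_eq ?_ ?_ <;> simp
    rw [e, hsadd, hadd _ (hs _) _ (hs _), hφ0, hφ1]
    refine vec_eq ?_ ?_ <;> simp
  have hα1 : α 1 ≠ 0 := by
    intro h0
    have h2 := hφ0 1
    rw [h0] at h2
    have h3 : g * s ![1, 0] * g⁻¹ = 1 := by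
      refine blk_ext h spl (hn _ (hs _)) (one_mem _) ?_
      rw [h2, Nb.e_one (M := M)]
      refine vec_eq ?_ ?_ <;> simp
    have h4 : s ![1, 0] = 1 := by
      have e : s ![1, 0] = g⁻¹ * (g * s ![1, 0] * g⁻¹) * g := by group
      rw [e, h3]; group
    have h5 := hse ![1, 0]
    rw [h4, Nb.e_one (M := M)] at h5
    exact one_ne_zero (congrFun h5 0).symm
  -- `α` is linear
  have hlin : ∀ c y, α (c * y) = α c * y := by
    intro c
    obtain ⟨B, hB⟩ := exists_B h spl hg hn (up c)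
    have k1 := hB (s ![1, 0]) (hs _) (s ![1, 0]) (hs _) (by
      rw [hse]; refine vec_eq ?_ ?_
      · rw [ap_up_0]; simp
      · rw [ap_up_1])
    rw [hφ0] at k1
    have k10 := congrFun k1 0
    have k11 := congrFun k1 1
    rw [ap_zero'] at k10
    rw [ap_one'] at k11
    simp only [Matrix.cons_val_zero, Matrix.cons_val_one, mul_zero, add_zero] at k10 k11
    have b10 : ent B 1 0 = 0 := by
      rcases mul_eq_zero.1 k11.symm with h2 | h2
      · exact h2
      · exact absurd h2 hα1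
    have b00 : ent B 0 0 = 1 := mul_right_cancel₀ hα1 (by rw [one_mul]; exact k10.symm)
    have key : ∀ y, α (c * y) = ent B 0 1 * y := by
      intro y
      have k2 := hB (s ![0, y]) (hs _) (s ![c * y, y]) (hs _) (by
        rw [hse, hse]; refine vec_eq ?_ ?_
        · rw [ap_up_0]; simp
        · rw [ap_up_1]; simp)
      rw [hφ, hφ1] at k2
      have k3 := congrFun k2 0
      rw [ap_zero'] at k3
      simp only [Matrix.cons_val_zero, Matrix.cons_val_one] at k3
      rw [b00, one_mul, add_comm] at k3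
      exact add_left_cancel k3
    intro y
    have k4 := key 1
    rw [mul_one, mul_one] at k4
    rw [key, k4]
  have hα' : ∀ t, α t = α 1 * t := fun t => by
    have := hlin 1 t
    rwa [one_mul] at this
  -- `α 1 = 1`
  have hpow : ∀ m : ℕ, ∀ t, M.e (g ^ m * s ![t, 0] * (g ^ m)⁻¹) i = ![α 1 ^ m * t, 0] ∧
      g ^ m * s ![t, 0] * (g ^ m)⁻¹ ∈ blk M i := by
    intro m
    induction m with
    | zero =>
      intro t
      rw [pow_zero, inv_one, one_mul, mul_one, pow_zero, one_mul]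
      exact ⟨hse _, hs _⟩
    | succ m ih =>
      intro t
      obtain ⟨h2, h3⟩ := ih t
      have e : g ^ (m + 1) * s ![t, 0] * (g ^ (m + 1))⁻¹ = g * (g ^ m * s ![t, 0] * (g ^ m)⁻¹) * g⁻¹ := by
        rw [pow_succ']; group
      have e2 : g ^ m * s ![t, 0] * (g ^ m)⁻¹ = s ![α 1 ^ m * t, 0] := by
        refine blk_ext h spl h3 (hs _) ?_
        rw [h2, hse]
      rw [e, e2]
      refine ⟨?_, hn _ (hs _)⟩
      rw [hφ0, hα']
      refine vec_eq ?_ ?_
      · simp only [Matrix.cons_val_zero]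
        ring
      · rfl
  have hα11 : α 1 = 1 := by
    have h2 := (hpow (2 ^ n) 1).1
    rw [hgn, inv_one, one_mul, mul_one, hse] at h2
    have h3 := congrFun h2 0
    simp only [Matrix.cons_val_zero, mul_one] at h3
    have h4 : (α 1 + 1) ^ 2 ^ n = 0 := by
      rw [add_pow_char_pow, ← h3, one_pow]
      exact CharTwo.add_self_eq_zero _
    exact CharTwo.add_eq_zero.1 (eq_zero_of_pow_eq_zero h4)
  have hα0 : ∀ t, α t = t := fun t => by rw [hα', hα11, one_mul]
  -- `β` is linear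
  obtain ⟨b, hb⟩ : ∃ b, ∀ t, β t = b * t := by
    obtain ⟨B, hB⟩ := exists_B h spl hg hn (lo 1)
    refine ⟨ent B 0 0 + 1, fun t => ?_⟩
    have k1 := hB (s ![t, 0]) (hs _) (s ![t, t]) (hs _) (by
      rw [hse, hse]; refine vec_eq ?_ ?_
      · rw [ap_lo_0]; rfl
      · rw [ap_lo_1]; simp)
    rw [hφ, hφ0, hα0] at k1
    have k2 := congrFun k1 0
    rw [ap_zero'] at k2
    simp only [Matrix.cons_val_zero, Matrix.cons_val_one, mul_zero, add_zero] at k2
    have k3 : β t = t + (t + β t) := by rw [← add_assoc, CharTwo.add_self_eq_zero, zero_add]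
    rw [k3, k2]
    ring
  have hfin : ∀ v ∈ blk M i, M.e (g * v * g⁻¹) i = ![M.e v i 0 + b * M.e v i 1, M.e v i 1] := by
    intro v hv
    have e1 : v = s ![M.e v i 0, M.e v i 1] := by
      refine blk_ext h spl hv (hs _) ?_
      rw [hse]
      refine vec_eq ?_ ?_ <;> simp
    conv_lhs => rw [e1]
    rw [hφ, hα0, hb]
  by_cases hb0 : b = 0
  · left
    intro v hv
    have h2 : g * v * g⁻¹ = v := by
      refine blk_ext h spl (hn v hv) hv ?_
      rw [hfin v hv, hb0, zero_mul, add_zero]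
      refine vec_eq ?_ ?_ <;> simp
    exact mul_inv_eq_iff_eq_mul.1 h2
  · right
    intro z hz
    refine ⟨s ![0, b⁻¹ * M.e z i 0], hs _, ?_⟩
    have hx := hs ![0, b⁻¹ * M.e z i 0]
    refine blk_ext h spl (mul_mem (hn _ hx) (inv_mem hx)) hz.1 ?_
    rw [h.e_div (blk_le h i (hn _ hx)) (blk_le h i hx), Pi.add_apply, hfin _ hx, hse]
    refine vec_eq ?_ ?_
    · simp only [Pi.add_apply, Matrix.cons_val_zero, Matrix.cons_val_one, zero_add, add_zero]
      rw [mul_inv_cancel_left₀ hb0]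
    · simp only [Pi.add_apply, Matrix.cons_val_zero, Matrix.cons_val_one]
      rw [CharTwo.add_self_eq_zero]
      exact hz.2.symm

/-! ### Irreducibility -/

/-- a `P`-invariant subgroup with an element moved by the `i`-th factor contains `blk M i` -/
theorem blk_le_of {U : Subgroup G} (hUV : U ≤ V) (hPU : P ≤ normalizer (U : Set G)) {u : G} (hu : u ∈ U) {i : Fin k}
    (hui : M.e u i ≠ 0) : blk M i ≤ U := by
  choose s hs hse using fun x => exists_blk_e (M := M) h i x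
  -- the set of reached vectors
  have hconj : ∀ c ∈ P, ∀ x ∈ U, c * x * c⁻¹ ∈ U := fun c hc x hx => (mem_normalizer_iff.1 (hPU hc) x).1 hx
  have hact : ∀ A x, s x ∈ U → s (ap A x) ∈ U := by
    intro A x hx
    obtain ⟨c, hc, hcA⟩ := M.lift (sg i A)
    have e : s (ap A x) = c * s x * c⁻¹ := by
      refine blk_ext h spl (hs _) (conj_blk h hc hcA (hs _)) ?_
      rw [hse, e_conj_blk h hcA (hs _), hse]
    rw [e]
    exact hconj c hc _ hx
  have hadd : ∀ x y, s x ∈ U → s y ∈ U → s (x + y) ∈ U := fun x y hx hy => by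
    have e : s (x + y) = s x * s y := by
      refine blk_ext h spl (hs _) (mul_mem (hs _) (hs _)) ?_
      rw [M.mul _ (blk_le h i (hs _)) _ (blk_le h i (hs _)), Pi.add_apply, hse, hse, hse]
    rw [e]
    exact mul_mem hx hy
  have hcomm : ∀ A, s (ap A (M.e u i) + M.e u i) ∈ U := by
    intro A
    obtain ⟨c, hc, hcA⟩ := M.lift (sg i A)
    have e : s (ap A (M.e u i) + M.e u i) = c * u * c⁻¹ * u⁻¹ := by
      refine blk_ext h spl (hs _) (mem_blk hc hcA (hUV hu)) ?_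
      rw [hse, h.e_div (h.memV hc (hUV hu)) (hUV hu), Pi.add_apply, hcA.1 u (hUV hu) i, sg_self]
    rw [e]
    exact mul_mem (hconj c hc u hu) (inv_mem hu)
  -- from a line to everything
  have hall0 : (∀ t, s ![t, 0] ∈ U) → ∀ x, s x ∈ U := by
    intro ht x
    have h1 : ∀ t, s ![0, t] ∈ U := fun t => by
      have h2 := hadd _ _ (hact (lo 1) _ (ht t)) (ht t)
      have e : ap (lo 1) ![t, 0] + ![t, 0] = ![0, t] := by
        refine vec_eq ?_ ?_
        · rw [Pi.add_apply, ap_lo_0]; exact CharTwo.add_self_eq_zero _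
        · rw [Pi.add_apply, ap_lo_1]; simp
      rwa [e] at h2
    have h3 := hadd _ _ (ht (x 0)) (h1 (x 1))
    have e : (![x 0, 0] + ![0, x 1] : Fin 2 → F) = x := by
      refine vec_eq ?_ ?_ <;> simp
    rwa [e] at h3
  have hall1 : (∀ t, s ![0, t] ∈ U) → ∀ x, s x ∈ U := by
    intro ht
    refine hall0 fun t => ?_
    have h2 := hadd _ _ (hact (up 1) _ (ht t)) (ht t)
    have e : ap (up 1) ![0, t] + ![0, t] = ![t, 0] := by
      refine vec_eq ?_ ?_
      · rw [Pi.add_apply, ap_up_0]; simp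
      · rw [Pi.add_apply, ap_up_1]; exact CharTwo.add_self_eq_zero _
    rwa [e] at h2
  have hfin : ∀ x, s x ∈ U := by
    by_cases h1 : M.e u i 1 = 0
    · have h0 : M.e u i 0 ≠ 0 := fun h0 => hui (vec_eq h0 h1)
      refine hall1 fun t => ?_
      have h2 := hcomm (lo (t * (M.e u i 0)⁻¹))
      have e : ap (lo (t * (M.e u i 0)⁻¹)) (M.e u i) + M.e u i = ![0, t] := by
        refine vec_eq ?_ ?_
        · rw [Pi.add_apply, ap_lo_0]; exact CharTwo.add_self_eq_zero _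
        · rw [Pi.add_apply, ap_lo_1, inv_mul_cancel_right₀ h0, add_assoc, CharTwo.add_self_eq_zero, add_zero]; rfl
      rwa [e] at h2
    · refine hall0 fun t => ?_
      have h2 := hcomm (up (t * (M.e u i 1)⁻¹))
      have e : ap (up (t * (M.e u i 1)⁻¹)) (M.e u i) + M.e u i = ![t, 0] := by
        refine vec_eq ?_ ?_
        · rw [Pi.add_apply, ap_up_0, inv_mul_cancel_right₀ h1, add_comm (M.e u i 0) t, add_assoc,
            CharTwo.add_self_eq_zero, add_zero]; rfl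
        · rw [Pi.add_apply, ap_up_1]; exact CharTwo.add_self_eq_zero _
      rwa [e] at h2
  intro v hv
  have e : v = s (M.e v i) := blk_ext h spl hv (hs _) (by rw [hse])
  rw [e]
  exact hfin _

theorem irr {U : Subgroup G} (hU : U ≤ ⨆ j, blk M j) (hPU : P ≤ normalizer (U : Set G)) (hne : U ≠ ⊥) :
    U = ⨆ j, blk M j := by
  obtain ⟨⟨u, hu⟩, hu1⟩ := (Subgroup.ne_bot_iff_exists_ne_one).1 hne
  have hu1' : u ≠ 1 := fun h0 => hu1 (Subtype.ext h0)
  have hex : ∃ i, M.e u i ≠ 0 := by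
    by_contra hcon
    push Not at hcon
    exact hu1' (ext h spl (hU hu) (one_mem _) (by rw [Nb.e_one (M := M)]; exact funext hcon))
  obtain ⟨i, hi⟩ := hex
  have h1 := blk_le_of h spl (hU.trans (sup_le_V h)) hPU hu hi
  refine le_antisymm hU (iSup_le fun j => ?_)
  obtain ⟨t, ht, e⟩ := trans h spl i j
  rw [← e]
  calc cj t (blk M i) ≤ cj t U := cj_mono t h1
    _ = U := cj_eq_of_mem_normalizer (hPU (h.SP' ht))

/-! ### Offenders -/

/-- a family of root elements acts on a block -/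
theorem acts_blk {f : G} (hf : f ∈ P) {b : Fin k → F} (hb : ActsSL M.e V D f fun i => up (b i)) {i : Fin k} {v : G}
    (hv : v ∈ blk M i) : f * v * f⁻¹ ∈ blk M i ∧ M.e (f * v * f⁻¹) i = ![M.e v i 0 + b i * M.e v i 1, M.e v i 1] := by
  refine ⟨(mem_blk_iff h spl).2 ⟨conj_iSup_blk h hf ((le_iSup (blk M) i : blk M i ≤ _) hv), fun l hl => ?_⟩, ?_⟩
  · rw [hb.1 v (blk_le h i hv) l, e_blk h hl hv, ap_zr]
  · rw [hb.1 v (blk_le h i hv) i]
    exact vec_eq (ap_up_0 _ _) (ap_up_1 _ _)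

/-- **offenders in `S` are products of full root groups** -/
theorem rootOn {A : Subgroup G} (hA : A ≤ S) (ho : OffM V A) (i : Fin k) : RootOn A (blk M i) (YY h i) := by
  obtain ⟨I, h1, h2⟩ := M.offM A hA ho
  have hAP : A ≤ P := hA.trans h.SP'
  have hnorm : ∀ f ∈ A, ∀ v ∈ blk M i, f * v * f⁻¹ ∈ blk M i := fun f hf v hv => by
    obtain ⟨b, -, hb⟩ := h1 f hf
    exact (acts_blk h spl (hAP hf) hb hv).1
  have hcent : ∀ f ∈ A, ∀ b : Fin k → F, ActsSL M.e V D f (fun i => up (b i)) → b i = 0 → ∀ v ∈ blk M i,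
      f * v = v * f := by
    intro f hf b hb hb0 v hv
    obtain ⟨h3, h4⟩ := acts_blk h spl (hAP hf) hb hv
    have h5 : f * v * f⁻¹ = v := by
      refine blk_ext h spl h3 hv ?_
      rw [h4, hb0, zero_mul, add_zero]
      refine vec_eq ?_ ?_ <;> simp
    exact mul_inv_eq_iff_eq_mul.1 h5
  have he : ∀ f ∈ A, ∀ b : Fin k → F, ActsSL M.e V D f (fun i => up (b i)) → ∀ v ∈ blk M i,
      M.e (f * v * f⁻¹ * v⁻¹) i = ![b i * M.e v i 1, 0] := by
    intro f hf b hb v hv
    obtain ⟨h3, h4⟩ := acts_blk h spl (hAP hf) hb hv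
    rw [h.e_div (blk_le h i h3) (blk_le h i hv), Pi.add_apply, h4]
    refine vec_eq ?_ ?_
    · simp only [Pi.add_apply, Matrix.cons_val_zero]
      rw [add_comm (M.e v i 0), add_assoc, CharTwo.add_self_eq_zero, add_zero]
    · simp only [Pi.add_apply, Matrix.cons_val_one]
      exact CharTwo.add_self_eq_zero _
  constructor
  · intro f hf
    refine mem_normalizer_iff.2 fun v => ⟨hnorm f hf v, fun hv => ?_⟩
    have h3 := hnorm f⁻¹ (inv_mem hf) _ hv
    have e : f⁻¹ * (f * v * f⁻¹) * f⁻¹⁻¹ = v := by group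
    rwa [e] at h3
  · intro f hf z hz
    obtain ⟨b, -, hb⟩ := h1 f hf
    have h3 : f * z * f⁻¹ = z := by
      refine blk_ext h spl (hnorm f hf z hz.1) hz.1 ?_
      rw [(acts_blk h spl (hAP hf) hb hz.1).2, hz.2, mul_zero, add_zero]
      exact vec_eq rfl hz.2.symm
    exact mul_inv_eq_iff_eq_mul.1 h3
  · intro f hf v hv
    obtain ⟨b, -, hb⟩ := h1 f hf
    exact ⟨mul_mem (hnorm f hf v hv) (inv_mem hv), by rw [he f hf b hb v hv]; rfl⟩
  · by_cases hi : i ∈ I
    · right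
      intro v hv hvY
      have hv1 : M.e v i 1 ≠ 0 := fun h0 => hvY ⟨hv, h0⟩
      refine ⟨fun z hz => ?_, fun f hf hfv => ?_⟩
      · classical
        obtain ⟨f, hf, hb⟩ := h2 (Function.update 0 i (M.e z i 0 * (M.e v i 1)⁻¹)) fun l hl => by
          have hli : l ≠ i := fun h0 => hl (by rw [h0]; exact hi)
          exact Function.update_of_ne hli _ _
        refine ⟨f, hf, ?_⟩
        refine blk_ext h spl (mul_mem (hnorm f hf v hv) (inv_mem hv)) hz.1 ?_
        rw [he f hf _ hb v hv, Function.update_self, inv_mul_cancel_right₀ hv1]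
        exact vec_eq rfl hz.2.symm
      · obtain ⟨b, -, hb⟩ := h1 f hf
        have h3 : f * v * f⁻¹ * v⁻¹ = 1 := by rw [hfv]; group
        have h4 := he f hf b hb v hv
        rw [h3, Nb.e_one (M := M)] at h4
        have h5 := congrFun h4 0
        simp only [Matrix.cons_val_zero] at h5
        have h6 : b i = 0 := (mul_eq_zero.1 h5.symm).resolve_right hv1
        exact mem_centralizer_iff.2 fun w hw => (hcent f hf b hb h6 w hw).symm
    · left
      intro f hf
      obtain ⟨b, hb0, hb⟩ := h1 f hf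
      exact mem_centralizer_iff.2 fun w hw => (hcent f hf b hb (hb0 i hi) w hw).symm

/-! ### Fixed vectors -/

theorem mem_iSup_YY {v : G} (hv : v ∈ ⨆ j, blk M j) (h0 : ∀ l, M.e v l 1 = 0) : v ∈ ⨆ j, YY h j := by
  classical
  have hYV : ∀ j, YY h j ≤ V := YY_le_V h
  have key : ∀ s : Finset (Fin k), ∃ w ∈ ⨆ j, YY h j, ∀ j, M.e w j = if j ∈ s then M.e v j else 0 := by
    intro s
    induction s using Finset.induction_on with
    | empty => exact ⟨1, one_mem _, fun j => by rw [Nb.e_one (M := M)]; simp⟩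
    | insert a s ha ih =>
      obtain ⟨w, hw, hwe⟩ := ih
      obtain ⟨y, hy, hya⟩ := exists_blk_e h a (M.e v a)
      have hyY : y ∈ YY h a := ⟨hy, by rw [hya]; exact h0 a⟩
      have hwV : w ∈ V := (iSup_le hYV : (⨆ j, YY h j) ≤ V) hw
      refine ⟨y * w, mul_mem ((le_iSup (YY h) a : YY h a ≤ _) hyY) hw, fun j => ?_⟩
      rw [M.mul _ (blk_le h a hy) _ hwV, Pi.add_apply, hwe]
      by_cases hja : j = a
      · subst hja
        rw [hya, if_neg ha, add_zero, if_pos (Finset.mem_insert_self _ _)]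
      · rw [e_blk h hja hy, zero_add]
        simp only [Finset.mem_insert, hja, false_or]
  obtain ⟨w, hw, hwe⟩ := key Finset.univ
  have hYb : (⨆ j, YY h j) ≤ ⨆ j, blk M j := iSup_mono (YY_le h)
  have e : v = w := ext h spl hv (hYb hw) (funext fun j => by rw [hwe]; simp)
  rw [e]
  exact hw

/-- **a vector of `⨆ blk M j` fixed by `S` is in `⨆ YY h j` and has all components `≠ 1`** -/
theorem vec {z : G} (hz : z ∈ ⨆ j, blk M j) (hzS : ∀ s ∈ S, s * z = z * s) (hz1 : z ≠ 1) :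
    z ∈ (⨆ j, YY h j) ∧ ∀ i, z ∉ ⨆ (j) (_ : j ≠ i), blk M j := by
  have hzV := sup_le_V h hz
  constructor
  · refine mem_iSup_YY h spl hz fun l => ?_
    classical
    obtain ⟨t, ht, hta⟩ := M.unip (Function.update 0 l 1)
    have h1 := hta.1 z hzV l
    rw [show t * z * t⁻¹ = z by rw [hzS t ht]; group] at h1
    have h2 := congrFun h1 0
    simp only [Function.update_self] at h2
    rw [ap_up_0, one_mul] at h2
    exact left_eq_add.1 h2
  · intro i hi
    have h0 := e_off h hi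
    apply hz1
    refine ext h spl hz (one_mem _) ?_
    rw [Nb.e_one (M := M)]
    funext j
    obtain ⟨t, ht, h1⟩ := M.trans i j
    have h2 := (h1 z hzV).2 h0
    rwa [show t * z * t⁻¹ = z by rw [hzS t ht]; group] at h2

end Cfsg.Agent.Omega.NOThreeL.RWide.PNat
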