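import Cfsg.Agent.Omega.OmThm.SideBase
import Cfsg.Agent.Omega.NOThreeL.RWide.PInNat

/-!
# The instance of `PIn` in box R, left case (helper540; head of the socket: helper278, #25393)

`P ∈ P*(S)` with natural modules without radical, `X ≤ Z` nontrivial and centralised by `P` (`X = Z ∩ W_j`):
`D = C_G(Z)`, `N = F_{C(X)}`, `V i = blk M i`, `Z i = YY h i`.

* `offM_of_best` : a best offender of `S` on `⨆ blk` which acts nontrivially is an offender on `V_P` (module form);
* `ffp` : so it is a product of full root groups;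
* **`pin_of`** : `PIn S (C_G(Z)) P (F_{C(X)}) (blk M) (YY h)`, from `mov` (`AA(O₂(C_G(Z)))` moves `⨆ blk`) and `permN`
  (`N_G(S)` permutes the pairs `(blk M i, YY h i)`).
-/

set_option autoImplicit false
set_option linter.unusedSectionVars false

namespace Cfsg.Agent.Omega.NOThreeL.RWide.PInst

open Subgroup Cfsg Cfsg.Agent.ZN Cfsg.Agent.ZN.ChoiceBase
open Cfsg.Agent.Omega.FFThm Cfsg.Agent.Lib.SL2Mat
open Cfsg.Agent.Omega.MinPar Cfsg.Agent.Omega.Frame Cfsg.Agent.Omega.FrameNOFF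
open Cfsg.Agent.Omega.FrameFF (cv)
open Cfsg.Agent.Omega.Node.NO3L Cfsg.Agent.Omega.NOThreeL.Basic
open Cfsg.Agent.Omega.NO3S.ThmB hiding WP
open Cfsg.Agent.Omega.NO3S.KeyRad
open Cfsg.Agent.Omega.NOThreeL.RRed.NS
open Cfsg.Agent.Omega.NOThreeL.RTree (RB)
open Cfsg.Agent.Omega.OmThm.SideBase (card_sup_comm)
open Cfsg.Agent.MinSimple.VModule (zl_le le_normalizer_zl zc_le_zl o2_isPGroup le_normalizer_o2)

universe u

variable {G : Type u} [Group G]

section off

variable [Finite G] {W V Z A : Subgroup G}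

/-- a best offender on `W`, `V = W Z`, `A` centralises `Z` -/
theorem offM_of_best (hWV : W ≤ V) (hZV : Z ≤ V) (hV : V ≤ W ⊔ Z) (hc : ∀ a ∈ V, ∀ b ∈ V, a * b = b * a)
    (hZA : ∀ z ∈ Z, ∀ a ∈ A, a * z = z * a) (hb : IsBestOffenderOn 2 W A)
    (hne : ¬ A ≤ centralizer (W : Set G)) : OffM V A := by
  have hVe : V = W ⊔ Z := le_antisymm hV (sup_le hWV hZV)
  have hcent : ∀ a : G, (∀ z ∈ Z, a * z = z * a) → a ∈ centralizer (W : Set G) → a ∈ centralizer (V : Set G) := by
    intro a haZ haW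
    have h1 : V ≤ centralizer ({a} : Set G) := by
      rw [hVe]
      exact sup_le (fun w hw => mem_centralizer_singleton_iff.2 (mem_centralizer_iff.1 haW w hw))
        (fun z hz => mem_centralizer_singleton_iff.2 (haZ z hz).symm)
    exact mem_centralizer_iff.2 fun v hv => mem_centralizer_singleton_iff.1 (h1 hv)
  have hAZ : ∀ a ∈ A, ∀ z ∈ Z, a * z = z * a := fun a ha z hz => hZA z hz a ha
  have hel : ElemM V A := by
    constructor
    · intro a ha
      exact hcent _ (fun z hz => hAZ _ (pow_mem ha 2) z hz) (hb.2.2 a ha)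
    · intro a ha b hb'
      refine hcent _ (fun z hz => hAZ _ (mul_mem (mul_mem (mul_mem ha hb') (inv_mem ha)) (inv_mem hb')) z hz) ?_
      have h1 := hb.2.1 (commutator_mem_commutator ha hb')
      rwa [commutatorElement_def] at h1
  have hCe : A ⊓ centralizer (V : Set G) = A ⊓ centralizer (W : Set G) :=
    le_antisymm (le_inf inf_le_left (inf_le_right.trans (centralizer_le hWV)))
      (le_inf inf_le_left fun a ha => hcent a (fun z hz => hAZ a ha.1 z hz) ha.2)
  have hDe : V ⊓ centralizer (A : Set G) = (W ⊓ centralizer (A : Set G)) ⊔ Z := by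
    apply le_antisymm
    · rintro v ⟨hv, hvA⟩
      have h2 : W ≤ normalizer (Z : Set G) := fun w hw =>
        centralizer_le_normalizer _ (mem_centralizer_iff.2 fun z hz => hc z (hZV hz) w (hWV hw))
      have h3 : v ∈ ((W ⊔ Z : Subgroup G) : Set G) := hVe ▸ hv
      rw [coe_mul_of_left_le_normalizer_right _ _ h2] at h3
      obtain ⟨w, hw, z, hz, e⟩ := h3
      have e' : w * z = v := e
      have hwe : w = v * z⁻¹ := by rw [← e']; group
      have hz' : z ∈ centralizer (A : Set G) := mem_centralizer_iff.2 fun a ha => hAZ a ha z hz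
      have hw' : w ∈ centralizer (A : Set G) := by
        rw [hwe]
        exact mul_mem hvA (inv_mem hz')
      rw [← e']
      exact mul_mem (mem_sup_left ⟨hw, hw'⟩) (mem_sup_right hz)
    · exact sup_le (inf_le_inf_right _ hWV) (le_inf hZV fun z hz => mem_centralizer_iff.2 fun a ha => hAZ a ha z hz)
  have hi : W ⊓ centralizer (A : Set G) ⊓ Z = W ⊓ Z :=
    le_antisymm (inf_le_inf_right _ inf_le_left) fun x hx =>
      ⟨⟨hx.1, mem_centralizer_iff.2 fun a ha => hAZ a ha x hx.2⟩, hx.2⟩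
  have c1 := card_sup_comm (A := W) (B := Z) fun a ha b hb => hc a (hWV ha) b (hZV hb)
  have c2 := card_sup_comm (A := W ⊓ centralizer (A : Set G)) (B := Z) fun a ha b hb =>
    hc a (hWV ha.1) b (hZV hb)
  rw [hi, ← hDe] at c2
  rw [← hVe] at c1
  have c3 := hb.1 (A ⊓ centralizer (W : Set G)) inf_le_left
  have h4 : W ⊓ centralizer ((A ⊓ centralizer (W : Set G) : Subgroup G) : Set G) = W :=
    inf_eq_left.2 fun w hw => mem_centralizer_iff.2 fun a ha => (mem_centralizer_iff.1 ha.2 w hw).symm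
  rw [h4] at c3
  have hpos : 0 < Nat.card ↥(W ⊓ Z) := Nat.card_pos
  refine ⟨hel, fun h0 => hne (h0.trans (centralizer_le hWV)), ?_⟩
  rw [hCe]
  refine Nat.le_of_mul_le_mul_right (c := Nat.card ↥(W ⊓ Z)) ?_ hpos
  calc Nat.card V * Nat.card ↥(A ⊓ centralizer (W : Set G)) * Nat.card ↥(W ⊓ Z)
      = Nat.card ↥(A ⊓ centralizer (W : Set G)) * (Nat.card V * Nat.card ↥(W ⊓ Z)) := by ring
    _ = Nat.card ↥(A ⊓ centralizer (W : Set G)) * Nat.card W * Nat.card Z := by rw [c1]; ring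
    _ ≤ Nat.card A * Nat.card ↥(W ⊓ centralizer (A : Set G)) * Nat.card Z := Nat.mul_le_mul_right _ c3
    _ = Nat.card A * (Nat.card ↥(V ⊓ centralizer (A : Set G)) * Nat.card ↥(W ⊓ Z)) := by rw [c2]; ring
    _ = Nat.card A * Nat.card ↥(V ⊓ centralizer (A : Set G)) * Nat.card ↥(W ⊓ Z) := by ring

end off

/-- trivial action -/
theorem rootOn_of_triv {F V Z : Subgroup G} (hZ : Z ≤ V) (h : F ≤ centralizer (V : Set G)) : RootOn F V Z := by
  refine ⟨h.trans (centralizer_le_normalizer _), fun f hf z hz => ?_, fun f hf v hv => ?_, Or.inl h⟩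
  · exact (mem_centralizer_iff.1 (h hf) z (hZ hz)).symm
  · have h1 := mem_centralizer_iff.1 (h hf) v hv
    rw [← h1, mul_inv_cancel_right, mul_inv_cancel]
    exact one_mem _

section inst

variable [Finite G] {S : Sylow 2 G} {P X : Subgroup G} {F : Type} [Field F] [CharP F 2] {k : ℕ}
  {M : NatKM F (S : Subgroup G) P (zl (S : Subgroup G) P) (cv (S : Subgroup G) P) k} (h : Nb M)
  (spl : ∀ j, DD M j = ⊥)
include h spl

theorem le_sup : zl (S : Subgroup G) P ≤ (⨆ j, blk M j) ⊔ zc (S : Subgroup G) := by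
  by_contra hcon
  obtain ⟨j, hj⟩ := exists_blk h (Z := zc (S : Subgroup G)) (E := (⨆ j, blk M j) ⊔ zc (S : Subgroup G))
    (zc_le_zl _ _) (fun z hz s hs => (ChoiceBase.mem_zc.1 hz).2.2 s hs) (fun K hK hPK => MinSimple.VModule.zl_le hK hPK) le_sup_right hcon
  exact hj ((le_iSup (blk M) j : blk M j ≤ _).trans le_sup_left)

theorem ffp {A : Subgroup G} (hA : A ≤ S) (hb : IsBestOffenderOn 2 (⨆ j, blk M j) A) (i : Fin k) :
    RootOn A (blk M i) (YY h i) := by
  by_cases hne : A ≤ centralizer ((⨆ j, blk M j : Subgroup G) : Set G)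
  · exact rootOn_of_triv (YY_le h i) (hne.trans (centralizer_le (le_iSup (blk M) i : blk M i ≤ _)))
  · refine PNat.rootOn h spl hA (offM_of_best (PNat.sup_le_V h) (zc_le_zl _ _) (le_sup h spl)
      (fun a ha b hb => h.cm ha hb) (fun z hz a ha => (ChoiceBase.mem_zc.1 hz).2.2 a (hA ha)) hb hne) i

/-- a vector of `Z ∩ ⨆ Y` with all components -/
theorem exists_vec (hVS : zl (S : Subgroup G) P ≤ S) (hk : 0 < k) :
    ∃ z : G, z ∈ zc (S : Subgroup G) ∧ z ∈ (⨆ j, YY h j) ∧ ∀ i, z ∉ ⨆ (j) (_ : j ≠ i), blk M j := by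
  have hf : Fact (Nat.Prime 2) := ⟨Nat.prime_two⟩
  have hV := PNat.sup_le_V h
  have hne : (⨆ j, blk M j) ≠ ⊥ := fun h0 => PNat.YY_ne h spl ⟨0, hk⟩
    (le_bot_iff.1 (((YY_le h ⟨0, hk⟩).trans (le_iSup (blk M) ⟨0, hk⟩ : blk M ⟨0, hk⟩ ≤ _)).trans h0.le))
  have h1 := PLocal.OffenderStep.inf_centralizer_ne_bot _ (S : Subgroup G) (S.isPGroup'.to_le (hV.trans hVS))
    S.isPGroup' (h.SP'.trans (iSup_blk_norm h)) hne
  obtain ⟨c, hc1⟩ := Subgroup.ne_bot_iff_exists_ne_one.1 h1
  have hc1' : (c : G) ≠ 1 := fun h0 => hc1 (Subtype.ext h0)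
  have hcS : ∀ s ∈ (S : Subgroup G), s * (c : G) = c * s := fun s hs => mem_centralizer_iff.1 c.2.2 s hs
  obtain ⟨h2, h3⟩ := PNat.vec h spl c.2.1 hcS hc1'
  refine ⟨c, ChoiceBase.mem_zc.2 ⟨hVS (hV c.2.1), ?_, hcS⟩, h2, h3⟩
  rw [pow_two]
  exact h.sq (hV c.2.1)

/-- **the instance of `PIn`** -/
theorem pin_of (hB : RB S) (hP : IsParS (S : Subgroup G) P) (hk : 0 < k) (hX : X ≤ zc (S : Subgroup G))
    (hX1 : X ≠ ⊥) (hPX : P ≤ centralizer (X : Set G))
    (mov : ∃ A ∈ AA (o2 (CZ (S : Subgroup G))), ¬ A ≤ centralizer ((⨆ j, blk M j : Subgroup G) : Set G))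
    (permN : ∀ s ∈ normalizer ((S : Subgroup G) : Set G) ⊓ CZ (S : Subgroup G), ∀ i, ∃ j,
      cj s (blk M i) = blk M j ∧ cj s (YY h i) = YY h j) :
    PIn S (CZ (S : Subgroup G)) P (FH (S : Subgroup G) (centralizer (X : Set G))) (fun i => blk M i)
      (fun i => YY h i) := by
  have hS1 : (S : Subgroup G) ≠ ⊥ := hB.ctx.sylow_ne_bot S
  have hCS : o2 (CZ (S : Subgroup G)) ≤ (S : Subgroup G) := (isLoc_centralizer_zc S hS1).o2_le S
  have hXS : X ≤ (S : Subgroup G) := hX.trans fun z hz => (ChoiceBase.mem_zc.1 hz).1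
  have hSX : (S : Subgroup G) ≤ centralizer (X : Set G) := (le_CZ S).trans (centralizer_le hX)
  have hlong : IsLong (S : Subgroup G) (centralizer (X : Set G)) :=
    ⟨isLoc_of_le_normalizer S hSX (S.isPGroup'.to_le hXS) hX1 (centralizer_le_normalizer _), centralizer_le hX⟩
  have hW : ∀ i, blk M i ≤ WP (S : Subgroup G) := fun i => (blk_le h i).trans (zl_le_WP hP)
  have hWQ : WP (S : Subgroup G) ≤ o2 (CZ (S : Subgroup G)) := WP_le_Q hB.data
  have hab := NotA.FH_comm hB.ctx.char2 hB.data hB.notA hlong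
  obtain ⟨z, hz1, hz2, hz3⟩ := exists_vec h spl (((zl_le_WP hP).trans hWQ).trans hCS) hk
  refine
    { SD := le_CZ S
      VO := fun i => (hW i).trans hWQ
      sq := fun i v hv => h.sq (blk_le h i hv)
      noff := fun x hx i j v hv w hw => ?_
      ind := PNat.ind h spl
      ZV := YY_le h
      Zne := PNat.YY_ne h spl
      card := PNat.card_eq h spl
      perm := permN
      trans := PNat.trans h spl
      root := fun i g hg hc => ?_
      ffp := fun A hA hb i => ffp h spl hA hb i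
      mov := mov
      Pmin := hP.toIsPar.toIsMinPar
      PV := iSup_blk_norm h
      irr := fun U hU hPU hne => PNat.irr h spl hU hPU hne
      PN := hPX.trans (le_normalizer_FH _ _)
      DN := (centralizer_le hX).trans (le_normalizer_FH _ _)
      VN := fun i => (hW i).trans (WP_le_FH _ _)
      NO := (NotA.FH_le_o2 hB.data hB.notA hlong).trans (hlong.o2_le S)
      Nsq := fun n hn => by
        have := NotA.FH_sq hB.ctx.char2 hB.data hB.notA hlong n hn
        rwa [pow_two] at this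
      Nab := fun m hm n hn => mem_centralizer_iff.1 (hab hn) m hm
      vec := ⟨z, hz2, fun x hx => (mem_centralizer_iff.1 hx z hz1).symm, hz3⟩ }
  · have h1 : v ∈ FH (S : Subgroup G) (centralizer (X : Set G)) := WP_le_FH _ _ (hW i hv)
    have h2 : w ∈ WP (S : Subgroup G) := by
      rw [← conj_WP hx]
      obtain ⟨y, hy, rfl⟩ := hw
      exact ⟨y, hW j hy, rfl⟩
    exact mem_centralizer_iff.1 (hab (WP_le_FH _ _ h2)) v h1
  · obtain ⟨n, hn⟩ := S.isPGroup' ⟨g, hg⟩
    exact PNat.root h spl (h.SP' hg) (n := n) (by simpa using congrArg Subtype.val hn) hc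

end inst

end Cfsg.Agent.Omega.NOThreeL.RWide.PInst
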