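import Cfsg.Agent.Omega.NOThreeL.RWide.PermAMain
import Cfsg.Agent.Omega.NO1.BestOff
import Cfsg.Agent.Omega.MinPar

/-!
# THEOREM PERM+, (A1): the pure members of `AA(O)` (helper278, #24948, #25094)

* `bo_restrict` : a best offender on `W` is one on every subgroup of `W`; `best_iff_bo`, `bo_of_best` : `Best W F` and
  `IsBestOffenderOn 2 W F` are the same;
* `bo_of_AA` : a member of `AA T` is a best offender on every elementary abelian `U ≤ T`;
* `wr R V` : the group generated by the conjugates of the blocks under `R`;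
* `PIn.permA` : case A of PERM+ over the frame `PIn`.
-/

set_option autoImplicit false
set_option linter.unusedSectionVars false

namespace Cfsg.Agent.Omega.NOThreeL.RWide

open Subgroup Cfsg Cfsg.Agent.ZN Cfsg.Agent.ZN.ChoiceBase Cfsg.Agent.MinSimple.MinParabolic
open Cfsg.Agent.PLocal.Timmesfeld (card_mul_card_le)
open Cfsg.Agent.MinSimple.VModule (le_o2 le_normalizer_o2 o2_isPGroup o2_le_of_sylow)
open scoped commutatorElement

universe u

variable {G : Type u} [Group G]

/-! ### Best offenders -/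

theorem bo_restrict [Finite G] {W F U : Subgroup G} (h : IsBestOffenderOn 2 W F) (hU : U ≤ W) :
    IsBestOffenderOn 2 U F := by
  refine ⟨fun B hB => ?_, h.2.1.trans (centralizer_le (SetLike.coe_subset_coe.2 hU)),
    fun a ha => centralizer_le (SetLike.coe_subset_coe.2 hU) (h.2.2 a ha)⟩
  have h1 := h.1 B hB
  have h2 : U ⊓ centralizer (B : Set G) ≤ W ⊓ centralizer (B : Set G) := inf_le_inf_right _ hU
  have h3 : W ⊓ centralizer (F : Set G) ≤ W ⊓ centralizer (B : Set G) :=
    inf_le_inf_left _ (centralizer_le (SetLike.coe_subset_coe.2 hB))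
  have h4 := card_mul_card_le h2 h3
  have h5 : (U ⊓ centralizer (B : Set G)) ⊓ (W ⊓ centralizer (F : Set G)) = U ⊓ centralizer (F : Set G) := by
    apply le_antisymm
    · exact le_inf (inf_le_left.trans inf_le_left) (inf_le_right.trans inf_le_right)
    · exact le_inf (le_inf inf_le_left (inf_le_right.trans (centralizer_le (SetLike.coe_subset_coe.2 hB))))
        (inf_le_inf_right _ hU)
  rw [h5] at h4
  have h6 : 0 < Nat.card ↥(W ⊓ centralizer (F : Set G)) := Nat.card_pos
  refine Nat.le_of_mul_le_mul_right ?_ h6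
  calc Nat.card B * Nat.card ↥(U ⊓ centralizer (B : Set G)) * Nat.card ↥(W ⊓ centralizer (F : Set G))
      = Nat.card B * (Nat.card ↥(U ⊓ centralizer (B : Set G)) * Nat.card ↥(W ⊓ centralizer (F : Set G))) := by ring
    _ ≤ Nat.card B * (Nat.card ↥(U ⊓ centralizer (F : Set G)) * Nat.card ↥(W ⊓ centralizer (B : Set G))) :=
        Nat.mul_le_mul_left _ h4
    _ = Nat.card ↥(U ⊓ centralizer (F : Set G)) * (Nat.card B * Nat.card ↥(W ⊓ centralizer (B : Set G))) := by ring
    _ ≤ Nat.card ↥(U ⊓ centralizer (F : Set G)) * (Nat.card F * Nat.card ↥(W ⊓ centralizer (F : Set G))) :=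
        Nat.mul_le_mul_left _ h1
    _ = _ := by ring

theorem best_of_bo {W F : Subgroup G} (h : IsBestOffenderOn 2 W F) : NO1.BestOff.Best W F where
  sq := fun a ha => h.2.2 a ha
  comm := fun a ha b hb => h.2.1 (by
    have := commutator_mem_commutator ha hb
    rwa [commutatorElement_def] at this)
  max := fun Y hY _ => h.1 Y hY

theorem bo_of_best [Finite G] {W F : Subgroup G} (h : NO1.BestOff.Best W F) : IsBestOffenderOn 2 W F := by
  refine ⟨fun B hB => ?_, ?_, fun a ha => h.sq a ha⟩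
  · have h1 := h.max (B ⊔ (F ⊓ centralizer (W : Set G))) (sup_le hB inf_le_left) le_sup_right
    refine le_trans (Nat.mul_le_mul ?_ ?_) h1
    · exact Nat.card_mono (Set.toFinite _) (SetLike.coe_subset_coe.2 (le_sup_left : B ≤ B ⊔ (F ⊓ centralizer (W : Set G))))
    · refine Nat.card_mono (Set.toFinite _) ?_
      rintro x ⟨hx, hx'⟩
      refine ⟨hx, ?_⟩
      have h2 : B ⊔ (F ⊓ centralizer (W : Set G)) ≤ centralizer ({x} : Set G) := by
        refine sup_le (fun b hb => ?_) (fun b hb => ?_)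
        · rw [mem_centralizer_singleton_iff]
          exact mem_centralizer_iff.1 hx' b hb
        · rw [mem_centralizer_singleton_iff]
          exact (mem_centralizer_iff.1 hb.2 x hx).symm
      exact mem_centralizer_iff.2 fun b hb => mem_centralizer_singleton_iff.1 (h2 hb)
  · rw [commutator_le]
    intro a ha b hb
    rw [commutatorElement_def]
    exact h.comm a ha b hb

theorem ea_comm {A : Subgroup G} (hA : IsElementaryAbelian 2 A) {a b : G} (ha : a ∈ A) (hb : b ∈ A) : a * b = b * a :=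
  congrArg Subtype.val (hA.1.1.1 (⟨a, ha⟩ : A) (⟨b, hb⟩ : A))

theorem ea_sq {A : Subgroup G} (hA : IsElementaryAbelian 2 A) {a : G} (ha : a ∈ A) : a * a = 1 := by
  have := hA.2 a ha
  rwa [pow_two] at this

theorem ea_mk {A : Subgroup G} (hc : ∀ a ∈ A, ∀ b ∈ A, a * b = b * a) (hs : ∀ a ∈ A, a * a = 1) :
    IsElementaryAbelian 2 A :=
  ⟨⟨⟨fun a b => Subtype.ext (hc a a.2 b b.2)⟩⟩, fun a ha => by rw [pow_two]; exact hs a ha⟩

/-- the product of two commuting elementary abelian groups -/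
theorem ea_sup {A B : Subgroup G} (hA : IsElementaryAbelian 2 A) (hB : IsElementaryAbelian 2 B)
    (hAB : ∀ a ∈ A, ∀ b ∈ B, a * b = b * a) : IsElementaryAbelian 2 (A ⊔ B : Subgroup G) := by
  have hdec : ∀ x ∈ A ⊔ B, ∃ a ∈ A, ∃ b ∈ B, a * b = x := fun x hx => NO3S.SN2.BA.mem_sup_of_comm hAB hx
  refine ea_mk ?_ ?_
  · intro x hx y hy
    obtain ⟨a, ha, b, hb, rfl⟩ := hdec x hx
    obtain ⟨c, hc, d, hd, rfl⟩ := hdec y hy
    calc a * b * (c * d) = a * (b * c) * d := by group
      _ = a * (c * b) * d := by rw [hAB c hc b hb]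
      _ = (a * c) * (b * d) := by group
      _ = (c * a) * (d * b) := by rw [ea_comm hA ha hc, ea_comm hB hb hd]
      _ = c * (a * d) * b := by group
      _ = c * (d * a) * b := by rw [hAB a ha d hd]
      _ = _ := by group
  · intro x hx
    obtain ⟨a, ha, b, hb, rfl⟩ := hdec x hx
    calc a * b * (a * b) = a * (b * a) * b := by group
      _ = a * (a * b) * b := by rw [hAB a ha b hb]
      _ = (a * a) * (b * b) := by group
      _ = 1 := by rw [ea_sq hA ha, ea_sq hB hb, mul_one]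

/-- `C_U(A) ≤ A` for `A ∈ AA T`, `U ≤ T` elementary abelian -/
theorem AA_cen [Finite G] {T A : Subgroup G} (hA : A ∈ AA T) {x : G} (hx : x ∈ T) (hx2 : x * x = 1)
    (hc : ∀ a ∈ A, a * x = x * a) : x ∈ A := by
  have h1 : IsElementaryAbelian 2 (zpowers x) := by
    refine ea_mk ?_ ?_
    · rintro _ ⟨m, rfl⟩ _ ⟨n, rfl⟩
      show x ^ m * x ^ n = x ^ n * x ^ m
      rw [← zpow_add, ← zpow_add, add_comm]
    · rintro _ ⟨m, rfl⟩
      show x ^ m * x ^ m = 1
      rw [← mul_zpow_of_sq hx2]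
  have h2 : IsElementaryAbelian 2 (A ⊔ zpowers x : Subgroup G) := by
    refine ea_sup hA.1 h1 ?_
    rintro a ha _ ⟨m, rfl⟩
    exact ((show Commute a x from hc a ha).zpow_right m).eq
  have h3 := hA.2.2 _ h2 (sup_le hA.2.1 (zpowers_le.2 hx))
  have h4 : A = A ⊔ zpowers x := eq_of_le_of_card_ge le_sup_left h3
  rw [h4]
  exact mem_sup_right (mem_zpowers x)
where
  mul_zpow_of_sq {x : G} (hx : x * x = 1) {m : ℤ} : (1 : G) = x ^ m * x ^ m := by
    have : x ^ m * x ^ m = (x * x) ^ m := by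
      rw [(Commute.refl x).mul_zpow]
    rw [this, hx, one_zpow]

/-- **Thompson**: a member of `AA T` is a best offender on every elementary abelian `U ≤ T`. -/
theorem bo_of_AA [Finite G] {T A U : Subgroup G} (hA : A ∈ AA T) (hU : IsElementaryAbelian 2 U) (hUT : U ≤ T) :
    IsBestOffenderOn 2 U A := by
  refine ⟨fun B hB => ?_, ?_, fun a ha => ?_⟩
  · have hBe : IsElementaryAbelian 2 B :=
      ea_mk (fun a ha b hb => ea_comm hA.1 (hB ha) (hB hb)) fun a ha => ea_sq hA.1 (hB ha)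
    have hCe : IsElementaryAbelian 2 (U ⊓ centralizer (B : Set G) : Subgroup G) :=
      ea_mk (fun a ha b hb => ea_comm hU ha.1 hb.1) fun a ha => ea_sq hU ha.1
    have h1 : IsElementaryAbelian 2 (B ⊔ (U ⊓ centralizer (B : Set G)) : Subgroup G) :=
      ea_sup hBe hCe fun b hb u hu => mem_centralizer_iff.1 hu.2 b hb
    have h2 := hA.2.2 _ h1 (sup_le (hB.trans hA.2.1) (inf_le_left.trans hUT))
    have h3 := card_mul_card_le (B₁ := B) (B₂ := U ⊓ centralizer (B : Set G))
      (B₃ := B ⊔ (U ⊓ centralizer (B : Set G))) le_sup_left le_sup_right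
    have h4 : Nat.card ↥(B ⊓ (U ⊓ centralizer (B : Set G)) : Subgroup G) ≤ Nat.card ↥(U ⊓ centralizer (A : Set G)) := by
      refine Nat.card_mono (Set.toFinite _) ?_
      rintro x ⟨hx, hx1, -⟩
      exact ⟨hx1, mem_centralizer_iff.2 fun a ha => ea_comm hA.1 ha (hB hx)⟩
    calc Nat.card B * Nat.card ↥(U ⊓ centralizer (B : Set G))
        ≤ Nat.card ↥(B ⊓ (U ⊓ centralizer (B : Set G)) : Subgroup G) *
          Nat.card ↥(B ⊔ (U ⊓ centralizer (B : Set G)) : Subgroup G) := h3
      _ ≤ Nat.card ↥(U ⊓ centralizer (A : Set G)) * Nat.card A := Nat.mul_le_mul h4 h2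
      _ = _ := mul_comm _ _
  · rw [commutator_le]
    intro a ha b hb
    have : ⁅a, b⁆ = 1 := by
      rw [commutatorElement_def, ea_comm hA.1 ha hb, mul_inv_cancel_right, mul_inv_cancel]
    rw [this]
    exact one_mem _
  · rw [hA.1.2 a ha]
    exact one_mem _

/-! ### The group `wr R V` -/

variable {ι : Type*}

/-- the group generated by the `R`-conjugates of the blocks -/
def wr (R : Subgroup G) (V : ι → Subgroup G) : Subgroup G := sSup {X | ∃ r ∈ R, ∃ i, X = cj r (V i)}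

theorem cj_le_wr {R : Subgroup G} {V : ι → Subgroup G} {r : G} (hr : r ∈ R) (i : ι) : cj r (V i) ≤ wr R V :=
  le_sSup ⟨r, hr, i, rfl⟩

theorem le_wr (R : Subgroup G) (V : ι → Subgroup G) (i : ι) : V i ≤ wr R V := by
  have := cj_le_wr (V := V) (one_mem R) i
  rwa [cj_one] at this

theorem wr_le {R : Subgroup G} {V : ι → Subgroup G} {X : Subgroup G} (h : ∀ r ∈ R, ∀ i, cj r (V i) ≤ X) :
    wr R V ≤ X := by
  refine sSup_le ?_
  rintro _ ⟨r, hr, i, rfl⟩
  exact h r hr i

theorem iSup_le_wr (R : Subgroup G) (V : ι → Subgroup G) : ⨆ i, V i ≤ wr R V := iSup_le (le_wr R V)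

theorem cj_wr_le {R : Subgroup G} {V : ι → Subgroup G} {r : G} (hr : r ∈ R) : cj r (wr R V) ≤ wr R V := by
  rw [cj_le_iff]
  refine wr_le fun s hs i => ?_
  rw [← cj_le_iff, cj_cj]
  exact cj_le_wr (mul_mem hr hs) i

theorem cj_wr {R : Subgroup G} {V : ι → Subgroup G} {r : G} (hr : r ∈ R) : cj r (wr R V) = wr R V := by
  refine le_antisymm (cj_wr_le hr) ?_
  have h1 := cj_mono r (cj_wr_le (V := V) (inv_mem hr))
  rwa [cj_cj_inv] at h1

theorem le_normalizer_wr (R : Subgroup G) (V : ι → Subgroup G) : R ≤ normalizer (wr R V : Set G) := fun _ hr =>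
  mem_normalizer_iff_cj.2 (cj_wr hr)

/-! ### Over `PIn` -/

namespace PIn

variable {S : Sylow 2 G} {D P N R : Subgroup G} {V Z : ι → Subgroup G} (h : PIn S D P N V Z)
include h

theorem o2_le [Finite G] : o2 D ≤ (S : Subgroup G) :=
  o2_le_of_sylow S.isPGroup' (MinSimple.Basic.not_dvd_relIndex S h.SD)

theorem cj_o2 {r : G} (hr : r ∈ D) : cj r (o2 D) = o2 D := cj_eq_of_mem_normalizer (le_normalizer_o2 D hr)

theorem wr_le_o2 (hRD : R ≤ D) : wr R V ≤ o2 D := wr_le fun r hr i => by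
  rw [← h.cj_o2 (hRD hr)]
  exact cj_mono r (h.VO i)

theorem comm_cj {r s : G} (hr : r ∈ D) (hs : s ∈ D) {i j : ι} {v w : G} (hv : v ∈ cj r (V i)) (hw : w ∈ cj s (V j)) :
    v * w = w * v := by
  have h1 := h.noff (r⁻¹ * s) (mul_mem (inv_mem hr) hs) i j (r⁻¹ * v * r) (mem_cj.1 hv) (r⁻¹ * w * r) (by
    rw [← cj_cj, mem_cj]
    have e : r⁻¹⁻¹ * (r⁻¹ * w * r) * r⁻¹ = w := by group
    rwa [e])
  calc v * w = r * (r⁻¹ * v * r * (r⁻¹ * w * r)) * r⁻¹ := by group
    _ = r * (r⁻¹ * w * r * (r⁻¹ * v * r)) * r⁻¹ := by rw [h1]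
    _ = w * v := by group

theorem wr_el (hRD : R ≤ D) : IsElementaryAbelian 2 (wr R V) := by
  have hc : wr R V ≤ centralizer (wr R V : Set G) := by
    refine wr_le fun r hr i => ?_
    rw [le_centralizer_iff]
    refine wr_le fun s hs j => ?_
    intro w hw
    exact mem_centralizer_iff.2 fun v hv => h.comm_cj (hRD hr) (hRD hs) hv hw
  have hc' : ∀ a ∈ wr R V, ∀ b ∈ wr R V, a * b = b * a := fun a ha b hb => (mem_centralizer_iff.1 (hc ha) b hb).symm
  refine ea_mk hc' ?_
  let Y : Subgroup G :=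
    { carrier := {x | x ∈ wr R V ∧ x * x = 1}
      one_mem' := ⟨one_mem _, one_mul 1⟩
      mul_mem' := by
        rintro a b ⟨ha, ha'⟩ ⟨hb, hb'⟩
        refine ⟨mul_mem ha hb, ?_⟩
        calc a * b * (a * b) = a * (b * a) * b := by group
          _ = a * (a * b) * b := by rw [hc' b hb a ha]
          _ = (a * a) * (b * b) := by group
          _ = 1 := by rw [ha', hb', mul_one]
      inv_mem' := by
        rintro a ⟨ha, ha'⟩
        refine ⟨inv_mem ha, ?_⟩
        rw [← mul_inv_rev, ha', inv_one] }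
  have h1 : wr R V ≤ Y := wr_le fun r hr i x hx => by
    refine ⟨cj_le_wr hr i hx, ?_⟩
    have h2 := h.sq i _ (mem_cj.1 hx)
    calc x * x = r * (r⁻¹ * x * r * (r⁻¹ * x * r)) * r⁻¹ := by group
      _ = 1 := by rw [h2]; group
  exact fun a ha => (h1 ha).2

theorem iSup_el : IsElementaryAbelian 2 (⨆ i, V i : Subgroup G) := by
  have h1 := h.wr_el (R := ⊥) bot_le
  have h2 := iSup_le_wr (⊥ : Subgroup G) V
  exact ea_mk (fun a ha b hb => ea_comm h1 (h2 ha) (h2 hb)) fun a ha => ea_sq h1 (h2 ha)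

/-- members of `AA(O)` act on all conjugates of the blocks as full root groups -/
theorem rootAA [Finite G] {A : Subgroup G} (hA : A ∈ AA (o2 D)) {r : G} (hr : r ∈ D) (i : ι) :
    RootOn A (cj r (V i)) (cj r (Z i)) := by
  have h1 : cj r⁻¹ A ∈ AA (o2 D) := by
    have := cj_mem_AA r⁻¹ hA
    rwa [h.cj_o2 (inv_mem hr)] at this
  have h2 : IsBestOffenderOn 2 (⨆ i, V i) (cj r⁻¹ A) := bo_of_AA h1 h.iSup_el (iSup_le h.VO)
  have h3 := (h.ffp _ (h1.2.1.trans h.o2_le) h2 i).cj' r
  rwa [cj_cj_inv] at h3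

theorem card_cjV (r : G) (i : ι) : Nat.card ↥(cj r (V i)) = Nat.card ↥(cj r (Z i)) ^ 2 := by
  rw [card_cj, card_cj, h.card i]

theorem one_lt [Finite G] (r : G) (i : ι) : 1 < Nat.card ↥(cj r (Z i)) := by
  rw [card_cj]
  exact (Subgroup.one_lt_card_iff_ne_bot _).2 (h.Zne i)

theorem exists_not [Finite G] (r : G) (i : ι) : ∃ v ∈ cj r (V i), v ∉ cj r (Z i) := by
  by_contra hc
  push Not at hc
  have h1 : Nat.card ↥(cj r (V i)) ≤ Nat.card ↥(cj r (Z i)) :=
    Nat.card_mono (Set.toFinite _) (SetLike.coe_subset_coe.2 hc)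
  rw [h.card_cjV] at h1
  have h2 := h.one_lt r i
  nlinarith

end PIn

end Cfsg.Agent.Omega.NOThreeL.RWide
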