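import Cfsg.Agent.Omega.NOThreeL.RWide.TAct
import Cfsg.Agent.Omega.NOThreeL.RWide.TBlk

/-!
# The `T`-frame over natural blocks (helper655 #26055): the plug to `TypT`

* `TFm S V N l E` : natural blocks `Bls` of `V`, the minimal parabolics of `S`, (I1), (I2), (I4);
* `TFm.tf` : the structure `Tf` of `TAct`, given `wc` and `permX`;  `TFm.typT` : the situation `TypT`.
-/

set_option autoImplicit false
set_option linter.unusedSectionVars false

namespace Cfsg.Agent.Omega.NOThreeL.RWide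

open Subgroup Cfsg Cfsg.Agent.Omega.MinPar
open Cfsg.Agent.ZN (zc o2)
open Cfsg.Agent.ZN.ChoiceBase (cj)
open Cfsg.Agent.MinSimple.MinParabolic (IsMinPar)
open Cfsg.Agent.Omega.NOThreeL.RWide.TBlk (NB Bls)
open Cfsg.Agent.Omega.NOThreeL.RWide.TAct (TT BB Tf)

universe u v

variable {G : Type u} [Group G] {ι : Type v}

/-- **The `T`-frame.** -/
structure TFm [Finite G] (S : Sylow 2 G) (V : Subgroup G) (N l E : ι → Subgroup G) : Prop
    extends Bls (S : Subgroup G) V N l E where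
  nS : normalizer ((S : Subgroup G) : Set G) ≤ normalizer (V : Set G)
  par : ∀ R, IsPar (S : Subgroup G) R → R ≤ centralizer (zc (S : Subgroup G) : Set G) ∨
    R ≤ normalizer (V : Set G) ∧ ∀ r ∈ R, ∀ b, ∃ c, cj r (N b) = N c
  /-- see `TAct.I1_of` -/
  I1 : centralizer (zc (S : Subgroup G) : Set G) ⊓ normalizer (TT (S : Subgroup G) N : Set G) ≤
    normalizer (BB (S : Subgroup G) l : Set G)
  I2 : centralizer (zc (S : Subgroup G) : Set G) ⊓ normalizer (BB (S : Subgroup G) l : Set G) ≤ normalizer (V : Set G)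
  I4 : zc (BB (S : Subgroup G) l) ≤ ⨆ b, l b

namespace TFmNB

section nb

variable {S E N l : Subgroup G} {F : Type} [Field F] {e : G → Fin 2 → F} (h : NB S E N l F e)
include h

theorem lN_of : l ≤ N := fun v hv => ((h.line v).1 hv).1

theorem e_one_of : e 1 = 0 := by
  have h1 := h.mul 1 (one_mem _) 1 (one_mem _)
  rw [mul_one] at h1
  exact left_eq_add.1 h1

theorem l_ne_of : l ≠ ⊥ := by
  intro e0
  obtain ⟨v, hv, hve⟩ := h.sur ![1, 0]
  have h1 : v ∈ l := (h.line v).2 ⟨hv, by rw [hve]; rfl⟩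
  rw [e0, mem_bot] at h1
  rw [h1, e_one_of h] at hve
  exact zero_ne_one (congrFun hve 0)

theorem sq_of [CharP F 2] {v : G} (hv : v ∈ N) : v ^ 2 = 1 := by
  refine h.inj _ (pow_mem hv 2) ?_
  rw [pow_two, h.mul v hv v hv]
  funext i
  exact CharTwo.add_self_eq_zero _

end nb

end TFmNB

section bls

variable {S V : Subgroup G} {N l E : ι → Subgroup G} (h : Bls S V N l E)
include h

theorem TBlk.Bls.lN (b : ι) : l b ≤ N b := by
  obtain ⟨F, _, _, _, e, he⟩ := h.nat b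
  exact TFmNB.lN_of he

theorem TBlk.Bls.lne (b : ι) : l b ≠ ⊥ := by
  obtain ⟨F, _, _, _, e, he⟩ := h.nat b
  exact TFmNB.l_ne_of he

theorem TBlk.Bls.line_inj (b c : ι) (e : l b = l c) : b = c := by
  by_contra hne
  apply h.lne b
  rw [eq_bot_iff, ← h.ind b]
  exact le_inf (h.lN b) ((e.le.trans (h.lN c)).trans
    (le_iSup (fun c : {c // c ≠ b} => N c) ⟨c, fun e => hne e.symm⟩))

/-- `I1` from `C ≤ N_G(∏ l b)` -/
theorem TBlk.Bls.I1_of {C : Subgroup G} (hI : C ≤ normalizer ((⨆ b, l b : Subgroup G) : Set G)) :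
    C ⊓ normalizer (TT S N : Set G) ≤ normalizer (BB S l : Set G) := TAct.I1_of h.perm h.line_inj hI

end bls

namespace TFm

variable [Finite G] {S : Sylow 2 G} {V : Subgroup G} {N l E : ι → Subgroup G} (h : TFm S V N l E)
include h

theorem comV : V ≤ centralizer (V : Set G) := fun v hv => mem_centralizer_iff.2 fun w hw => h.com w hw v hv

theorem sq (v : G) (hv : v ∈ V) : v ^ 2 = 1 := by
  rw [← h.sup] at hv
  have key : ∀ v ∈ ⨆ b, N b, v ∈ V ∧ v ^ 2 = 1 := by
    intro v hv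
    induction hv using Subgroup.iSup_induction' with
    | hp i w hw =>
      obtain ⟨F, _, _, _, e, he⟩ := h.nat i
      exact ⟨by rw [← h.sup]; exact le_iSup N i hw, TFmNB.sq_of he hw⟩
    | h1 => exact ⟨one_mem _, one_pow 2⟩
    | hmul a b _ _ iha ihb =>
      refine ⟨mul_mem iha.1 ihb.1, ?_⟩
      have hc : Commute a b := h.com a iha.1 b ihb.1
      rw [hc.mul_pow, iha.2, ihb.2, one_mul]
  exact (key v hv).2

/-- **`Tf`** -/
theorem tf (wc : ∀ g ∈ normalizer (V : Set G), cj g (BB (S : Subgroup G) l) ≤ S →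
      cj g (BB (S : Subgroup G) l) = BB (S : Subgroup G) l)
    (permX : ∀ x ∈ normalizer (BB (S : Subgroup G) l : Set G), x ∈ normalizer (V : Set G) →
      ∀ b, ∃ c, cj x (l b) = l c ∧ cj x (N b) = N c) : Tf S V N l :=
  ⟨h.comV, h.sq, h.sup, h.ind, h.toBls.lN, h.toBls.lne, h.perm, h.nS, fun R hR => (h.par R hR).imp id And.left, h.I1, h.I2, h.I4,
    wc, permX⟩

theorem irr (b : ι) (A : Subgroup G) (hA : A ≤ N b) (hA1 : A ≠ ⊥) : N b ≤ XS A (E b) := by
  obtain ⟨F, _, _, _, e, he⟩ := h.nat b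
  exact TBits.N_le_XS he.mul he.inj he.full (h.EN b) hA hA1

theorem ord (b : ι) : ∃ ρ ∈ E b, ∀ k : ℕ, ∃ v ∈ N b, ρ ^ 2 ^ k * v ≠ v * ρ ^ 2 ^ k := by
  obtain ⟨F, _, _, _, e, he⟩ := h.nat b
  exact TBits.exists_ord he.full (h.EN b) he.sur

/-- **The plug to `TypT`.** -/
theorem typT [Finite ι] [Nonempty ι] (three : ∀ i j : ι, ∃ k, k ≠ i ∧ k ≠ j)
    (wc : ∀ g ∈ normalizer (V : Set G), cj g (BB (S : Subgroup G) l) ≤ S →
      cj g (BB (S : Subgroup G) l) = BB (S : Subgroup G) l)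
    (permX : ∀ x ∈ normalizer (BB (S : Subgroup G) l : Set G), x ∈ normalizer (V : Set G) →
      ∀ b, ∃ c, cj x (l b) = l c ∧ cj x (N b) = N c)
    (parT : ∀ j P, IsMinPar (TT (S : Subgroup G) N) P → P ≤ YY (TAct.FF (S : Subgroup G) N l) j →
      P ≤ centralizer (TAct.FF (S : Subgroup G) N l j : Set G) ∨ ∀ i, P ≤ normalizer (N i : Set G))
    (non : ∀ U : Subgroup G, IsPGroup 2 U →
      (∀ j, YY (TAct.FF (S : Subgroup G) N l) j ≤ normalizer (U : Set G)) → U = ⊥) :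
    TypT (TT (S : Subgroup G) N) (TAct.FF (S : Subgroup G) N l) N :=
  (h.tf wc permX).typT three h.EN h.EC h.irr h.ord parT non

end TFm

end Cfsg.Agent.Omega.NOThreeL.RWide
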