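import Cfsg.Agent.Omega.NOThreeL.RWide.CjYY

/-!
# THEOREM PERM+ in the block data of box R, several classes (helper540; text: helper278, #24948, #25094)

* `not_cent_blk` : the elements of odd order of `P` do not centralise a block of `P`.
* **`left_core`** : `C_G(Z)` permutes the lines `l b` of each class.
-/

set_option autoImplicit false
set_option linter.unusedSectionVars false

namespace Cfsg.Agent.Omega.NOThreeL.RWide.PInst

open Subgroup Cfsg Cfsg.Agent.ZN Cfsg.Agent.ZN.ChoiceBase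
open Cfsg.Agent.Omega.FFThm Cfsg.Agent.Lib.SL2Mat
open Cfsg.Agent.Omega.MinPar Cfsg.Agent.Omega.Frame Cfsg.Agent.Omega.FrameNOFF
open Cfsg.Agent.Omega.FrameFF (cv)
open Cfsg.Agent.Omega.NO3S.ThmB hiding WP
open Cfsg.Agent.Omega.NO3S.KeyRad
open Cfsg.Agent.Omega.NOThreeL.RRed.NS
open Cfsg.Agent.Omega.NOThreeL.RTree (RB)
open scoped Pointwise

universe u

variable {G : Type u} [Group G] [Finite G] {S : Sylow 2 G}

theorem not_cent_blk {P : Subgroup G} {F : Type} [Field F] [CharP F 2] {k : ℕ}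
    {M : NatKM F (S : Subgroup G) P (zl (S : Subgroup G) P) (cv (S : Subgroup G) P) k} (h : Nb M) (j : Fin k)
    (hc : ∀ g ∈ P, Odd (orderOf g) → g ∈ centralizer (blk M j : Set G)) : False := by
  obtain ⟨w, hw, hwe⟩ := exists_blk_e h j ![1, 0]
  have h1 : MinSimple.VModule.oddGen P ≤ centralizer (blk M j : Set G) := by
    rw [MinSimple.VModule.oddGen_def, closure_le]
    exact fun g hg => hc g hg.1 hg.2
  have h2 : w ∈ cv (S : Subgroup G) P :=
    ⟨blk_le h j hw, mem_centralizer_iff.2 fun g hg => (mem_centralizer_iff.1 (h1 hg) w hw).symm⟩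
  have h3 := (M.ker w (blk_le h j hw)).2 h2
  rw [h3] at hwe
  exact one_ne_zero (congrFun hwe 0).symm

/-- the data of the left case: blocks with lines in classes, each block from an active `P` -/
structure LData (S : Sylow 2 G) {β κ : Type*} (N l : β → Subgroup G) (W : κ → Subgroup G) (side : β → κ) : Prop where
  ind : iSupIndep N
  ne : ∀ b, N b ≠ ⊥
  NW : ∀ b, N b ≤ W (side b)
  dis : ∀ i j, i ≠ j → W i ⊓ W j = ⊥
  nS : ∀ i, (S : Subgroup G) ≤ normalizer (W i : Set G)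
  WS : ∀ i, W i ≤ (S : Subgroup G)
  sq : ∀ i, ∀ w ∈ W i, w ^ 2 = 1
  Wne : ∀ i, W i ≠ ⊥
  two : ∀ i : κ, ∃ j, j ≠ i
  permN : ∀ s ∈ normalizer ((S : Subgroup G) : Set G), ∀ b, ∃ c,
    MulAut.conj s • N b = N c ∧ MulAut.conj s • l b = l c
  src : ∀ b, ∃ P, IsParS (S : Subgroup G) P ∧
    (∃ i, ∀ j, j ≠ i → ∀ g ∈ P, Odd (orderOf g) → g ∈ centralizer (W j : Set G)) ∧
    ∃ (F : Type) (_ : Field F) (_ : CharP F 2) (k : ℕ)
      (M : NatKM F (S : Subgroup G) P (zl (S : Subgroup G) P) (cv (S : Subgroup G) P) k) (h : Nb M) (j : Fin k),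
      (∀ i, DD M i = ⊥) ∧ N b = blk M j ∧ l b = YY h j
  all : ∀ b, ∃ A, KL.TwoS.Mx (o2 (centralizer (zc (S : Subgroup G) : Set G))) A ∧ ¬ A ≤ centralizer (N b : Set G)

/-- **PERM+** -/
theorem left_core {β κ : Type*} {N l : β → Subgroup G} {W : κ → Subgroup G} {side : β → κ}
    (d : LData S N l W side) (hB : RB S) : ∀ c ∈ centralizer (zc (S : Subgroup G) : Set G), ∀ b, ∃ b',
      side b' = side b ∧ MulAut.conj c • l b = l b' := by
  intro c hc b
  obtain ⟨P, hP, ⟨i, hi⟩, F, _, _, k, M, h, j, spl, hNb, hlb⟩ := d.src b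
  -- the class of `b` is `i`
  have hbi : side b = i := by
    by_contra hne
    refine not_cent_blk h j fun g hg ho => ?_
    rw [← hNb]
    exact centralizer_le (d.NW b) (hi _ hne g hg ho)
  obtain ⟨i', hi'⟩ := d.two i
  have hX1 : W i' ⊓ zc (S : Subgroup G) ≠ ⊥ := inf_zc_ne (d.WS i') (d.nS i') (d.sq i') (d.Wne i')
  have hPX : P ≤ centralizer (W i' ⊓ zc (S : Subgroup G) : Set G) := by
    have := cent_of_odd (S := S) (P := P) (U := W i' ⊓ zc (S : Subgroup G)) hP.le inf_le_right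
      fun g hg ho => centralizer_le inf_le_left (hi i' hi' g hg ho)
    exact this
  have hV : ∀ a, ∃ b', N b' = blk M a ∧ l b' = YY h a ∧ side b' = side b := by
    intro a
    obtain ⟨s, hs, h1, h2⟩ := PNat.transZ h spl j a
    obtain ⟨b', h3, h4⟩ := d.permN s (le_normalizer hs) b
    have h5 : N b' = blk M a := by
      rw [← h1, ← hNb, ← h3]; rfl
    refine ⟨b', h5, by rw [← h2, ← hlb, ← h4]; rfl, ?_⟩
    by_contra hne
    apply d.ne b'
    rw [eq_bot_iff, ← d.dis _ _ hne]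
    refine le_inf (d.NW b') ?_
    rw [← h3]
    rintro _ ⟨y, hy, rfl⟩
    exact (mem_normalizer_iff.1 (d.nS _ hs) y).1 (d.NW b hy)
  obtain ⟨A, hA, hA'⟩ := d.all b
  obtain ⟨a, ha⟩ := line_perm h spl hB hP inf_le_right hX1 hPX
    ⟨A, hA, fun h0 => hA' (h0.trans (centralizer_le (hNb ▸ (le_iSup (blk M) j : blk M j ≤ _))))⟩ d.ind d.ne
    (fun i => by
      obtain ⟨b', h1, h2, -⟩ := hV i
      exact ⟨b', h1, h2⟩) d.permN c hc j
  obtain ⟨b', -, h2, h3⟩ := hV a
  refine ⟨b', h3, ?_⟩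
  rw [h2, ← ha, hlb]
  rfl

end Cfsg.Agent.Omega.NOThreeL.RWide.PInst
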