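import Cfsg.Agent.Omega.NOThreeL.RWide.CjYY
import Cfsg.Agent.Omega.NOThreeL.RRed.WideTree

/-!
# The subgroup of `P` acting as `SL₂(F)` on one block (helper540, for `one_orb`, 475 #27342 (C))

* `DP h j` : the elements of `P` which act as `SL₂(F)` on the `j`-th summand and trivially on the others;
* `cj_DP` : `P` permutes the `DP h j`;
* **`natBlk`** : `NatBlk S (DP h j) (blk M j) (YY h j) F (fun g => M.e g j)`.
-/

set_option autoImplicit false
set_option linter.unusedSectionVars false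

namespace Cfsg.Agent.Omega.NOThreeL.RWide.PNat

open Subgroup Cfsg Cfsg.Agent.ZN Cfsg.Agent.ZN.ChoiceBase
open Cfsg.Agent.Omega.FFThm Cfsg.Agent.Lib.SL2Mat
open Cfsg.Agent.Omega.NatPair hiding cj mem_cj
open Cfsg.Agent.Omega.NO3S.ThmB Cfsg.Agent.Omega.NO3S.KeyRad
open Cfsg.Agent.Omega.NOThreeL.RRed.NS
open Cfsg.Agent.Omega.NOThreeL.RRed.WideTree (NatBlk)

universe u

variable {G : Type u} [Group G] {F : Type} [Field F] [CharP F 2] {S P V D : Subgroup G} {k : ℕ}
  {M : NatKM F S P V D k} (h : Nb M)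

/-- the elements of `P` acting on the `j`-th summand only -/
def DP (h : Nb M) (j : Fin k) : Subgroup G where
  carrier := {g | g ∈ P ∧ ∃ A, ActsSL M.e V D g (sg j A)}
  one_mem' := ⟨one_mem _, 1, by rw [sg_one]; exact Nb.acts_one (M := M)⟩
  mul_mem' := by
    rintro a b ⟨ha, A, hA⟩ ⟨hb, B, hB⟩
    exact ⟨mul_mem ha hb, A * B, by rw [sg_mul]; exact h.acts_mul hb hA hB⟩
  inv_mem' := by
    rintro a ⟨ha, A, hA⟩
    have h1 := h.acts_inv ha hA
    have h2 : (sg j A)⁻¹ = sg j A⁻¹ := by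
      rw [inv_eq_iff_mul_eq_one, ← sg_mul, mul_inv_cancel, sg_one]
    exact ⟨inv_mem ha, A⁻¹, by rw [← h2]; exact h1⟩

include h

theorem DP_le (j : Fin k) : DP h j ≤ P := fun _ hg => hg.1

variable (spl : ∀ j, DD M j = ⊥)
include spl

/-- `DP h j` centralises the other blocks -/
theorem DP_cent {i j : Fin k} (hij : i ≠ j) {g : G} (hg : g ∈ DP h j) {v : G} (hv : v ∈ blk M i) : g * v = v * g := by
  obtain ⟨hgP, A, hA⟩ := hg
  have h1 : g * v * g⁻¹ = v := by
    refine ext h spl (conj_iSup_blk h hgP ((le_iSup (blk M) i : blk M i ≤ _) hv))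
      ((le_iSup (blk M) i : blk M i ≤ _) hv) ?_
    funext l
    rw [hA.1 v (blk_le h i hv) l]
    by_cases hl : l = j
    · rw [hl, e_blk h (Ne.symm hij) hv, ap_zr]
    · rw [sg_ne hl, ap_one]
  calc g * v = g * v * g⁻¹ * g := by group
    _ = v * g := by rw [h1]

theorem conj_mem_DP {s : G} (hs : s ∈ P) {i j : Fin k} (he : cj s (blk M i) = blk M j) {g : G} (hg : g ∈ DP h i) :
    s * g * s⁻¹ ∈ DP h j := by
  obtain ⟨hgP, A, hA⟩ := hg
  obtain ⟨B, hB⟩ := M.norm s hs g hgP _ hA.1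
  have h1 : ∀ l, l ≠ j → B l = 1 := by
    intro l hl
    refine ap_inj fun x => ?_
    obtain ⟨v, hv, hvx⟩ := exists_blk_e h l x
    -- `s⁻¹ v s` is in another block
    obtain ⟨σ, hσ⟩ := M.perm s hs
    have h2 : cj s (blk M (σ.symm l)) = blk M l := by rw [cj_blk h spl hs hσ, σ.apply_symm_apply]
    have h3 : σ.symm l ≠ i := by
      intro e
      apply hl
      rw [e, he] at h2
      by_contra hne
      obtain ⟨w, hw, hwe⟩ := exists_blk_e h j ![1, 0]
      have h4 := e_blk h (Ne.symm hl) (h2 ▸ hw)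
      rw [hwe] at h4
      exact one_ne_zero (congrFun h4 0)
    have h4 : s⁻¹ * v * s ∈ blk M (σ.symm l) := by
      rw [← h2, mem_cj] at hv; exact hv
    have h5 := DP_cent h spl h3 (⟨hgP, A, hA⟩ : g ∈ DP h i) h4
    have h6 : s * g * s⁻¹ * v * (s * g * s⁻¹)⁻¹ = v := by
      calc s * g * s⁻¹ * v * (s * g * s⁻¹)⁻¹ = s * (g * (s⁻¹ * v * s)) * g⁻¹ * s⁻¹ := by group
        _ = v := by rw [h5]; group
    have h7 := hB v (blk_le h l hv) l
    rw [h6, hvx] at h7
    rw [ap_one]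
    exact h7.symm
  refine ⟨mul_mem (mul_mem hs hgP) (inv_mem hs), B j, fun v hv l => ?_, fun d hd => ?_⟩
  · rw [hB v hv l]
    by_cases hl : l = j
    · rw [hl, sg_self]
    · rw [sg_ne hl, h1 l hl]
  · have hd' : s⁻¹ * d * s ∈ D := by
      have := (mem_normalizer_iff.1 (h.DP' (inv_mem hs)) d).1 hd
      rwa [inv_inv] at this
    have h2 := hA.2 _ hd'
    calc s * g * s⁻¹ * d = s * (g * (s⁻¹ * d * s)) * s⁻¹ := by group
      _ = s * (s⁻¹ * d * s * g) * s⁻¹ := by rw [h2]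
      _ = d * (s * g * s⁻¹) := by group

theorem cj_DP {s : G} (hs : s ∈ P) {i j : Fin k} (he : cj s (blk M i) = blk M j) : cj s (DP h i) = DP h j := by
  have he' : cj s⁻¹ (blk M j) = blk M i := by
    rw [← he]
    ext x
    rw [mem_cj, mem_cj]
    have e : s⁻¹ * (s⁻¹⁻¹ * x * s⁻¹) * s = x := by group
    rw [e]
  ext x
  rw [mem_cj]
  constructor
  · intro hx
    have h1 := conj_mem_DP h spl hs he hx
    have e : s * (s⁻¹ * x * s) * s⁻¹ = x := by group
    rwa [e] at h1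
  · intro hx
    have h1 := conj_mem_DP h spl (inv_mem hs) he' hx
    rwa [inv_inv] at h1

omit spl in
theorem ap_eq_mulVec (A : Matrix.SpecialLinearGroup (Fin 2) F) (x : Fin 2 → F) : ap A x = A.1.mulVec x := by
  refine ext2 ?_ ?_ <;> simp [ap, ent, Matrix.mulVec, dotProduct, Fin.sum_univ_two]


omit h spl in
theorem eq_one_of_pow {a : F} {n : ℕ} (ha : a ^ 2 ^ n = 1) : a = 1 := by
  induction n with
  | zero => simpa using ha
  | succ n ih =>
    rw [pow_succ, pow_mul] at ha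
    rw [pow_two] at ha
    rcases mul_self_eq_one_iff.1 ha with h1 | h1
    · exact ih h1
    · rw [CharTwo.neg_eq] at h1
      exact ih h1

theorem cj_of_DP {s : G} {j : Fin k} (hs : s ∈ DP h j) : cj s (blk M j) = blk M j := by
  have key : ∀ t ∈ DP h j, ∀ w ∈ blk M j, t * w * t⁻¹ ∈ blk M j := fun t ht w hw => by
    obtain ⟨hP, A, hA⟩ := ht
    exact conj_blk h hP hA hw
  ext x
  rw [mem_cj]
  constructor
  · intro hx
    have h1 := key s hs _ hx
    have e : s * (s⁻¹ * x * s) * s⁻¹ = x := by group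
    rwa [e] at h1
  · intro hx
    have h1 := key s⁻¹ (inv_mem hs) x hx
    rwa [inv_inv] at h1

/-- a 2-element of `S ∩ DP h j` acts as a root element -/
theorem root_DP {s : G} {j : Fin k} (hs : s ∈ DP h j) (hS : s ∈ S) {n : ℕ} (hn : s ^ 2 ^ n = 1) :
    ∃ c : F, ∀ v ∈ blk M j, M.e (s * v * s⁻¹) j = ![M.e v j 0 + c * M.e v j 1, M.e v j 1] := by
  have he := cj_of_DP h spl hs
  obtain ⟨hsP, A, hA⟩ := hs
  have hact : ∀ v ∈ blk M j, M.e (s * v * s⁻¹) j = ap A (M.e v j) := fun v hv => e_conj_blk h hA hv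
  obtain ⟨w, hw, hwe⟩ := exists_blk_e h j ![1, 0]
  have hwY : w ∈ YY h j := ⟨hw, by rw [hwe]; rfl⟩
  have h1 := (conj_mem_YY h spl hS he hwY).2
  rw [hact w hw, hwe, ap_one'] at h1
  simp only [Matrix.cons_val_zero, Matrix.cons_val_one, mul_one, mul_zero, add_zero] at h1
  have h2 : ∀ m : ℕ, s ^ m * w * (s ^ m)⁻¹ ∈ blk M j ∧ M.e (s ^ m * w * (s ^ m)⁻¹) j = ![ent A 0 0 ^ m, 0] := by
    intro m
    induction m with
    | zero =>
      have e : s ^ 0 * w * (s ^ 0)⁻¹ = w := by group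
      rw [e, hwe, pow_zero]; exact ⟨hw, rfl⟩
    | succ m ih =>
      have e : s ^ (m + 1) * w * (s ^ (m + 1))⁻¹ = s * (s ^ m * w * (s ^ m)⁻¹) * s⁻¹ := by
        rw [pow_succ']; group
      rw [e]
      refine ⟨conj_blk h hsP hA ih.1, ?_⟩
      rw [hact _ ih.1, ih.2]
      refine vec_eq ?_ ?_
      · rw [ap_zero']
        simp only [Matrix.cons_val_zero, Matrix.cons_val_one, mul_zero, add_zero]
        rw [pow_succ']
      · rw [ap_one', h1]
        simp
  have h3 : ent A 0 0 = 1 := by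
    have h4 := (h2 (2 ^ n)).2
    rw [hn, one_mul, inv_one, mul_one, hwe] at h4
    exact eq_one_of_pow (congrFun h4 0).symm
  have h4 : ent A 1 1 = 1 := by
    have h5 := A.2
    rw [Matrix.det_fin_two] at h5
    have h6 : ent A 0 0 * ent A 1 1 - ent A 0 1 * ent A 1 0 = 1 := h5
    rwa [h3, h1, one_mul, mul_zero, sub_zero] at h6
  refine ⟨ent A 0 1, fun v hv => ?_⟩
  rw [hact v hv]
  refine vec_eq ?_ ?_
  · rw [ap_zero', h3, one_mul]; rfl
  · rw [ap_one', h1, h4, one_mul, zero_mul, zero_add]; rfl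

/-- **natural blocks in the sense of WideTree** -/
theorem natBlk (hS2 : IsPGroup 2 S) (j : Fin k) :
    NatBlk S (DP h j) (blk M j) (YY h j) F (fun g => M.e g j) where
  mul v hv w hw := by rw [M.mul _ (blk_le h j hv) _ (blk_le h j hw), Pi.add_apply]
  inj v hv h0 := blk_ext h spl hv (one_mem _) (by rw [h0, Nb.e_one (M := M)]; rfl)
  sur x := exists_blk_e h j x
  act g hg := by
    obtain ⟨hP, A, hA⟩ := hg
    exact ⟨A, fun v hv => by rw [e_conj_blk h hA hv, ap_eq_mulVec h]⟩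
  full A := by
    obtain ⟨g, hg, hA⟩ := M.lift (sg j A)
    exact ⟨g, ⟨hg, A, hA⟩, fun v hv => by rw [e_conj_blk h hA hv, ap_eq_mulVec h]⟩
  line v := Iff.rfl
  root s hs := by
    obtain ⟨n, hn⟩ := hS2 ⟨s, hs.1⟩
    exact root_DP h spl hs.2 hs.1 (n := n) (by simpa using congrArg Subtype.val hn)
  sylow c := by
    classical
    obtain ⟨t, ht, hA⟩ := M.unip (Function.update 0 j c)
    have e : (fun i => up (Function.update (0 : Fin k → F) j c i)) = sg j (up c) := by
      have h1 := eq_sg (i := j) (A := fun i => up (Function.update (0 : Fin k → F) j c i)) fun l hl => by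
        rw [Function.update_of_ne hl, Pi.zero_apply, up_zero]
      rw [h1, Function.update_self]
    rw [e] at hA
    refine ⟨t, ⟨ht, h.SP' ht, up c, hA⟩, fun v hv => ?_⟩
    rw [e_conj_blk h hA hv]
    exact vec_eq (ap_up_0 _ _) (ap_up_1 _ _)

end Cfsg.Agent.Omega.NOThreeL.RWide.PNat
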