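import Cfsg.Agent.Omega.NOThreeL.Merge
import Cfsg.Agent.Omega.NO3b.CTwoFF.NormT
import Cfsg.Agent.ZN.ChoiceBase

/-!
# `N_G(B)` permutes the lines (helper453 #24836 (3))

`B ≤ S` normalised by `S` (`B = C_S(⨆ l)`), `l b = C_{N b}(B)`. If `C_G(Z)` permutes the lines `l b` (PERM+), and `M₀`
and `N_G(S) ∩ N_G(B)` permute the blocks `N b`, then `N_G(B)` permutes the lines: `N_G(B) ∈ L(S)` is generated by
`N_G(S) ∩ N_G(B)` and the minimal parabolics `R ≤ N_G(B)` over `S`, and `R ≤ C_G(Z)` or `R ≤ M₀`.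

* `permG l` : the group of the elements which permute the `l b`;
* **`permNB`** ; **`permNB_z`** : `q = 2`, the form of the field `perm` of `EDel.AOF.AO`.
-/

set_option autoImplicit false
set_option linter.unusedSectionVars false

namespace Cfsg.Agent.Omega.NOThreeL.RWide.PermNB

open Subgroup Cfsg Cfsg.Agent.ZN Cfsg.Agent.ZN.ChoiceBase Cfsg.Agent.Omega.MinPar
open Cfsg.Agent.Omega.NOThreeL.Merge (MZ le_MZ)
open Cfsg.Agent.Omega.NO3b.CTwoFF (le_centralizer_of_par)

universe u v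

variable {G : Type u} [Group G] [Finite G] {ι : Type v}

/-- the elements which permute the `l b` -/
def permG (l : ι → Subgroup G) : Subgroup G where
  carrier := {g | ∀ b, ∃ c, cj g (l b) = l c}
  one_mem' := fun b => ⟨b, cj_one _⟩
  mul_mem' := fun {x y} hx hy b => by
    obtain ⟨c, h1⟩ := hy b
    obtain ⟨d, h2⟩ := hx c
    exact ⟨d, by rw [← cj_cj, h1, h2]⟩
  inv_mem' := fun {x} hx b => by
    let f : Set.range l → Set.range l := fun X => ⟨cj x X.1, by
      obtain ⟨a, ha⟩ := X.2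
      obtain ⟨c, hc⟩ := hx a
      exact ⟨c, by rw [← hc, ha]⟩⟩
    have hf : Function.Injective f := by
      intro X Y hXY
      have h1 : cj x X.1 = cj x Y.1 := congrArg Subtype.val hXY
      have h2 : cj x⁻¹ (cj x X.1) = cj x⁻¹ (cj x Y.1) := by rw [h1]
      rw [cj_cj, cj_cj, inv_mul_cancel, cj_one, cj_one] at h2
      exact Subtype.ext h2
    have hs : Function.Surjective f := Finite.surjective_of_injective hf
    obtain ⟨⟨X, c, hc⟩, hX⟩ := hs ⟨l b, b, rfl⟩
    have h1 : cj x X = l b := congrArg Subtype.val hX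
    refine ⟨c, ?_⟩
    rw [← h1, cj_cj, inv_mul_cancel, cj_one, hc]

theorem mem_permG {l : ι → Subgroup G} {g : G} : g ∈ permG l ↔ ∀ b, ∃ c, cj g (l b) = l c := Iff.rfl

/-- `g ∈ N_G(B)` which permutes the blocks permutes the lines -/
theorem perm_inf {B : Subgroup G} {N l : ι → Subgroup G} (lB : ∀ b, l b = N b ⊓ centralizer (B : Set G)) {g : G}
    (hg : g ∈ normalizer (B : Set G)) (hN : ∀ b, ∃ c, cj g (N b) = N c) : ∀ b, ∃ c, cj g (l b) = l c := by
  intro b
  obtain ⟨c, hc⟩ := hN b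
  refine ⟨c, ?_⟩
  rw [lB, lB]
  change Subgroup.map _ _ = _
  rw [Subgroup.map_inf_eq _ _ _ (MulAut.conj g).injective]
  change cj g (N b) ⊓ cj g (centralizer (B : Set G)) = _
  rw [hc, cj_centralizer, cj_eq_of_mem_normalizer hg]

variable (S : Sylow 2 G) {B : Subgroup G} {N l : ι → Subgroup G}

/-- **`N_G(B)` permutes the lines.** -/
theorem permNB (hB : IsPGroup 2 B) (hB1 : B ≠ ⊥) (SB : (S : Subgroup G) ≤ normalizer (B : Set G))
    (permC : ∀ c ∈ centralizer (zc (S : Subgroup G) : Set G), ∀ b, ∃ b', cj c (l b) = l b')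
    (permM : ∀ g ∈ MZ (S : Subgroup G), ∀ b, ∃ c, cj g (N b) = N c)
    (permN : ∀ n ∈ normalizer ((S : Subgroup G) : Set G), n ∈ normalizer (B : Set G) → ∀ b, ∃ c, cj n (N b) = N c)
    (lB : ∀ b, l b = N b ⊓ centralizer (B : Set G)) :
    ∀ g ∈ normalizer (B : Set G), ∀ b, ∃ c, cj g (l b) = l c := by
  have h : normalizer (B : Set G) ≤ permG l := by
    refine (isLoc_normalizer S hB hB1 SB).le_of_forall S ?_ fun P hP hPB => ?_
    · rintro n ⟨h1, h2⟩
      exact mem_permG.2 (perm_inf lB h1 (permN n h2 h1))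
    · by_cases hz : P ≤ normalizer (zc (S : Subgroup G) : Set G)
      · exact fun g hg => mem_permG.2 (permC g (le_centralizer_of_par hP hz hg))
      · exact fun g hg => mem_permG.2 (perm_inf lB (hPB hg) (permM g (le_MZ ⟨hP, hz⟩ hg)))
  exact fun g hg => mem_permG.1 (h hg)

/-- `C_W(B) = ⟨z⟩` for a block `W` of order 4 moved by `B`, `z ∈ C_W(B)`. -/
theorem inf_eq_zpowers {B W : Subgroup G} {z : G} (cardW : Nat.card W = 4) (zW : z ∈ W) (z2 : z ^ 2 = 1) (z1 : z ≠ 1)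
    (zB : z ∈ centralizer (B : Set G)) (mv : ¬ B ≤ centralizer (W : Set G)) :
    zpowers z = W ⊓ centralizer (B : Set G) := by
  have hle : zpowers z ≤ W ⊓ centralizer (B : Set G) := (zpowers_le).2 ⟨zW, zB⟩
  have h2 : Nat.card (zpowers z) = 2 := by
    rw [Nat.card_zpowers]
    exact orderOf_eq_prime z2 z1
  have h3 : Nat.card (W ⊓ centralizer (B : Set G) : Subgroup G) ∣ 4 := cardW ▸ Subgroup.card_dvd_of_le inf_le_left
  have h4 : Nat.card (W ⊓ centralizer (B : Set G) : Subgroup G) ≠ 4 := by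
    intro h5
    apply mv
    have h6 : W ⊓ centralizer (B : Set G) = W :=
      Subgroup.eq_of_le_of_card_ge inf_le_left (by rw [h5, cardW])
    have h7 : W ≤ centralizer (B : Set G) := h6 ▸ inf_le_right
    exact Subgroup.le_centralizer_iff.1 h7
  have h5 : 2 ∣ Nat.card (W ⊓ centralizer (B : Set G) : Subgroup G) := h2 ▸ Subgroup.card_dvd_of_le hle
  have h6 : Nat.card (W ⊓ centralizer (B : Set G) : Subgroup G) = 2 := by
    have h7 : Nat.card (W ⊓ centralizer (B : Set G) : Subgroup G) ≤ 4 := Nat.le_of_dvd (by norm_num) h3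
    interval_cases h8 : Nat.card (W ⊓ centralizer (B : Set G) : Subgroup G) <;> omega
  exact Subgroup.eq_of_le_of_card_ge hle (by rw [h6, h2])

/-- **`N_G(B)` permutes the `z b`** (`q = 2`; field `perm` of `EDel.AOF.AO`). -/
theorem permNB_z {z : ι → G} (hB : IsPGroup 2 B) (hB1 : B ≠ ⊥) (SB : (S : Subgroup G) ≤ normalizer (B : Set G))
    (permC : ∀ c ∈ centralizer (zc (S : Subgroup G) : Set G), ∀ b, ∃ b', c * z b * c⁻¹ = z b')
    (permM : ∀ g ∈ MZ (S : Subgroup G), ∀ b, ∃ c, cj g (N b) = N c)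
    (permN : ∀ n ∈ normalizer ((S : Subgroup G) : Set G), n ∈ normalizer (B : Set G) → ∀ b, ∃ c, cj n (N b) = N c)
    (cardN : ∀ b, Nat.card (N b) = 4) (zN : ∀ b, z b ∈ N b) (z2 : ∀ b, z b ^ 2 = 1) (z1 : ∀ b, z b ≠ 1)
    (zB : ∀ b, z b ∈ centralizer (B : Set G)) (mv : ∀ b, ¬ B ≤ centralizer (N b : Set G)) :
    ∀ g ∈ normalizer (B : Set G), ∀ b, ∃ c, g * z b * g⁻¹ = z c := by
  have hcj : ∀ (g x : G), cj g (zpowers x) = zpowers (g * x * g⁻¹) := by
    intro g x
    change Subgroup.map _ _ = _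
    rw [MonoidHom.map_zpowers]
    rfl
  have key := permNB S (N := N) (l := fun b => zpowers (z b)) hB hB1 SB
    (fun c hc b => by
      obtain ⟨b', h1⟩ := permC c hc b
      exact ⟨b', by rw [hcj, h1]⟩)
    permM permN fun b => inf_eq_zpowers (cardN b) (zN b) (z2 b) (z1 b) (zB b) (mv b)
  intro g hg b
  obtain ⟨c, hc⟩ := key g hg b
  refine ⟨c, ?_⟩
  rw [hcj] at hc
  have h1 : g * z b * g⁻¹ ∈ zpowers (z c) := hc ▸ mem_zpowers _
  have h2 : g * z b * g⁻¹ ≠ 1 := by
    intro h3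
    apply z1 b
    have h4 : z b = g⁻¹ * (g * z b * g⁻¹) * g := by group
    rw [h4, h3]
    group
  obtain ⟨k, hk⟩ := mem_zpowers_iff.1 h1
  rw [← hk]
  rcases Int.even_or_odd' k with ⟨m, rfl | rfl⟩
  · exfalso
    apply h2
    rw [← hk, zpow_mul, show (z c) ^ (2 : ℤ) = 1 from by exact_mod_cast z2 c, one_zpow]
  · rw [zpow_add, zpow_mul, show (z c) ^ (2 : ℤ) = 1 from by exact_mod_cast z2 c, one_zpow, one_mul, zpow_one]

end Cfsg.Agent.Omega.NOThreeL.RWide.PermNB
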