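import Cfsg.Agent.Omega.NOThreeL.RWide.PInO

/-!
# THEOREM PERM+ (helper278, #24948 / #25094), case (B) from `PIn`

`PIn` is the case `O = O₂(D)` of `PInO` (helper828); everything is in `PInO.lean`.
-/

set_option autoImplicit false
set_option linter.unusedSectionVars false

namespace Cfsg.Agent.Omega.NOThreeL.RWide

open Subgroup Cfsg Cfsg.Agent.ZN Cfsg.Agent.ZN.ChoiceBase

universe u

variable {G : Type u} [Group G] [Finite G] {S : Sylow 2 G} {D P N : Subgroup G} {ι : Type*} {V Z : ι → Subgroup G}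

theorem PIn.Zcj (h : PIn S D P N V Z) (i j : ι) : ∃ s ∈ (S : Subgroup G), cj s (V i) = V j ∧ cj s (Z i) = Z j :=
  h.toO.Zcj i j

theorem PIn.comm (h : PIn S D P N V Z) : ∀ u ∈ ⨆ i, V i, ∀ v ∈ ⨆ i, V i, u * v = v * u := h.toO.comm

theorem PIn.o2S (h : PIn S D P N V Z) : o2 D ≤ (S : Subgroup G) := h.toO.OS

theorem PIn.VS (h : PIn S D P N V Z) : (⨆ i, V i) ≤ (S : Subgroup G) := h.toO.VS

/-- `C_S(⨆ V) ≤ O₂(P)` -/
theorem PIn.inf_le_o2 (h : PIn S D P N V Z) :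
    (S : Subgroup G) ⊓ centralizer ((⨆ i, V i : Subgroup G) : Set G) ≤ o2 P := h.toO.inf_le_o2

theorem PIn.o2_le_cent (h : PIn S D P N V Z) : o2 P ≤ centralizer ((⨆ i, V i : Subgroup G) : Set G) :=
  h.toO.o2_le_cent

/-- **THEOREM PERM+, case (B)** -/
theorem PIn.permB (h : PIn S D P N V Z) {R : Subgroup G} (hR : (S : Subgroup G) ≤ R) (hRD : R ≤ D)
    {W : Subgroup G} (hW : W ≤ ⨆ r : ↥(P ⊔ R), cj (r : G) (⨆ i, V i))
    (hK : ∀ F : Subgroup G, F ≤ (S : Subgroup G) → IsBestOffenderOn 2 W F → F ≤ o2 R) :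
    ∀ r ∈ R, ∀ i, ∃ j, cj r (Z i) = Z j := h.toO.permB hR hRD hW hK

end Cfsg.Agent.Omega.NOThreeL.RWide
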