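import Cfsg.Agent.Omega.NOThreeL.RWide.PermPure
import Cfsg.Agent.Omega.NOThreeL.RWide.PermBIn

/-!
# THEOREM PERM+ (helper278, #24948, #25094): the end

* `PIn.permR` : a minimal parabolic `R ≤ D` permutes the lines `Z i` (case A: `PermPure`, case B: helper545's `PermBIn`);
* **`PIn.permD`** : `D` permutes the lines `Z i`.
-/

set_option autoImplicit false
set_option linter.unusedSectionVars false

namespace Cfsg.Agent.Omega.NOThreeL.RWide

open Subgroup Cfsg Cfsg.Agent.ZN Cfsg.Agent.ZN.ChoiceBase Cfsg.Agent.MinSimple.MinParabolic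

universe u

variable {G : Type u} [Group G] {ι : Type*}

/-- the elements permuting the lines (a subgroup of a finite group) -/
def linePerm (Z : ι → Subgroup G) : Subgroup G where
  carrier := {x | (∀ i, ∃ j, cj x (Z i) = Z j) ∧ ∀ i, ∃ j, cj x⁻¹ (Z i) = Z j}
  one_mem' := ⟨fun i => ⟨i, cj_one _⟩, fun i => ⟨i, by rw [inv_one]; exact cj_one _⟩⟩
  mul_mem' := by
    rintro a b ⟨ha, ha'⟩ ⟨hb, hb'⟩
    refine ⟨fun i => ?_, fun i => ?_⟩
    · obtain ⟨j, hj⟩ := hb i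
      obtain ⟨k, hk⟩ := ha j
      exact ⟨k, by rw [← hk, ← hj, cj_cj]⟩
    · obtain ⟨j, hj⟩ := ha' i
      obtain ⟨k, hk⟩ := hb' j
      exact ⟨k, by rw [← hk, ← hj, cj_cj, mul_inv_rev]⟩
  inv_mem' := by
    rintro a ⟨ha, ha'⟩
    exact ⟨ha', by rw [inv_inv]; exact ha⟩

theorem mem_linePerm {Z : ι → Subgroup G} {x : G} :
    x ∈ linePerm Z ↔ (∀ i, ∃ j, cj x (Z i) = Z j) ∧ ∀ i, ∃ j, cj x⁻¹ (Z i) = Z j := Iff.rfl

theorem le_linePerm {Z : ι → Subgroup G} {X : Subgroup G} (h : ∀ x ∈ X, ∀ i, ∃ j, cj x (Z i) = Z j) :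
    X ≤ linePerm Z := fun x hx => ⟨h x hx, h x⁻¹ (inv_mem hx)⟩

namespace PIn

variable {S : Sylow 2 G} {D P N R : Subgroup G} {V Z : ι → Subgroup G} (h : PIn S D P N V Z)
include h

theorem wr_le_pr : wr R V ≤ ⨆ r : ↥(P ⊔ R), cj (r : G) (⨆ i, V i) :=
  wr_le fun r hr i => (cj_mono r (le_iSup V i)).trans
    (le_iSup (fun r : ↥(P ⊔ R) => cj (r : G) (⨆ i, V i)) ⟨r, (le_sup_right : R ≤ P ⊔ R) hr⟩)

theorem permR [Finite G] (hR : IsMinPar (S : Subgroup G) R) (hRD : R ≤ D) :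
    ∀ r ∈ R, ∀ i, ∃ j, cj r (Z i) = Z j := by
  by_cases hF : ∃ F : Subgroup G, F ≤ (S : Subgroup G) ∧ IsBestOffenderOn 2 (wr R V) F ∧ ¬ F ≤ o2 R
  · obtain ⟨F, hFS, hb, hK⟩ := hF
    exact h.permA hR hRD hFS hb hK
  · push Not at hF
    exact h.permB hR.le hRD h.wr_le_pr hF

/-- **THEOREM PERM+** : `D` permutes the lines `Z i`. -/
theorem permD [Finite G] : ∀ x ∈ D, ∀ i, ∃ j, cj x (Z i) = Z j := by
  have h1 : D ≤ linePerm Z := by
    refine le_of_forall h.SD (le_linePerm fun s hs i => ?_) fun R hR hRD => le_linePerm (h.permR hR hRD)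
    obtain ⟨j, -, hj⟩ := h.perm s ⟨hs.2, hs.1⟩ i
    exact ⟨j, hj⟩
  exact fun x hx => (h1 hx).1

end PIn

end Cfsg.Agent.Omega.NOThreeL.RWide
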