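import Cfsg.Agent.Omega.NOThreeL.RWide.NoL
import Cfsg.Agent.Omega.EK3.Rank

/-!
# NO-3L, box R, shape RWide: at least three types (#24089; referee #24265)

`S` a Sylow 2-subgroup, `Z = Ω₁(Z(S)) = ∏ Z_i` with at least three `Z_i ≠ 1` (the fixed points of `S` on the
`S`-orbits of blocks), `V_i` the `i`-th orbit module, `Y_j = C_G(Z_l : l ≠ j)`.

* `XS A R = ⟨A^R⟩`, `YY Z j = Y_j`;
* `Typed S Z V` : the situation: `Z_i ≤ V_i ≤ ⟨Z_i^(Y_i)⟩`, `V_i ∩ Z = Z_i`, `N_(Y_j)(S)` normalises `Z_j` and all `V_i`,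
  a parabolic `P ∈ P*(S)` in `Y_j` normalises `V_j` and its elements of odd order centralise `V_i`, `i ≠ j`, and
  `⟨Y_j : j⟩` is nonlocal;
* `TypedM S Z V` : the same with the weaker `par` (`P` normalises all `V_i`) and `V_i ∩ V_j = 1`; `TypB` : what they share;
* `LL j = ⟨N_(Y_j)(S), P ∈ P*(S), P ≤ Y_j⟩`, `Y_j = ⟨C_G(Z), LL j⟩` (`TypB.YY_le`);
* `TypB.noOn` : (NO) on `⟨Z_j^R⟩`, `S ≤ R ≤ Y_j`.
-/

set_option autoImplicit false

namespace Cfsg.Agent.Omega.NOThreeL.RWide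

open Subgroup Cfsg Cfsg.Agent.ZN Cfsg.Agent.Omega.MinPar Cfsg.Agent.Omega.Frame Cfsg.Agent.Omega.FrameNOFF
open Cfsg.Agent.Omega.Node.NO3L
open Cfsg.Agent.ZN.ChoiceBase (cj cj_mono cj_inf cj_centralizer cj_eq_of_mem_normalizer mem_cj mem_normalizer_iff_cj
  cj_cj_inv cj_inv_cj)
open Cfsg.Agent.Omega.NoFF.Basic (comm_symm comm_mono)
open Cfsg.Agent.Omega.NO3S.EThree.ExactA (eab_iff eab_mono)
open Cfsg.Agent.Omega.EK3.Rank (NoOn)
open Cfsg.Agent.Omega.NO3S.ML (card_mul_relIndex card_sup_mul_of_comm)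
open Cfsg.Agent.Omega.ML.Final (MLK)

universe u v

section defs

variable {G : Type u} [Group G] {ι : Type v}

/-- `⟨A^R⟩` -/
def XS (A R : Subgroup G) : Subgroup G := closure {x | ∃ r ∈ R, ∃ a ∈ A, x = r * a * r⁻¹}

theorem conj_mem_XS {A R : Subgroup G} {r a : G} (hr : r ∈ R) (ha : a ∈ A) : r * a * r⁻¹ ∈ XS A R :=
  subset_closure ⟨r, hr, a, ha, rfl⟩

theorem le_XS (A R : Subgroup G) : A ≤ XS A R := fun a ha => by
  have := conj_mem_XS (one_mem R) ha
  simpa using this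

theorem XS_le {A R K : Subgroup G} (h : ∀ r ∈ R, ∀ a ∈ A, r * a * r⁻¹ ∈ K) : XS A R ≤ K := by
  rw [XS, closure_le]
  rintro _ ⟨r, hr, a, ha, rfl⟩
  exact h r hr a ha

theorem XS_mono {A R R' : Subgroup G} (h : R ≤ R') : XS A R ≤ XS A R' :=
  XS_le fun _ hr _ ha => conj_mem_XS (h hr) ha

theorem XS_le_of {A R K : Subgroup G} (hA : A ≤ K) (hR : R ≤ normalizer (K : Set G)) : XS A R ≤ K :=
  XS_le fun _ hr _ ha => (mem_normalizer_iff.1 (hR hr) _).1 (hA ha)

/-- `g` normalises `⟨A^R⟩` if it normalises `A` and `R` -/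
theorem mem_normalizer_XS {A R : Subgroup G} {g : G} (hA : g ∈ normalizer (A : Set G))
    (hR : g ∈ normalizer (R : Set G)) : g ∈ normalizer (XS A R : Set G) := by
  have key : ∀ g : G, g ∈ normalizer (A : Set G) → g ∈ normalizer (R : Set G) → cj g (XS A R) ≤ XS A R := by
    intro g hA hR
    rw [cj, map_le_iff_le_comap]
    refine XS_le fun r hr a ha => ?_
    have h1 := conj_mem_XS ((mem_normalizer_iff.1 hR r).1 hr) ((mem_normalizer_iff.1 hA a).1 ha)
    have e : g * r * g⁻¹ * (g * a * g⁻¹) * (g * r * g⁻¹)⁻¹ = g * (r * a * r⁻¹) * g⁻¹ := by group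
    rw [e] at h1
    exact h1
  rw [mem_normalizer_iff_cj]
  refine le_antisymm (key g hA hR) ?_
  have h1 := cj_mono g (key g⁻¹ (inv_mem hA) (inv_mem hR))
  rwa [cj_cj_inv] at h1

theorem le_normalizer_XS (A R : Subgroup G) : R ≤ normalizer (XS A R : Set G) := by
  have key : ∀ p ∈ R, cj p (XS A R) ≤ XS A R := by
    intro p hp
    rw [cj, map_le_iff_le_comap]
    refine XS_le fun q hq a ha => ?_
    have : (p * q) * a * (p * q)⁻¹ ∈ XS A R := conj_mem_XS (mul_mem hp hq) ha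
    have e : (p * q) * a * (p * q)⁻¹ = p * (q * a * q⁻¹) * p⁻¹ := by group
    rw [e] at this
    exact this
  intro p hp
  rw [mem_normalizer_iff_cj]
  refine le_antisymm (key p hp) ?_
  have h1 := cj_mono p (key p⁻¹ (inv_mem hp))
  rwa [cj_cj_inv] at h1

/-- `Y_j = C_G(Z_l : l ≠ j)` -/
def YY (Z : ι → Subgroup G) (j : ι) : Subgroup G := centralizer {x : G | ∃ l, l ≠ j ∧ x ∈ Z l}

theorem YY_le_cent {Z : ι → Subgroup G} {j l : ι} (h : l ≠ j) : YY Z j ≤ centralizer (Z l : Set G) :=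
  centralizer_le fun _ hx => ⟨l, h, hx⟩

theorem le_YY {Z : ι → Subgroup G} {j : ι} {K : Subgroup G} (h : ∀ l, l ≠ j → K ≤ centralizer (Z l : Set G)) :
    K ≤ YY Z j := by
  intro k hk
  rw [YY, mem_centralizer_iff]
  rintro x ⟨l, hl, hx⟩
  exact mem_centralizer_iff.1 (h l hl hk) x hx

/-- `⟨N_(Y_j)(S), P ∈ P*(S), P ≤ Y_j⟩` -/
def LL (S : Subgroup G) (Z : ι → Subgroup G) (j : ι) : Subgroup G :=
  (YY Z j ⊓ normalizer (S : Set G)) ⊔ sSup {P | IsParS S P ∧ P ≤ YY Z j}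

theorem LL_le (S : Subgroup G) (Z : ι → Subgroup G) (j : ι) : LL S Z j ≤ YY Z j :=
  sup_le inf_le_left (sSup_le fun _ hP => hP.2)

/-- **At least three types.** -/
structure Typed (S : Subgroup G) (Z V : ι → Subgroup G) : Prop where
  three : ∀ i j : ι, ∃ l, l ≠ i ∧ l ≠ j
  ne : ∀ i, Z i ≠ ⊥
  le : ∀ i, Z i ≤ zc S
  sup : zc S ≤ ⨆ i, Z i
  ZV : ∀ i, Z i ≤ V i
  VX : ∀ i, V i ≤ XS (Z i) (YY Z i)
  cV : ∀ i, V i ⊓ zc S ≤ Z i
  nrm : ∀ j, ∀ n ∈ normalizer (S : Set G), n ∈ YY Z j →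
    n ∈ normalizer (Z j : Set G) ∧ ∀ i, n ∈ normalizer (V i : Set G)
  par : ∀ j P, IsParS S P → P ≤ YY Z j →
    P ≤ normalizer (V j : Set G) ∧ ∀ i, i ≠ j → ∀ g ∈ P, Odd (orderOf g) → g ∈ centralizer (V i : Set G)
  non : ∀ U : Subgroup G, IsPGroup 2 U → (∀ j, YY Z j ≤ normalizer (U : Set G)) → U = ⊥

/-- At least three types, without `odd elements of P ≤ Y_j centralise V_i`. -/
structure TypB (S : Subgroup G) (Z V : ι → Subgroup G) : Prop where
  three : ∀ i j : ι, ∃ l, l ≠ i ∧ l ≠ j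
  ne : ∀ i, Z i ≠ ⊥
  le : ∀ i, Z i ≤ zc S
  sup : zc S ≤ ⨆ i, Z i
  ZV : ∀ i, Z i ≤ V i
  VX : ∀ i, V i ≤ XS (Z i) (YY Z i)
  cV : ∀ i, V i ⊓ zc S ≤ Z i
  nrm : ∀ j, ∀ n ∈ normalizer (S : Set G), n ∈ YY Z j →
    n ∈ normalizer (Z j : Set G) ∧ ∀ i, n ∈ normalizer (V i : Set G)
  par : ∀ j P, IsParS S P → P ≤ YY Z j → P ≤ normalizer (V j : Set G)
  non : ∀ U : Subgroup G, IsPGroup 2 U → (∀ j, YY Z j ≤ normalizer (U : Set G)) → U = ⊥

/-- **At least three types, the K2's in the `Y_j` only normalise all the `V_i`** (LEMMA MOV). -/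
structure TypedM (S : Subgroup G) (Z V : ι → Subgroup G) : Prop where
  three : ∀ i j : ι, ∃ l, l ≠ i ∧ l ≠ j
  ne : ∀ i, Z i ≠ ⊥
  le : ∀ i, Z i ≤ zc S
  sup : zc S ≤ ⨆ i, Z i
  ZV : ∀ i, Z i ≤ V i
  VX : ∀ i, V i ≤ XS (Z i) (YY Z i)
  cV : ∀ i, V i ⊓ zc S ≤ Z i
  dis : ∀ i j, i ≠ j → V i ⊓ V j = ⊥
  nrm : ∀ j, ∀ n ∈ normalizer (S : Set G), n ∈ YY Z j →
    n ∈ normalizer (Z j : Set G) ∧ ∀ i, n ∈ normalizer (V i : Set G)
  par : ∀ j P, IsParS S P → P ≤ YY Z j → ∀ i, P ≤ normalizer (V i : Set G)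
  non : ∀ U : Subgroup G, IsPGroup 2 U → (∀ j, YY Z j ≤ normalizer (U : Set G)) → U = ⊥

theorem Typed.typB {S : Subgroup G} {Z V : ι → Subgroup G} (T : Typed S Z V) : TypB S Z V :=
  ⟨T.three, T.ne, T.le, T.sup, T.ZV, T.VX, T.cV, T.nrm, fun j P h1 h2 => (T.par j P h1 h2).1, T.non⟩

theorem TypedM.typB {S : Subgroup G} {Z V : ι → Subgroup G} (T : TypedM S Z V) : TypB S Z V :=
  ⟨T.three, T.ne, T.le, T.sup, T.ZV, T.VX, T.cV, T.nrm, fun j P h1 h2 => T.par j P h1 h2 j, T.non⟩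

end defs

namespace TypB

variable {G : Type u} [Group G] [Finite G] {S : Sylow 2 G} {ι : Type v} {Z V : ι → Subgroup G}
  (T : TypB (S : Subgroup G) Z V)
include T

omit [Finite G] in
theorem CZ_le (j : ι) : CZ (S : Subgroup G) ≤ YY Z j := le_YY fun l _ => centralizer_le (T.le l)

omit [Finite G] in
/-- centralising all `Z i` -/
theorem le_CZ_of {K : Subgroup G} (h : ∀ l, K ≤ centralizer (Z l : Set G)) : K ≤ CZ (S : Subgroup G) :=
  comm_symm (T.sup.trans (iSup_le fun l => comm_symm (h l)))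

omit [Finite G] in
theorem ZC (i : ι) : (S : Subgroup G) ≤ centralizer (Z i : Set G) := (le_CZ S).trans (centralizer_le (T.le i))

omit [Finite G] in
theorem S_le (j : ι) : (S : Subgroup G) ≤ YY Z j := (le_CZ S).trans (T.CZ_le j)

omit [Finite G] in
/-- `S` normalises `V i` -/
theorem SV (i : ι) : (S : Subgroup G) ≤ normalizer (V i : Set G) := fun _ hs =>
  (T.nrm i _ (le_normalizer hs) (T.S_le i hs)).2 i

omit [Finite G] in
theorem Zp (i : ι) : IsPGroup 2 (Z i) := S.isPGroup'.to_le ((T.le i).trans (ZN.zc_le _))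

omit [Finite G] in
theorem isLoc_of {l : ι} {K : Subgroup G} (hS : (S : Subgroup G) ≤ K) (h : K ≤ centralizer (Z l : Set G)) :
    IsLoc (S : Subgroup G) K :=
  isLoc_of_le_normalizer S hS (T.Zp l) (T.ne l) (h.trans (centralizer_le_normalizer _))

omit [Finite G] in
theorem locY (j : ι) : IsLoc (S : Subgroup G) (YY Z j) := by
  obtain ⟨l, hl, -⟩ := T.three j j
  exact T.isLoc_of (T.S_le j) (YY_le_cent hl)

omit [Finite G] in
theorem longY (j : ι) : IsLong (S : Subgroup G) (YY Z j) := ⟨T.locY j, T.CZ_le j⟩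

theorem exists_index (hS : (S : Subgroup G) ≠ ⊥) : Nonempty ι := by
  by_contra hcon
  rw [not_nonempty_iff] at hcon
  have h1 := T.sup
  rw [iSup_of_empty, le_bot_iff] at h1
  exact MinSimple.Basic.zc_ne_bot S.isPGroup' hS h1

/-- `Y_j = ⟨C_G(Z), LL j⟩` -/
theorem YY_le (j : ι) : YY Z j ≤ CZ (S : Subgroup G) ⊔ LL (S : Subgroup G) Z j := by
  refine (T.locY j).le_of_forall S ?_ fun P hP hPY => ?_
  · exact (le_sup_left : _ ≤ LL (S : Subgroup G) Z j).trans le_sup_right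
  · by_cases h : IsParS (S : Subgroup G) P
    · exact (le_sSup (show P ∈ {P | IsParS (S : Subgroup G) P ∧ P ≤ YY Z j} from ⟨h, hPY⟩)).trans
        ((le_sup_right : _ ≤ LL (S : Subgroup G) Z j).trans le_sup_right)
    · exact (par_le_CZ S hP h).trans le_sup_left

omit [Finite G] in
theorem LL_norm_V (j : ι) : LL (S : Subgroup G) Z j ≤ normalizer (V j : Set G) := by
  refine sup_le (fun n hn => (T.nrm j n hn.2 hn.1).2 j) (sSup_le fun P hP => T.par j P hP.1 hP.2)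

omit [Finite G] in
/-- `K ≤ Y_j` normalises `⟨Z_j^K⟩ Z` -/
theorem norm_sup {j : ι} {K : Subgroup G} (hK : K ≤ YY Z j) :
    K ≤ normalizer ((XS (Z j) K ⊔ zc (S : Subgroup G) : Subgroup G) : Set G) := by
  have key : ∀ k ∈ K, cj k (XS (Z j) K ⊔ zc (S : Subgroup G)) ≤ XS (Z j) K ⊔ zc (S : Subgroup G) := by
    intro k hk
    have e : cj k (XS (Z j) K ⊔ zc (S : Subgroup G)) = cj k (XS (Z j) K) ⊔ cj k (zc (S : Subgroup G)) :=
      Subgroup.map_sup _ _ _
    rw [e]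
    refine sup_le ((cj_eq_of_mem_normalizer (le_normalizer_XS _ _ hk)).le.trans le_sup_left) ?_
    rw [cj, map_le_iff_le_comap]
    refine T.sup.trans (iSup_le fun l z hz => ?_)
    rw [mem_comap]
    change k * z * k⁻¹ ∈ _
    by_cases hl : l = j
    · subst hl
      exact mem_sup_left (conj_mem_XS hk hz)
    · have h1 : z * k = k * z := mem_centralizer_iff.1 (YY_le_cent hl (hK hk)) z hz
      rw [← h1, mul_inv_cancel_right]
      exact mem_sup_right (T.le l hz)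
  intro k hk
  rw [mem_normalizer_iff_cj]
  refine le_antisymm (key k hk) ?_
  have h1 := cj_mono k (key k⁻¹ (inv_mem hk))
  rwa [cj_cj_inv] at h1

omit [Finite G] in
/-- `⟨Z^(K S)⟩ ≤ ⟨Z_j^K⟩ Z` -/
theorem zl_le_sup {j : ι} {K : Subgroup G} (hK : K ≤ YY Z j) (hS : (S : Subgroup G) ≤ normalizer (K : Set G)) :
    zl (S : Subgroup G) (K ⊔ (S : Subgroup G)) ≤ XS (Z j) K ⊔ zc (S : Subgroup G) := by
  refine zl_le le_sup_right (sup_le (T.norm_sup hK) ?_)
  intro s hs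
  have h1 : s ∈ normalizer (XS (Z j) K : Set G) :=
    mem_normalizer_XS (centralizer_le_normalizer _ (T.ZC j hs)) (hS hs)
  have h2 : s ∈ normalizer (zc (S : Subgroup G) : Set G) := centralizer_le_normalizer _ (le_CZ S hs)
  rw [mem_normalizer_iff_cj]
  have e : cj s (XS (Z j) K ⊔ zc (S : Subgroup G)) = cj s (XS (Z j) K) ⊔ cj s (zc (S : Subgroup G)) :=
    Subgroup.map_sup _ _ _
  rw [e, cj_eq_of_mem_normalizer h1, cj_eq_of_mem_normalizer h2]

omit [Finite G] in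
theorem XS_le_zl {j : ι} {K R : Subgroup G} (hK : K ≤ R) : XS (Z j) K ≤ zl (S : Subgroup G) R :=
  XS_le_of ((T.le j).trans zc_le_zl) (hK.trans (le_normalizer_zl _ _))

omit T in
/-- `U = X C_U(A)` -/
theorem relIndex_le_of_sup {U X A : Subgroup G} (hU : U ≤ centralizer (U : Set G)) (hXU : X ≤ U)
    (h : U ≤ X ⊔ (U ⊓ centralizer (A : Set G))) :
    (centralizer (A : Set G)).relIndex U ≤ (centralizer (A : Set G)).relIndex X := by
  set K := U ⊓ centralizer (A : Set G) with hK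
  have e0 : X ⊔ K = U := le_antisymm (sup_le hXU inf_le_left) h
  have h1 : Nat.card (X ⊔ K : Subgroup G) * Nat.card (X ⊓ K : Subgroup G) = Nat.card X * Nat.card K :=
    card_sup_mul_of_comm fun a ha b hb => (mem_centralizer_iff.1 (hU (hXU ha)) b hb.1).symm
  have e1 : X ⊓ K = X ⊓ centralizer (A : Set G) := by
    rw [hK, ← inf_assoc, inf_eq_left.2 hXU]
  rw [e0, e1] at h1
  have h2 : Nat.card K * (centralizer (A : Set G)).relIndex U = Nat.card U := by
    rw [hK, ← Subgroup.inf_relIndex_left]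
    exact card_mul_relIndex inf_le_left
  have h3 : Nat.card (X ⊓ centralizer (A : Set G) : Subgroup G) * (centralizer (A : Set G)).relIndex X =
      Nat.card X := by
    rw [← Subgroup.inf_relIndex_left]
    exact card_mul_relIndex inf_le_left
  have pK : 0 < Nat.card K := Nat.card_pos
  have pX : 0 < Nat.card (X ⊓ centralizer (A : Set G) : Subgroup G) := Nat.card_pos
  rw [← h2, ← h3] at h1
  have h4 : Nat.card K * Nat.card (X ⊓ centralizer (A : Set G) : Subgroup G) * (centralizer (A : Set G)).relIndex U =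
      Nat.card K * Nat.card (X ⊓ centralizer (A : Set G) : Subgroup G) * (centralizer (A : Set G)).relIndex X := by
    calc _ = Nat.card K * (centralizer (A : Set G)).relIndex U *
          Nat.card (X ⊓ centralizer (A : Set G) : Subgroup G) := by ring
      _ = _ := by rw [h1]; ring
  exact (Nat.eq_of_mul_eq_mul_left (Nat.mul_pos pK pX) h4).le

/-- **(NO)** on `⟨Z_j^K⟩` -/
theorem noOn (hc : IsCharacteristicTwoType G) (ml : MLK.{u, u})
    (kg : ∀ R : Subgroup G, IsLoc (S : Subgroup G) R → IsKGroup R) (hS : (S : Subgroup G) ≠ ⊥)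
    {j : ι} {K : Subgroup G} (hK : K ≤ YY Z j) (hSK : (S : Subgroup G) ≤ normalizer (K : Set G)) :
    NoOn (o2 (CZ (S : Subgroup G))) (XS (Z j) K) := by
  intro A hA hAO
  obtain ⟨l, hl, -⟩ := T.three j j
  have hR : IsLoc (S : Subgroup G) (K ⊔ (S : Subgroup G)) :=
    T.isLoc_of le_sup_right ((sup_le hK (T.S_le j)).trans (YY_le_cent hl))
  have hU := eab_iff.1 (FFThm.elem_zl hc S hR)
  have h1 := noFlag hc ml kg hS hR hAO hA.2
  unfold Sigma.NOv at h1
  have hXU : XS (Z j) K ≤ zl (S : Subgroup G) (K ⊔ (S : Subgroup G)) := T.XS_le_zl le_sup_left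
  refine (Sigma.relIndex_le_left (centralizer_le hXU)).trans (h1.trans (relIndex_le_of_sup hU.1 hXU ?_))
  refine (T.zl_le_sup hK hSK).trans (sup_le_sup_left (le_inf zc_le_zl ?_) _)
  exact comm_symm (hAO.trans (o2_le _))

end TypB

end Cfsg.Agent.Omega.NOThreeL.RWide
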