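import Cfsg.Agent.Omega.NOThreeL.RWide.PermBIn

/-!
# `N_C(B) ≤ N(V)` and `Ω₁Z(B) = Z_J` (helper893, #24327 (1), (2); helper230, #24393 (P); fields I2, I4 of 655's `TFm`)

`V = ⨆ N b` natural blocks with lines `l b`, `Q = C_S(V)`, `B = C_S(⨆ l)`, `L b` a group acting on `N b` (as `SL₂(q b)`),
trivial on the other blocks, normalising `Q`; `C = C_G(Z)` normalises `⨆ l` and `O = O₂(C)`, `AA(O)` moves every block;
`K b ≤ O` is normalised by `C` and `L b` and contains `V`.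

* **`NBf.cent_Q`** : `[V^x, Q] = 1` for `x ∈ N_C(B)`;
* **`NBf.eq_V`** : `V ≤ V⁺ ≤ Z(Q)`, `S ≤ N(V⁺)`, `V⁺^m ≤ O` (`m ∈ L b`) imply `V⁺ = V`;
* **`NBf.le_normV`** : `C ⊓ N(B) ≤ N(V)`;  **`NBf.zcB`** : `Ω₁Z(B) ≤ ⨆ l`.
-/

set_option autoImplicit false
set_option linter.unusedSectionVars false

namespace Cfsg.Agent.Omega.NOThreeL.RWide.NormB

open Subgroup Cfsg Cfsg.Agent.ZN Cfsg.Agent.ZN.ChoiceBase Cfsg.Agent.Omega.FFThm Cfsg.Agent.Omega.NO1.BestOff
open Cfsg.Agent.MinSimple.MinParabolic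
open Cfsg.Agent.Omega.OmThm.SideBase (card_sup_comm)

universe u v

variable {G : Type u} [Group G]

/-- the frame -/
structure NBf (S C O Q B : Subgroup G) {ι : Type v} (N l L K : ι → Subgroup G) : Prop where
  two : IsPGroup 2 S
  OS : O ≤ S
  SC : S ≤ C
  nO : C ≤ normalizer (O : Set G)
  sq : ∀ b, ∀ v ∈ N b, v * v = 1
  com : ∀ a b, ∀ v ∈ N a, ∀ w ∈ N b, v * w = w * v
  ind : iSupIndep N
  lN : ∀ b, l b ≤ N b
  card : ∀ b, Nat.card (N b) = Nat.card (l b) ^ 2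
  Qdef : Q = S ⊓ centralizer ((⨆ b, N b : Subgroup G) : Set G)
  Bdef : B = S ⊓ centralizer ((⨆ b, l b : Subgroup G) : Set G)
  rt : ∀ b, Rt B (N b) (l b)
  perm : ∀ s ∈ S, ∀ b, ∃ c, cj s (N b) = N c ∧ cj s (l b) = l c ∧ cj s (L b) = L c
  LQ : ∀ b, L b ≤ normalizer (Q : Set G)
  LN : ∀ b, L b ≤ normalizer (N b : Set G)
  LC : ∀ a b, a ≠ b → L b ≤ centralizer (N a : Set G)
  KO : ∀ b, K b ≤ O
  LK : ∀ b, L b ≤ normalizer (K b : Set G)
  CK : ∀ b, C ≤ normalizer (K b : Set G)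
  NK : ∀ a b, N a ≤ K b
  /-- `Q` is Sylow in `C(V)` -/
  syl : ∀ g ∈ normalizer (Q : Set G), g ∈ centralizer ((⨆ b, N b : Subgroup G) : Set G) → (∃ n, g ^ 2 ^ n = 1) → g ∈ Q
  /-- pure members of `AA(O)` and the generation of `SL₂` by two root groups -/
  gen : ∀ b, ∃ A ∈ AA O, (∀ a, a ≠ b → A ≤ centralizer (N a : Set G)) ∧ A ≤ B ∧ ¬ A ≤ centralizer (N b : Set G) ∧
    ∃ g ∈ L b, cj g (l b) ⊓ l b = ⊥ ∧ ∀ x ∈ L b, ∀ β ∈ B, ∃ h ∈ A ⊔ cj g A, ∀ v ∈ N b,
      x * β * x⁻¹ * v * (x * β * x⁻¹)⁻¹ = h * v * h⁻¹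
  noff : ∀ x ∈ C, ∀ a b, ∀ v ∈ N a, ∀ w ∈ cj x (N b), v * w = w * v
  J : C ≤ normalizer ((⨆ b, l b : Subgroup G) : Set G)
  Z : zc S ≤ ⨆ b, N b

section tools

theorem cj_iSup {κ : Type*} (g : G) (X : κ → Subgroup G) : cj g (⨆ i, X i) = ⨆ i, cj g (X i) := Subgroup.map_iSup _ _

theorem mem_cent_iff {X : Subgroup G} {g : G} : g ∈ centralizer (X : Set G) ↔ ∀ x ∈ X, g * x = x * g :=
  ⟨fun h x hx => (mem_centralizer_iff.1 h x hx).symm, fun h => mem_centralizer_iff.2 fun x hx => (h x hx).symm⟩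

theorem mem_cent_iSup {κ : Type*} {X : κ → Subgroup G} {g : G} :
    g ∈ centralizer ((⨆ i, X i : Subgroup G) : Set G) ↔ ∀ i, ∀ x ∈ X i, g * x = x * g := by
  constructor
  · intro h i x hx
    exact mem_cent_iff.1 h x ((le_iSup X i) hx)
  · intro h
    have h1 : (⨆ i, X i) ≤ centralizer ({g} : Set G) := iSup_le fun i x hx =>
      mem_centralizer_singleton_iff.2 (h i x hx).symm
    exact mem_cent_iff.2 fun x hx => (mem_centralizer_singleton_iff.1 (h1 hx)).symm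

/-- generation of an abelian group: commuting generators -/
theorem comm_iSup {κ : Type*} {X : κ → Subgroup G} (h : ∀ i j, ∀ x ∈ X i, ∀ y ∈ X j, x * y = y * x) :
    ∀ x ∈ ⨆ i, X i, ∀ y ∈ ⨆ i, X i, x * y = y * x := by
  intro x hx y hy
  have h1 : ∀ j, ∀ y ∈ X j, y ∈ centralizer ((⨆ i, X i : Subgroup G) : Set G) := fun j y hy =>
    mem_cent_iSup.2 fun i x hx => h j i y hy x hx
  have h2 : (⨆ i, X i) ≤ centralizer ((⨆ i, X i : Subgroup G) : Set G) := iSup_le fun j y hy => h1 j y hy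
  exact mem_cent_iff.1 (h2 hx) y hy

theorem sq_iSup {κ : Type*} {X : κ → Subgroup G} (h : ∀ i j, ∀ x ∈ X i, ∀ y ∈ X j, x * y = y * x)
    (hs : ∀ i, ∀ x ∈ X i, x * x = 1) : ∀ x ∈ ⨆ i, X i, x * x = 1 := by
  intro x hx
  have hc := comm_iSup h
  have key : ∀ x ∈ ⨆ i, X i, x ∈ ⨆ i, X i ∧ x * x = 1 := by
    intro x hx
    induction hx using Subgroup.iSup_induction' with
    | hp i x hx => exact ⟨(le_iSup X i) hx, hs i x hx⟩
    | h1 => exact ⟨one_mem _, one_mul 1⟩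
    | hmul x y hx hy ihx ihy =>
      refine ⟨mul_mem ihx.1 ihy.1, ?_⟩
      calc x * y * (x * y) = x * (y * x) * y := by group
        _ = x * (x * y) * y := by rw [hc y hy x hx]
        _ = (x * x) * (y * y) := by group
        _ = 1 := by rw [ihx.2, ihy.2, one_mul]
  exact (key x hx).2

end tools

section one

variable [Finite G] {S C O Q B : Subgroup G} {ι : Type v} {N l L K : ι → Subgroup G}

namespace NBf

theorem NO (h : NBf S C O Q B N l L K) (b : ι) : N b ≤ O := (h.NK b b).trans (h.KO b)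

theorem OC (h : NBf S C O Q B N l L K) : O ≤ C := h.OS.trans h.SC

theorem QB (h : NBf S C O Q B N l L K) : Q ≤ B := by
  rw [h.Qdef, h.Bdef]
  exact inf_le_inf_left _ (centralizer_le (iSup_mono h.lN))

theorem QS (h : NBf S C O Q B N l L K) : Q ≤ S := by
  rw [h.Qdef]; exact inf_le_left

theorem BS (h : NBf S C O Q B N l L K) : B ≤ S := by
  rw [h.Bdef]; exact inf_le_left

theorem memQ (h : NBf S C O Q B N l L K) {g : G} : g ∈ Q ↔ g ∈ S ∧ ∀ b, ∀ v ∈ N b, g * v = v * g := by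
  rw [h.Qdef, mem_inf, mem_cent_iSup]

theorem VV (h : NBf S C O Q B N l L K) : ∀ v ∈ ⨆ b, N b, ∀ w ∈ ⨆ b, N b, v * w = w * v := comm_iSup h.com

theorem Vsq (h : NBf S C O Q B N l L K) : ∀ v ∈ ⨆ b, N b, v * v = 1 := sq_iSup h.com h.sq

theorem VO (h : NBf S C O Q B N l L K) : (⨆ b, N b) ≤ O := iSup_le h.NO

theorem VQ (h : NBf S C O Q B N l L K) : (⨆ b, N b) ≤ Q := by
  rw [h.Qdef]
  exact le_inf (h.VO.trans h.OS) fun v hv => mem_cent_iff.2 (h.VV v hv)

theorem SQ (h : NBf S C O Q B N l L K) : S ≤ normalizer (Q : Set G) := by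
  intro s hs
  refine mem_normalizer_of_cj_le ?_
  intro x hx
  have h1 := mem_cj.1 hx
  obtain ⟨h2, h3⟩ := h.memQ.1 h1
  refine h.memQ.2 ⟨?_, fun b v hv => ?_⟩
  · have := mul_mem (mul_mem hs h2) (inv_mem hs)
    have e : s * (s⁻¹ * x * s) * s⁻¹ = x := by group
    rwa [e] at this
  · obtain ⟨c, hc, -⟩ := h.perm s⁻¹ (inv_mem hs) b
    have h4 : s⁻¹ * v * s ∈ N c := by
      rw [← hc, mem_cj, inv_inv]
      have e : s * (s⁻¹ * v * s) * s⁻¹ = v := by group
      rwa [e]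
    have h5 := h3 c _ h4
    calc x * v = s * ((s⁻¹ * x * s) * (s⁻¹ * v * s)) * s⁻¹ := by group
      _ = s * ((s⁻¹ * v * s) * (s⁻¹ * x * s)) * s⁻¹ := by rw [h5]
      _ = v * x := by group

theorem permS_l (h : NBf S C O Q B N l L K) : S ≤ normalizer ((⨆ b, l b : Subgroup G) : Set G) := h.SC.trans h.J

theorem SB (h : NBf S C O Q B N l L K) : S ≤ normalizer (B : Set G) := by
  intro s hs
  refine mem_normalizer_of_cj_le ?_
  rw [h.Bdef, cj_inf]
  refine inf_le_inf ?_ ?_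
  · rw [cj_eq_of_mem_normalizer (le_normalizer hs)]
  · rw [RWide.cj_centralizer, cj_eq_of_mem_normalizer (h.permS_l hs)]

end NBf

/-- the data of step (1): a conjugate block `W = cj x (N c)`, line `ζ = cj x (l c)`, `x ∈ N_C(B)` -/
structure Cx (S C O Q B : Subgroup G) (N l L K : ι → Subgroup G) (W ζ : Subgroup G) : Prop where
  WS : W ≤ S
  rt : Rt B W ζ
  ab : ∀ v ∈ W, ∀ w ∈ W, v * w = w * v
  sq : ∀ v ∈ W, v * v = 1
  cV : ∀ v ∈ W, ∀ w ∈ ⨆ b, N b, v * w = w * v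
  WK : ∀ b, W ≤ K b
  zW : ζ ≤ W
  zl : ζ ≤ ⨆ b, l b
  card : Nat.card W = Nat.card ζ ^ 2

theorem Cx.of (h : NBf S C O Q B N l L K) {x : G} (hx : x ∈ C) (hxB : x ∈ normalizer (B : Set G)) (c : ι) :
    Cx S C O Q B N l L K (cj x (N c)) (cj x (l c)) where
  WS := by
    have h1 : cj x (N c) ≤ O := (cj_mono x (h.NO c)).trans (cj_eq_of_mem_normalizer (h.nO hx)).le
    exact h1.trans h.OS
  rt := (h.rt c).conj hxB
  ab := by
    intro v hv w hw
    have h1 := h.com c c _ (mem_cj.1 hv) _ (mem_cj.1 hw)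
    calc v * w = x * (x⁻¹ * v * x * (x⁻¹ * w * x)) * x⁻¹ := by group
      _ = x * (x⁻¹ * w * x * (x⁻¹ * v * x)) * x⁻¹ := by rw [h1]
      _ = w * v := by group
  sq := by
    intro v hv
    have h1 := h.sq c _ (mem_cj.1 hv)
    calc v * v = x * (x⁻¹ * v * x * (x⁻¹ * v * x)) * x⁻¹ := by group
      _ = 1 := by rw [h1]; group
  cV := by
    intro v hv w hw
    have h1 : w ∈ centralizer ({v} : Set G) := by
      have h2 : (⨆ b, N b) ≤ centralizer ({v} : Set G) := iSup_le fun b u hu =>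
        mem_centralizer_singleton_iff.2 (h.noff x hx b c u hu v hv)
      exact h2 hw
    exact (mem_centralizer_singleton_iff.1 h1).symm
  WK b := (cj_mono x (h.NK c b)).trans (cj_eq_of_mem_normalizer (h.CK b hx)).le
  zW := cj_mono x (h.lN c)
  zl := by
    have h1 : cj x (l c) ≤ cj x (⨆ b, l b) := cj_mono x (le_iSup l c)
    rwa [cj_eq_of_mem_normalizer (h.J hx)] at h1
  card := by rw [card_cj, card_cj, h.card]

namespace NBf

/-- **(H)** `a ∈ A` with `ζ^g` `a`-invariant centralises `N b` -/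
theorem hash (h : NBf S C O Q B N l L K) [Finite ι] {W ζ : Subgroup G} (hW : Cx S C O Q B N l L K W ζ) {b : ι}
    {A : Subgroup G} (hAB : A ≤ B) (hAN : ∀ a, a ≠ b → A ≤ centralizer (N a : Set G)) {g : G} (hg : g ∈ L b)
    (hgl : cj g (l b) ⊓ l b = ⊥) {e : G → ι → G} (he : Co N e) {z : G} (hz : z ∈ ζ) (hzb : e z b ≠ 1)
    {a : G} (ha : a ∈ A) (hi : ∀ w ∈ cj g ζ, a * w * a⁻¹ ∈ cj g ζ) : ∀ v ∈ N b, a * v = v * a := by
  have hlN : ∀ {w}, w ∈ ⨆ b, l b → w ∈ ⨆ b, N b ∧ ∀ c, e w c ∈ l c := fun hw => he.mem_of_sup h.lN hw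
  have hgN : ∀ i, ∀ v ∈ N i, g * v * g⁻¹ ∈ N i := by
    intro i v hv
    by_cases hib : i = b
    · subst hib
      exact (mem_normalizer_iff.1 (h.LN _ hg) v).1 hv
    · have h1 := mem_cent_iff.1 (h.LC i b hib hg) v hv
      rw [h1, mul_inv_cancel_right]; exact hv
  have haN : ∀ i, ∀ v ∈ N i, a * v * a⁻¹ ∈ N i := by
    intro i v hv
    have h1 := (h.rt i).com a (hAB ha) v hv
    have h2 := mul_mem (h.lN i h1) hv
    rwa [inv_mul_cancel_right] at h2
  -- components of `cj g ζ`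
  have hcomp : ∀ w ∈ cj g ζ, w ∈ ⨆ b, N b ∧ e w b ∈ cj g (l b) ∧ ∀ c, e w c = g * e (g⁻¹ * w * g) c * g⁻¹ := by
    intro w hw
    obtain ⟨h1, h2⟩ := hlN (hW.zl (mem_cj.1 hw))
    have h3 := he.conj hgN h1
    have e1 : g * (g⁻¹ * w * g) * g⁻¹ = w := by group
    rw [e1] at h3
    refine ⟨h3.1, ?_, h3.2⟩
    rw [h3.2 b, mem_cj]
    have e2 : g⁻¹ * (g * e (g⁻¹ * w * g) b * g⁻¹) * g = e (g⁻¹ * w * g) b := by group
    rw [e2]
    exact h2 b
  set u : G := g * z * g⁻¹ with hu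
  have huW : u ∈ cj g ζ := conj_mem_cj hz
  obtain ⟨u1, u2, u3⟩ := hcomp u huW
  have hub : e u b = g * e z b * g⁻¹ := by
    rw [u3 b]
    have e1 : g⁻¹ * u * g = z := by rw [hu]; group
    rw [e1]
  -- the commutator `[a,u]` lies in `ζ^g ∩ l b = 1`
  have hcu : a * u * a⁻¹ * u⁻¹ ∈ cj g ζ := mul_mem (hi u huW) (inv_mem huW)
  obtain ⟨k1, k2, -⟩ := hcomp _ hcu
  have k3 := he.e_comm haN u1 b
  have k4 : e (a * u * a⁻¹ * u⁻¹) b ∈ l b := by
    rw [k3.2]
    exact (h.rt b).com a (hAB ha) _ (he.mem u u1 b)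
  have k5 : e (a * u * a⁻¹ * u⁻¹) b = 1 := by
    have : e (a * u * a⁻¹ * u⁻¹) b ∈ cj g (l b) ⊓ l b := ⟨k2, k4⟩
    rw [hgl] at this
    exact mem_bot.1 this
  have k6 : a * e u b = e u b * a := by
    rw [k3.2] at k5
    exact mul_inv_eq_iff_eq_mul.1 (by
      have := mul_eq_one_iff_eq_inv.1 k5
      rw [inv_inv] at this
      exact this)
  by_contra hne
  push Not at hne
  have k7 := (h.rt b).fix a (hAB ha) hne (e u b) (he.mem u u1 b) k6
  have k8 : e u b ∈ cj g (l b) ⊓ l b := ⟨u2, k7⟩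
  rw [hgl, mem_bot, hub] at k8
  apply hzb
  calc e z b = g⁻¹ * (g * e z b * g⁻¹) * g := by group
    _ = 1 := by rw [k8]; group


/-- `|N| |C| ≤ |X| |N ∩ C|`-type counting: `|X| ≤ k |D|`, `|W| = k²`, `|W ∩ D| ≤ k` ⟹ `X = W D` -/
theorem sup_eq_of_card {X W D : Subgroup G} {k : ℕ} (hk : 0 < k) (hWX : W ≤ X) (hDX : D ≤ X)
    (hc : ∀ w ∈ W, ∀ d ∈ D, w * d = d * w) (hW : Nat.card W = k ^ 2) (hi : Nat.card ↥(W ⊓ D) ≤ k)
    (hX : Nat.card X ≤ k * Nat.card D) : W ⊔ D = X := by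
  have h1 := card_sup_comm hc
  have h2 : k ^ 2 * Nat.card D ≤ Nat.card ↥(W ⊔ D) * k := by
    rw [← hW, ← h1]
    exact Nat.mul_le_mul_left _ hi
  have h3 : k * Nat.card D ≤ Nat.card ↥(W ⊔ D) := by
    refine Nat.le_of_mul_le_mul_right ?_ hk
    calc k * Nat.card D * k = k ^ 2 * Nat.card D := by ring
      _ ≤ _ := h2
  exact eq_of_le_of_card_ge (sup_le hWX hDX) (hX.trans h3)

/-- **(1)** `[V^x, Q] = 1` -/
theorem cent_Q (h : NBf S C O Q B N l L K) [Finite ι] {W ζ : Subgroup G} (hW : Cx S C O Q B N l L K W ζ)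
    (hζ : ζ ≠ ⊥) : ∀ m ∈ Q, ∀ w ∈ W, m * w = w * m := by
  classical
  by_contra hne
  push Not at hne
  obtain ⟨m₀, hm₀, w₀, hw₀, hmw⟩ := hne
  obtain ⟨e, he⟩ := exists_co h.com h.ind
  -- a block `b` with `e z b ≠ 1`
  obtain ⟨z, hz, hz1⟩ : ∃ z ∈ ζ, z ≠ 1 := by
    by_contra hc
    push Not at hc
    exact hζ (eq_bot_iff.2 fun z hz => mem_bot.2 (hc z hz))
  obtain ⟨b, hzb⟩ : ∃ b, e z b ≠ 1 := by
    by_contra hc
    push Not at hc
    exact hz1 (he.ext z (he.mem_of_sup h.lN (hW.zl hz)).1 hc)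
  obtain ⟨A, hA, hAN, hAB, hAb, g, hg, hgl, -⟩ := h.gen b
  have hAc : ∀ a ∈ A, ∀ b ∈ A, a * b = b * a := fun a ha b hb =>
    congrArg Subtype.val (hA.1.1.1.1 (⟨a, ha⟩ : A) (⟨b, hb⟩ : A))
  have hAO : A ≤ O := hA.2.1
  have hAQ : ∀ a ∈ A, a ∈ normalizer (Q : Set G) := fun a ha => h.SQ (h.OS (hAO ha))
  have hgQ : g ∈ normalizer (Q : Set G) := h.LQ b hg
  -- `Rt` for the conjugates of `W`
  have rtt : ∀ t ∈ normalizer (Q : Set G), Rt Q (cj t W) (cj t ζ) := fun t ht => (hW.rt.mono h.QB).conj ht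
  have hWQ : W ≤ Q := fun w hw => h.memQ.2 ⟨hW.WS hw, fun b v hv => hW.cV w hw v ((le_iSup N b) hv)⟩
  have hWt : ∀ t ∈ normalizer (Q : Set G), cj t W ≤ Q := fun t ht =>
    (cj_mono t hWQ).trans (cj_eq_of_mem_normalizer ht).le
  set Wg := cj g W with hWg
  set zg := cj g ζ with hzg
  have hgW : Wg ≤ Q := hWt g hgQ
  have hzW : zg ≤ Wg := cj_mono g hW.zW
  have rg : Rt Q Wg zg := rtt g hgQ
  have ra : ∀ a ∈ A, Rt Q (cj a Wg) (cj a zg) := by
    intro a ha
    rw [hWg, hzg, cj_cj, cj_cj]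
    exact rtt _ (mul_mem (hAQ a ha) hgQ)
  have haW : ∀ a ∈ A, cj a Wg ≤ Q := by
    intro a ha
    rw [hWg, cj_cj]
    exact hWt _ (mul_mem (hAQ a ha) hgQ)
  have hWab : ∀ v ∈ Wg, ∀ w ∈ Wg, v * w = w * v := by
    intro v hv w hw
    have h1 := hW.ab _ (mem_cj.1 hv) _ (mem_cj.1 hw)
    calc v * w = g * (g⁻¹ * v * g * (g⁻¹ * w * g)) * g⁻¹ := by group
      _ = g * (g⁻¹ * w * g * (g⁻¹ * v * g)) * g⁻¹ := by rw [h1]
      _ = w * v := by group
  have hWsq : ∀ v ∈ Wg, v * v = 1 := by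
    intro v hv
    have h1 := hW.sq _ (mem_cj.1 hv)
    calc v * v = g * (g⁻¹ * v * g * (g⁻¹ * v * g)) * g⁻¹ := by group
      _ = 1 := by rw [h1]; group
  have hWO : Wg ≤ O := ((cj_mono g (hW.WK b)).trans (cj_eq_of_mem_normalizer (h.LK b hg)).le).trans (h.KO b)
  have haO : ∀ a ∈ A, cj a Wg ≤ O := fun a ha =>
    (cj_mono a hWO).trans (cj_eq_of_mem_normalizer (le_normalizer (hAO ha))).le
  have hQV : ∀ m ∈ Q, ∀ v ∈ ⨆ b, N b, m * v = v * m := fun m hm v hv => by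
    have h1 := (h.memQ.1 hm).2
    exact mem_cent_iff.1 (mem_cent_iSup.2 h1) v hv
  -- (H')
  have key1 : ∀ a ∈ A, zg ≤ cj a zg → ∀ v ∈ N b, a * v = v * a := by
    intro a ha hle
    have h1 : cj a zg = zg := (eq_of_le_of_card_ge hle (card_cj a zg).le).symm
    refine h.hash hW hAB hAN hg hgl he hz hzb ha fun w hw => ?_
    have h2 : a * w * a⁻¹ ∈ cj a zg := conj_mem_cj hw
    rwa [h1] at h2
  have key2 : ∀ a ∈ A, cj a zg ≤ zg → ∀ v ∈ N b, a * v = v * a := fun a ha hle =>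
    key1 a ha (eq_of_le_of_card_ge hle (card_cj a zg).ge).ge
  have key3 : ¬ ∀ a ∈ A, ∀ v ∈ N b, a * v = v * a := fun hc => hAb fun a ha => mem_cent_iff.2 (hc a ha)
  -- (a)
  have comA : ∀ a ∈ A, ∀ m ∈ cj a Wg, ∀ w ∈ Wg, m * w = w * m := by
    intro a ha
    by_contra hc
    push Not at hc
    obtain ⟨m, hm, w, hw, hmw'⟩ := hc
    have h1 : zg ≤ cj a zg := by
      intro z' hz'
      obtain ⟨w', hw', e1⟩ := rg.full m (haW a ha hm) ⟨w, hw, hmw'⟩ z' hz'
      have h2 := inv_mem ((ra a ha).com w' (hgW hw') m hm)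
      have e2 : (w' * m * w'⁻¹ * m⁻¹)⁻¹ = m * w' * m⁻¹ * w'⁻¹ := by group
      rw [e2, e1] at h2
      exact h2
    have h2 := key1 a ha h1
    have h3 : a ∈ Q := h.memQ.2 ⟨h.OS (hAO ha), fun c v hv => by
      by_cases hcb : c = b
      · subst hcb; exact h2 v hv
      · exact mem_cent_iff.1 (hAN c hcb ha) v hv⟩
    have h4 : a⁻¹ * m * a ∈ Wg := mem_cj.1 hm
    have h5 := mul_mem (hzW (rg.com a h3 _ h4)) h4
    have e5 : a * (a⁻¹ * m * a) * a⁻¹ * (a⁻¹ * m * a)⁻¹ * (a⁻¹ * m * a) = m := by group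
    rw [e5] at h5
    exact hmw' (hWab m h5 w hw)
  have comAA : ∀ a ∈ A, ∀ a' ∈ A, ∀ m ∈ cj a Wg, ∀ w ∈ cj a' Wg, m * w = w * m := by
    intro a ha a' ha' m hm w hw
    have h1 : a'⁻¹ * m * a' ∈ cj (a'⁻¹ * a) Wg := by
      rw [mem_cj]
      have e1 : (a'⁻¹ * a)⁻¹ * (a'⁻¹ * m * a') * (a'⁻¹ * a) = a⁻¹ * m * a := by group
      rw [e1]
      exact mem_cj.1 hm
    have h2 := comA _ (mul_mem (inv_mem ha') ha) _ h1 _ (mem_cj.1 hw)
    calc m * w = a' * (a'⁻¹ * m * a' * (a'⁻¹ * w * a')) * a'⁻¹ := by group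
      _ = a' * (a'⁻¹ * w * a' * (a'⁻¹ * m * a')) * a'⁻¹ := by rw [h2]
      _ = w * m := by group
  -- the group `X`
  let Xf : Option A → Subgroup G := fun o => o.elim (⨆ b, N b) fun a => cj (a : G) Wg
  have hXc : ∀ i j, ∀ x ∈ Xf i, ∀ y ∈ Xf j, x * y = y * x := by
    rintro (_ | ⟨a, ha⟩) (_ | ⟨a', ha'⟩) x hx y hy
    · exact h.VV x hx y hy
    · exact (hQV y (haW a' ha' hy) x hx).symm
    · exact hQV x (haW a ha hx) y hy
    · exact comAA a ha a' ha' x hx y hy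
  have hXs : ∀ i, ∀ x ∈ Xf i, x * x = 1 := by
    rintro (_ | ⟨a, ha⟩) x hx
    · exact h.Vsq x hx
    · have h1 := hWsq _ (mem_cj.1 hx)
      calc x * x = a * (a⁻¹ * x * a * (a⁻¹ * x * a)) * a⁻¹ := by group
        _ = 1 := by rw [h1]; group
  set X : Subgroup G := ⨆ i, Xf i with hX
  have hXab := comm_iSup hXc
  have hXsq := sq_iSup hXc hXs
  have hXO : X ≤ O := iSup_le fun i => by
    rcases i with _ | ⟨a, ha⟩
    · exact h.VO
    · exact haO a ha
  have hVX : (⨆ b, N b) ≤ X := le_iSup Xf none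
  have haX : ∀ a ∈ A, cj a Wg ≤ X := fun a ha => le_iSup Xf (some ⟨a, ha⟩)
  have hWX : Wg ≤ X := by
    have h1 := haX 1 (one_mem _)
    rwa [cj_one] at h1
  have hXcent : ∀ y : G, (∀ v ∈ ⨆ b, N b, y * v = v * y) → (∀ a ∈ A, ∀ w ∈ cj a Wg, y * w = w * y) →
      y ∈ centralizer (X : Set G) := fun y h1 h2 => mem_cent_iSup.2 (by
    rintro (_ | ⟨a, ha⟩) x hx
    · exact h1 x hx
    · exact h2 a ha x hx)
  -- `E₀ = C_A(N b)`
  set E₀ : Subgroup G := A ⊓ centralizer (N b : Set G) with hE₀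
  have hEQ : E₀ ≤ Q := fun y hy => h.memQ.2 ⟨h.OS (hAO hy.1), fun c v hv => by
    by_cases hcb : c = b
    · subst hcb; exact mem_cent_iff.1 hy.2 v hv
    · exact mem_cent_iff.1 (hAN c hcb hy.1) v hv⟩
  have hAE : Nat.card A ≤ Nat.card E₀ * Nat.card (l b) := by
    have h1 := ((h.rt b).mono hAB).idx
    have h2 := rmc (inf_le_right : centralizer (N b : Set G) ⊓ A ≤ A)
    rw [inf_relIndex_right, inf_comm] at h2
    rw [← h2, mul_comm]
    exact Nat.mul_le_mul_left _ h1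
  -- an element of `A` moving `N b`
  obtain ⟨a₀, ha₀, v₀, hv₀, hav⟩ : ∃ a ∈ A, ∃ v ∈ N b, a * v ≠ v * a := by
    by_contra hc
    push Not at hc
    exact key3 hc
  have hNA : ∀ v ∈ N b, v ∈ centralizer (A : Set G) → v ∈ l b := fun v hv hc =>
    (h.rt b).fix a₀ (hAB ha₀) ⟨v₀, hv₀, hav⟩ v hv (mem_centralizer_iff.1 hc a₀ ha₀)
  have hlpos : 0 < Nat.card (l b) := Nat.card_pos
  have hEpos : 0 < Nat.card E₀ := Nat.card_pos
  -- elements of `E₀` and conjugates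
  have hEcj : ∀ y ∈ E₀, ∀ a ∈ A, (∀ w ∈ Wg, y * w = w * y) → ∀ w ∈ cj a Wg, y * w = w * y := by
    intro y hy a ha hc w hw
    have h1 := hc _ (mem_cj.1 hw)
    have h2 : y * a = a * y := hAc y hy.1 a ha
    have h3 : a⁻¹ * y = y * a⁻¹ := hAc _ (inv_mem ha) y hy.1
    calc y * w = y * a * (a⁻¹ * w * a) * a⁻¹ := by group
      _ = a * (y * (a⁻¹ * w * a)) * a⁻¹ := by rw [h2]; group
      _ = a * ((a⁻¹ * w * a) * y) * a⁻¹ := by rw [h1]
      _ = w * a * (y * a⁻¹) := by group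
      _ = w * a * (a⁻¹ * y) := by rw [h3]
      _ = w * y := by group
  by_cases hb : ∀ y ∈ E₀, ∀ w ∈ Wg, y * w = w * y
  · -- (b)
    have hE0X : E₀ ≤ centralizer (X : Set G) := fun y hy =>
      hXcent y (hQV y (hEQ hy)) fun a ha => hEcj y hy a ha (hb y hy)
    have hBest := best_of_AA hA hXO hXab hXsq
    have h1 := hBest.max (A ⊓ centralizer (X : Set G)) inf_le_left le_rfl
    have h2 : X ⊓ centralizer ((A ⊓ centralizer (X : Set G) : Subgroup G) : Set G) = X :=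
      inf_eq_left.2 (le_centralizer_iff.1 inf_le_right)
    rw [h2] at h1
    have h3 : Nat.card E₀ ≤ Nat.card ↥(A ⊓ centralizer (X : Set G)) := card_le_of_le (le_inf inf_le_left hE0X)
    set D : Subgroup G := X ⊓ centralizer (A : Set G) with hD
    have h4 : Nat.card X ≤ Nat.card (l b) * Nat.card D := by
      refine Nat.le_of_mul_le_mul_left ?_ hEpos
      calc Nat.card E₀ * Nat.card X ≤ Nat.card ↥(A ⊓ centralizer (X : Set G)) * Nat.card X :=
            Nat.mul_le_mul_right _ h3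
        _ ≤ Nat.card A * Nat.card D := h1
        _ ≤ Nat.card E₀ * Nat.card (l b) * Nat.card D := Nat.mul_le_mul_right _ hAE
        _ = _ := by ring
    have hNX : N b ≤ X := (le_iSup N b).trans hVX
    have h5 : N b ⊔ D = X := by
      refine sup_eq_of_card hlpos hNX inf_le_left (fun w hw d hd => hXab w (hNX hw) d hd.1) (h.card b) ?_ h4
      refine card_le_of_le ?_
      rintro v ⟨hv, hv2⟩
      exact hNA v hv hv2.2
    apply key3
    intro a ha
    refine key1 a ha fun z' hz' => ?_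
    have hm1 : g * m₀ * g⁻¹ ∈ Q := (mem_normalizer_iff.1 hgQ m₀).1 hm₀
    have hmv : ∃ w ∈ Wg, (g * m₀ * g⁻¹) * w ≠ w * (g * m₀ * g⁻¹) := by
      refine ⟨g * w₀ * g⁻¹, conj_mem_cj hw₀, fun hc => hmw ?_⟩
      calc m₀ * w₀ = g⁻¹ * ((g * m₀ * g⁻¹) * (g * w₀ * g⁻¹)) * g := by group
        _ = g⁻¹ * ((g * w₀ * g⁻¹) * (g * m₀ * g⁻¹)) * g := by rw [hc]
        _ = w₀ * m₀ := by group
    obtain ⟨w, hw, e1⟩ := rg.full _ hm1 hmv z' hz'
    have hwX : w ∈ N b ⊔ D := by rw [h5]; exact hWX hw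
    obtain ⟨n, hn, d, hd, e2⟩ := PermB.mem_sup_comm (X := N b) (Y := D) (fun w hw d hd => hXab w (hNX hw) d hd.1) hwX
    have had : a * d = d * a := mem_centralizer_iff.1 hd.2 a ha
    have hr : a * n * a⁻¹ * n⁻¹ ∈ l b := (h.rt b).com a (hAB ha) n hn
    set r := a * n * a⁻¹ * n⁻¹ with hr'
    have e3 : a * w * a⁻¹ = r * w := by
      rw [e2, hr']
      calc a * (n * d) * a⁻¹ = a * n * (d * a⁻¹) := by group
        _ = a * n * (a⁻¹ * d) := by
            have : d * a⁻¹ = a⁻¹ * d := by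
              calc d * a⁻¹ = a⁻¹ * (a * d) * a⁻¹ := by group
                _ = a⁻¹ * (d * a) * a⁻¹ := by rw [had]
                _ = a⁻¹ * d := by group
            rw [this]
        _ = _ := by group
    have hwa : r * w ∈ cj a Wg := by rw [← e3]; exact conj_mem_cj hw
    have h6 := (ra a ha).com _ hm1 _ hwa
    have hrN : r ∈ ⨆ b, N b := (le_iSup N b) (h.lN b hr)
    have e4 : (g * m₀ * g⁻¹) * r = r * (g * m₀ * g⁻¹) := hQV _ hm1 r hrN
    have e5 : z' * r = r * z' := hQV z' (hgW (hzW hz')) r hrN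
    have e6 : (g * m₀ * g⁻¹) * (r * w) * (g * m₀ * g⁻¹)⁻¹ * (r * w)⁻¹ = z' := by
      calc (g * m₀ * g⁻¹) * (r * w) * (g * m₀ * g⁻¹)⁻¹ * (r * w)⁻¹
          = ((g * m₀ * g⁻¹) * r) * w * (g * m₀ * g⁻¹)⁻¹ * w⁻¹ * r⁻¹ := by group
        _ = r * ((g * m₀ * g⁻¹) * w * (g * m₀ * g⁻¹)⁻¹ * w⁻¹) * r⁻¹ := by rw [e4]; group
        _ = r * z' * r⁻¹ := by rw [e1]
        _ = z' := by rw [← e5]; group
    rwa [e6] at h6
  · -- (c)
    push Not at hb
    obtain ⟨y₀, hy₀, w₁, hw₁, hyw⟩ := hb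
    set V : Subgroup G := ⨆ b, N b with hV
    set E : Subgroup G := E₀ ⊔ V with hE
    have hEV : ∀ y ∈ E₀, ∀ v ∈ V, y * v = v * y := fun y hy v hv => hQV y (hEQ hy) v hv
    have hEQ' : E ≤ Q := sup_le hEQ h.VQ
    have hEO : E ≤ O := sup_le (inf_le_left.trans hAO) h.VO
    have hAs : ∀ a ∈ A, a ^ 2 = 1 := hA.1.2
    have hEel : IsElementaryAbelian 2 E := by
      refine ⟨⟨⟨fun a b => Subtype.ext ?_⟩⟩, fun a ha => ?_⟩
      · obtain ⟨y, hy, u, hu, e1⟩ := PermB.mem_sup_comm hEV a.2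
        obtain ⟨y', hy', u', hu', e1'⟩ := PermB.mem_sup_comm hEV b.2
        show (a : G) * b = b * a
        rw [e1, e1']
        calc y * u * (y' * u') = y * (u * y') * u' := by group
          _ = y * (y' * u) * u' := by rw [hEV y' hy' u hu]
          _ = (y * y') * (u * u') := by group
          _ = (y' * y) * (u' * u) := by rw [hAc y hy.1 y' hy'.1, h.VV u hu u' hu']
          _ = y' * (y * u') * u := by group
          _ = y' * (u' * y) * u := by rw [hEV y hy u' hu']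
          _ = _ := by group
      · obtain ⟨y, hy, u, hu, e1⟩ := PermB.mem_sup_comm hEV ha
        rw [e1, pow_two]
        calc y * u * (y * u) = y * (u * y) * u := by group
          _ = y * (y * u) * u := by rw [hEV y hy u hu]
          _ = y ^ 2 * (u * u) := by rw [pow_two]; group
          _ = 1 := by rw [hAs y hy.1, h.Vsq u hu, mul_one]
    have hEcard : Nat.card A ≤ Nat.card E := by
      have h1 := card_sup_comm hEV
      have hNV : N b ≤ V := le_iSup N b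
      have h2 : Nat.card ↥(V ⊓ centralizer (A : Set G)) * Nat.card (l b) ≤ Nat.card V := by
        have h3 := card_sup_comm (A := N b) (B := V ⊓ centralizer (A : Set G))
          fun w hw d hd => h.VV w (hNV hw) d hd.1
        have h4 : Nat.card ↥(N b ⊓ (V ⊓ centralizer (A : Set G))) ≤ Nat.card (l b) := card_le_of_le (by
          rintro v ⟨hv, hv2⟩
          exact hNA v hv hv2.2)
        have h5 : Nat.card ↥(N b ⊔ V ⊓ centralizer (A : Set G)) ≤ Nat.card V :=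
          card_le_of_le (sup_le hNV inf_le_left)
        rw [h.card b] at h3
        refine Nat.le_of_mul_le_mul_right ?_ hlpos
        calc Nat.card ↥(V ⊓ centralizer (A : Set G)) * Nat.card (l b) * Nat.card (l b)
            = Nat.card (l b) ^ 2 * Nat.card ↥(V ⊓ centralizer (A : Set G)) := by ring
          _ = Nat.card ↥(N b ⊔ V ⊓ centralizer (A : Set G)) * Nat.card ↥(N b ⊓ (V ⊓ centralizer (A : Set G))) := h3.symm
          _ ≤ Nat.card V * Nat.card (l b) := Nat.mul_le_mul h5 h4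
      have h6 : Nat.card ↥(E₀ ⊓ V) ≤ Nat.card ↥(V ⊓ centralizer (A : Set G)) := card_le_of_le (by
        rintro y ⟨hy, hyV⟩
        exact ⟨hyV, mem_centralizer_iff.2 fun a ha => hAc a ha y hy.1⟩)
      have h7 : 0 < Nat.card ↥(E₀ ⊓ V) := Nat.card_pos
      refine Nat.le_of_mul_le_mul_right ?_ h7
      calc Nat.card A * Nat.card ↥(E₀ ⊓ V) ≤ Nat.card E₀ * Nat.card (l b) * Nat.card ↥(E₀ ⊓ V) :=
            Nat.mul_le_mul_right _ hAE
        _ ≤ Nat.card E₀ * Nat.card (l b) * Nat.card ↥(V ⊓ centralizer (A : Set G)) := Nat.mul_le_mul_left _ h6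
        _ = Nat.card E₀ * (Nat.card ↥(V ⊓ centralizer (A : Set G)) * Nat.card (l b)) := by ring
        _ ≤ Nat.card E₀ * Nat.card V := Nat.mul_le_mul_left _ h2
        _ = Nat.card E * Nat.card ↥(E₀ ⊓ V) := h1.symm
    have hEA : E ∈ AA O := ⟨hEel, hEO, fun B' hB' hB'O => (hA.2.2 B' hB' hB'O).trans hEcard⟩
    have hBest := best_of_AA hEA hXO hXab hXsq
    have h1 := hBest.max (E ⊓ centralizer (X : Set G)) inf_le_left le_rfl
    have h2 : X ⊓ centralizer ((E ⊓ centralizer (X : Set G) : Subgroup G) : Set G) = X :=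
      inf_eq_left.2 (le_centralizer_iff.1 inf_le_right)
    rw [h2] at h1
    set D : Subgroup G := X ⊓ centralizer (E : Set G) with hD
    have h3 : E ⊓ centralizer (Wg : Set G) ≤ E ⊓ centralizer (X : Set G) := by
      rintro y ⟨hy, hyW⟩
      refine ⟨hy, ?_⟩
      obtain ⟨y', hy', u, hu, e1⟩ := PermB.mem_sup_comm hEV hy
      have h4 : ∀ w ∈ Wg, y' * w = w * y' := by
        intro w hw
        have h5 := mem_cent_iff.1 hyW w hw
        have h6 : w * u = u * w := hQV w (hgW hw) u hu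
        have e7 : y' = y * u⁻¹ := by rw [e1]; group
        rw [e7]
        calc y * u⁻¹ * w = y * (u⁻¹ * (w * u) * u⁻¹) := by group
          _ = y * (u⁻¹ * (u * w) * u⁻¹) := by rw [h6]
          _ = (y * w) * u⁻¹ := by group
          _ = w * (y * u⁻¹) := by rw [h5]; group
      have h5 : y' ∈ centralizer (X : Set G) := hXcent y' (hQV y' (hEQ hy')) fun a ha => hEcj y' hy' a ha h4
      have h6 : u ∈ centralizer (X : Set G) := mem_cent_iff.2 (hXab u (hVX hu))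
      rw [e1]
      exact mul_mem h5 h6
    have h4 : Nat.card E ≤ Nat.card ↥(E ⊓ centralizer (Wg : Set G)) * Nat.card zg := by
      have h1 := (rg.mono hEQ').idx
      have h2 := rmc (inf_le_right : centralizer (Wg : Set G) ⊓ E ≤ E)
      rw [inf_relIndex_right, inf_comm] at h2
      rw [← h2, mul_comm]
      exact Nat.mul_le_mul_left _ h1
    have hpos : 0 < Nat.card ↥(E ⊓ centralizer (Wg : Set G)) := Nat.card_pos
    have h5 : Nat.card X ≤ Nat.card zg * Nat.card D := by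
      refine Nat.le_of_mul_le_mul_left ?_ hpos
      calc Nat.card ↥(E ⊓ centralizer (Wg : Set G)) * Nat.card X
          ≤ Nat.card ↥(E ⊓ centralizer (X : Set G)) * Nat.card X := Nat.mul_le_mul_right _ (card_le_of_le h3)
        _ ≤ Nat.card E * Nat.card D := h1
        _ ≤ Nat.card ↥(E ⊓ centralizer (Wg : Set G)) * Nat.card zg * Nat.card D := Nat.mul_le_mul_right _ h4
        _ = _ := by ring
    have hy₀E : y₀ ∈ E := (le_sup_left : E₀ ≤ E) hy₀
    have h6 : Wg ⊔ D = X := by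
      refine sup_eq_of_card (k := Nat.card zg) Nat.card_pos hWX inf_le_left
        (fun w hw d hd => hXab w (hWX hw) d hd.1) ?_ ?_ h5
      · rw [hWg, hzg, card_cj, card_cj, hW.card]
      · refine card_le_of_le ?_
        rintro w ⟨hw, hw2⟩
        exact rg.fix y₀ (hEQ' hy₀E) ⟨w₁, hw₁, hyw⟩ w hw (mem_centralizer_iff.1 hw2.2 y₀ hy₀E)
    apply key3
    intro a ha
    refine key2 a ha fun z' hz' => ?_
    have hmv : ∃ w ∈ cj a Wg, y₀ * w ≠ w * y₀ := by
      refine ⟨a * w₁ * a⁻¹, conj_mem_cj hw₁, fun hc => hyw ?_⟩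
      have h7 : y₀ * a = a * y₀ := hAc y₀ hy₀.1 a ha
      have h8 : a⁻¹ * y₀ = y₀ * a⁻¹ := hAc _ (inv_mem ha) y₀ hy₀.1
      calc y₀ * w₁ = a⁻¹ * (a * y₀) * w₁ := by group
        _ = a⁻¹ * (y₀ * (a * w₁ * a⁻¹)) * a := by rw [← h7]; group
        _ = a⁻¹ * ((a * w₁ * a⁻¹) * y₀) * a := by rw [hc]
        _ = w₁ * (a⁻¹ * y₀) * a := by group
        _ = w₁ * y₀ := by rw [h8]; group
    obtain ⟨w', hw', e1⟩ := (ra a ha).full y₀ (hEQ hy₀) hmv z' hz'
    have hwX : w' ∈ Wg ⊔ D := by rw [h6]; exact haX a ha hw'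
    obtain ⟨w, hw, d, hd, e2⟩ := PermB.mem_sup_comm (X := Wg) (Y := D) (fun w hw d hd => hXab w (hWX hw) d hd.1) hwX
    have hyd : y₀ * d = d * y₀ := mem_centralizer_iff.1 hd.2 y₀ hy₀E
    have e3 : y₀ * w' * y₀⁻¹ * w'⁻¹ = y₀ * w * y₀⁻¹ * w⁻¹ := by
      rw [e2]
      calc y₀ * (w * d) * y₀⁻¹ * (w * d)⁻¹ = y₀ * w * (y₀⁻¹ * (y₀ * d) * y₀⁻¹) * d⁻¹ * w⁻¹ := by group
        _ = y₀ * w * (y₀⁻¹ * (d * y₀) * y₀⁻¹) * d⁻¹ * w⁻¹ := by rw [hyd]
        _ = y₀ * w * y₀⁻¹ * w⁻¹ := by group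
    rw [← e1, e3]
    exact rg.com y₀ (hEQ hy₀) w hw


/-- pure members of `AA(O)` at `b` -/
def Pure (O B : Subgroup G) (N : ι → Subgroup G) (b : ι) (A : Subgroup G) : Prop :=
  A ∈ AA O ∧ (∀ a, a ≠ b → A ≤ centralizer (N a : Set G)) ∧ A ≤ B ∧ ¬ A ≤ centralizer (N b : Set G)

theorem zent (h : NBf S C O Q B N l L K) {b : ι} {A : Subgroup G} (hA : Pure O B N b A) :
    ∀ v ∈ N b, v ∈ centralizer (A : Set G) → v ∈ l b := by
  obtain ⟨a₀, ha₀, v₀, hv₀, hav⟩ : ∃ a ∈ A, ∃ v ∈ N b, a * v ≠ v * a := by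
    by_contra hc
    push Not at hc
    exact hA.2.2.2 fun a ha => mem_cent_iff.2 (hc a ha)
  exact fun v hv hc => (h.rt b).fix a₀ (hA.2.2.1 ha₀) ⟨v₀, hv₀, hav⟩ v hv (mem_centralizer_iff.1 hc a₀ ha₀)

/-- for `Y ≤ O ∩ Z(Q)` containing `V` : `Y = N b C_Y(A)` and `|Y| ≤ |l b| |C_Y(A)|` -/
theorem split (h : NBf S C O Q B N l L K) {b : ι} {A : Subgroup G} (hA : Pure O B N b A) {Y : Subgroup G}
    (hYQ : Y ≤ Q) (hYC : Y ≤ centralizer (Q : Set G)) (hYO : Y ≤ O) (hsq : ∀ y ∈ Y, y * y = 1) (hVY : N b ≤ Y) :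
    Nat.card Y ≤ Nat.card (l b) * Nat.card ↥(Y ⊓ centralizer (A : Set G)) ∧
      N b ⊔ (Y ⊓ centralizer (A : Set G)) = Y := by
  obtain ⟨hA1, hAN, hAB, hAb⟩ := hA
  have hYY : ∀ u ∈ Y, ∀ v ∈ Y, u * v = v * u := fun u hu v hv => mem_cent_iff.1 (hYC hu) v (hYQ hv)
  have hBest := best_of_AA hA1 hYO hYY hsq
  have h1 := hBest.max (A ⊓ centralizer (Y : Set G)) inf_le_left le_rfl
  have h2 : Y ⊓ centralizer ((A ⊓ centralizer (Y : Set G) : Subgroup G) : Set G) = Y :=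
    inf_eq_left.2 (le_centralizer_iff.1 inf_le_right)
  rw [h2] at h1
  set E₀ : Subgroup G := A ⊓ centralizer (N b : Set G) with hE₀
  have hEQ : E₀ ≤ Q := fun y hy => h.memQ.2 ⟨h.OS (hA1.2.1 hy.1), fun c v hv => by
    by_cases hcb : c = b
    · subst hcb; exact mem_cent_iff.1 hy.2 v hv
    · exact mem_cent_iff.1 (hAN c hcb hy.1) v hv⟩
  have hAE : Nat.card A ≤ Nat.card E₀ * Nat.card (l b) := by
    have h1 := ((h.rt b).mono hAB).idx
    have h2 := rmc (inf_le_right : centralizer (N b : Set G) ⊓ A ≤ A)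
    rw [inf_relIndex_right, inf_comm] at h2
    rw [← h2, mul_comm]
    exact Nat.mul_le_mul_left _ h1
  have h3 : Nat.card E₀ ≤ Nat.card ↥(A ⊓ centralizer (Y : Set G)) :=
    card_le_of_le (le_inf inf_le_left (hEQ.trans (le_centralizer_iff.1 hYC)))
  have hEpos : 0 < Nat.card E₀ := Nat.card_pos
  have h4 : Nat.card Y ≤ Nat.card (l b) * Nat.card ↥(Y ⊓ centralizer (A : Set G)) := by
    refine Nat.le_of_mul_le_mul_left ?_ hEpos
    calc Nat.card E₀ * Nat.card Y ≤ Nat.card ↥(A ⊓ centralizer (Y : Set G)) * Nat.card Y :=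
          Nat.mul_le_mul_right _ h3
      _ ≤ Nat.card A * Nat.card ↥(Y ⊓ centralizer (A : Set G)) := h1
      _ ≤ Nat.card E₀ * Nat.card (l b) * Nat.card ↥(Y ⊓ centralizer (A : Set G)) := Nat.mul_le_mul_right _ hAE
      _ = _ := by ring
  refine ⟨h4, ?_⟩
  refine sup_eq_of_card (k := Nat.card (l b)) Nat.card_pos hVY inf_le_left
    (fun w hw d hd => hYY w (hVY hw) d hd.1) (h.card b) ?_ h4
  refine card_le_of_le ?_
  rintro v ⟨hv, hv2⟩
  exact h.zent ⟨hA1, hAN, hAB, hAb⟩ v hv hv2.2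

/-- `[A, Y] ≤ l b` -/
theorem comm_l (h : NBf S C O Q B N l L K) {b : ι} {A : Subgroup G} (hA : Pure O B N b A) {Y : Subgroup G}
    (hYQ : Y ≤ Q) (hYC : Y ≤ centralizer (Q : Set G)) (hYO : Y ≤ O) (hsq : ∀ y ∈ Y, y * y = 1) (hVY : N b ≤ Y) :
    ∀ a ∈ A, ∀ y ∈ Y, a * y * a⁻¹ * y⁻¹ ∈ l b := by
  intro a ha y hy
  have hYY : ∀ u ∈ Y, ∀ v ∈ Y, u * v = v * u := fun u hu v hv => mem_cent_iff.1 (hYC hu) v (hYQ hv)
  have h1 := (h.split hA hYQ hYC hYO hsq hVY).2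
  rw [← h1] at hy
  obtain ⟨n, hn, d, hd, e1⟩ := PermB.mem_sup_comm (X := N b) (Y := Y ⊓ centralizer (A : Set G))
    (fun w hw d hd => hYY w (hVY hw) d hd.1) hy
  have had : a * d = d * a := mem_centralizer_iff.1 hd.2 a ha
  have e2 : a * y * a⁻¹ * y⁻¹ = a * n * a⁻¹ * n⁻¹ := by
    rw [e1]
    calc a * (n * d) * a⁻¹ * (n * d)⁻¹ = a * n * (a⁻¹ * (a * d) * a⁻¹) * d⁻¹ * n⁻¹ := by group
      _ = a * n * (a⁻¹ * (d * a) * a⁻¹) * d⁻¹ * n⁻¹ := by rw [had]
      _ = _ := by group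
  rw [e2]
  exact (h.rt b).com a (hA.2.2.1 ha) n hn

/-- the elements which act on `Y` trivially modulo `N` -/
def T0 (N Y : Subgroup G) : Subgroup G where
  carrier := {k | k ∈ normalizer (N : Set G) ∧ ∀ y ∈ Y, k * y * k⁻¹ * y⁻¹ ∈ N}
  mul_mem' := by
    rintro j k ⟨hj, hj2⟩ ⟨hk, hk2⟩
    refine ⟨mul_mem hj hk, fun y hy => ?_⟩
    have h1 := (mem_normalizer_iff.1 hj _).1 (hk2 y hy)
    have h2 := mul_mem h1 (hj2 y hy)
    have e1 : j * (k * y * k⁻¹ * y⁻¹) * j⁻¹ * (j * y * j⁻¹ * y⁻¹) = j * k * y * (j * k)⁻¹ * y⁻¹ := by group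
    rwa [e1] at h2
  one_mem' := ⟨one_mem _, fun y _ => by
    have : (1 : G) * y * 1⁻¹ * y⁻¹ = 1 := by group
    rw [this]; exact one_mem _⟩
  inv_mem' := by
    rintro k ⟨hk, hk2⟩
    refine ⟨inv_mem hk, fun y hy => ?_⟩
    -- `y' = k⁻¹ y k ∈ Y`
    have hn : ∀ n ∈ N, k⁻¹ * n * k ∈ N := fun n hn => by
      have := (mem_normalizer_iff.1 (inv_mem hk) n).1 hn
      rwa [inv_inv] at this
    have h1 := hn _ (inv_mem (hk2 y hy))
    have e1 : k⁻¹ * (k * y * k⁻¹ * y⁻¹)⁻¹ * k = k⁻¹ * y * k⁻¹⁻¹ * y⁻¹ := by group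
    rwa [e1] at h1

/-- **(2)** `V⁺ = V` -/
theorem eq_V (h : NBf S C O Q B N l L K) [Finite ι] {Vp : Subgroup G} (hV : (⨆ b, N b) ≤ Vp) (hQ : Vp ≤ Q)
    (hc : Vp ≤ centralizer (Q : Set G)) (hsq : ∀ v ∈ Vp, v * v = 1) (hS : S ≤ normalizer (Vp : Set G))
    (hO : ∀ b, ∀ m ∈ L b, cj m Vp ≤ O) : Vp = ⨆ b, N b := by
  classical
  obtain ⟨e, he⟩ := exists_co h.com h.ind
  have hQV : ∀ m ∈ Q, ∀ v ∈ ⨆ b, N b, m * v = v * m := fun m hm v hv => by
    have h1 := (h.memQ.1 hm).2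
    exact mem_cent_iff.1 (mem_cent_iSup.2 h1) v hv
  -- the groups `Y b`
  let Y : ι → Subgroup G := fun b => ⨆ m : L b, cj (m : G) Vp
  have hVY : ∀ b, Vp ≤ Y b := fun b => by
    have h1 : cj (((1 : L b) : L b) : G) Vp ≤ Y b := le_iSup (fun m : L b => cj (m : G) Vp) 1
    rwa [OneMemClass.coe_one, cj_one] at h1
  have hcjQ : ∀ b, ∀ m ∈ L b, cj m Vp ≤ Q := fun b m hm =>
    (cj_mono m hQ).trans (cj_eq_of_mem_normalizer (h.LQ b hm)).le
  have hcjC : ∀ b, ∀ m ∈ L b, cj m Vp ≤ centralizer (Q : Set G) := fun b m hm => by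
    have h1 := cj_mono m hc
    rwa [RWide.cj_centralizer, cj_eq_of_mem_normalizer (h.LQ b hm)] at h1
  have hYQ : ∀ b, Y b ≤ Q := fun b => iSup_le fun m => hcjQ b m m.2
  have hYC : ∀ b, Y b ≤ centralizer (Q : Set G) := fun b => iSup_le fun m => hcjC b m m.2
  have hYO : ∀ b, Y b ≤ O := fun b => iSup_le fun m => hO b m m.2
  have hYY : ∀ b, ∀ u ∈ Y b, ∀ v ∈ Y b, u * v = v * u := fun b u hu v hv =>
    mem_cent_iff.1 (hYC b hu) v (hYQ b hv)
  have hYsq : ∀ b, ∀ y ∈ Y b, y * y = 1 := fun b => by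
    refine sq_iSup (X := fun m : L b => cj (m : G) Vp) ?_ ?_
    · intro i j x hx y hy
      exact mem_cent_iff.1 (hcjC b i i.2 hx) y (hcjQ b j j.2 hy)
    · intro m x hx
      have h1 := hsq _ (mem_cj.1 hx)
      calc x * x = m * ((m : G)⁻¹ * x * m * ((m : G)⁻¹ * x * m)) * (m : G)⁻¹ := by group
        _ = 1 := by rw [h1]; group
  have hNV : ∀ b, N b ≤ Vp := fun b => (le_iSup N b).trans hV
  have hNY : ∀ b, N b ≤ Y b := fun b => (hNV b).trans (hVY b)
  have hLY : ∀ b, ∀ m ∈ L b, ∀ y ∈ Y b, m * y * m⁻¹ ∈ Y b := by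
    intro b m hm y hy
    have h1 : m * y * m⁻¹ ∈ cj m (Y b) := conj_mem_cj hy
    rw [cj_iSup] at h1
    refine (iSup_le fun k => ?_ : (⨆ k : L b, cj m (cj (k : G) Vp)) ≤ Y b) h1
    rw [cj_cj]
    exact le_iSup (fun m : L b => cj (m : G) Vp) ⟨m * k, mul_mem hm k.2⟩
  -- conjugates of pure groups act trivially modulo `N b`
  have hT : ∀ b A, Pure O B N b A → ∀ m ∈ L b, ∀ a ∈ A, m * a * m⁻¹ ∈ T0 (N b) (Y b) := by
    intro b A hA m hm a ha
    have hmN := h.LN b hm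
    have haN : a ∈ normalizer (N b : Set G) := by
      refine mem_normalizer_of_cj_le ?_
      intro x hx
      have h1 := mem_cj.1 hx
      have h2 := mul_mem (h.lN b ((h.rt b).com a (hA.2.2.1 ha) _ h1)) h1
      have e1 : a * (a⁻¹ * x * a) * a⁻¹ * (a⁻¹ * x * a)⁻¹ * (a⁻¹ * x * a) = x := by group
      rwa [e1] at h2
    refine ⟨mul_mem (mul_mem hmN haN) (inv_mem hmN), fun y hy => ?_⟩
    have h1 : m⁻¹ * y * m⁻¹⁻¹ ∈ Y b := hLY b m⁻¹ (inv_mem hm) y hy
    rw [inv_inv] at h1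
    have h2 := h.lN b (h.comm_l hA (hYQ b) (hYC b) (hYO b) (hYsq b) (hNY b) a ha _ h1)
    have h3 := (mem_normalizer_iff.1 hmN _).1 h2
    have e1 : m * (a * (m⁻¹ * y * m) * a⁻¹ * (m⁻¹ * y * m)⁻¹) * m⁻¹ = m * a * m⁻¹ * y * (m * a * m⁻¹)⁻¹ * y⁻¹ := by
      group
    rwa [e1] at h3
  -- **(F5)**
  have key : ∀ b, ∀ y ∈ Vp, ∃ n ∈ N b, ∀ A, Pure O B N b A → ∀ m ∈ L b, ∀ a ∈ A,
      (m * a * m⁻¹) * (n * y) = (n * y) * (m * a * m⁻¹) := by
    intro b y hy
    obtain ⟨A, hA1, hAN, hAB, hAb, g, hg, hgl, hgen⟩ := h.gen b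
    have hA : Pure O B N b A := ⟨hA1, hAN, hAB, hAb⟩
    obtain ⟨c1, s1⟩ := h.split hA (hYQ b) (hYC b) (hYO b) (hYsq b) (hNY b)
    have hgY : cj g (Y b) = Y b := by
      refine eq_of_le_of_card_ge ?_ (card_cj g (Y b)).ge
      intro x hx
      have h1 := hLY b g hg _ (mem_cj.1 hx)
      have e1 : g * (g⁻¹ * x * g) * g⁻¹ = x := by group
      rwa [e1] at h1
    set D1 : Subgroup G := Y b ⊓ centralizer (A : Set G) with hD1
    set D2 : Subgroup G := Y b ⊓ centralizer ((cj g A : Subgroup G) : Set G) with hD2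
    have hD12 : D2 = cj g D1 := by
      rw [hD2, hD1, cj_inf, hgY, RWide.cj_centralizer]
    have c2 : Nat.card (Y b) ≤ Nat.card (l b) * Nat.card D2 := by
      rw [hD12, card_cj]; exact c1
    have c3 := PermB.card_mul_le (W := D1) (K := D2) (J := Y b) inf_le_left inf_le_left
    have hpos : 0 < Nat.card (Y b) := Nat.card_pos
    have c4 : Nat.card (Y b) ≤ Nat.card (N b) * Nat.card ↥(D1 ⊓ D2) := by
      refine Nat.le_of_mul_le_mul_right ?_ hpos
      calc Nat.card (Y b) * Nat.card (Y b)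
          ≤ (Nat.card (l b) * Nat.card D1) * (Nat.card (l b) * Nat.card D2) := Nat.mul_le_mul c1 c2
        _ = Nat.card (l b) ^ 2 * (Nat.card D1 * Nat.card D2) := by ring
        _ ≤ Nat.card (l b) ^ 2 * (Nat.card ↥(D1 ⊓ D2) * Nat.card (Y b)) := Nat.mul_le_mul_left _ c3
        _ = _ := by rw [h.card b]; ring
    have c5 : N b ⊓ (D1 ⊓ D2) = ⊥ := by
      rw [eq_bot_iff, ← hgl]
      rintro v ⟨hv, hv1, hv2⟩
      refine ⟨?_, h.zent hA v hv hv1.2⟩
      have h1 : g⁻¹ * v * g ∈ N b := by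
        have := (mem_normalizer_iff.1 (inv_mem (h.LN b hg)) v).1 hv
        rwa [inv_inv] at this
      refine mem_cj.2 (h.zent hA _ h1 ?_)
      refine mem_centralizer_iff.2 fun a ha => ?_
      have h2 := mem_centralizer_iff.1 hv2.2 (g * a * g⁻¹) (conj_mem_cj ha)
      calc a * (g⁻¹ * v * g) = g⁻¹ * ((g * a * g⁻¹) * v) * g := by group
        _ = g⁻¹ * (v * (g * a * g⁻¹)) * g := by rw [h2]
        _ = _ := by group
    have c6 : N b ⊔ (D1 ⊓ D2) = Y b := by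
      have h1 := card_sup_comm (A := N b) (B := D1 ⊓ D2) fun w hw d hd => hYY b w (hNY b hw) d hd.1.1
      rw [c5, card_bot, mul_one] at h1
      refine eq_of_le_of_card_ge (sup_le (hNY b) (inf_le_left.trans inf_le_left)) ?_
      rw [h1]; exact c4
    have hy' : y ∈ N b ⊔ (D1 ⊓ D2) := by rw [c6]; exact hVY b hy
    obtain ⟨n, hn, d, hd, e1⟩ := PermB.mem_sup_comm (X := N b) (Y := D1 ⊓ D2)
      (fun w hw d hd => hYY b w (hNY b hw) d hd.1.1) hy'
    refine ⟨n⁻¹, inv_mem hn, ?_⟩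
    have e2 : n⁻¹ * y = d := by rw [e1]; group
    rw [e2]
    intro A' hA' m hm a' ha'
    -- `k = h⁻¹ x`
    obtain ⟨h', hh, hx⟩ := hgen m hm a' (hA'.2.2.1 ha')
    set x := m * a' * m⁻¹ with hxdef
    have hAA : ∀ t ∈ A ⊔ cj g A, t ∈ T0 (N b) (Y b) ∧ t ∈ normalizer (Q : Set G) ∧
        (∀ c, c ≠ b → ∀ v ∈ N c, t * v = v * t) ∧ t * d = d * t := by
      have hle : A ⊔ cj g A ≤ T0 (N b) (Y b) ⊓ normalizer (Q : Set G) ⊓
          centralizer ((⨆ c : {c // c ≠ b}, N c : Subgroup G) : Set G) ⊓ centralizer ({d} : Set G) := by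
        refine sup_le (fun t ht => ?_) (fun t ht => ?_)
        · refine ⟨⟨⟨?_, h.SQ (h.BS (hAB ht))⟩, mem_cent_iSup.2 fun c v hv => mem_cent_iff.1 (hAN c c.2 ht) v hv⟩, ?_⟩
          · have := hT b A hA 1 (one_mem _) t ht
            rwa [one_mul, inv_one, mul_one] at this
          · exact mem_centralizer_singleton_iff.2 (mem_centralizer_iff.1 hd.1.2 t ht)
        · obtain ⟨t', ht', rfl⟩ : ∃ t' ∈ A, g * t' * g⁻¹ = t := ⟨g⁻¹ * t * g, mem_cj.1 ht, by group⟩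
          refine ⟨⟨⟨hT b A hA g hg t' ht', ?_⟩, mem_cent_iSup.2 fun c v hv => ?_⟩, ?_⟩
          · exact (normalizer (Q : Set G)).mul_mem ((normalizer (Q : Set G)).mul_mem (h.LQ b hg)
              (h.SQ (h.BS (hAB ht')))) ((normalizer (Q : Set G)).inv_mem (h.LQ b hg))
          · have h1 : g * t' * g⁻¹ ∈ centralizer (N c : Set G) :=
              mul_mem (mul_mem (h.LC c b c.2 hg) (hAN c c.2 ht')) (inv_mem (h.LC c b c.2 hg))
            exact mem_cent_iff.1 h1 v hv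
          · exact mem_centralizer_singleton_iff.2 (mem_centralizer_iff.1 hd.2.2 _ (conj_mem_cj ht'))
      intro t ht
      obtain ⟨⟨⟨t1, t2⟩, t3⟩, t4⟩ := hle ht
      exact ⟨t1, t2, fun c hc v hv => mem_cent_iSup.1 t3 ⟨c, hc⟩ v hv, mem_centralizer_singleton_iff.1 t4⟩
    obtain ⟨k1, k2, k3, k4⟩ := hAA h' hh
    have x1 : x ∈ T0 (N b) (Y b) := hT b A' hA' m hm a' ha'
    have x2 : x ∈ normalizer (Q : Set G) :=
      mul_mem (mul_mem (h.LQ b hm) (h.SQ (h.BS (hA'.2.2.1 ha')))) (inv_mem (h.LQ b hm))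
    have x3 : ∀ c, c ≠ b → ∀ v ∈ N c, x * v = v * x := fun c hc v hv => by
      have h1 : x ∈ centralizer (N c : Set G) :=
        mul_mem (mul_mem (h.LC c b hc hm) (hA'.2.1 c hc ha')) (inv_mem (h.LC c b hc hm))
      exact mem_cent_iff.1 h1 v hv
    set k := h'⁻¹ * x with hk
    have hkT : k ∈ T0 (N b) (Y b) := mul_mem (inv_mem k1) x1
    have hkQ : k ∈ normalizer (Q : Set G) := mul_mem (inv_mem k2) x2
    have hkN : ∀ c, ∀ v ∈ N c, k * v = v * k := by
      intro c v hv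
      by_cases hcb : c = b
      · subst hcb
        have h1 := hx v hv
        calc k * v = h'⁻¹ * (x * v * x⁻¹) * x := by rw [hk]; group
          _ = h'⁻¹ * (h' * v * h'⁻¹) * x := by rw [h1]
          _ = v * k := by rw [hk]; group
      · have h1 := x3 c hcb v hv
        have h2 := k3 c hcb v hv
        calc k * v = h'⁻¹ * (x * v) := by rw [hk]; group
          _ = h'⁻¹ * (v * h') * h'⁻¹ * x := by rw [h1]; group
          _ = h'⁻¹ * (h' * v) * h'⁻¹ * x := by rw [h2]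
          _ = v * k := by rw [hk]; group
    have hkV : k ∈ centralizer ((⨆ b, N b : Subgroup G) : Set G) := mem_cent_iSup.2 hkN
    -- `k²` centralises `Y`
    have hk2 : k ^ 2 ∈ centralizer (Y b : Set G) := by
      refine mem_cent_iff.2 fun u hu => ?_
      have h1 := hkT.2 u hu
      have h2 := hkN b _ h1
      have h3 : k * u * k⁻¹ = (k * u * k⁻¹ * u⁻¹) * u := by group
      set n' := k * u * k⁻¹ * u⁻¹ with hn'
      have hnn : n' * n' = 1 := h.sq b _ h1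
      have h4 : k ^ 2 * u * (k ^ 2)⁻¹ = u := by
        calc k ^ 2 * u * (k ^ 2)⁻¹ = k * (k * u * k⁻¹) * k⁻¹ := by rw [pow_two]; group
          _ = k * (n' * u) * k⁻¹ := by rw [h3]
          _ = (k * n') * u * k⁻¹ := by group
          _ = n' * (k * u * k⁻¹) := by rw [h2]; group
          _ = (n' * n') * u := by rw [h3]; group
          _ = u := by rw [hnn, one_mul]
      exact mul_inv_eq_iff_eq_mul.1 h4
    -- odd part
    obtain ⟨s, t, ht, hst⟩ : ∃ s t : ℕ, Odd t ∧ orderOf k = 2 ^ s * t := by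
      obtain ⟨s, t, h1, h2⟩ := Nat.exists_eq_two_pow_mul_odd (orderOf_pos k).ne'
      exact ⟨s, t, h1, h2⟩
    have hkt : k ^ t ∈ Q := by
      refine h.syl _ (pow_mem hkQ t) (pow_mem hkV t) ⟨s, ?_⟩
      rw [← pow_mul, mul_comm, ← hst, pow_orderOf_eq_one]
    obtain ⟨j, hj⟩ := ht
    have hkC : k ∈ centralizer (Y b : Set G) := by
      have h1 : k ^ t ∈ centralizer (Y b : Set G) := le_centralizer_iff.1 (hYC b) hkt
      have h2 : k = k ^ t * ((k ^ 2) ^ j)⁻¹ := by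
        rw [hj, pow_succ, pow_mul, mul_assoc]
        have h3 : k * ((k ^ 2) ^ j)⁻¹ = ((k ^ 2) ^ j)⁻¹ * k := by
          rw [← pow_mul]
          exact ((Commute.refl k).pow_right _).inv_right
        rw [h3, mul_inv_cancel_left]
      rw [h2]
      exact mul_mem h1 (inv_mem (pow_mem hk2 j))
    have hkd : k * d = d * k := mem_cent_iff.1 hkC d hd.1.1
    have hxk : x = h' * k := by rw [hk]; group
    rw [hxk]
    calc h' * k * d = h' * (k * d) := by group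
      _ = h' * d * k := by rw [hkd]; group
      _ = d * (h' * k) := by rw [k4]; group
  -- **(F)** the group `F`
  let T : Set G := {x | ∃ b A, Pure O B N b A ∧ ∃ m ∈ L b, ∃ a ∈ A, x = m * a * m⁻¹}
  set F : Subgroup G := Vp ⊓ centralizer T with hF
  -- components: existence
  have hex : ∀ (n : ι → G), (∀ b, n b ∈ N b) → ∃ v ∈ ⨆ b, N b, ∀ c, e v c = n c := by
    intro n hn
    have := Fintype.ofFinite ι
    have h1 : ∀ s : Finset ι, ∃ v ∈ ⨆ b, N b, ∀ c, e v c = if c ∈ s then n c else 1 := by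
      intro s
      induction s using Finset.induction_on with
      | empty => exact ⟨1, one_mem _, fun c => by simp [he.one c]⟩
      | insert b s hb ih =>
        obtain ⟨v, hv, hv2⟩ := ih
        have hnb : n b ∈ ⨆ b, N b := (le_iSup N b) (hn b)
        refine ⟨v * n b, mul_mem hv hnb, fun c => ?_⟩
        rw [he.mul _ hv _ hnb, hv2 c]
        by_cases hcb : c = b
        · subst hcb
          rw [he.self _ _ (hn _)]
          simp [hb]
        · rw [he.off _ _ (hn _) _ hcb]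
          simp [hcb]
    obtain ⟨v, hv, hv2⟩ := h1 Finset.univ
    exact ⟨v, hv, fun c => by rw [hv2 c]; simp⟩
  -- `Vp = V F`
  have hVF : ∀ y ∈ Vp, ∃ v ∈ ⨆ b, N b, v * y ∈ F := by
    intro y hy
    choose n hn hn2 using fun b => key b y hy
    obtain ⟨v, hv, hv2⟩ := hex n hn
    refine ⟨v, hv, mul_mem (hV hv) hy, ?_⟩
    refine mem_centralizer_iff.2 ?_
    rintro x ⟨b, A, hA, m, hm, a, ha, rfl⟩
    have h1 := hn2 b A hA m hm a ha
    set x := m * a * m⁻¹ with hx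
    -- `v n⁻¹` is centralised by `x`
    have hxc : ∀ c, c ≠ b → ∀ w ∈ N c, x * w = w * x := fun c hc w hw => by
      have h1 : x ∈ centralizer (N c : Set G) :=
        mul_mem (mul_mem (h.LC c b hc hm) (hA.2.1 c hc ha)) (inv_mem (h.LC c b hc hm))
      exact mem_cent_iff.1 h1 w hw
    have hxN : ∀ i, ∀ w ∈ N i, x * w * x⁻¹ ∈ N i := by
      intro i w hw
      by_cases hib : i = b
      · subst hib
        exact (mem_normalizer_iff.1 (hT _ A hA m hm a ha).1 w).1 hw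
      · rw [hxc i hib w hw, mul_inv_cancel_right]; exact hw
    have hnb : n b ∈ ⨆ b, N b := (le_iSup N b) (hn b)
    have hu : v * (n b)⁻¹ ∈ ⨆ b, N b := mul_mem hv (inv_mem hnb)
    have h2 : x * (v * (n b)⁻¹) = v * (n b)⁻¹ * x := by
      refine he.comm_of hxN hu fun c => ?_
      rw [he.mul _ hv _ (inv_mem hnb), hv2 c, he.inv hnb]
      by_cases hcb : c = b
      · subst hcb
        rw [he.self _ _ (hn _), mul_inv_cancel, mul_one, one_mul]
      · rw [he.off _ _ (hn b) _ hcb, inv_one, mul_one]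
        exact hxc c hcb _ (hn c)
    calc x * (v * y) = x * (v * (n b)⁻¹) * (n b * y) := by group
      _ = v * (n b)⁻¹ * (x * (n b * y)) := by rw [h2]; group
      _ = v * (n b)⁻¹ * (n b * y * x) := by rw [h1]
      _ = v * y * x := by group
  -- `F ∩ V = 1`
  have hFV : ∀ y ∈ F, y ∈ ⨆ b, N b → y = 1 := by
    intro y hy hyV
    refine he.ext y hyV fun b => ?_
    obtain ⟨A, hA1, hAN, hAB, hAb, g, hg, hgl, -⟩ := h.gen b
    have hA : Pure O B N b A := ⟨hA1, hAN, hAB, hAb⟩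
    have hcomp : ∀ m ∈ L b, ∀ a ∈ A, (m * a * m⁻¹) * e y b = e y b * (m * a * m⁻¹) := by
      intro m hm a ha
      have h1 : (m * a * m⁻¹) * y = y * (m * a * m⁻¹) :=
        mem_centralizer_iff.1 hy.2 _ ⟨b, A, hA, m, hm, a, ha, rfl⟩
      set x := m * a * m⁻¹ with hx
      have hxN : ∀ i, ∀ w ∈ N i, x * w * x⁻¹ ∈ N i := by
        intro i w hw
        by_cases hib : i = b
        · subst hib
          exact (mem_normalizer_iff.1 (hT _ A hA m hm a ha).1 w).1 hw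
        · have h1 : x ∈ centralizer (N i : Set G) :=
            mul_mem (mul_mem (h.LC i b hib hm) (hA.2.1 i hib ha)) (inv_mem (h.LC i b hib hm))
          rw [mem_cent_iff.1 h1 w hw, mul_inv_cancel_right]; exact hw
      have h2 := (he.conj hxN hyV).2 b
      have h3 : x * y * x⁻¹ = y := by rw [h1, mul_inv_cancel_right]
      rw [h3] at h2
      exact (eq_mul_inv_iff_mul_eq.1 h2).symm
    have hyb := he.mem y hyV b
    have h1 : e y b ∈ l b := h.zent hA _ hyb (mem_centralizer_iff.2 fun a ha => by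
      have := hcomp 1 (one_mem _) a ha
      rwa [one_mul, inv_one, mul_one] at this)
    have h2 : e y b ∈ cj g (l b) := by
      refine mem_cj.2 (h.zent hA _ ?_ (mem_centralizer_iff.2 fun a ha => ?_))
      · have := (mem_normalizer_iff.1 (inv_mem (h.LN b hg)) (e y b)).1 hyb
        rwa [inv_inv] at this
      · have h3 := hcomp g hg a ha
        calc a * (g⁻¹ * e y b * g) = g⁻¹ * ((g * a * g⁻¹) * e y b) * g := by group
          _ = g⁻¹ * (e y b * (g * a * g⁻¹)) * g := by rw [h3]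
          _ = _ := by group
    have h3 : e y b ∈ cj g (l b) ⊓ l b := ⟨h2, h1⟩
    rw [hgl] at h3
    exact mem_bot.1 h3
  -- blocks are nontrivial and distinct
  have hNne : ∀ b c, N b = N c → b = c := by
    intro b c hbc
    by_contra hne
    have h1 : Disjoint (N b) (N c) := h.ind.pairwiseDisjoint hne
    rw [hbc, disjoint_self] at h1
    obtain ⟨A, -, -, -, hAb, -⟩ := h.gen c
    apply hAb
    intro a _
    refine mem_cent_iff.2 fun v hv => ?_
    rw [h1] at hv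
    rw [mem_bot.1 hv, mul_one, one_mul]
  -- `F` is `S`-invariant
  have hFS : S ≤ normalizer (F : Set G) := by
    have hstep : ∀ s ∈ S, ∀ x ∈ T, s⁻¹ * x * s ∈ T := by
      rintro s hs x ⟨b, A, hA, m, hm, a, ha, rfl⟩
      have hs' := inv_mem hs
      obtain ⟨c, c1, c2, c3⟩ := h.perm s⁻¹ hs' b
      have hSO : s⁻¹ ∈ normalizer (O : Set G) := h.nO (h.SC hs')
      refine ⟨c, cj s⁻¹ A, ⟨?_, ?_, ?_, ?_⟩, s⁻¹ * m * s, ?_, s⁻¹ * a * s, ?_, by group⟩
      · have h1 := cj_mem_AA s⁻¹ hA.1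
        rwa [cj_eq_of_mem_normalizer hSO] at h1
      · intro a' ha'
        obtain ⟨d, d1, -⟩ := h.perm s hs a'
        have hdb : d ≠ b := by
          rintro rfl
          apply ha'
          apply hNne
          rw [← c1, ← d1, cj_cj, inv_mul_cancel, cj_one]
        have h1 := cj_mono s⁻¹ (hA.2.1 d hdb)
        rw [RWide.cj_centralizer, ← d1, cj_cj, inv_mul_cancel, cj_one] at h1
        exact h1
      · have h1 := cj_mono s⁻¹ hA.2.2.1
        rwa [cj_eq_of_mem_normalizer (h.SB hs')] at h1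
      · intro hc
        apply hA.2.2.2
        have h1 := cj_mono s hc
        rw [RWide.cj_centralizer, ← c1, cj_cj, cj_cj, mul_inv_cancel, cj_one, cj_one] at h1
        exact h1
      · rw [← c3]
        have := conj_mem_cj (g := s⁻¹) hm
        rwa [inv_inv] at this
      · have := conj_mem_cj (g := s⁻¹) ha
        rwa [inv_inv] at this
    intro s hs
    refine mem_normalizer_of_cj_le ?_
    intro y hy
    obtain ⟨h1, h2⟩ := mem_cj.1 hy
    have e1 : s * (s⁻¹ * y * s) * s⁻¹ = y := by group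
    refine ⟨?_, mem_centralizer_iff.2 fun x hx => ?_⟩
    · have := (mem_normalizer_iff.1 (hS hs) _).1 h1
      rwa [e1] at this
    · have h3 := mem_centralizer_iff.1 h2 _ (hstep s hs x hx)
      calc x * y = s * ((s⁻¹ * x * s) * (s⁻¹ * y * s)) * s⁻¹ := by group
        _ = s * ((s⁻¹ * y * s) * (s⁻¹ * x * s)) * s⁻¹ := by rw [h3]
        _ = y * x := by group
  -- `F = 1`
  have hF1 : F = ⊥ := by
    by_contra hne
    have hf : Fact (Nat.Prime 2) := ⟨Nat.prime_two⟩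
    have hFle : F ≤ S := inf_le_left.trans (hQ.trans h.QS)
    have h1 := PLocal.OffenderStep.inf_centralizer_ne_bot F S (h.two.to_le hFle) h.two hFS hne
    apply h1
    rw [eq_bot_iff]
    rintro f ⟨hf1, hf2⟩
    refine mem_bot.2 (hFV f hf1 (h.Z ?_))
    refine mem_zc.2 ⟨hFle hf1, ?_, fun y hy => mem_centralizer_iff.1 hf2 y hy⟩
    rw [pow_two]
    exact hsq f hf1.1
  refine le_antisymm (fun y hy => ?_) hV
  obtain ⟨v, hv, hvy⟩ := hVF y hy
  rw [hF1, mem_bot] at hvy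
  have : y = v⁻¹ := eq_inv_of_mul_eq_one_right hvy
  rw [this]
  exact inv_mem hv

/-- **I2** : `C ⊓ N(B) ≤ N(V)` -/
theorem le_normV (h : NBf S C O Q B N l L K) [Finite ι] :
    C ⊓ normalizer (B : Set G) ≤ normalizer ((⨆ b, N b : Subgroup G) : Set G) := by
  classical
  set V : Subgroup G := ⨆ b, N b with hV
  set Vp : Subgroup G := ⨆ x : ↥(C ⊓ normalizer (B : Set G)), cj (x : G) V with hVp
  have hlne : ∀ c, l c ≠ ⊥ := by
    intro c hc
    obtain ⟨A, -, -, -, hAb, -⟩ := h.gen c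
    have h1 := h.card c
    rw [hc, card_bot, one_pow] at h1
    have h2 : N c = ⊥ := eq_bot_of_card_eq _ h1
    apply hAb
    intro a _
    refine mem_cent_iff.2 fun v hv => ?_
    rw [h2] at hv
    rw [mem_bot.1 hv, mul_one, one_mul]
  -- every conjugate centralises `Q`
  have hcx : ∀ x ∈ C ⊓ normalizer (B : Set G), ∀ c, Cx S C O Q B N l L K (cj x (N c)) (cj x (l c)) :=
    fun x hx c => Cx.of h hx.1 hx.2 c
  have h1 : ∀ x ∈ C ⊓ normalizer (B : Set G), ∀ c, ∀ m ∈ Q, ∀ w ∈ cj x (N c), m * w = w * m := by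
    intro x hx c
    refine h.cent_Q (hcx x hx c) ?_
    intro h2
    apply hlne c
    have h3 := congrArg (cj x⁻¹) h2
    rw [cj_cj, inv_mul_cancel, cj_one] at h3
    exact h3.trans (Subgroup.map_bot _)
  have hxV : ∀ x : G, cj x V = ⨆ c, cj x (N c) := fun x => cj_iSup x N
  have h2 : ∀ x ∈ C ⊓ normalizer (B : Set G), cj x V ≤ Q := by
    intro x hx
    rw [hxV]
    refine iSup_le fun c w hw => h.memQ.2 ⟨(hcx x hx c).WS hw, fun b v hv => ?_⟩
    exact (hcx x hx c).cV w hw v ((le_iSup N b) hv)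
  have h3 : ∀ x ∈ C ⊓ normalizer (B : Set G), cj x V ≤ centralizer (Q : Set G) := by
    intro x hx
    rw [hxV]
    exact iSup_le fun c w hw => mem_cent_iff.2 fun m hm => (h1 x hx c m hm w hw).symm
  have hVV : V ≤ Vp := by
    have h4 := le_iSup (fun x : ↥(C ⊓ normalizer (B : Set G)) => cj (x : G) V) 1
    rwa [OneMemClass.coe_one, cj_one] at h4
  have hinv : ∀ y ∈ C ⊓ normalizer (B : Set G), cj y Vp ≤ Vp := by
    intro y hy
    rw [hVp, cj_iSup]
    refine iSup_le fun x => ?_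
    rw [cj_cj]
    exact le_iSup (fun x : ↥(C ⊓ normalizer (B : Set G)) => cj (x : G) V) ⟨y * x, mul_mem hy x.2⟩
  have key : Vp = V := by
    refine h.eq_V hVV (iSup_le fun x => h2 x x.2) (iSup_le fun x => h3 x x.2) ?_ ?_ ?_
    · refine sq_iSup (X := fun x : ↥(C ⊓ normalizer (B : Set G)) => cj (x : G) V) ?_ ?_
      · intro i j x hx y hy
        exact mem_cent_iff.1 (h3 i i.2 hx) y (h2 j j.2 hy)
      · intro m x hx
        have h1 := h.Vsq _ (mem_cj.1 hx)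
        calc x * x = m * ((m : G)⁻¹ * x * m * ((m : G)⁻¹ * x * m)) * (m : G)⁻¹ := by group
          _ = 1 := by rw [h1]; group
    · intro s hs
      exact mem_normalizer_of_cj_le (hinv s ⟨h.SC hs, h.SB hs⟩)
    · intro b m hm
      rw [hVp, cj_iSup]
      refine iSup_le fun x => ?_
      have h4 : cj (x : G) V ≤ K b := by
        rw [hxV]
        exact iSup_le fun c => (hcx x x.2 c).WK b
      exact ((cj_mono m h4).trans (cj_eq_of_mem_normalizer (h.LK b hm)).le).trans (h.KO b)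
  intro y hy
  refine mem_normalizer_of_cj_le ?_
  have h4 := hinv y hy
  rwa [key] at h4

/-- **I4** : `Ω₁Z(B) ≤ ⨆ l` -/
theorem zcB (h : NBf S C O Q B N l L K) [Finite ι] (hK : ∀ b, zc B ≤ K b) : zc B ≤ ⨆ b, l b := by
  classical
  set V : Subgroup G := ⨆ b, N b with hV
  have hVB : V ≤ B := h.VQ.trans h.QB
  have hZ : ∀ z ∈ zc B, ∀ y ∈ B, y * z = z * y := fun z hz y hy => (mem_zc.1 hz).2.2 y hy
  have hZQ : zc B ≤ Q := fun z hz => h.memQ.2 ⟨h.BS (mem_zc.1 hz).1, fun b v hv =>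
    (hZ z hz v (hVB ((le_iSup N b) hv))).symm⟩
  have hZC : zc B ≤ centralizer (Q : Set G) := fun z hz => mem_centralizer_iff.2 fun m hm => hZ z hz m (h.QB hm)
  have hQV : ∀ m ∈ Q, ∀ v ∈ V, m * v = v * m := fun m hm v hv => by
    have h1 := (h.memQ.1 hm).2
    exact mem_cent_iff.1 (mem_cent_iSup.2 h1) v hv
  have hVC : V ≤ centralizer (Q : Set G) := fun v hv => mem_centralizer_iff.2 fun m hm => hQV m hm v hv
  have key : V ⊔ zc B = V := by
    refine h.eq_V le_sup_left (sup_le h.VQ hZQ) (sup_le hVC hZC) ?_ ?_ ?_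
    · intro v hv
      obtain ⟨x, hx, y, hy, rfl⟩ := PermB.mem_sup_comm (X := V) (Y := zc B) (fun x hx y hy => hZ y hy x (hVB hx)) hv
      have h1 : x * y = y * x := hZ y hy x (hVB hx)
      have h2 : y * y = 1 := by rw [← pow_two]; exact (mem_zc.1 hy).2.1
      calc x * y * (x * y) = x * (y * x) * y := by group
        _ = x * (x * y) * y := by rw [h1]
        _ = (x * x) * (y * y) := by group
        _ = 1 := by rw [h.Vsq x hx, h2, one_mul]
    · intro s hs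
      refine mem_normalizer_of_cj_le ?_
      refine (Subgroup.map_sup _ _ _).le.trans (sup_le_sup ?_ ?_)
      · refine (cj_iSup s N).le.trans (iSup_le fun b => ?_)
        obtain ⟨c, hc, -⟩ := h.perm s hs b
        rw [hc]; exact le_iSup N c
      · intro z hz
        obtain ⟨h1, h2, h3⟩ := mem_zc.1 (mem_cj.1 hz)
        have e1 : s * (s⁻¹ * z * s) * s⁻¹ = z := by group
        refine mem_zc.2 ⟨?_, ?_, fun y hy => ?_⟩
        · have := (mem_normalizer_iff.1 (h.SB hs) _).1 h1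
          rwa [e1] at this
        · calc z ^ 2 = s * (s⁻¹ * z * s) ^ 2 * s⁻¹ := by rw [pow_two, pow_two]; group
            _ = 1 := by rw [h2]; group
        · have h4 : s⁻¹ * y * s ∈ B := by
            have := (mem_normalizer_iff.1 (inv_mem (h.SB hs)) y).1 hy
            rwa [inv_inv] at this
          have h5 := h3 _ h4
          calc y * z = s * ((s⁻¹ * y * s) * (s⁻¹ * z * s)) * s⁻¹ := by group
            _ = s * ((s⁻¹ * z * s) * (s⁻¹ * y * s)) * s⁻¹ := by rw [h5]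
            _ = z * y := by group
    · intro b m hm
      have h1 : V ⊔ zc B ≤ K b := sup_le (iSup_le fun a => h.NK a b) (hK b)
      exact ((cj_mono m h1).trans (cj_eq_of_mem_normalizer (h.LK b hm)).le).trans (h.KO b)
  intro z hz
  have hzV : z ∈ V := by rw [← key]; exact (le_sup_right : zc B ≤ V ⊔ zc B) hz
  obtain ⟨e, he⟩ := exists_co h.com h.ind
  -- all components of `z` lie in the lines
  have hzl : ∀ b, e z b ∈ l b := by
    intro b
    obtain ⟨A, hA1, hAN, hAB, hAb, g, hg, hgl, -⟩ := h.gen b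
    have hA : Pure O B N b A := ⟨hA1, hAN, hAB, hAb⟩
    refine h.zent hA _ (he.mem z hzV b) (mem_centralizer_iff.2 fun a ha => ?_)
    have haN : ∀ i, ∀ v ∈ N i, a * v * a⁻¹ ∈ N i := by
      intro i v hv
      have h1 := (h.rt i).com a (hAB ha) v hv
      have h2 := mul_mem (h.lN i h1) hv
      rwa [inv_mul_cancel_right] at h2
    have h2 := (he.conj haN hzV).2 b
    have h1 : a * z = z * a := hZ z hz a (hAB ha)
    have h3 : a * z * a⁻¹ = z := by rw [h1, mul_inv_cancel_right]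
    rw [h3] at h2
    exact (eq_mul_inv_iff_mul_eq.1 h2).symm
  have hex : ∀ s : Finset ι, ∃ v ∈ ⨆ b, l b, ∀ c, e v c = if c ∈ s then e z c else 1 := by
    intro s
    induction s using Finset.induction_on with
    | empty => exact ⟨1, one_mem _, fun c => by simp [he.one c]⟩
    | insert b s hb ih =>
      obtain ⟨v, hv, hv2⟩ := ih
      have hnb : e z b ∈ ⨆ b, l b := (le_iSup l b) (hzl b)
      have hle : (⨆ b, l b) ≤ ⨆ b, N b := iSup_mono h.lN
      refine ⟨v * e z b, mul_mem hv hnb, fun c => ?_⟩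
      rw [he.mul _ (hle hv) _ (hle hnb), hv2 c]
      by_cases hcb : c = b
      · subst hcb
        rw [he.self _ _ (he.mem z hzV _)]
        simp [hb]
      · rw [he.off _ _ (he.mem z hzV _) _ hcb]
        simp [hcb]
  have := Fintype.ofFinite ι
  obtain ⟨v, hv, hv2⟩ := hex Finset.univ
  have h1 : z = v := he.ext' hzV (iSup_mono h.lN hv) fun c => by rw [hv2 c]; simp
  rw [h1]; exact hv

end NBf

end one

end Cfsg.Agent.Omega.NOThreeL.RWide.NormB
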