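import Cfsg.Agent.Omega.EDel.UQ.TFrame
import Cfsg.Agent.Omega.NOThreeL.RWide.Typ

/-!
# The hypotheses `oT`, `VX`, `cV`, `dis` of `TypT.of` (helper848 #25339) from the block data

`T` a 2-group, `F i ≤ V i`, `E i` normalises `V i` and centralises the `V c`, `c ≠ i`.

* `oT_of` : `O₂(C_G(F_l : l ≠ i, j)) ≤ T`;
* `cV_of`, `dis_of` : from the independence of the `V i`;
* `V_le_XS` (`VX`), `exists_ord` : `E` induces a group containing `SL₂(F)` on `V`.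
-/

set_option autoImplicit false
set_option linter.unusedSectionVars false

namespace Cfsg.Agent.Omega.NOThreeL.RWide.TBits

open Subgroup Cfsg
open Cfsg.Agent.ZN (zc o2)
open Cfsg.Agent.ZN.ChoiceBase (cj cj_mono cj_inf cj_centralizer cj_eq_of_mem_normalizer mem_cj mem_normalizer_iff_cj
  cj_cj_inv cj_inv_cj cj_cj cj_one)
open Cfsg.Agent.Omega.EDel.UQ (XK XK_cent le_XK XK_mono XF_eq o2X_of_mv)
open Cfsg.Agent.Omega.EDel.ThmU (XF)
open Cfsg.Agent.Omega.NoFF.Basic (comm_symm)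
open Cfsg.Agent.Omega.NOThreeL.RWide (XS YY conj_mem_XS XS_mono le_YY)

universe u

variable {G : Type u} [Group G] {ι : Type*}

/-! ### `oT` -/

/-- powers of `a ρ⁻¹` act on `V` as those of `ρ⁻¹`, if `a` centralises `V` and `ρ` normalises `V` -/
theorem conj_pow {V : Subgroup G} {a ρ : G} (ha : a ∈ centralizer (V : Set G)) (hρ : ρ ∈ normalizer (V : Set G))
    (n : ℕ) : ∀ v ∈ V, (a * ρ⁻¹) ^ n * v * ((a * ρ⁻¹) ^ n)⁻¹ = (ρ ^ n)⁻¹ * v * ρ ^ n := by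
  induction n with
  | zero => intro v _; simp
  | succ n ih =>
    intro v hv
    have h1 : ρ⁻¹ * v * ρ ∈ V := by
      have := (mem_normalizer_iff.1 (inv_mem hρ) v).1 hv
      rwa [inv_inv] at this
    have h2 : (ρ⁻¹ * v * ρ) * a = a * (ρ⁻¹ * v * ρ) := mem_centralizer_iff.1 ha _ h1
    calc (a * ρ⁻¹) ^ (n + 1) * v * ((a * ρ⁻¹) ^ (n + 1))⁻¹
        = (a * ρ⁻¹) ^ n * (a * (ρ⁻¹ * v * ρ) * a⁻¹) * ((a * ρ⁻¹) ^ n)⁻¹ := by rw [pow_succ]; group
      _ = (a * ρ⁻¹) ^ n * (ρ⁻¹ * v * ρ) * ((a * ρ⁻¹) ^ n)⁻¹ := by rw [← h2, mul_inv_cancel_right]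
      _ = (ρ ^ n)⁻¹ * (ρ⁻¹ * v * ρ) * ρ ^ n := ih _ h1
      _ = (ρ ^ (n + 1))⁻¹ * v * ρ ^ (n + 1) := by
        rw [pow_succ' ρ n]
        group

/-- **`oT`** : `O₂(C_G(F_l : l ≠ i, j)) ≤ T` -/
theorem oT_of [Finite G] {T : Subgroup G} {F V E : ι → Subgroup G} (two : IsPGroup 2 T)
    (hT : ∀ i, T ≤ centralizer (F i : Set G)) (FV : ∀ i, F i ≤ V i)
    (EN : ∀ i, E i ≤ normalizer (V i : Set G)) (EC : ∀ b c, b ≠ c → E b ≤ centralizer (V c : Set G))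
    (ord : ∀ i, ∃ ρ ∈ E i, ∀ k : ℕ, ∃ v ∈ V i, ρ ^ 2 ^ k * v ≠ v * ρ ^ 2 ^ k)
    (NT : ∀ n ∈ normalizer (T : Set G), ∃ σ : Equiv.Perm ι, ∀ i, cj n (F i) = F (σ i) ∧ cj n (V i) = V (σ i))
    (ker : ∀ n ∈ normalizer (T : Set G), (∃ k : ℕ, n ^ 2 ^ k = 1) → (∀ i, cj n (F i) = F i) → n ∈ T)
    (i j : ι) : o2 (XF F i j) ≤ T := by
  rw [XF_eq]
  refine o2X_of_mv two (le_XK fun n _ => hT n) ker fun g hg _ i hne => ?_
  obtain ⟨σ, hσ⟩ := NT g hg
  obtain ⟨ρ, hρ, hord⟩ := ord i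
  refine ⟨ρ, le_XK (H := E i) (fun n hn => (EC i n fun e => hn e.symm).trans (centralizer_le (FV n))) hρ, ?_⟩
  rintro ⟨k, hk⟩
  obtain ⟨v, hv, hne'⟩ := hord k
  apply hne'
  -- `g ρ g⁻¹` centralises `V i`
  have ha : g * ρ * g⁻¹ ∈ centralizer (V i : Set G) := by
    rw [mem_centralizer_iff]
    intro w hw
    have hc : σ.symm i ≠ i := by
      intro e
      apply hne
      have e' : σ i = i := by
        conv_lhs => rw [← e]
        rw [Equiv.apply_symm_apply]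
      rw [(hσ i).1, e']
    have h1 : g⁻¹ * w * g ∈ V (σ.symm i) := by
      rw [← mem_cj, (hσ _).2, Equiv.apply_symm_apply]
      exact hw
    have h2 := mem_centralizer_iff.1 (EC i _ (Ne.symm hc) hρ) _ h1
    calc w * (g * ρ * g⁻¹) = g * (g⁻¹ * w * g * ρ) * g⁻¹ := by group
      _ = g * (ρ * (g⁻¹ * w * g)) * g⁻¹ := by rw [h2]
      _ = g * ρ * g⁻¹ * w := by group
  have e : g * (ρ * g⁻¹ * ρ⁻¹) = (g * ρ * g⁻¹) * ρ⁻¹ := by group
  have h3 := conj_pow ha (EN i hρ) (2 ^ k) v hv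
  rw [← e, hk, one_mul, inv_one, mul_one] at h3
  calc ρ ^ 2 ^ k * v = ρ ^ 2 ^ k * ((ρ ^ 2 ^ k)⁻¹ * v * ρ ^ 2 ^ k) := by rw [← h3]
    _ = v * ρ ^ 2 ^ k := by group

/-! ### `cV`, `dis` -/

/-- **`dis`** -/
theorem dis_of {V : ι → Subgroup G} (ind : ∀ b, V b ⊓ (⨆ c : {c // c ≠ b}, V c) = ⊥) (i j : ι) (hij : i ≠ j) :
    V i ⊓ V j = ⊥ := by
  rw [eq_bot_iff, ← ind i]
  exact inf_le_inf_left _ (le_iSup (fun c : {c // c ≠ i} => V c) ⟨j, Ne.symm hij⟩)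

/-- **`cV`** -/
theorem cV_of {Z : Subgroup G} {F V : ι → Subgroup G} (sup : Z ≤ ⨆ i, F i) (FV : ∀ i, F i ≤ V i)
    (com : ∀ i j, V i ≤ centralizer (V j : Set G)) (ind : ∀ b, V b ⊓ (⨆ c : {c // c ≠ b}, V c) = ⊥) (i : ι) :
    V i ⊓ Z ≤ F i := by
  rintro x ⟨hx, hxZ⟩
  have h1 : (⨆ j, F j) ≤ F i ⊔ (⨆ c : {c // c ≠ i}, F c) := by
    refine iSup_le fun j => ?_
    by_cases hj : j = i
    · rw [hj]; exact le_sup_left
    · exact (le_iSup (fun c : {c // c ≠ i} => F c) ⟨j, hj⟩).trans le_sup_right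
  have h2 : x ∈ F i ⊔ (⨆ c : {c // c ≠ i}, F c) := h1 (sup hxZ)
  have hn : F i ≤ normalizer ((⨆ c : {c // c ≠ i}, F c : Subgroup G) : Set G) := by
    refine le_trans ?_ (centralizer_le_normalizer _)
    refine comm_symm (iSup_le fun c => ?_)
    exact (FV c).trans ((com c i).trans (centralizer_le (FV i)))
  have h2' : x ∈ ((F i ⊔ (⨆ c : {c // c ≠ i}, F c) : Subgroup G) : Set G) := h2
  rw [coe_mul_of_left_le_normalizer_right _ _ hn] at h2'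
  obtain ⟨f, hf, w, hw, rfl⟩ := Set.mem_mul.1 h2'
  have h3 : w ∈ V i := by
    have h4 := mul_mem (inv_mem (FV i hf)) hx
    rwa [inv_mul_cancel_left] at h4
  have h5 : w ∈ V i ⊓ (⨆ c : {c // c ≠ i}, V c) :=
    ⟨h3, (iSup_mono fun c : {c // c ≠ i} => FV c) hw⟩
  rw [ind i, mem_bot] at h5
  rw [h5, mul_one]
  exact hf

/-! ### Natural `SL₂(F)`-modules -/

section nat

variable {F : Type} [Field F] {e : G → Fin 2 → F} {E N : Subgroup G}

/-- a matrix of determinant 1 with given first column -/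
theorem exists_col (x : Fin 2 → F) (hx : x ≠ 0) :
    ∃ M : Matrix.SpecialLinearGroup (Fin 2) F, M.1.mulVec ![1, 0] = x := by
  by_cases h0 : x 0 = 0
  · have h1 : x 1 ≠ 0 := by
      intro h1
      apply hx
      funext i
      fin_cases i
      · exact h0
      · exact h1
    refine ⟨⟨!![0, -(x 1)⁻¹; x 1, 0], by rw [Matrix.det_fin_two_of]; field_simp; ring⟩, ?_⟩
    funext i
    fin_cases i
    · simp [Matrix.mulVec, dotProduct, Fin.sum_univ_two, h0]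
    · simp [Matrix.mulVec, dotProduct, Fin.sum_univ_two]
  · refine ⟨⟨!![x 0, 0; x 1, (x 0)⁻¹], by rw [Matrix.det_fin_two_of]; field_simp; ring⟩, ?_⟩
    funext i
    fin_cases i
    · simp [Matrix.mulVec, dotProduct, Fin.sum_univ_two]
    · simp [Matrix.mulVec, dotProduct, Fin.sum_univ_two]

/-- `SL₂(F)` is transitive on the nonzero vectors -/
theorem exists_mulVec {x y : Fin 2 → F} (hx : x ≠ 0) (hy : y ≠ 0) :
    ∃ M : Matrix.SpecialLinearGroup (Fin 2) F, M.1.mulVec x = y := by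
  obtain ⟨A, hA⟩ := exists_col x hx
  obtain ⟨B, hB⟩ := exists_col y hy
  refine ⟨B * A⁻¹, ?_⟩
  have h1 : (A⁻¹).1.mulVec x = ![1, 0] := by
    rw [← hA, Matrix.mulVec_mulVec, ← Matrix.SpecialLinearGroup.coe_mul, inv_mul_cancel,
      Matrix.SpecialLinearGroup.coe_one, Matrix.one_mulVec]
  rw [Matrix.SpecialLinearGroup.coe_mul, ← Matrix.mulVec_mulVec, h1, hB]

variable (mul : ∀ v ∈ N, ∀ w ∈ N, e (v * w) = e v + e w) (inj : ∀ v ∈ N, e v = 0 → v = 1)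
  (full : ∀ M : Matrix.SpecialLinearGroup (Fin 2) F, ∃ g ∈ E, ∀ v ∈ N, e (g * v * g⁻¹) = M.1.mulVec (e v))
  (EN : E ≤ normalizer (N : Set G))

include mul in
theorem e_one : e 1 = 0 := by
  have h := mul 1 (one_mem _) 1 (one_mem _)
  rw [mul_one] at h
  simpa using h

include mul in
theorem e_inv {v : G} (hv : v ∈ N) : e v⁻¹ = -e v := by
  have h := mul v hv v⁻¹ (inv_mem hv)
  rw [mul_inv_cancel, e_one mul] at h
  exact (neg_eq_of_add_eq_zero_right h.symm).symm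

include mul inj in
theorem e_inj {v w : G} (hv : v ∈ N) (hw : w ∈ N) (h : e v = e w) : v = w := by
  have h1 := inj (v * w⁻¹) (mul_mem hv (inv_mem hw)) (by
    rw [mul v hv _ (inv_mem hw), e_inv mul hw, h, add_neg_cancel])
  exact mul_inv_eq_one.1 h1

include mul inj full EN in
/-- **irreducibility** : `N ≤ ⟨A^E⟩` for `1 ≠ A ≤ N` -/
theorem N_le_XS {A : Subgroup G} (hA : A ≤ N) (hA1 : A ≠ ⊥) : N ≤ XS A E := by
  obtain ⟨a, ha, ha1⟩ : ∃ a ∈ A, a ≠ 1 := by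
    by_contra hcon
    push Not at hcon
    exact hA1 ((eq_bot_iff_forall _).2 hcon)
  have hea : e a ≠ 0 := fun h => ha1 (inj a (hA ha) h)
  intro v hv
  by_cases hv1 : v = 1
  · rw [hv1]; exact one_mem _
  have hev : e v ≠ 0 := fun h => hv1 (inj v hv h)
  obtain ⟨M, hM⟩ := exists_mulVec hea hev
  obtain ⟨g, hg, hgM⟩ := full M
  have h1 : g * a * g⁻¹ ∈ N := (mem_normalizer_iff.1 (EN hg) a).1 (hA ha)
  have h2 : g * a * g⁻¹ = v := e_inj mul inj h1 hv (by rw [hgM a (hA ha), hM])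
  rw [← h2]
  exact conj_mem_XS hg ha

/-- an element of order 3 of `SL₂(F)` -/
theorem exists_three : ∃ M : Matrix.SpecialLinearGroup (Fin 2) F, M ^ 3 = 1 ∧ M ≠ 1 := by
  let M : Matrix.SpecialLinearGroup (Fin 2) F := ⟨!![0, -1; 1, -1], by rw [Matrix.det_fin_two_of]; ring⟩
  have hM : (M : Matrix (Fin 2) (Fin 2) F) = !![0, -1; 1, -1] := rfl
  refine ⟨M, ?_, ?_⟩
  · apply Matrix.SpecialLinearGroup.ext
    intro i j
    rw [Matrix.SpecialLinearGroup.coe_pow, Matrix.SpecialLinearGroup.coe_one, pow_succ, pow_two, hM]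
    fin_cases i <;> fin_cases j <;> simp [Matrix.mul_apply, Fin.sum_univ_two]
  · intro h
    have h1 := congrArg (fun M : Matrix.SpecialLinearGroup (Fin 2) F => M.1 0 0) h
    simp [hM] at h1

include full EN in
/-- some `ρ ∈ E` has no 2-power centralising `N` -/
theorem exists_ord (sur : ∀ x : Fin 2 → F, ∃ v ∈ N, e v = x) :
    ∃ ρ ∈ E, ∀ k : ℕ, ∃ v ∈ N, ρ ^ 2 ^ k * v ≠ v * ρ ^ 2 ^ k := by
  obtain ⟨M, hM3, hM1⟩ := exists_three (F := F)
  obtain ⟨ρ, hρ, hact⟩ := full M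
  refine ⟨ρ, hρ, fun k => ?_⟩
  by_contra hcon
  push Not at hcon
  have hpow : ∀ n : ℕ, ∀ v ∈ N, e (ρ ^ n * v * (ρ ^ n)⁻¹) = (M ^ n).1.mulVec (e v) := by
    intro n
    induction n with
    | zero => intro v _; simp
    | succ n ih =>
      intro v hv
      have h1 : ρ * v * ρ⁻¹ ∈ N := (mem_normalizer_iff.1 (EN hρ) v).1 hv
      have e1 : ρ ^ (n + 1) * v * (ρ ^ (n + 1))⁻¹ = ρ ^ n * (ρ * v * ρ⁻¹) * (ρ ^ n)⁻¹ := by
        rw [pow_succ]; group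
      rw [e1, ih _ h1, hact v hv, Matrix.mulVec_mulVec, ← Matrix.SpecialLinearGroup.coe_mul, ← pow_succ]
  have h1 : M ^ 2 ^ k = 1 := by
    apply Subtype.ext
    apply Matrix.ext_of_mulVec_single
    intro i
    obtain ⟨v, hv, hve⟩ := sur (Pi.single i 1)
    have h2 := hpow (2 ^ k) v hv
    rw [hcon v hv, mul_inv_cancel_right, hve] at h2
    rw [← h2, Matrix.SpecialLinearGroup.coe_one, Matrix.one_mulVec]
  apply hM1
  have h3 : orderOf M ∣ 3 := orderOf_dvd_of_pow_eq_one hM3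
  have h4 : orderOf M ∣ 2 ^ k := orderOf_dvd_of_pow_eq_one h1
  have h5 : orderOf M ∣ 1 := by
    have hc : Nat.Coprime 3 (2 ^ k) := Nat.Coprime.pow_right k (by norm_num)
    rw [← hc]
    exact Nat.dvd_gcd h3 h4
  exact orderOf_eq_one_iff.1 (Nat.dvd_one.1 h5)

end nat

/-- **`VX`** -/
theorem VX_of {F V E : ι → Subgroup G} (FV : ∀ i, F i ≤ V i)
    (EC : ∀ b c, b ≠ c → E b ≤ centralizer (V c : Set G)) (i : ι) (h : V i ≤ XS (F i) (E i)) :
    V i ≤ XS (F i) (YY F i) :=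
  h.trans (XS_mono (le_YY fun l hl => (EC i l (Ne.symm hl)).trans (centralizer_le (FV l))))

end Cfsg.Agent.Omega.NOThreeL.RWide.TBits
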