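import Cfsg.Agent.Omega.NOThreeL.RWide.NonBls
import Cfsg.Agent.Omega.NOThreeL.RWide.TAct

/-!
# The argument `non` of `TAct.Tf.typT`

* `nf` : `Tf S V N l` (helper823), natural blocks `Bls S V N l E` (helper655), `C_G(Z) ≤ N_G(Z_J)` (`cz`) and `P ∈ P*(S)`
  permute the blocks (`perm`): the structure `NonF.NF`;
* `non` : the hypothesis `non` of `TAct.Tf.typT`, literally;
* `nf'`, `non'` : the same without `Bls`: `B` acts on each block like a group `R b ≤ N_G(N b)` centralising the other blocks.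
-/

set_option autoImplicit false
set_option linter.unusedSectionVars false

namespace Cfsg.Agent.Omega.NOThreeL.RWide.NonTf

open Subgroup Cfsg Cfsg.Agent.ZN Cfsg.Agent.Omega.MinPar Cfsg.Agent.Omega.Frame Cfsg.Agent.Omega.FrameNOFF
open Cfsg.Agent.ZN.ChoiceBase (cj cj_mono mem_normalizer_iff_cj)
open Cfsg.Agent.Omega.NOThreeL.RWide.NonF (NF)
open Cfsg.Agent.Omega.NOThreeL.RWide.TAct (Tf)

universe u v

variable {G : Type u} [Group G] [Finite G] {ι : Type v} [Finite ι] [Nonempty ι] {S : Sylow 2 G} {V : Subgroup G}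
  {N l E R : ι → Subgroup G}

/-- the frame `NF`, `B` acting on the blocks like the groups `R b` -/
theorem nf' (h : Tf S V N l) (hRN : ∀ b, R b ≤ normalizer (N b : Set G))
    (hRC : ∀ b c, b ≠ c → R b ≤ centralizer (N c : Set G))
    (hB : ∀ s ∈ TAct.BB (S : Subgroup G) l, ∀ b, ∃ r ∈ R b, ∀ v ∈ N b, s * v * s⁻¹ = r * v * r⁻¹)
    (cz : CZ (S : Subgroup G) ≤ normalizer ((⨆ b, l b : Subgroup G) : Set G))
    (perm : ∀ P : Subgroup G, IsParS (S : Subgroup G) P → ∀ x ∈ P, ∀ b, ∃ c, cj x (N b) = N c) :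
    NF S N l (TAct.BB (S : Subgroup G) l) where
  eq := rfl
  lN := h.lN
  lS := fun b => (h.lV b).trans h.VS
  lc := fun a b => (h.lV a).trans (h.com.trans (centralizer_le (h.lV b)))
  Ninj := fun _ _ e => h.N_inj e
  NB := fun x hx => h.permX x hx (h.B_le hx)
  cz := cz
  par := perm
  wc := fun P hP g hg => h.wc g (by
    rw [← h.sup]
    exact NonF.norm_ZJ (l := N) (perm P hP g hg))
  BN := NonF.BN_of hRC hRN hB

/-- **The hypothesis `non` of `Tf.typT`**, `B` acting on the blocks like the groups `R b`. -/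
theorem non' (hG : Ctx G) (hF : Full (S : Subgroup G)) (h : Tf S V N l)
    (hRN : ∀ b, R b ≤ normalizer (N b : Set G)) (hRC : ∀ b c, b ≠ c → R b ≤ centralizer (N c : Set G))
    (hB : ∀ s ∈ TAct.BB (S : Subgroup G) l, ∀ b, ∃ r ∈ R b, ∀ v ∈ N b, s * v * s⁻¹ = r * v * r⁻¹)
    (cz : CZ (S : Subgroup G) ≤ normalizer ((⨆ b, l b : Subgroup G) : Set G))
    (perm : ∀ P : Subgroup G, IsParS (S : Subgroup G) P → ∀ x ∈ P, ∀ b, ∃ c, cj x (N b) = N c) :
    ∀ U : Subgroup G, IsPGroup 2 U →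
      (∀ j, YY (TAct.FF (S : Subgroup G) N l) j ≤ normalizer (U : Set G)) → U = ⊥ :=
  (nf' h hRN hRC hB cz perm).non hG hF fun _ => inf_le_left

/-- the frame `NF` from `Tf` and `Bls` -/
theorem nf (h : Tf S V N l) (hb : TBlk.Bls (S : Subgroup G) V N l E)
    (cz : CZ (S : Subgroup G) ≤ normalizer ((⨆ b, l b : Subgroup G) : Set G))
    (perm : ∀ P : Subgroup G, IsParS (S : Subgroup G) P → ∀ x ∈ P, ∀ b, ∃ c, cj x (N b) = N c) :
    NF S N l (TAct.BB (S : Subgroup G) l) :=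
  nf' h (R := fun b => (S : Subgroup G) ⊓ E b) (fun b => inf_le_right.trans (hb.EN b))
    (fun b c hbc => inf_le_right.trans (hb.EC b c hbc)) (NonBls.B_act hb S.isPGroup') cz perm

/-- **The hypothesis `non` of `Tf.typT`.** -/
theorem non (hG : Ctx G) (hF : Full (S : Subgroup G)) (h : Tf S V N l) (hb : TBlk.Bls (S : Subgroup G) V N l E)
    (cz : CZ (S : Subgroup G) ≤ normalizer ((⨆ b, l b : Subgroup G) : Set G))
    (perm : ∀ P : Subgroup G, IsParS (S : Subgroup G) P → ∀ x ∈ P, ∀ b, ∃ c, cj x (N b) = N c) :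
    ∀ U : Subgroup G, IsPGroup 2 U →
      (∀ j, YY (TAct.FF (S : Subgroup G) N l) j ≤ normalizer (U : Set G)) → U = ⊥ :=
  (nf h hb cz perm).non hG hF fun _ => inf_le_left

/-- The hypothesis `non` from a nonlocality theorem for `⟨C_G(Z_J), L b : b⟩` (one class, `nlQ`): `F i ≤ l i`, `L b`
centralises the lines `l c`, `c ≠ b`. -/
theorem non_of_nl {l F L : ι → Subgroup G} {ZJ : Subgroup G} (hZJ : (⨆ b, l b) ≤ ZJ) (hFl : ∀ i, F i ≤ l i)
    (hL : ∀ b c, c ≠ b → L b ≤ centralizer (l c : Set G))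
    (nl : ∀ R : Subgroup G, IsPGroup 2 R → centralizer (ZJ : Set G) ≤ normalizer (R : Set G) →
      (∀ i, L i ≤ normalizer (R : Set G)) → R = ⊥) :
    ∀ U : Subgroup G, IsPGroup 2 U → (∀ j, YY F j ≤ normalizer (U : Set G)) → U = ⊥ := by
  intro U hU2 hU
  obtain ⟨i⟩ := ‹Nonempty ι›
  refine nl U hU2 (le_trans (le_YY fun c _ => centralizer_le ?_) (hU i)) fun b =>
    (le_YY fun c hc => (hL b c hc).trans (centralizer_le (hFl c))).trans (hU b)
  exact_mod_cast ((hFl c).trans (le_iSup l c)).trans hZJ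

end Cfsg.Agent.Omega.NOThreeL.RWide.NonTf
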