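import Cfsg.Agent.Omega.NOThreeL.RWide.TBlk
import Cfsg.Agent.ZN.ChoiceSit

/-!
# `N_G(V) ∩ N_G(B)` permutes the blocks (bb OMEGA #26055; #24915 (A))

* `exists_B` : `p ∈ N_G(V)`, `[V, p] ≤ Z`, `[Z, p] = 1`: `p` acts on `V` as an element of `C_S(Z)`;
* `Kd.permX` : `g ∈ N_G(V) ∩ N_G(B)` permutes the pairs `(l b, N b)`;
* `Bls.permX` : the same for `Bls`.
-/

set_option autoImplicit false
set_option linter.unusedSectionVars false

namespace Cfsg.Agent.Omega.NOThreeL.RWide.TPerm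

open Subgroup Cfsg.Agent.ZN.ChoiceBase Cfsg.Agent.ZN.ChoiceSit
open Cfsg.Agent.Omega.NOThreeL.RWide.TBlk

universe u v

variable {G : Type u} [Group G] {ι : Type v}

/-! ### The kernel of `N_G(V)` on `V/Z` and `Z` -/

/-- the elements of `N_G(V)` which are trivial on `V/Z` and on `Z` -/
def UU (V Z : Subgroup G) : Subgroup G where
  carrier := {g | g ∈ normalizer (V : Set G) ∧ (∀ z ∈ Z, g * z = z * g) ∧ ∀ v ∈ V, g * v * g⁻¹ * v⁻¹ ∈ Z}
  one_mem' := ⟨one_mem _, fun z _ => by simp, fun v _ => by simp [one_mem]⟩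
  mul_mem' := by
    rintro g k ⟨h1, h2, h3⟩ ⟨k1, k2, k3⟩
    refine ⟨mul_mem h1 k1, fun z hz => ?_, fun v hv => ?_⟩
    · rw [mul_assoc, k2 z hz, ← mul_assoc, h2 z hz, mul_assoc]
    · have e : g * k * v * (g * k)⁻¹ * v⁻¹ = (g * (k * v * k⁻¹) * g⁻¹ * (k * v * k⁻¹)⁻¹) * (k * v * k⁻¹ * v⁻¹) := by
        group
      rw [e]
      exact mul_mem (h3 _ ((mem_normalizer_iff.1 k1 v).1 hv)) (k3 v hv)
  inv_mem' := by
    rintro g ⟨h1, h2, h3⟩
    refine ⟨inv_mem h1, fun z hz => ?_, fun v hv => ?_⟩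
    · exact (show Commute g z from h2 z hz).inv_left
    · have h4 : g⁻¹ * v * g ∈ V := by
        have := (mem_normalizer_iff.1 (inv_mem h1) v).1 hv
        rwa [inv_inv] at this
      have h5 := inv_mem (h3 _ h4)
      have e : (g * (g⁻¹ * v * g) * g⁻¹ * (g⁻¹ * v * g)⁻¹)⁻¹ = g⁻¹ * v * g⁻¹⁻¹ * v⁻¹ := by group
      rwa [e] at h5

theorem exists_B [Finite G] (S : Sylow 2 G) {V Z : Subgroup G} (hSV : (S : Subgroup G) ≤ normalizer (V : Set G))
    (hSZ : (S : Subgroup G) ≤ normalizer (Z : Set G)) (hZV : Z ≤ V) (sq : ∀ z ∈ Z, z * z = 1)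
    (com : ∀ v ∈ V, ∀ w ∈ V, v * w = w * v) {p : G} (hp : p ∈ normalizer (V : Set G))
    (hpZ : ∀ z ∈ Z, p * z = z * p) (hpV : ∀ v ∈ V, p * v * p⁻¹ * v⁻¹ ∈ Z) :
    ∃ β ∈ (S : Subgroup G), (∀ z ∈ Z, β * z = z * β) ∧ ∀ v ∈ V, p * v * p⁻¹ = β * v * β⁻¹ := by
  have hZc : ∀ z ∈ Z, ∀ z' ∈ Z, z * z' = z' * z := fun z hz z' hz' => com z (hZV hz) z' (hZV hz')
  set H := UU V Z with hH
  have hpH : p ∈ H := ⟨hp, hpZ, hpV⟩
  -- `g²` is trivial on `V`
  have hsq : ∀ g ∈ H, ∀ v ∈ V, g ^ 2 * v * (g ^ 2)⁻¹ = v := by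
    rintro g ⟨h1, h2, h3⟩ v hv
    have h4 := h3 v hv
    have h5 := h2 _ h4
    have e : g ^ 2 * v * (g ^ 2)⁻¹ = (g * (g * v * g⁻¹ * v⁻¹) * g⁻¹) * (g * v * g⁻¹) := by
      rw [pow_two]; group
    rw [e, h5]
    have e2 : g * v * g⁻¹ * v⁻¹ * g * g⁻¹ * (g * v * g⁻¹) = ((g * v * g⁻¹ * v⁻¹) * (g * v * g⁻¹ * v⁻¹)) * v := by group
    rw [e2, sq _ h4, one_mul]
  have hpow : ∀ g ∈ H, ∀ k : ℕ, ∀ v ∈ V, (g ^ 2) ^ k * v * ((g ^ 2) ^ k)⁻¹ = v := by
    intro g hg k v hv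
    induction k with
    | zero => simp
    | succ k ih =>
      have e : (g ^ 2) ^ (k + 1) * v * ((g ^ 2) ^ (k + 1))⁻¹ =
          g ^ 2 * ((g ^ 2) ^ k * v * ((g ^ 2) ^ k)⁻¹) * (g ^ 2)⁻¹ := by
        rw [pow_succ' (g ^ 2) k]; group
      rw [e, ih, hsq g hg v hv]
  -- the 2-part
  obtain ⟨a, m, hm, ha⟩ := Nat.exists_eq_pow_mul_and_not_dvd (orderOf_pos p).ne' 2 (by norm_num)
  have hmo : Odd m := Nat.not_even_iff_odd.1 fun h => hm h.two_dvd
  obtain ⟨r, hr⟩ := hmo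
  set q := p ^ m with hq
  have hqH : q ∈ H := pow_mem hpH m
  have hqa : q ^ 2 ^ a = 1 := by
    rw [hq, ← pow_mul, mul_comm m, ← ha, pow_orderOf_eq_one]
  have hqV : ∀ v ∈ V, q * v * q⁻¹ = p * v * p⁻¹ := by
    intro v hv
    have e : q = p * (p ^ 2) ^ r := by
      rw [hq, hr, ← pow_mul, ← pow_succ', mul_comm 2 r]
    rw [e]
    have e2 : p * (p ^ 2) ^ r * v * (p * (p ^ 2) ^ r)⁻¹ = p * ((p ^ 2) ^ r * v * ((p ^ 2) ^ r)⁻¹) * p⁻¹ := by group
    rw [e2, hpow p hpH r v hv]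
  -- conjugation into `S`
  have hSH : (S : Subgroup G) ≤ normalizer (H : Set G) := by
    have key : ∀ s ∈ (S : Subgroup G), ∀ g ∈ H, s * g * s⁻¹ ∈ H := by
      rintro s hs g ⟨h1, h2, h3⟩
      have hsV := hSV hs
      have hsZ := hSZ hs
      have hcon : ∀ {W : Subgroup G}, s ∈ normalizer (W : Set G) → ∀ {w : G}, w ∈ W → s⁻¹ * w * s ∈ W := by
        intro W hW w hw
        have := (mem_normalizer_iff.1 (inv_mem hW) w).1 hw
        rwa [inv_inv] at this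
      refine ⟨mul_mem (mul_mem hsV h1) (inv_mem hsV), fun z hz => ?_, fun v hv => ?_⟩
      · have h4 := h2 _ (hcon hsZ hz)
        calc s * g * s⁻¹ * z = s * (g * (s⁻¹ * z * s)) * s⁻¹ := by group
          _ = s * ((s⁻¹ * z * s) * g) * s⁻¹ := by rw [h4]
          _ = z * (s * g * s⁻¹) := by group
      · have h4 := h3 _ (hcon hsV hv)
        have h5 := (mem_normalizer_iff.1 hsZ _).1 h4
        have e : s * (g * (s⁻¹ * v * s) * g⁻¹ * (s⁻¹ * v * s)⁻¹) * s⁻¹ = s * g * s⁻¹ * v * (s * g * s⁻¹)⁻¹ * v⁻¹ := by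
          group
        rwa [e] at h5
    intro s hs
    refine mem_normalizer_iff.2 fun g => ⟨key s hs g, fun hg => ?_⟩
    have h1 := key s⁻¹ (inv_mem hs) _ hg
    have e : s⁻¹ * (s * g * s⁻¹) * s⁻¹⁻¹ = g := by group
    rwa [e] at h1
  have hqp : IsPGroup 2 (zpowers q) := by
    rw [IsPGroup.iff_card]
    have h1 : orderOf q ∣ 2 ^ a := orderOf_dvd_of_pow_eq_one hqa
    obtain ⟨k, -, hk⟩ := (Nat.dvd_prime_pow Nat.prime_two).1 h1
    exact ⟨k, by rw [Nat.card_zpowers, hk]⟩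
  obtain ⟨T, hT, hqT⟩ := exists_syl hqp (show zpowers q ≤ (S : Subgroup G) ⊔ H from
    (zpowers_le.2 hqH).trans le_sup_right)
  have hSS : Syl (S : Subgroup G) ((S : Subgroup G) ⊔ H) :=
    ⟨le_sup_left, S.isPGroup', fun _ _ hQ hSQ => S.is_maximal' hQ hSQ⟩
  obtain ⟨n, hn, hnT⟩ := syl_conj hT hSS
  have hn' : n ∈ ((S : Subgroup G) ⊔ H : Subgroup G) := hn
  rw [← SetLike.mem_coe, coe_mul_of_left_le_normalizer_right _ _ hSH] at hn'
  obtain ⟨s, hs, k, hk, e⟩ := hn'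
  change s * k = n at e
  have hkH : k ∈ H := hk
  have hβS : k * q * k⁻¹ ∈ (S : Subgroup G) := by
    have h1 : n * q * n⁻¹ ∈ (S : Subgroup G) := by
      rw [← hnT]
      exact conj_mem_cj (hqT (mem_zpowers q))
    have h2 := mul_mem (mul_mem (inv_mem hs) h1) hs
    have e2 : s⁻¹ * (n * q * n⁻¹) * s = k * q * k⁻¹ := by rw [← e]; group
    rwa [e2] at h2
  refine ⟨k * q * k⁻¹, hβS, (mul_mem (mul_mem hkH hqH) (inv_mem hkH)).2.1, fun v hv => ?_⟩
  rw [← hqV v hv]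
  -- `k q k⁻¹` acts as `q`
  obtain ⟨k1, k2, k3⟩ := inv_mem hkH
  rw [inv_inv] at k3
  have hz := k3 v hv
  set z := k⁻¹ * v * k * v⁻¹ with hzdef
  have e1 : k⁻¹ * v * k = z * v := by rw [hzdef]; group
  have hqv : q * v * q⁻¹ * v⁻¹ ∈ Z := hqH.2.2 v hv
  set z₁ := q * v * q⁻¹ * v⁻¹ with hz1
  have e2 : q * (z * v) * q⁻¹ = z * (z₁ * v) := by
    calc q * (z * v) * q⁻¹ = (q * z) * v * q⁻¹ := by group
      _ = z * (q * v * q⁻¹) := by rw [hqH.2.1 z hz]; group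
      _ = z * (z₁ * v) := by rw [hz1]; group
  have e3 : k * (z * (z₁ * v)) * k⁻¹ = z₁ * v := by
    calc k * (z * (z₁ * v)) * k⁻¹ = k * (z₁ * (z * v)) * k⁻¹ := by
          rw [show z * (z₁ * v) = z₁ * (z * v) by rw [← mul_assoc, hZc z hz z₁ hqv, mul_assoc]]
      _ = (k * z₁) * (z * v) * k⁻¹ := by group
      _ = z₁ * (k * (z * v) * k⁻¹) := by rw [hkH.2.1 z₁ hqv]; group
      _ = z₁ * v := by rw [← e1]; group
  calc q * v * q⁻¹ = z₁ * v := by rw [hz1]; group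
    _ = k * (q * (z * v) * q⁻¹) * k⁻¹ := by rw [e2, e3]
    _ = k * q * k⁻¹ * v * (k * q * k⁻¹)⁻¹ := by rw [← e1]; group

/-! ### `N_G(V) ∩ N_G(B)` -/



variable [Finite ι] {V : Subgroup G} {N l E : ι → Subgroup G} {F : ι → Type} [∀ b, Field (F b)]
  {x y : G → ∀ b, F b}

section basic

variable {S : Subgroup G} (h : Kd S V N l E x y)
include h

theorem sq [∀ b, CharP (F b) 2] : ∀ v ∈ V, v * v = 1 := fun v hv =>
  h.inj _ (mul_mem hv hv) (fun b => by rw [h.xm v hv v hv, CharTwo.add_self_eq_zero])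
    fun b => by rw [h.ym v hv v hv, CharTwo.add_self_eq_zero]

/-- a root element centralises `Z_J` -/
theorem root_mem_BB {b : ι} {a : F b} {s : G} (hs : s ∈ S) (hr : ∀ v ∈ V,
    (x (s * v * s⁻¹) b = x v b + a * y v b ∧ y (s * v * s⁻¹) b = y v b) ∧
    ∀ c, c ≠ b → x (s * v * s⁻¹) c = x v c ∧ y (s * v * s⁻¹) c = y v c) : s ∈ BB S l := by
  refine ⟨hs, mem_centralizer_iff.2 fun z hz => ?_⟩
  obtain ⟨hzV, hy⟩ := h.memZ.1 hz
  have h1 := hr z hzV
  have h2 : s * z * s⁻¹ = z := by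
    refine h.ext (h.conj_mem (h.SV hs) hzV) hzV (fun c => ?_) fun c => ?_
    · by_cases hc : c = b
      · subst hc
        rw [h1.1.1, hy, mul_zero, add_zero]
      · exact (h1.2 c hc).1
    · by_cases hc : c = b
      · subst hc
        exact h1.1.2
      · exact (h1.2 c hc).2
  exact (mul_inv_eq_iff_eq_mul.1 h2).symm

/-- **commutators with the conjugate of a root element** -/
theorem exists_par [∀ b, CharP (F b) 2] (hS : IsPGroup 2 S) {g : G} (hg : g ∈ normalizer (BB S l : Set G))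
    (hgV : g ∈ normalizer (V : Set G)) (b : ι) (a : F b) : ∃ t : ∀ d, F d, ∀ v ∈ V, ∀ z ∈ l b, x z b = a * y v b →
      ∀ d, x (g * z * g⁻¹) d = t d * y (g * v * g⁻¹) d ∧ y (g * z * g⁻¹) d = 0 := by
  obtain ⟨s, hs, hr⟩ := h.root b a
  have hsB := root_mem_BB h hs hr
  obtain ⟨t, ht⟩ := h.actB hS ((mem_normalizer_iff.1 hg s).1 hsB)
  refine ⟨t, fun v hv z hz hza d => ?_⟩
  have hw := h.conj_mem hgV hv
  have h1 := hr v hv
  have hsv := h.conj_mem (h.SV hs) hv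
  have hzv : s * v * s⁻¹ = z * v := by
    obtain ⟨z1, z2, z3⟩ := (h.meml b z).1 hz
    refine h.ext hsv (mul_mem z1 hv) (fun c => ?_) fun c => ?_
    · rw [h.xm _ z1 _ hv]
      by_cases hc : c = b
      · subst hc
        rw [h1.1.1, hza, add_comm]
      · rw [(h1.2 c hc).1, z2 c hc, zero_add]
    · rw [h.ym _ z1 _ hv, z3, zero_add]
      by_cases hc : c = b
      · subst hc
        exact h1.1.2
      · exact (h1.2 c hc).2
  have e : g * z * g⁻¹ * (g * v * g⁻¹) = g * s * g⁻¹ * (g * v * g⁻¹) * (g * s * g⁻¹)⁻¹ := by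
    calc g * z * g⁻¹ * (g * v * g⁻¹) = g * (z * v) * g⁻¹ := by group
      _ = g * (s * v * s⁻¹) * g⁻¹ := by rw [hzv]
      _ = _ := by group
  have hzV := h.conj_mem hgV (h.lV b hz)
  have h2 := ht _ hw d
  rw [← e, h.xm _ hzV _ hw, h.ym _ hzV _ hw] at h2
  constructor
  · have h3 := h2.1
    rw [add_comm (x (g * z * g⁻¹) d)] at h3
    exact add_left_cancel h3
  · have h3 := h2.2
    exact add_eq_right.1 h3

/-- `g l_b g⁻¹ ≤ l_c` and the pairing -/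
structure Lk (h : Kd S V N l E x y) (g : G) (b c : ι) : Prop where
  le : ∀ z ∈ l b, g * z * g⁻¹ ∈ l c
  one : ∃ κ : F c, κ ≠ 0 ∧ ∀ v ∈ V, ∀ z ∈ l b, x z b = y v b → x (g * z * g⁻¹) c = κ * y (g * v * g⁻¹) c
  pr : ∀ a : F b, ∃ τ : F c, ∀ v ∈ V, ∀ z ∈ l b, x z b = a * y v b → x (g * z * g⁻¹) c = τ * y (g * v * g⁻¹) c

theorem exists_lk [∀ b, CharP (F b) 2] (hS : IsPGroup 2 S) {g : G} (hg : g ∈ normalizer (BB S l : Set G))
    (hgV : g ∈ normalizer (V : Set G)) (b : ι) : ∃ c, Lk h g b c := by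
  obtain ⟨t, ht⟩ := exists_par h hS hg hgV b 1
  obtain ⟨z, hz, hz1⟩ := h.exists_x b 1
  have hgz := h.conj_mem hgV (h.lV b hz)
  obtain ⟨v, hv, -, hv1⟩ := h.exists_y b 0 1
  have h1 := ht v (h.NV b hv) z hz (by rw [hz1, hv1, one_mul])
  have hc : ∃ c, t c ≠ 0 := by
    by_contra hcon
    push Not at hcon
    have h2 : g * z * g⁻¹ = 1 := h.inj _ hgz (fun d => by rw [(h1 d).1, hcon d, zero_mul]) fun d => (h1 d).2
    have h3 : z = 1 := by
      calc z = g⁻¹ * (g * z * g⁻¹) * g := by group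
        _ = 1 := by rw [h2]; group
    rw [h3, h.x_one] at hz1
    exact zero_ne_one hz1
  obtain ⟨c, hc⟩ := hc
  have hgV' : ∀ {w : G}, w ∈ V → g⁻¹ * w * g ∈ V := fun {w} hw => by
    have := h.conj_mem (inv_mem hgV) hw
    rwa [inv_inv] at this
  have hle : ∀ z ∈ l b, g * z * g⁻¹ ∈ l c := by
    intro z hz
    have hzV := h.conj_mem hgV (h.lV b hz)
    -- `y (g z g⁻¹) = 0`
    obtain ⟨u, hu, -, hu1⟩ := h.exists_y b 0 (x z b)
    have hy : ∀ d, y (g * z * g⁻¹) d = 0 := fun d => (ht u (h.NV b hu) z hz (by rw [hu1, one_mul]) d).2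
    refine (h.meml c _).2 ⟨hzV, fun d hd => ?_, hy⟩
    obtain ⟨w, hw, -, hw1⟩ := h.exists_y c 0 1
    have hwV := h.NV c hw
    have hwd : y w d = 0 := ((h.memN c w).1 hw).2.2 d hd
    have ev : g * (g⁻¹ * w * g) * g⁻¹ = w := by group
    have hv0 : y (g⁻¹ * w * g) b ≠ 0 := by
      intro h0
      have h2 := (ht _ (hgV' hwV) 1 (one_mem _) (by rw [h0, h.x_one, mul_zero]) c).1
      rw [ev, hw1, mul_one, mul_one, mul_inv_cancel, h.x_one] at h2
      exact hc h2.symm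
    obtain ⟨t', ht'⟩ := exists_par h hS hg hgV b (x z b / y (g⁻¹ * w * g) b)
    have h2 := (ht' _ (hgV' hwV) z hz (by rw [div_mul_cancel₀ _ hv0]) d).1
    rw [ev, hwd, mul_zero] at h2
    exact h2
  refine ⟨c, hle, ⟨t c, hc, fun v hv z hz e => (ht v hv z hz (by rw [e, one_mul]) c).1⟩, fun a => ?_⟩
  obtain ⟨t', ht'⟩ := exists_par h hS hg hgV b a
  exact ⟨t' c, fun v hv z hz e => (ht' v hv z hz e c).1⟩

theorem conj_inv_mem {g : G} (hgV : g ∈ normalizer (V : Set G)) {w : G} (hw : w ∈ V) : g⁻¹ * w * g ∈ V := by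
  have := h.conj_mem (inv_mem hgV) hw
  rwa [inv_inv] at this

/-- the permutation of the lines -/
theorem exists_pi [∀ b, CharP (F b) 2] (hS : IsPGroup 2 S) {g : G} (hg : g ∈ normalizer (BB S l : Set G))
    (hgV : g ∈ normalizer (V : Set G)) : ∃ π : Equiv.Perm ι, ∀ b, Lk h g b (π b) ∧ ∀ z ∈ l (π b), g⁻¹ * z * g ∈ l b := by
  choose π hπ using exists_lk h hS hg hgV
  choose π' hπ' using exists_lk h hS (inv_mem hg) (inv_mem hgV)
  have key : ∀ b, π' (π b) = b := by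
    intro b
    obtain ⟨z, hz, hz1⟩ := h.exists_x b 1
    have h1 := (hπ' (π b)).le _ ((hπ b).le z hz)
    have e : g⁻¹ * (g * z * g⁻¹) * g⁻¹⁻¹ = z := by group
    rw [e] at h1
    by_contra hne
    have h2 := ((h.meml _ z).1 h1).2.1 b (Ne.symm hne)
    rw [hz1] at h2
    exact one_ne_zero h2
  have key' : ∀ b, π (π' b) = b := by
    intro b
    obtain ⟨z, hz, hz1⟩ := h.exists_x b 1
    have h1 := (hπ (π' b)).le _ ((hπ' b).le z hz)
    have e : g * (g⁻¹ * z * g⁻¹⁻¹) * g⁻¹ = z := by group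
    rw [e] at h1
    by_contra hne
    have h2 := ((h.meml _ z).1 h1).2.1 b (Ne.symm hne)
    rw [hz1] at h2
    exact one_ne_zero h2
  refine ⟨⟨π, π', key, key'⟩, fun b => ⟨hπ b, fun z hz => ?_⟩⟩
  change z ∈ l (π b) at hz
  have h1 := (hπ' (π b)).le z hz
  rwa [key b, inv_inv] at h1

/-- the semilinear map `φ : F b → F c` of a link -/
theorem Lk.exists_phi {g : G} (hgV : g ∈ normalizer (V : Set G)) {b c : ι} (L : Lk h g b c) :
    ∃ φ : F b → F c, (∀ z ∈ l b, x (g * z * g⁻¹) c = φ (x z b)) ∧ (∀ m m', φ (m + m') = φ m + φ m') ∧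
      (∀ m, φ m = 0 → m = 0) ∧ (∀ a m, φ (a * m) * φ 1 = φ a * φ m) ∧
      ∃ κ : F c, κ ≠ 0 ∧ ∀ v ∈ V, φ (y v b) = κ * y (g * v * g⁻¹) c := by
  choose zl hzl hzx using fun m => h.exists_x b m
  have huniq : ∀ z ∈ l b, z = zl (x z b) := by
    intro z hz
    obtain ⟨z1, z2, z3⟩ := (h.meml b z).1 hz
    obtain ⟨w1, w2, w3⟩ := (h.meml b _).1 (hzl (x z b))
    refine h.ext z1 w1 (fun d => ?_) fun d => by rw [z3, w3]
    by_cases hd : d = b
    · subst hd; rw [hzx]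
    · rw [z2 d hd, w2 d hd]
  set φ : F b → F c := fun m => x (g * zl m * g⁻¹) c with hφ
  have h1 : ∀ z ∈ l b, x (g * z * g⁻¹) c = φ (x z b) := fun z hz => by
    rw [hφ]
    conv_lhs => rw [huniq z hz]
  have hadd : ∀ m m', φ (m + m') = φ m + φ m' := by
    intro m m'
    have h2 : zl m * zl m' ∈ l b := mul_mem (hzl m) (hzl m')
    have h3 := h1 _ h2
    rw [h.xm _ (h.lV b (hzl m)) _ (h.lV b (hzl m')), hzx, hzx] at h3
    rw [← h3]
    have e : g * (zl m * zl m') * g⁻¹ = (g * zl m * g⁻¹) * (g * zl m' * g⁻¹) := by group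
    rw [e, h.xm _ (h.conj_mem hgV (h.lV b (hzl m))) _ (h.conj_mem hgV (h.lV b (hzl m')))]
  have hinj : ∀ m, φ m = 0 → m = 0 := by
    intro m hm
    obtain ⟨k1, k2, k3⟩ := (h.meml c _).1 (L.le _ (hzl m))
    have h2 : g * zl m * g⁻¹ = 1 := h.inj _ k1 (fun d => by
      by_cases hd : d = c
      · subst hd; exact hm
      · exact k2 d hd) k3
    have h3 : zl m = 1 := by
      calc zl m = g⁻¹ * (g * zl m * g⁻¹) * g := by group
        _ = 1 := by rw [h2]; group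
    rw [← hzx m, h3, h.x_one]
  obtain ⟨κ, hκ, hκ'⟩ := L.one
  have h2 : ∀ v ∈ V, φ (y v b) = κ * y (g * v * g⁻¹) c := fun v hv =>
    hκ' v hv _ (hzl _) (hzx _)
  refine ⟨φ, h1, hadd, hinj, fun a m => ?_, κ, hκ, h2⟩
  obtain ⟨τ, hτ⟩ := L.pr a
  obtain ⟨v, hv, -, hvm⟩ := h.exists_y b 0 m
  obtain ⟨w, hw, -, hw1⟩ := h.exists_y b 0 1
  have k1 : φ (a * m) = τ * y (g * v * g⁻¹) c := hτ v (h.NV b hv) _ (hzl _) (by rw [hzx, hvm])
  have k2 : φ a = τ * y (g * w * g⁻¹) c := hτ w (h.NV b hw) _ (hzl _) (by rw [hzx, hw1, mul_one])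
  have k3 := h2 v (h.NV b hv)
  have k4 := h2 w (h.NV b hw)
  rw [hvm] at k3
  rw [hw1] at k4
  rw [k1, k2, k3, k4]; ring

end basic

section main

variable [Finite G] [∀ b, CharP (F b) 2] {S : Sylow 2 G} (h : Kd (S : Subgroup G) V N l E x y)
include h

variable {g : G} (hgV : g ∈ normalizer (V : Set G)) {π : Equiv.Perm ι}
  (hπ : ∀ b, Lk h g b (π b) ∧ ∀ z ∈ l (π b), g⁻¹ * z * g ∈ l b)
include hgV hπ

/-- `g N_b g⁻¹ ≤ N_{π b} Z_J` -/
theorem y_off {b d : ι} (hd : d ≠ π b) {v : G} (hv : v ∈ V) (hvy : ∀ c, c ≠ b → y v c = 0) : y (g * v * g⁻¹) d = 0 := by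
  obtain ⟨b', rfl⟩ := π.surjective d
  have hb : b' ≠ b := fun e => hd (by rw [e])
  obtain ⟨κ, hκ, h1⟩ := (hπ b').1.one
  have h2 := h1 v hv 1 (one_mem _) (by rw [h.x_one, hvy b' hb])
  rw [mul_one, mul_inv_cancel, h.x_one] at h2
  exact (mul_eq_zero.1 h2.symm).resolve_left hκ

theorem conj_Z {z : G} (hz : z ∈ ⨆ b, l b) : g * z * g⁻¹ ∈ ⨆ b, l b := by
  induction hz using Subgroup.iSup_induction' with
  | hp i w hw => exact (le_iSup l (π i)) ((hπ i).1.le w hw)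
  | h1 => rw [mul_one, mul_inv_cancel]; exact one_mem _
  | hmul a c ha hc iha ihc =>
    have e : g * (a * c) * g⁻¹ = (g * a * g⁻¹) * (g * c * g⁻¹) := by group
    rw [e]; exact mul_mem iha ihc

theorem conj_inv_Z {z : G} (hz : z ∈ ⨆ b, l b) : g⁻¹ * z * g ∈ ⨆ b, l b := by
  induction hz using Subgroup.iSup_induction' with
  | hp i w hw =>
    obtain ⟨b, rfl⟩ := π.surjective i
    exact (le_iSup l b) ((hπ b).2 w hw)
  | h1 => rw [mul_one, inv_mul_cancel]; exact one_mem _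
  | hmul a c ha hc iha ihc =>
    have e : g⁻¹ * (a * c) * g = (g⁻¹ * a * g) * (g⁻¹ * c * g) := by group
    rw [e]; exact mul_mem iha ihc

/-- the `π b`-component on `Z_J` -/
theorem x_Z {b c : ι} (hc : c = π b) {φ : F b → F c} (hφ : ∀ z ∈ l b, x (g * z * g⁻¹) c = φ (x z b)) {v : G}
    (hv : v ∈ ⨆ b, l b) : x (g * v * g⁻¹) c = φ (x v b) := by
  subst hc
  obtain ⟨hvV, hvy⟩ := h.memZ.1 hv
  obtain ⟨z, hz, hzx⟩ := h.exists_x b (x v b)
  have hzV := h.lV b hz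
  have h1 : z⁻¹ * v ∈ ⨆ d : ({b}ᶜ : Set ι), l d := by
    refine h.mem_sup_l _ (mul_mem (inv_mem hzV) hvV) (fun d hd => ?_) fun d => ?_
    · have hd' : d = b := by simpa using hd
      subst hd'
      rw [h.xm _ (inv_mem hzV) _ hvV, h.x_inv hzV, hzx, neg_add_cancel]
    · rw [h.ym _ (inv_mem hzV) _ hvV, h.y_inv hzV, ((h.meml b z).1 hz).2.2, hvy, neg_zero, add_zero]
  have h2 : g * (z⁻¹ * v) * g⁻¹ ∈ V ∧ x (g * (z⁻¹ * v) * g⁻¹) (π b) = 0 := by
    generalize z⁻¹ * v = u at h1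
    induction h1 using Subgroup.iSup_induction' with
    | hp i w hw =>
      have h3 := (hπ i).1.le w hw
      refine ⟨h.lV _ h3, ((h.meml _ _).1 h3).2.1 (π b) fun e => i.2 ?_⟩
      have := π.injective e
      simp [← this]
    | h1 => exact ⟨by rw [mul_one, mul_inv_cancel]; exact one_mem _, by rw [mul_one, mul_inv_cancel, h.x_one]⟩
    | hmul a c ha hc iha ihc =>
      have e : g * (a * c) * g⁻¹ = (g * a * g⁻¹) * (g * c * g⁻¹) := by group
      rw [e]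
      exact ⟨mul_mem iha.1 ihc.1, by rw [h.xm _ iha.1 _ ihc.1, iha.2, ihc.2, add_zero]⟩
  have e : g * v * g⁻¹ = (g * z * g⁻¹) * (g * (z⁻¹ * v) * g⁻¹) := by group
  rw [e, h.xm _ (h.conj_mem hgV hzV) _ h2.1, h2.2, add_zero, hφ z hz, hzx]

/-- an element of `N_G(V)` trivial on `V/Z_J` and `Z_J` normalises all `N d` -/
theorem norm_of_U {p : G} (hp : p ∈ normalizer (V : Set G)) (hpy : ∀ v ∈ V, ∀ d, y (p * v * p⁻¹) d = y v d)
    (hpZ : ∀ z ∈ ⨆ b, l b, p * z * p⁻¹ = z) (d : ι) : ∀ v ∈ N d, p * v * p⁻¹ ∈ N d := by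
  obtain ⟨β, hβ, hβZ, hβV⟩ := exists_B S h.SV (Z := ⨆ b, l b) (fun s hs => by
      have key : ∀ s ∈ (S : Subgroup G), ∀ z ∈ ⨆ b, l b, s * z * s⁻¹ ∈ ⨆ b, l b := by
        intro s hs z hz
        induction hz using Subgroup.iSup_induction' with
        | hp i w hw =>
          obtain ⟨c, -, hc⟩ := h.perm s hs i
          exact (le_iSup l c) (hc ▸ conj_mem_cj hw)
        | h1 => rw [mul_one, mul_inv_cancel]; exact one_mem _
        | hmul a c ha hc iha ihc =>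
          have e : s * (a * c) * s⁻¹ = (s * a * s⁻¹) * (s * c * s⁻¹) := by group
          rw [e]; exact mul_mem iha ihc
      refine mem_normalizer_iff.2 fun z => ⟨key s hs z, fun hz => ?_⟩
      have h1 := key s⁻¹ (inv_mem hs) _ hz
      have e : s⁻¹ * (s * z * s⁻¹) * s⁻¹⁻¹ = z := by group
      rwa [e] at h1) h.sup_l_le (fun z hz => sq h z (h.sup_l_le hz)) h.com hp
    (fun z hz => mul_inv_eq_iff_eq_mul.1 (hpZ z hz)) fun v hv => by
      rw [h.memZ]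
      have h1 := h.conj_mem hp hv
      exact ⟨mul_mem h1 (inv_mem hv), fun b => by
        rw [h.ym _ h1 _ (inv_mem hv), h.y_inv hv, hpy v hv, add_neg_cancel]⟩
  intro v hv
  have hβB : β ∈ BB (S : Subgroup G) l := ⟨hβ, mem_centralizer_iff.2 fun z hz => (hβZ z hz).symm⟩
  rw [hβV v (h.NV d hv)]
  exact (mem_normalizer_iff.1 (h.BB_norm hβB d) v).1 hv

/-- **blocks with `q_b ≥ 3`** -/
theorem big_blk {b : ι} {lam : F b} (h0 : lam ≠ 0) (h1 : lam ≠ 1) : ∀ u ∈ N b, g * u * g⁻¹ ∈ N (π b) := by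
  obtain ⟨c, hc⟩ : ∃ c, c = π b := ⟨_, rfl⟩
  have L : Lk h g b c := hc ▸ (hπ b).1
  have hyo : ∀ {d : ι}, d ≠ c → ∀ {v : G}, v ∈ V → (∀ c, c ≠ b → y v c = 0) → y (g * v * g⁻¹) d = 0 :=
    fun hd _ hv hvy => y_off h hgV hπ (hc ▸ hd) hv hvy
  rw [← hc]
  obtain ⟨φ, hφ, hadd, hinj, hmul, κ, hκ, hy⟩ := L.exists_phi h hgV
  have hφ1 : φ 1 ≠ 0 := fun e => one_ne_zero (hinj 1 e)
  have hφ0 : φ 0 = 0 := by
    have := hadd 0 0
    rw [add_zero] at this
    exact left_eq_add.1 this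
  have hneg : ∀ m, φ (-m) = - φ m := fun m => by
    have := hadd m (-m)
    rw [add_neg_cancel, hφ0] at this
    exact eq_neg_of_add_eq_zero_right this.symm
  set μ := φ lam / φ 1 with hμ
  have hlm : ∀ m, φ (lam * m) = μ * φ m := fun m => by
    rw [hμ, div_mul_eq_mul_div, eq_div_iff hφ1, hmul]
  have hμ0 : μ ≠ 0 := div_ne_zero (fun e => h0 (hinj _ e)) hφ1
  have hμ1 : μ ≠ 1 := by
    intro e
    have h2 := hlm 1
    rw [e, one_mul, mul_one] at h2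
    have h3 : φ (lam - 1) = 0 := by
      rw [sub_eq_add_neg, hadd, hneg, h2, add_neg_cancel]
    exact h1 (sub_eq_zero.1 (hinj _ h3))
  have hlm' : ∀ m, φ (lam⁻¹ * m) = μ⁻¹ * φ m := fun m => by
    have h2 := hlm (lam⁻¹ * m)
    rw [← mul_assoc, mul_inv_cancel₀ h0, one_mul] at h2
    rw [h2, ← mul_assoc, inv_mul_cancel₀ hμ0, one_mul]
  -- the element `h`
  obtain ⟨k, hkE, hk⟩ := h.full b lam 0 0 lam⁻¹ (by rw [mul_inv_cancel₀ h0]; ring)
  have hkV := h.EV b hkE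
  set γ := g * k * g⁻¹ with hγ
  have hγV : γ ∈ normalizer (V : Set G) := mul_mem (mul_mem hgV hkV) (inv_mem hgV)
  have eγ : ∀ w : G, γ * w * γ⁻¹ = g * (k * (g⁻¹ * w * g) * k⁻¹) * g⁻¹ := fun w => by rw [hγ]; group
  have egg : ∀ w : G, g * (g⁻¹ * w * g) * g⁻¹ = w := fun w => by group
  -- the commutator
  have hn : ∀ v ∈ V, k * v * k⁻¹ * v⁻¹ ∈ N b ∧ x (k * v * k⁻¹ * v⁻¹) b = lam * x v b - x v b ∧
      y (k * v * k⁻¹ * v⁻¹) b = lam⁻¹ * y v b - y v b := by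
    intro v hv
    have h2 := h.conj_mem hkV hv
    have h3 := hk v hv
    refine ⟨(h.memN b _).2 ⟨mul_mem h2 (inv_mem hv), fun d hd => ?_, fun d hd => ?_⟩, ?_, ?_⟩
    · rw [h.xm _ h2 _ (inv_mem hv), h.x_inv hv, (h3.2 d hd).1, add_neg_cancel]
    · rw [h.ym _ h2 _ (inv_mem hv), h.y_inv hv, (h3.2 d hd).2, add_neg_cancel]
    · rw [h.xm _ h2 _ (inv_mem hv), h.x_inv hv, h3.1.1]; ring
    · rw [h.ym _ h2 _ (inv_mem hv), h.y_inv hv, h3.1.2]; ring
  -- (α)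
  have hα : ∀ w ∈ V, y (γ * w * γ⁻¹) c = μ⁻¹ * y w c ∧ ∀ d, d ≠ c → y (γ * w * γ⁻¹) d = y w d := by
    intro w hw
    have hv := conj_inv_mem h hgV hw
    set v := g⁻¹ * w * g with hvdef
    obtain ⟨n1, n2, n3⟩ := hn v hv
    have hnV := h.NV b n1
    set n := k * v * k⁻¹ * v⁻¹ with hndef
    have e : γ * w * γ⁻¹ = (g * n * g⁻¹) * w := by
      rw [eγ, ← hvdef]
      calc g * (k * v * k⁻¹) * g⁻¹ = g * (k * v * k⁻¹ * v⁻¹) * g⁻¹ * (g * v * g⁻¹) := by group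
        _ = g * n * g⁻¹ * w := by rw [← hndef, hvdef, egg]
    have hgn := h.conj_mem hgV hnV
    refine ⟨?_, fun d hd => ?_⟩
    · rw [e, h.ym _ hgn _ hw]
      have h2 := hy n hnV
      have h3 := hy v hv
      rw [hvdef, egg, ← hvdef] at h3
      have h4 : κ * y (g * n * g⁻¹) c = κ * (μ⁻¹ * y w c - y w c) := by
        rw [← h2, n3, sub_eq_add_neg, hadd, hneg, hlm', h3]; ring
      rw [mul_left_cancel₀ hκ h4]; ring
    · rw [e, h.ym _ hgn _ hw, hyo hd hnV ((h.memN b n).1 n1).2.2, zero_add]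
  -- (β)
  have hβ : ∀ w ∈ ⨆ b, l b, x (γ * w * γ⁻¹) c = μ * x w c ∧ ∀ d, d ≠ c → x (γ * w * γ⁻¹) d = x w d := by
    intro w hw
    have hwV := h.sup_l_le hw
    have hvZ := conj_inv_Z h hgV hπ hw
    have hv := h.sup_l_le hvZ
    set v := g⁻¹ * w * g with hvdef
    obtain ⟨n1, n2, n3⟩ := hn v hv
    set n := k * v * k⁻¹ * v⁻¹ with hndef
    have hvy := (h.memZ.1 hvZ).2
    rw [hvy, mul_zero, sub_zero] at n3
    have hnl : n ∈ l b := (h.meml b n).2 ⟨h.NV b n1, ((h.memN b n).1 n1).2.1, fun d => by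
      by_cases hd : d = b
      · subst hd; exact n3
      · exact ((h.memN b n).1 n1).2.2 d hd⟩
    have e : γ * w * γ⁻¹ = (g * n * g⁻¹) * w := by
      rw [eγ, ← hvdef]
      calc g * (k * v * k⁻¹) * g⁻¹ = g * (k * v * k⁻¹ * v⁻¹) * g⁻¹ * (g * v * g⁻¹) := by group
        _ = g * n * g⁻¹ * w := by rw [← hndef, hvdef, egg]
    have hgnl := L.le n hnl
    have hgn := h.lV _ hgnl
    refine ⟨?_, fun d hd => ?_⟩
    · rw [e, h.xm _ hgn _ hwV, hφ n hnl, n2, sub_eq_add_neg, hadd, hneg, hlm]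
      have h3 := x_Z h hgV hπ hc hφ hvZ
      rw [hvdef, egg, ← hvdef] at h3
      rw [h3]; ring
    · rw [e, h.xm _ hgn _ hwV, ((h.meml _ _).1 hgnl).2.1 d hd, zero_add]
  -- the element `p`
  obtain ⟨k', hk'E, hk'⟩ := h.full c μ⁻¹ 0 0 μ (by rw [inv_mul_cancel₀ hμ0]; ring)
  have hk'V := h.EV c hk'E
  have ep : ∀ w : G, γ * k' * w * (γ * k')⁻¹ = γ * (k' * w * k'⁻¹) * γ⁻¹ := fun w => by group
  have hpV : γ * k' ∈ normalizer (V : Set G) := mul_mem hγV hk'V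
  have hpy : ∀ v ∈ V, ∀ d, y (γ * k' * v * (γ * k')⁻¹) d = y v d := by
    intro v hv d
    have h2 := h.conj_mem hk'V hv
    have h3 := hk' v hv
    have h4 := hα _ h2
    rw [ep]
    by_cases hd : d = c
    · subst hd
      rw [h4.1, h3.1.2, zero_mul, zero_add, ← mul_assoc, inv_mul_cancel₀ hμ0, one_mul]
    · rw [h4.2 d hd, (h3.2 d hd).2]
  have hpZ : ∀ z ∈ ⨆ b, l b, γ * k' * z * (γ * k')⁻¹ = z := by
    intro z hz
    obtain ⟨hzV, hzy⟩ := h.memZ.1 hz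
    have h2 := h.conj_mem hk'V hzV
    have h3 := hk' z hzV
    have h5 : k' * z * k'⁻¹ ∈ ⨆ b, l b := h.memZ.2 ⟨h2, fun d => by
      by_cases hd : d = c
      · subst hd
        rw [h3.1.2, hzy]; ring
      · rw [(h3.2 d hd).2, hzy]⟩
    refine h.ext (h.conj_mem hpV hzV) hzV (fun d => ?_) fun d => hpy z hzV d
    rw [ep]
    by_cases hd : d = c
    · subst hd
      rw [(hβ _ h5).1, h3.1.1, zero_mul, add_zero, ← mul_assoc, mul_inv_cancel₀ hμ0, one_mul]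
    · rw [(hβ _ h5).2 d hd, (h3.2 d hd).1]
  -- `γ` normalises `N c`
  have hγN : ∀ w ∈ N c, γ * w * γ⁻¹ ∈ N c := by
    intro w hw
    have hwV := h.NV c hw
    have h2 := conj_inv_mem h hk'V hwV
    have h3 : k'⁻¹ * w * k' ∈ N c := by
      refine (h.memN c _).2 ⟨h2, fun d hd => ?_, fun d hd => ?_⟩
      · have h4 := ((hk' _ h2).2 d hd).1
        have e : k' * (k'⁻¹ * w * k') * k'⁻¹ = w := by group
        rw [e] at h4
        rw [← h4]; exact ((h.memN c w).1 hw).2.1 d hd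
      · have h4 := ((hk' _ h2).2 d hd).2
        have e : k' * (k'⁻¹ * w * k') * k'⁻¹ = w := by group
        rw [e] at h4
        rw [← h4]; exact ((h.memN c w).1 hw).2.2 d hd
    have h4 := norm_of_U h hgV hπ hpV hpy hpZ c _ h3
    have e : γ * k' * (k'⁻¹ * w * k') * (γ * k')⁻¹ = γ * w * γ⁻¹ := by group
    rwa [e] at h4
  -- end
  intro u hu
  have hl1 : lam - 1 ≠ 0 := sub_ne_zero.2 h1
  have hl2 : lam⁻¹ - 1 ≠ 0 := by
    intro e
    apply h1
    have := sub_eq_zero.1 e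
    rw [← inv_inv lam, this, inv_one]
  obtain ⟨v, hv, hvx, hvy⟩ := h.exists_y b (x u b / (lam - 1)) (y u b / (lam⁻¹ - 1))
  have hvV := h.NV b hv
  obtain ⟨n1, n2, n3⟩ := hn v hvV
  have hu' : k * v * k⁻¹ * v⁻¹ = u := by
    refine h.ext (h.NV b n1) (h.NV b hu) (fun d => ?_) fun d => ?_
    · by_cases hd : d = b
      · subst hd
        rw [n2, hvx]
        field_simp
      · rw [((h.memN b _).1 n1).2.1 d hd, ((h.memN b u).1 hu).2.1 d hd]
    · by_cases hd : d = b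
      · subst hd
        rw [n3, hvy]
        have e : lam⁻¹ * (y u d / (lam⁻¹ - 1)) - y u d / (lam⁻¹ - 1) = (lam⁻¹ - 1) * (y u d / (lam⁻¹ - 1)) := by ring
        rw [e, mul_div_cancel₀ _ hl2]
      · rw [((h.memN b _).1 n1).2.2 d hd, ((h.memN b u).1 hu).2.2 d hd]
  set w := g * v * g⁻¹ with hw
  have hwV := h.conj_mem hgV hvV
  have e1 : g * u * g⁻¹ = γ * w * γ⁻¹ * w⁻¹ := by
    rw [← hu', hγ, hw]; group
  obtain ⟨w', hw', hwx, hwy⟩ := h.exists_y c (x w c) (y w c)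
  have hw'V := h.NV c hw'
  have hz : w'⁻¹ * w ∈ ⨆ b, l b := by
    refine h.memZ.2 ⟨mul_mem (inv_mem hw'V) hwV, fun d => ?_⟩
    rw [h.ym _ (inv_mem hw'V) _ hwV, h.y_inv hw'V]
    by_cases hd : d = c
    · subst hd
      rw [hwy, neg_add_cancel]
    · rw [((h.memN c w').1 hw').2.2 d hd, hyo hd hvV ((h.memN b v).1 hv).2.2, neg_zero, add_zero]
  have hzx : x (w'⁻¹ * w) c = 0 := by
    rw [h.xm _ (inv_mem hw'V) _ hwV, h.x_inv hw'V, hwx, neg_add_cancel]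
  have hγz : γ * (w'⁻¹ * w) * γ⁻¹ = w'⁻¹ * w := by
    have hzV := (h.memZ.1 hz).1
    refine h.ext (h.conj_mem hγV hzV) hzV (fun d => ?_) fun d => ?_
    · by_cases hd : d = c
      · subst hd
        rw [(hβ _ hz).1, hzx, mul_zero]
      · exact (hβ _ hz).2 d hd
    · by_cases hd : d = c
      · subst hd
        rw [(hα _ hzV).1, (h.memZ.1 hz).2, mul_zero]
      · exact (hα _ hzV).2 d hd
  have e2 : γ * w * γ⁻¹ * w⁻¹ = (γ * w' * γ⁻¹) * w'⁻¹ := by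
    calc γ * w * γ⁻¹ * w⁻¹ = (γ * w' * γ⁻¹) * (γ * (w'⁻¹ * w) * γ⁻¹) * w⁻¹ := by group
      _ = (γ * w' * γ⁻¹) * (w'⁻¹ * w) * w⁻¹ := by rw [hγz]
      _ = _ := by group
  rw [e1, e2]
  exact mul_mem (hγN w' hw') (inv_mem hw')

/-- **blocks with `q_b = 2`** -/
theorem two_blk {b : ι} (hF : ∀ m : F b, m = 0 ∨ m = 1) : ∀ u ∈ N b, g * u * g⁻¹ ∈ N (π b) := by
  obtain ⟨c, hc⟩ : ∃ c, c = π b := ⟨_, rfl⟩
  have L : Lk h g b c := hc ▸ (hπ b).1
  have Li : ∀ z ∈ l c, g⁻¹ * z * g ∈ l b := hc ▸ (hπ b).2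
  have hyo : ∀ {d : ι}, d ≠ c → ∀ {v : G}, v ∈ V → (∀ c, c ≠ b → y v c = 0) → y (g * v * g⁻¹) d = 0 :=
    fun hd _ hv hvy => y_off h hgV hπ (hc ▸ hd) hv hvy
  rw [← hc]
  obtain ⟨φ, hφ, hadd, hinj, hmul, κ, hκ, hy⟩ := L.exists_phi h hgV
  have hφ1 : φ 1 ≠ 0 := fun e => one_ne_zero (hinj 1 e)
  have hφ0 : φ 0 = 0 := by
    have := hadd 0 0
    rw [add_zero] at this
    exact left_eq_add.1 this
  -- `F c = {0, 1}`
  have hFc' : ∀ m : F c, m = 0 ∨ m = φ 1 := by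
    intro m
    obtain ⟨z, hz, hzm⟩ := h.exists_x c m
    have h1 := hφ _ (Li z hz)
    have e : g * (g⁻¹ * z * g) * g⁻¹ = z := by group
    rw [e, hzm] at h1
    rcases hF (x (g⁻¹ * z * g) b) with h2 | h2
    · left; rw [h1, h2, hφ0]
    · right; rw [h1, h2]
  have hφ1' : φ 1 = 1 := ((hFc' 1).resolve_left one_ne_zero).symm
  have hFc : ∀ m : F c, m = 0 ∨ m = 1 := fun m => hφ1' ▸ hFc' m
  have hκ1 : κ = 1 := (hFc κ).resolve_left hκ
  have hsq := sq h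
  have egg : ∀ w : G, g * (g⁻¹ * w * g) * g⁻¹ = w := fun w => by group
  -- the elements
  obtain ⟨r, hr, hr1⟩ := h.exists_x b 1
  have hrV := h.lV b hr
  set r' := g * r * g⁻¹ with hr'
  have hr'l : r' ∈ l c := L.le r hr
  have hr'V := h.lV c hr'l
  have hr'x : x r' c = 1 := by rw [hr', hφ r hr, hr1, hφ1']
  obtain ⟨u0, hu0, hu0x, hu0y⟩ := h.exists_y b 0 1
  have hu0V := h.NV b hu0
  set w := g * u0 * g⁻¹ with hw
  have hwV : w ∈ V := h.conj_mem hgV hu0V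
  have hwy : y w c = 1 := by
    have h1 := hy u0 hu0V
    rw [hu0y, hφ1', hκ1, one_mul] at h1
    exact h1.symm
  have hwd : ∀ d, d ≠ c → y w d = 0 := fun d hd => hyo hd hu0V ((h.memN b u0).1 hu0).2.2
  obtain ⟨v', hv', hv'x, hv'y⟩ := h.exists_y c (x w c) 1
  have hv'V := h.NV c hv'
  have hv'o := (h.memN c v').1 hv'
  set ζ := v'⁻¹ * w with hζ
  have hζV : ζ ∈ V := mul_mem (inv_mem hv'V) hwV
  have hζy : ∀ d, y ζ d = 0 := fun d => by
    rw [hζ, h.ym _ (inv_mem hv'V) _ hwV, h.y_inv hv'V]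
    by_cases hd : d = c
    · subst hd; rw [hv'y, hwy, neg_add_cancel]
    · rw [hv'o.2.2 d hd, hwd d hd, neg_zero, add_zero]
  have hζx : x ζ c = 0 := by
    rw [hζ, h.xm _ (inv_mem hv'V) _ hwV, h.x_inv hv'V, hv'x, neg_add_cancel]
  have hζZ : ζ ∈ ⨆ b, l b := h.memZ.2 ⟨hζV, hζy⟩
  have ew : w = v' * ζ := by rw [hζ]; group
  -- the elements `e`, `e'`
  set ξ := x w c with hξ
  have hξ2 : ξ * (1 + ξ) = 0 := by
    rcases hFc ξ with h1 | h1 <;> rw [h1]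
    · rw [zero_mul]
    · rw [CharTwo.add_self_eq_zero, mul_zero]
  obtain ⟨e, heE, he⟩ := h.full c ξ 1 1 (1 + ξ) (by
    rw [hξ2, mul_one, zero_sub, CharTwo.neg_eq])
  have heV := h.EV c heE
  obtain ⟨f, hfE, hf⟩ := h.full b 0 1 1 1 (by rw [zero_mul, mul_one, zero_sub, CharTwo.neg_eq])
  have hfV := h.EV b hfE
  set e' := g * f * g⁻¹ with he'
  have he'V : e' ∈ normalizer (V : Set G) := mul_mem (mul_mem hgV hfV) (inv_mem hgV)
  have ee' : ∀ w : G, e' * w * e'⁻¹ = g * (f * (g⁻¹ * w * g) * f⁻¹) * g⁻¹ := fun w => by rw [he']; group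
  have cm : ∀ (k a a' : G), k * (a * a') * k⁻¹ = (k * a * k⁻¹) * (k * a' * k⁻¹) := fun k a a' => by group
  -- action of `f`
  have hfr : f * r * f⁻¹ = u0 := by
    have h1 := hf r hrV
    refine h.ext (h.conj_mem hfV hrV) hu0V (fun d => ?_) fun d => ?_
    · by_cases hd : d = b
      · subst hd
        rw [h1.1.1, hu0x, ((h.meml d r).1 hr).2.2]; ring
      · rw [(h1.2 d hd).1, ((h.meml b r).1 hr).2.1 d hd, ((h.memN b u0).1 hu0).2.1 d hd]
    · by_cases hd : d = b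
      · subst hd
        rw [h1.1.2, hu0y, hr1, ((h.meml d r).1 hr).2.2]; ring
      · rw [(h1.2 d hd).2, ((h.meml b r).1 hr).2.2, ((h.memN b u0).1 hu0).2.2 d hd]
  have hfu : f * u0 * f⁻¹ = r * u0 := by
    have h1 := hf u0 hu0V
    refine h.ext (h.conj_mem hfV hu0V) (mul_mem hrV hu0V) (fun d => ?_) fun d => ?_
    · rw [h.xm _ hrV _ hu0V]
      by_cases hd : d = b
      · subst hd
        rw [h1.1.1, hu0x, hu0y, hr1]; ring
      · rw [(h1.2 d hd).1, ((h.meml b r).1 hr).2.1 d hd, zero_add]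
    · rw [h.ym _ hrV _ hu0V]
      by_cases hd : d = b
      · subst hd
        rw [h1.1.2, hu0x, hu0y, ((h.meml d r).1 hr).2.2]; ring
      · rw [(h1.2 d hd).2, ((h.meml b r).1 hr).2.2, zero_add]
  have hf1 : ∀ v ∈ V, x v b = 0 → y v b = 0 → f * v * f⁻¹ = v := by
    intro v hv h2 h3
    have h1 := hf v hv
    refine h.ext (h.conj_mem hfV hv) hv (fun d => ?_) fun d => ?_
    · by_cases hd : d = b
      · subst hd
        rw [h1.1.1, h2, h3]; ring
      · exact (h1.2 d hd).1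
    · by_cases hd : d = b
      · subst hd
        rw [h1.1.2, h2, h3]; ring
      · exact (h1.2 d hd).2
  -- action of `e`
  have he1 : ∀ v ∈ V, x v c = 0 → y v c = 0 → e * v * e⁻¹ = v := by
    intro v hv h2 h3
    have h1 := he v hv
    refine h.ext (h.conj_mem heV hv) hv (fun d => ?_) fun d => ?_
    · by_cases hd : d = c
      · subst hd
        rw [h1.1.1, h2, h3]; ring
      · exact (h1.2 d hd).1
    · by_cases hd : d = c
      · subst hd
        rw [h1.1.2, h2, h3]; ring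
      · exact (h1.2 d hd).2
  have her : e * r' * e⁻¹ = v' := by
    have h1 := he r' hr'V
    refine h.ext (h.conj_mem heV hr'V) hv'V (fun d => ?_) fun d => ?_
    · by_cases hd : d = c
      · subst hd
        rw [h1.1.1, hv'x, hr'x, ((h.meml d r').1 hr'l).2.2]; ring
      · rw [(h1.2 d hd).1, ((h.meml c r').1 hr'l).2.1 d hd, hv'o.2.1 d hd]
    · by_cases hd : d = c
      · subst hd
        rw [h1.1.2, hv'y, hr'x, ((h.meml d r').1 hr'l).2.2]; ring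
      · rw [(h1.2 d hd).2, ((h.meml c r').1 hr'l).2.2, hv'o.2.2 d hd]
  have hξs : ξ * ξ + ξ = 0 := by rw [← hξ2]; ring
  have hev : e * v' * e⁻¹ = v' * r' := by
    have h1 := he v' hv'V
    refine h.ext (h.conj_mem heV hv'V) (mul_mem hv'V hr'V) (fun d => ?_) fun d => ?_
    · rw [h.xm _ hv'V _ hr'V]
      by_cases hd : d = c
      · subst hd
        rw [h1.1.1, hv'x, hv'y, hr'x]
        have : ξ * ξ = ξ := by
          have h5 : ξ * ξ = - ξ := eq_neg_of_add_eq_zero_left hξs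
          rw [h5, CharTwo.neg_eq]
        rw [this]; ring
      · rw [(h1.2 d hd).1, ((h.meml c r').1 hr'l).2.1 d hd, add_zero]
    · rw [h.ym _ hv'V _ hr'V, ((h.meml c r').1 hr'l).2.2, add_zero]
      by_cases hd : d = c
      · subst hd
        rw [h1.1.2, hv'x, hv'y]
        have : ξ + ξ = 0 := CharTwo.add_self_eq_zero ξ
        linear_combination this
      · exact (h1.2 d hd).2
  -- action of `e'`
  have he'r : e' * r' * e'⁻¹ = w := by
    rw [ee', hr', show g⁻¹ * (g * r * g⁻¹) * g = r by group, hfr]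
  have he'w : e' * w * e'⁻¹ = r' * w := by
    rw [ee', hw, show g⁻¹ * (g * u0 * g⁻¹) * g = u0 by group, hfu, hr']; group
  have he'Z : ∀ z ∈ ⨆ b, l b, x z c = 0 → e' * z * e'⁻¹ = z := by
    intro z hz hzx
    have h1 := conj_inv_Z h hgV hπ hz
    have h2 := x_Z h hgV hπ hc hφ h1
    rw [egg, hzx] at h2
    rw [ee', hf1 _ (h.sup_l_le h1) (hinj _ h2.symm) ((h.memZ.1 h1).2 b), egg]
  have hs2 : ∀ {a : G}, a ∈ V → a⁻¹ = a := fun {a} ha => inv_eq_of_mul_eq_one_left (hsq a ha)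
  have he'ζ := he'Z ζ hζZ hζx
  have heζ := he1 ζ hζV hζx (hζy c)
  have he'v : e' * v' * e'⁻¹ = v' * r' := by
    have e1 : v' = w * ζ := by rw [ew, mul_assoc, hsq ζ hζV, mul_one]
    have h1 : e' * v' * e'⁻¹ = (r' * w) * ζ := by
      conv_lhs => rw [e1]
      rw [cm, he'w, he'ζ]
    rw [h1, mul_assoc, ← e1, h.com _ hr'V _ hv'V]
  -- the element `p`
  have ep : ∀ a : G, e * e' * e * a * (e * e' * e)⁻¹ = e * (e' * (e * a * e⁻¹) * e'⁻¹) * e⁻¹ := fun a => by group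
  have hpV : e * e' * e ∈ normalizer (V : Set G) := mul_mem (mul_mem heV he'V) heV
  have hpr : e * (e' * (e * r' * e⁻¹) * e'⁻¹) * e⁻¹ = r' := by
    rw [her, he'v, cm, hev, her, h.com _ hv'V _ hr'V, mul_assoc, hsq v' hv'V, mul_one]
  have hpv : e * (e' * (e * v' * e⁻¹) * e'⁻¹) * e⁻¹ = v' * ζ := by
    rw [hev, cm e' v' r', he'v, he'r, cm e (v' * r') w, cm e v' r', hev, her, ew, cm e v' ζ, hev, heζ]
    have c1 := h.com _ hr'V _ hv'V
    calc v' * r' * v' * (v' * r' * ζ) = v' * (r' * v') * (v' * r') * ζ := by group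
      _ = v' * (v' * r') * (v' * r') * ζ := by rw [c1]
      _ = v' * v' * (r' * v') * r' * ζ := by group
      _ = v' * v' * (v' * r') * r' * ζ := by rw [c1]
      _ = (v' * v') * v' * (r' * r') * ζ := by group
      _ = v' * ζ := by rw [hsq v' hv'V, hsq r' hr'V, one_mul, mul_one]
  -- elements with trivial `c`-component
  have hpu : ∀ u ∈ V, x u c = 0 → y u c = 0 → e * (e' * (e * u * e⁻¹) * e'⁻¹) * e⁻¹ = u ∨
      e * (e' * (e * u * e⁻¹) * e'⁻¹) * e⁻¹ = u * (r' * ζ) := by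
    intro u hu hux huy
    rw [he1 u hu hux huy]
    have hu1 := conj_inv_mem h hgV hu
    set u1 := g⁻¹ * u * g with hu1def
    have hu1y : y u1 b = 0 := by
      have h1 := hy u1 hu1
      rw [hu1def, egg, huy, mul_zero] at h1
      exact hinj _ h1
    rcases hF (x u1 b) with h1 | h1
    · left
      rw [ee', ← hu1def, hf1 u1 hu1 h1 hu1y, hu1def, egg, he1 u hu hux huy]
    · right
      -- `u1 = u2 * r`
      have h2 : f * (u1 * r) * f⁻¹ = u1 * r := by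
        refine hf1 _ (mul_mem hu1 hrV) ?_ ?_
        · rw [h.xm _ hu1 _ hrV, h1, hr1, CharTwo.add_self_eq_zero]
        · rw [h.ym _ hu1 _ hrV, hu1y, ((h.meml b r).1 hr).2.2, add_zero]
      have h3 : f * u1 * f⁻¹ = u1 * r * u0 := by
        rw [cm, hfr] at h2
        have h4 : f * u1 * f⁻¹ = u1 * r * u0⁻¹ := eq_mul_inv_of_mul_eq h2
        rw [h4, hs2 hu0V]
      have h4 : e' * u * e'⁻¹ = u * (r' * w) := by
        rw [ee', ← hu1def, h3, hu1def, hr', hw]; group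
      rw [h4, cm, he1 u hu hux huy, cm, her, ew, cm, hev, heζ]
      have h5 : v' * (v' * r' * ζ) = r' * ζ := by
        calc v' * (v' * r' * ζ) = (v' * v') * (r' * ζ) := by group
          _ = r' * ζ := by rw [hsq v' hv'V, one_mul]
      rw [h5]
  have hpuZ : ∀ u ∈ ⨆ b, l b, x u c = 0 → e * (e' * (e * u * e⁻¹) * e'⁻¹) * e⁻¹ = u := by
    intro u hu hux
    have h1 := h.memZ.1 hu
    rw [he1 u h1.1 hux (h1.2 c), he'Z u hu hux, he1 u h1.1 hux (h1.2 c)]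
  have hpy : ∀ v ∈ V, ∀ d, y (e * e' * e * v * (e * e' * e)⁻¹) d = y v d := by
    -- decomposition `v = a * u`, `a ∈ ⟨r', v'⟩`
    have key : ∀ a ∈ V, ∀ u ∈ V, (∀ d, y (e * e' * e * a * (e * e' * e)⁻¹) d = y a d) → x u c = 0 → y u c = 0 →
        ∀ d, y (e * e' * e * (a * u) * (e * e' * e)⁻¹) d = y (a * u) d := by
      intro a ha u hu h1 h2 h3 d
      rw [cm, h.ym _ (h.conj_mem hpV ha) _ (h.conj_mem hpV hu), h.ym _ ha _ hu, h1]
      congr 1
      rw [ep]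
      rcases hpu u hu h2 h3 with h4 | h4
      · rw [h4]
      · rw [h4, h.ym _ hu _ (mul_mem hr'V hζV), h.ym _ hr'V _ hζV, ((h.meml c r').1 hr'l).2.2, hζy, add_zero,
          add_zero]
    have k1 : ∀ d, y (e * e' * e * 1 * (e * e' * e)⁻¹) d = y 1 d := fun d => by rw [mul_one, mul_inv_cancel]
    have kr : ∀ d, y (e * e' * e * r' * (e * e' * e)⁻¹) d = y r' d := fun d => by rw [ep, hpr]
    have kv : ∀ d, y (e * e' * e * v' * (e * e' * e)⁻¹) d = y v' d := fun d => by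
      rw [ep, hpv, h.ym _ hv'V _ hζV, hζy, add_zero]
    have krv : ∀ d, y (e * e' * e * (r' * v') * (e * e' * e)⁻¹) d = y (r' * v') d := fun d => by
      rw [cm, h.ym _ (h.conj_mem hpV hr'V) _ (h.conj_mem hpV hv'V), h.ym _ hr'V _ hv'V, kr, kv]
    intro v hv d
    have main : ∀ a ∈ V, (∀ d, y (e * e' * e * a * (e * e' * e)⁻¹) d = y a d) → x v c = x a c → y v c = y a c →
        y (e * e' * e * v * (e * e' * e)⁻¹) d = y v d := by
      intro a ha hka h1 h2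
      have h3 := key a ha (a⁻¹ * v) (mul_mem (inv_mem ha) hv) hka
        (by rw [h.xm _ (inv_mem ha) _ hv, h.x_inv ha, h1, neg_add_cancel])
        (by rw [h.ym _ (inv_mem ha) _ hv, h.y_inv ha, h2, neg_add_cancel]) d
      rwa [mul_inv_cancel_left] at h3
    have hv'x' : x v' c = ξ := hv'x
    have hr'y : y r' c = 0 := ((h.meml c r').1 hr'l).2.2 c
    rcases hFc (y v c) with h1 | h1
    · rcases hFc (x v c) with h2 | h2
      · exact main 1 (one_mem _) k1 (by rw [h2, h.x_one]) (by rw [h1, h.y_one])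
      · exact main r' hr'V kr (by rw [h2, hr'x]) (by rw [h1, hr'y])
    · by_cases h2 : x v c = ξ
      · exact main v' hv'V kv (by rw [h2, hv'x']) (by rw [h1, hv'y])
      · have h3 : x v c = 1 + ξ := by
          rcases hFc (x v c) with h4 | h4 <;> rcases hFc ξ with h5 | h5 <;> rw [h4, h5] at h2 ⊢
          · exact absurd rfl h2
          · rw [CharTwo.add_self_eq_zero]
          · rw [add_zero]
          · exact absurd rfl h2
        exact main (r' * v') (mul_mem hr'V hv'V) krv (by rw [h3, h.xm _ hr'V _ hv'V, hr'x, hv'x'])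
          (by rw [h1, h.ym _ hr'V _ hv'V, hr'y, hv'y, zero_add])
  have hpZ : ∀ z ∈ ⨆ b, l b, e * e' * e * z * (e * e' * e)⁻¹ = z := by
    intro z hz
    have h1 := h.memZ.1 hz
    rw [ep]
    rcases hFc (x z c) with h2 | h2
    · exact hpuZ z hz h2
    · have hr'Z : r' ∈ ⨆ b, l b := (le_iSup l c) hr'l
      have h3 : r'⁻¹ * z ∈ ⨆ b, l b := mul_mem (inv_mem hr'Z) hz
      have h4 := hpuZ _ h3 (by rw [h.xm _ (inv_mem hr'V) _ h1.1, h.x_inv hr'V, h2, hr'x, neg_add_cancel])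
      have e2 : ∀ a a' : G, e * (e' * (e * (a * a') * e⁻¹) * e'⁻¹) * e⁻¹ =
          (e * (e' * (e * a * e⁻¹) * e'⁻¹) * e⁻¹) * (e * (e' * (e * a' * e⁻¹) * e'⁻¹) * e⁻¹) := fun a a' => by group
      have e3 := e2 r' (r'⁻¹ * z)
      rw [mul_inv_cancel_left, hpr, h4, mul_inv_cancel_left] at e3
      exact e3
  have hN := norm_of_U h hgV hπ hpV hpy hpZ c v' hv'
  rw [ep, hpv] at hN
  have hζN : ζ ∈ N c := by
    have h1 := mul_mem (inv_mem hv') hN
    rwa [inv_mul_cancel_left] at h1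
  have hζ1 : ζ = 1 := h.inj ζ hζV (fun d => by
    by_cases hd : d = c
    · subst hd; exact hζx
    · exact ((h.memN c ζ).1 hζN).2.1 d hd) hζy
  have hwN : w ∈ N c := by rw [ew, hζ1, mul_one]; exact hv'
  -- end
  intro u hu
  have huo := (h.memN b u).1 hu
  have main : ∀ a ∈ N b, g * a * g⁻¹ ∈ N c → x u b = x a b → y u b = y a b → g * u * g⁻¹ ∈ N c := by
    intro a ha h1 h2 h3
    have h4 : u = a := h.ext (h.NV b hu) (h.NV b ha) (fun d => by
      by_cases hd : d = b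
      · subst hd; exact h2
      · rw [huo.2.1 d hd, ((h.memN b a).1 ha).2.1 d hd]) fun d => by
      by_cases hd : d = b
      · subst hd; exact h3
      · rw [huo.2.2 d hd, ((h.memN b a).1 ha).2.2 d hd]
    rw [h4]; exact h1
  have hr'N := h.lN c hr'l
  have hry : y r b = 0 := ((h.meml b r).1 hr).2.2 b
  rcases hF (x u b) with h1 | h1 <;> rcases hF (y u b) with h2 | h2
  · exact main 1 (one_mem _) (by rw [mul_one, mul_inv_cancel]; exact one_mem _) (by rw [h1, h.x_one]) (by rw [h2, h.y_one])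
  · exact main u0 hu0 hwN (by rw [h1, hu0x]) (by rw [h2, hu0y])
  · exact main r (h.lN b hr) hr'N (by rw [h1, hr1]) (by rw [h2, hry])
  · exact main (r * u0) (mul_mem (h.lN b hr) hu0) (by rw [cm]; exact mul_mem hr'N hwN)
      (by rw [h1, h.xm _ hrV _ hu0V, hr1, hu0x, add_zero]) (by rw [h2, h.ym _ hrV _ hu0V, hry, hu0y, zero_add])

end main

section final

variable [Finite G] [∀ b, CharP (F b) 2] {S : Sylow 2 G} (h : Kd (S : Subgroup G) V N l E x y)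
include h

/-- **`N_G(V) ∩ N_G(B)` permutes the blocks**, coordinates -/
theorem kd_permX {g : G} (hg : g ∈ normalizer (BB (S : Subgroup G) l : Set G)) (hgV : g ∈ normalizer (V : Set G))
    (b : ι) : ∃ c, cj g (l b) = l c ∧ cj g (N b) = N c := by
  have key : ∀ {g : G}, g ∈ normalizer (BB (S : Subgroup G) l : Set G) → g ∈ normalizer (V : Set G) →
      ∃ π : Equiv.Perm ι, ∀ b, (∀ z ∈ l b, g * z * g⁻¹ ∈ l (π b)) ∧ (∀ z ∈ l (π b), g⁻¹ * z * g ∈ l b) ∧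
        ∀ u ∈ N b, g * u * g⁻¹ ∈ N (π b) := by
    intro g hg hgV
    obtain ⟨π, hπ⟩ := exists_pi h S.isPGroup' hg hgV
    refine ⟨π, fun b => ⟨(hπ b).1.le, (hπ b).2, ?_⟩⟩
    by_cases hF : ∀ m : F b, m = 0 ∨ m = 1
    · exact two_blk h hgV hπ hF
    · push Not at hF
      obtain ⟨m, h0, h1⟩ := hF
      exact big_blk h hgV hπ h0 h1
  obtain ⟨π, hπ⟩ := key hg hgV
  obtain ⟨π', hπ'⟩ := key (inv_mem hg) (inv_mem hgV)
  have h1 : π' (π b) = b := by
    obtain ⟨z, hz, hz1⟩ := h.exists_x b 1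
    have h1 := (hπ' (π b)).1 _ ((hπ b).1 z hz)
    have e : g⁻¹ * (g * z * g⁻¹) * g⁻¹⁻¹ = z := by group
    rw [e] at h1
    by_contra hne
    have h2 := ((h.meml _ z).1 h1).2.1 b (Ne.symm hne)
    rw [hz1] at h2
    exact one_ne_zero h2
  refine ⟨π b, le_antisymm ?_ ?_, le_antisymm ?_ ?_⟩
  · rintro _ ⟨z, hz, rfl⟩
    exact (hπ b).1 z hz
  · intro z hz
    exact mem_cj'.2 ((hπ b).2.1 z hz)
  · rintro _ ⟨u, hu, rfl⟩
    exact (hπ b).2.2 u hu
  · intro u hu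
    have h2 := (hπ' (π b)).2.2 u hu
    rw [h1, inv_inv] at h2
    exact mem_cj'.2 h2

end final

/-- **`N_G(V) ∩ N_G(B)` permutes the blocks** -/
theorem permX [Finite G] {S : Sylow 2 G} (h : Bls (S : Subgroup G) V N l E) {g : G}
    (hg : g ∈ normalizer (BB (S : Subgroup G) l : Set G)) (hgV : g ∈ normalizer (V : Set G)) (b : ι) :
    ∃ c, cj g (l b) = l c ∧ cj g (N b) = N c := by
  obtain ⟨F', i1, i2, i3, x, y, hk⟩ := h.exists_kd
  exact kd_permX hk hg hgV b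

end Cfsg.Agent.Omega.NOThreeL.RWide.TPerm
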