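import Cfsg.Agent.Omega.NOThreeL.RWide.TypT
import Cfsg.Agent.Omega.NOne.LemmaT

/-!
# NO-3L, box R: at least three types over `T` are impossible (#25339 = #23252 with LEMMA MOV, over `T`)

`D = C_G(Ω₁Z(T))`, `O = O₂(D)`, `N_j = ⟨F_j^(Y_j)⟩`, `X_ij = ⟨F_j^(C_(Y_j)(V_i))⟩`, `L_j = Y_j ∩ ⋂ N(V_i)`,
`E_ij = ⟨Ω₁Z(T)^⟨D, L_i, L_j⟩⟩`.

* `TypT.YY_le` : `Y_j = ⟨D, L_j⟩`;
* `TypT.eab_EE`, `TypT.EE_le_O` : `E_ij` is elementary abelian, `E_ij ≤ O`;
* `TypT.noOn` : (NO);
* `TypT.big` : the frame `EXN.BigW`;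
* **`TypT.false_of`**.
-/

set_option autoImplicit false
set_option linter.unusedSectionVars false

namespace Cfsg.Agent.Omega.NOThreeL.RWide

open Subgroup Cfsg Cfsg.Agent.ZN Cfsg.Agent.Omega.MinPar Cfsg.Agent.Omega.Frame Cfsg.Agent.Omega.FrameNOFF
open Cfsg.Agent.ZN.ChoiceBase (cj cj_mono cj_inf cj_centralizer cj_eq_of_mem_normalizer mem_cj mem_normalizer_iff_cj
  cj_cj_inv cj_inv_cj)
open Cfsg.Agent.Omega.NoFF.Basic (comm_symm comm_mono)
open Cfsg.Agent.Omega.NoFF.ThmJFam (Ex)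
open Cfsg.Agent.Omega.NO3S.EThree Cfsg.Agent.Omega.NO3S.EThree.ExactA
open Cfsg.Agent.Omega.EK3.Rank (NoOn)
open Cfsg.Agent.Omega.ML.Final (MLK)
open Cfsg.Agent.MinSimple.MinParabolic (IsMinPar)
open Cfsg.Agent.Omega.EDel.ThmU (XF XF_le sylow_of_two)
open Cfsg.Agent.Omega.EXN
open Cfsg.Agent.Omega.KL.StarM (NoInpM)
open Cfsg.Agent.Omega.KL.FlagNO
open Cfsg.Agent.Omega.NOThreeL.RWide.TypB (NN XX relIndex_le_of_sup)

universe u v

namespace TypT

variable {G : Type u} [Group G] {ι : Type v} {T : Subgroup G} {F V : ι → Subgroup G}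

/-- `L_j = Y_j ∩ ⋂ N(V_i)` -/
def LT (F V : ι → Subgroup G) (j : ι) : Subgroup G := YY F j ⊓ ⨅ i, normalizer (V i : Set G)

/-- `⟨D, L_i, L_j⟩` -/
def WT (T : Subgroup G) (F V : ι → Subgroup G) (i j : ι) : Subgroup G := CZ T ⊔ (LT F V i ⊔ LT F V j)

/-- `E_ij` -/
def EE (T : Subgroup G) (F V : ι → Subgroup G) (i j : ι) : Subgroup G := XS (zc T) (WT T F V i j)

theorem LT_le (F V : ι → Subgroup G) (j : ι) : LT F V j ≤ YY F j := inf_le_left

theorem LT_norm (F V : ι → Subgroup G) (j i : ι) : LT F V j ≤ normalizer (V i : Set G) :=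
  inf_le_right.trans (iInf_le _ i)

theorem V_eq_XS (Z H : Subgroup G) : NoFF.Basic.V Z H = XS Z H :=
  le_antisymm (V_le_elem fun _ hg _ hz => conj_mem_XS hg hz) (XS_le fun _ hg _ hz => conj_mem_V hg hz)

variable (h : TypT T F V)
include h

theorem T_le_CZ : T ≤ CZ T := by
  intro t ht
  rw [mem_centralizer_iff]
  intro x hx
  exact ((MinSimple.VModule.mem_zc.1 hx).2.1 t ht).symm

theorem CZ_le (j : ι) : CZ T ≤ YY F j := le_YY fun l _ => centralizer_le (h.le l)

theorem T_le (j : ι) : T ≤ YY F j := h.T_le_CZ.trans (h.CZ_le j)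

theorem TC (i : ι) : T ≤ centralizer (F i : Set G) := h.T_le_CZ.trans (centralizer_le (h.le i))

/-- centralising all `F i` -/
theorem le_CZ_of {K : Subgroup G} (hK : ∀ l, K ≤ centralizer (F l : Set G)) : K ≤ CZ T :=
  comm_symm (h.sup.trans (iSup_le fun l => comm_symm (hK l)))

theorem TV (i : ι) : T ≤ normalizer (V i : Set G) := fun _ ht => (h.nrm i _ (le_normalizer ht) (h.T_le i ht)).2 i

/-- `X_ij = C_G(F_l : l ≠ i, j)` -/
theorem CZ_le_XF (i j : ι) : CZ T ≤ XF F i j := by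
  intro x hx
  rw [XF, mem_centralizer_iff]
  rintro y ⟨n, -, -, hy⟩
  exact mem_centralizer_iff.1 hx y (h.le n hy)

omit h in
theorem YY_le_XF (i j : ι) : YY F i ≤ XF F i j :=
  centralizer_le fun _ ⟨n, h1, _, h3⟩ => ⟨n, h1, h3⟩

theorem WT_le_XF (i j : ι) : WT T F V i j ≤ XF F i j := by
  refine sup_le (h.CZ_le_XF i j) (sup_le ((LT_le F V i).trans (YY_le_XF i j)) ((LT_le F V j).trans ?_))
  rw [EDel.ThmU.XF_comm]
  exact YY_le_XF j i

theorem locp (l : ι) : IsPGroup 2 (F l) := h.two.to_le ((h.le l).trans (ZN.zc_le _))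

variable [Finite G]

/-- `Y_j = ⟨D, L_j⟩` -/
theorem YY_le (j : ι) : YY F j ≤ CZ T ⊔ LT F V j := by
  refine MinSimple.MinParabolic.le_of_forall (h.T_le j) ?_ fun P hP hPY => ?_
  · refine le_trans ?_ le_sup_right
    exact le_inf inf_le_left (le_iInf fun i n hn => (h.nrm j n hn.2 hn.1).2 i)
  · rcases h.par j P hP hPY with h1 | h1
    · refine (h.le_CZ_of fun l => ?_).trans le_sup_left
      by_cases hl : l = j
      · rw [hl]; exact h1
      · exact hPY.trans (YY_le_cent hl)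
    · exact (le_inf hPY (le_iInf h1)).trans le_sup_right

/-- `X_ij` has characteristic 2 -/
theorem char2_XF (hc : IsCharacteristicTwoType G) (i j : ι) :
    XF F i j ⊓ centralizer (o2 (XF F i j) : Set G) ≤ o2 (XF F i j) := by
  have e : XF F i j = centralizer ((closure {x | ∃ n, n ≠ i ∧ n ≠ j ∧ x ∈ F n} : Subgroup G) : Set G) :=
    (centralizer_closure _).symm
  have hle : closure {x | ∃ n, n ≠ i ∧ n ≠ j ∧ x ∈ F n} ≤ T := by
    rw [closure_le]
    rintro _ ⟨n, -, -, hx⟩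
    exact ZN.zc_le _ (h.le n hx)
  rw [e]
  refine Cfsg.Agent.Omega.NOne.LemmaT.char2_centralizer hc (h.two.to_le hle) ?_
  obtain ⟨l, hl1, hl2⟩ := h.three i j
  intro e1
  apply h.ne l
  rw [eq_bot_iff, ← e1]
  exact fun x hx => subset_closure ⟨l, hl1, hl2, hx⟩

theorem zc_le_XF (i j : ι) : zc T ≤ XF F i j := by
  have h1 : zc T ≤ CZ T := (ZN.zc_le _).trans h.T_le_CZ
  exact h1.trans (h.CZ_le_XF i j)

/-- `⟨Ω₁Z(T)^(X_ij)⟩ ≤ Ω₁Z(O₂(X_ij))` -/
theorem XS_le_zc (hc : IsCharacteristicTwoType G) {i j : ι} (hij : i ≠ j) :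
    XS (zc T) (XF F i j) ≤ zc (o2 (XF F i j)) := by
  have h1 : zc T ≤ centralizer (o2 (XF F i j) : Set G) := comm_symm ((h.oT i j hij).trans h.T_le_CZ)
  have h2 : zc T ≤ zc (o2 (XF F i j)) := by
    intro x hx
    have h3 : x ∈ o2 (XF F i j) := h.char2_XF hc i j ⟨h.zc_le_XF i j hx, h1 hx⟩
    exact MinSimple.VModule.mem_zc.2 ⟨h3, fun y hy => mem_centralizer_iff.1 (h1 hx) y hy,
      MinSimple.VModule.zc_sq _ x hx⟩
  exact XS_le_of h2 ((MinSimple.VModule.le_normalizer_o2 _).trans (MinSimple.VModule.normalizer_le_normalizer_zc _))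

theorem eab_X (hc : IsCharacteristicTwoType G) {i j : ι} (hij : i ≠ j) :
    IsElementaryAbelian 2 (XS (zc T) (XF F i j)) := by
  have h1 : IsElementaryAbelian 2 (zc (o2 (XF F i j))) := by
    rw [eab_iff]
    refine ⟨fun x hx => ?_, fun x hx => MinSimple.VModule.zc_sq _ x hx⟩
    rw [mem_centralizer_iff]
    intro y hy
    exact (MinSimple.VModule.mem_zc.1 hx).2.1 y (ZN.zc_le _ hy)
  exact eab_mono h1 (h.XS_le_zc hc hij)

/-- `O₂(X_ij) ≤ O₂(D)` -/
theorem o2_XF_le {i j : ι} (hij : i ≠ j) : o2 (XF F i j) ≤ o2 (CZ T) := by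
  refine MinSimple.VModule.le_o2 ((h.oT i j hij).trans h.T_le_CZ) (MinSimple.VModule.o2_isPGroup _) ?_
  exact (h.CZ_le_XF i j).trans (MinSimple.VModule.le_normalizer_o2 _)

theorem X_le_O (hc : IsCharacteristicTwoType G) {i j : ι} (hij : i ≠ j) :
    XS (zc T) (XF F i j) ≤ o2 (CZ T) :=
  (h.XS_le_zc hc hij).trans ((ZN.zc_le _).trans (h.o2_XF_le hij))

theorem EE_le_X (i j : ι) : EE T F V i j ≤ XS (zc T) (XF F i j) := XS_mono (h.WT_le_XF i j)

theorem NN_le_EE (i j : ι) : NN F j ≤ EE T F V i j := by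
  refine XS_le fun r hr a ha => conj_mem_XS ?_ (h.le j ha)
  exact (h.YY_le j).trans (sup_le_sup_left le_sup_right _) hr

theorem NN_le_X {i j : ι} : NN F j ≤ XS (zc T) (XF F i j) :=
  (h.NN_le_EE i j).trans (h.EE_le_X i j)

omit [Finite G] in
theorem exists_ne (j : ι) : ∃ i, i ≠ j := by
  obtain ⟨l, hl, -⟩ := h.three j j
  exact ⟨l, hl⟩

theorem NN_le_O (hc : IsCharacteristicTwoType G) (j : ι) : NN F j ≤ o2 (CZ T) := by
  obtain ⟨i, hi⟩ := h.exists_ne j
  exact h.NN_le_X.trans (h.X_le_O hc hi)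

theorem o2_CZ_le (j : ι) : o2 (CZ T) ≤ T := by
  refine MinSimple.VModule.o2_le_of_sylow h.two fun h1 => h.syl j ?_
  rw [← relIndex_mul_relIndex T (CZ T) (YY F j) h.T_le_CZ (h.CZ_le j)]
  exact h1.mul_right _

/-! ### (NO) -/

omit [Finite G] in
/-- `K ≤ Y_j` normalises `⟨F_j^K⟩ Ω₁Z(T)` -/
theorem norm_sup {j : ι} {K : Subgroup G} (hK : K ≤ YY F j) :
    K ≤ normalizer ((XS (F j) K ⊔ zc T : Subgroup G) : Set G) := by
  have key : ∀ k ∈ K, cj k (XS (F j) K ⊔ zc T) ≤ XS (F j) K ⊔ zc T := by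
    intro k hk
    have e : cj k (XS (F j) K ⊔ zc T) = cj k (XS (F j) K) ⊔ cj k (zc T) := Subgroup.map_sup _ _ _
    rw [e]
    refine sup_le ((cj_eq_of_mem_normalizer (le_normalizer_XS _ _ hk)).le.trans le_sup_left) ?_
    rw [cj, map_le_iff_le_comap]
    refine h.sup.trans (iSup_le fun l z hz => ?_)
    rw [mem_comap]
    change k * z * k⁻¹ ∈ _
    by_cases hl : l = j
    · subst hl
      exact mem_sup_left (conj_mem_XS hk hz)
    · have h1 : z * k = k * z := mem_centralizer_iff.1 (YY_le_cent hl (hK hk)) z hz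
      rw [← h1, mul_inv_cancel_right]
      exact mem_sup_right (h.le l hz)
  intro k hk
  rw [mem_normalizer_iff_cj]
  refine le_antisymm (key k hk) ?_
  have h1 := cj_mono k (key k⁻¹ (inv_mem hk))
  rwa [cj_cj_inv] at h1

omit [Finite G] in
/-- `⟨Ω₁Z(T)^(K T)⟩ ≤ ⟨F_j^K⟩ Ω₁Z(T)` -/
theorem X_le_sup {j : ι} {K : Subgroup G} (hK : K ≤ YY F j) (hT : T ≤ normalizer (K : Set G)) :
    XS (zc T) (K ⊔ T) ≤ XS (F j) K ⊔ zc T := by
  refine XS_le_of le_sup_right (sup_le (h.norm_sup hK) ?_)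
  intro s hs
  have h1 : s ∈ normalizer (XS (F j) K : Set G) :=
    mem_normalizer_XS (centralizer_le_normalizer _ (h.TC j hs)) (hT hs)
  have h2 : s ∈ normalizer (zc T : Set G) := centralizer_le_normalizer _ (h.T_le_CZ hs)
  rw [mem_normalizer_iff_cj]
  have e : cj s (XS (F j) K ⊔ zc T) = cj s (XS (F j) K) ⊔ cj s (zc T) := Subgroup.map_sup _ _ _
  rw [e, cj_eq_of_mem_normalizer h1, cj_eq_of_mem_normalizer h2]

omit [Finite G] in
theorem XS_le_X {j : ι} {K R : Subgroup G} (hK : K ≤ R) : XS (F j) K ≤ XS (zc T) R :=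
  XS_le fun _ hr _ ha => conj_mem_XS (hK hr) (h.le j ha)

/-- **(NO)** on `⟨F_j^K⟩`, with `C_O(⟨F_j^K⟩) ≤ O₂(K T)` -/
theorem noOn' (hc : IsCharacteristicTwoType G) (ml : MLK.{u, u}) (kg : ∀ j, IsKGroup (YY F j))
    {j : ι} {K : Subgroup G} (hK : K ≤ YY F j) (hTK : T ≤ normalizer (K : Set G)) {A : Subgroup G}
    (hA : IsElementaryAbelian 2 A) (hAO : A ≤ o2 (CZ T)) :
    (centralizer (XS (F j) K : Set G)).relIndex A ≤ (centralizer (A : Set G)).relIndex (XS (F j) K) ∧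
      A ⊓ centralizer (XS (F j) K : Set G) ≤ o2 (K ⊔ T) := by
  have hKT : K ⊔ T ≤ YY F j := sup_le hK (h.T_le j)
  have hsyl : ¬ 2 ∣ T.relIndex (K ⊔ T) := fun h1 => h.syl j (by
    rw [← relIndex_mul_relIndex T (K ⊔ T) (YY F j) le_sup_right hKT]
    exact h1.mul_right _)
  obtain ⟨i, hi⟩ := h.exists_ne j
  have hYX : YY F j ≤ XF F i j := by
    rw [EDel.ThmU.XF_comm]; exact YY_le_XF j i
  have hU := eab_iff.1 (h.eab_X hc hi)
  have hXX : XS (zc T) (K ⊔ T) ≤ XS (zc T) (XF F i j) := XS_mono (hKT.trans hYX)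
  have hex : Ex (NoFF.Basic.V (zc T) (K ⊔ T)) := by
    rw [V_eq_XS]
    exact fun x hx => hU.2 x (hXX hx)
  have hAT : A ≤ T := hAO.trans (h.o2_CZ_le j)
  have h1 := flag_no_of ml h.two (le_sup_right : T ≤ K ⊔ T) hsyl h.T_le_CZ (kgroup_le (kg j) hKT) hex
    (X := CZ T) inf_le_right hAO (hAT.trans le_sup_right) (hAO.trans (MinSimple.VModule.o2_le _)) hA.2
  rw [V_eq_XS] at h1
  have hXU : XS (F j) K ≤ XS (zc T) (K ⊔ T) := h.XS_le_X le_sup_left
  have hUU : XS (zc T) (K ⊔ T) ≤ centralizer (XS (zc T) (K ⊔ T) : Set G) :=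
    (hXX.trans hU.1).trans (centralizer_le hXX)
  have hle := h.X_le_sup hK hTK
  constructor
  · refine (Sigma.relIndex_le_left (centralizer_le hXU)).trans (h1.1.trans (relIndex_le_of_sup hUU hXU ?_))
    refine hle.trans (sup_le_sup_left (le_inf (le_XS _ _) ?_) _)
    exact comm_symm (hAO.trans (MinSimple.VModule.o2_le _))
  · refine le_trans (le_inf inf_le_left ?_) h1.2
    refine comm_symm (hle.trans (sup_le (comm_symm inf_le_right) ?_))
    exact comm_symm (inf_le_left.trans (hAO.trans (MinSimple.VModule.o2_le _)))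

theorem noOn (hc : IsCharacteristicTwoType G) (ml : MLK.{u, u}) (kg : ∀ j, IsKGroup (YY F j))
    {j : ι} {K : Subgroup G} (hK : K ≤ YY F j) (hTK : T ≤ normalizer (K : Set G)) :
    NoOn (o2 (CZ T)) (XS (F j) K) := fun _ hA hAO => (h.noOn' hc ml kg hK hTK hA hAO).1

/-! ### The frame -/

omit [Finite G] in
/-- `L_i` normalises `C_{Y_j}(V_i)` -/
theorem LT_norm_H {i j : ι} (hij : i ≠ j) :
    LT F V i ≤ normalizer ((YY F j ⊓ centralizer (V i : Set G) : Subgroup G) : Set G) := by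
  have key : ∀ g ∈ LT F V i, ∀ r ∈ YY F j ⊓ centralizer (V i : Set G),
      g * r * g⁻¹ ∈ YY F j ⊓ centralizer (V i : Set G) := by
    intro g hg r hr
    have h1 : g * r * g⁻¹ ∈ centralizer (V i : Set G) := by
      have h2 := LT_norm F V i i hg
      rw [mem_normalizer_iff_cj] at h2
      have h3 : g * r * g⁻¹ ∈ cj g (centralizer (V i : Set G)) := by
        rw [mem_cj]
        have e : g⁻¹ * (g * r * g⁻¹) * g = r := by group
        rw [e]
        exact hr.2
      rwa [cj_centralizer, h2] at h3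
    refine ⟨?_, h1⟩
    change g * r * g⁻¹ ∈ YY F j
    rw [YY, mem_centralizer_iff]
    rintro x ⟨l, hl, hx⟩
    by_cases hli : l = i
    · subst hli
      exact mem_centralizer_iff.1 h1 x (h.FV l hx)
    · have h2 : x * g = g * x := mem_centralizer_iff.1 (YY_le_cent hli (LT_le _ _ _ hg)) x hx
      have h3 : x * r = r * x := mem_centralizer_iff.1 (YY_le_cent hl hr.1) x hx
      have h4 : x * g⁻¹ = g⁻¹ * x := by
        rw [eq_inv_mul_iff_mul_eq, ← mul_assoc, ← h2, mul_inv_cancel_right]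
      calc x * (g * r * g⁻¹) = (x * g) * r * g⁻¹ := by group
        _ = g * (x * r) * g⁻¹ := by rw [h2]; group
        _ = g * r * (x * g⁻¹) := by rw [h3]; group
        _ = g * r * g⁻¹ * x := by rw [h4]; group
  intro g hg
  rw [mem_normalizer_iff]
  intro r
  refine ⟨key g hg r, fun h' => ?_⟩
  have h1 := key g⁻¹ (inv_mem hg) _ h'
  have e : g⁻¹ * (g * r * g⁻¹) * g⁻¹⁻¹ = r := by group
  rwa [e] at h1

omit [Finite G] in
/-- `L_i` normalises `X_ij` -/
theorem LT_norm_X {i j : ι} (hij : i ≠ j) : LT F V i ≤ normalizer ((XX F V i j : Subgroup G) : Set G) := fun _ hg =>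
  mem_normalizer_XS (centralizer_le_normalizer _ (YY_le_cent hij.symm (LT_le _ _ _ hg))) (h.LT_norm_H hij hg)

omit [Finite G] in
theorem T_norm_H (i j : ι) :
    T ≤ normalizer ((YY F j ⊓ centralizer (V i : Set G) : Subgroup G) : Set G) := by
  intro s hs
  rw [mem_normalizer_iff_cj, cj_inf, cj_centralizer, cj_eq_of_mem_normalizer (le_normalizer (h.T_le j hs)),
    cj_eq_of_mem_normalizer (h.TV i hs)]

/-- `C_O(N_i) = O₂(C_{Y_i}(N_i))` is normalised by `Y_i` -/
theorem YY_norm_Q (i : ι) : YY F i ≤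
    normalizer ((o2 (CZ T) ⊓ centralizer (NN F i : Set G) : Subgroup G) : Set G) := by
  set K := YY F i ⊓ centralizer (NN F i : Set G) with hK
  have hKC : K ≤ CZ T := by
    refine h.le_CZ_of fun l => ?_
    by_cases hl : l = i
    · subst hl
      exact inf_le_right.trans (centralizer_le (le_XS _ _))
    · exact inf_le_left.trans (YY_le_cent hl)
  have hYN : YY F i ≤ normalizer (NN F i : Set G) := le_normalizer_XS _ _
  have hYK : YY F i ≤ normalizer (K : Set G) := by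
    intro g hg
    rw [mem_normalizer_iff_cj, hK, cj_inf, cj_centralizer, cj_eq_of_mem_normalizer (le_normalizer hg),
      cj_eq_of_mem_normalizer (hYN hg)]
  have hOC : o2 (CZ T) ≤ CZ T := MinSimple.VModule.o2_le _
  have e : o2 (CZ T) ⊓ centralizer (NN F i : Set G) = o2 K := by
    apply le_antisymm
    · refine MinSimple.VModule.le_o2 (inf_le_inf_right _ (hOC.trans (h.CZ_le i)))
        ((MinSimple.VModule.o2_isPGroup _).to_le inf_le_left) ?_
      intro g hg
      rw [mem_normalizer_iff_cj, cj_inf, cj_centralizer,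
        cj_eq_of_mem_normalizer (MinSimple.VModule.le_normalizer_o2 _ (hKC hg)), cj_eq_of_mem_normalizer (hYN hg.1)]
    · refine le_inf (MinSimple.VModule.le_o2 ((MinSimple.VModule.o2_le _).trans hKC) (MinSimple.VModule.o2_isPGroup _) ?_)
        ((MinSimple.VModule.o2_le _).trans inf_le_right)
      intro g hg
      exact Cfsg.Agent.Omega.normalizer_le_normalizer_o2' _ (hYK (h.CZ_le i hg))
  rw [e]
  intro g hg
  exact Cfsg.Agent.Omega.normalizer_le_normalizer_o2' _ (hYK hg)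

omit [Finite G] in
/-- `L_j` generate the `Y_j` -/
theorem XS_minN {j : ι} {U : Subgroup G} (hY : YY F j ≤ CZ T ⊔ LT F V j) (hZ : F j ≤ U)
    (hD : CZ T ≤ normalizer (U : Set G)) (hL : LT F V j ≤ normalizer (U : Set G)) : NN F j ≤ U :=
  XS_le_of hZ (hY.trans (sup_le hD hL))

variable (hc : IsCharacteristicTwoType G) (ml : MLK.{u, u}) (kg : ∀ j, IsKGroup (YY F j))
include hc ml kg

/-- **The frame.** -/
theorem sit : Sit (CZ T) (o2 (CZ T)) F (LT F V) (NN F) (XX F V) where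
  OD := MinSimple.VModule.o2_le _
  nO := MinSimple.VModule.le_normalizer_o2 _
  Oz i := (MinSimple.VModule.o2_le _).trans (centralizer_le (h.le i))
  eN j := by
    obtain ⟨i, hi⟩ := h.exists_ne j
    exact eab_mono (h.eab_X hc hi) h.NN_le_X
  NO i := h.NN_le_O hc i
  nN i := (h.CZ_le i).trans (le_normalizer_XS _ _)
  minN i _ h1 h2 h3 := h.XS_minN (h.YY_le i) h1 h2 h3
  nQ i := (LT_le _ _ _).trans (h.YY_norm_Q i)
  no i := h.noOn hc ml kg le_rfl ((h.T_le i).trans le_normalizer)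
  XN _ _ _ := XS_mono inf_le_left
  nX _ _ hij := h.LT_norm_X hij
  noX i j _ := h.noOn hc ml kg inf_le_left (h.T_norm_H i j)

/-- KL*(q) with all K2's -/
theorem kl (hE : NoInpM.{u, u}) {i j : ι} (hij : i ≠ j) {A : Subgroup G} (hA : IsElementaryAbelian 2 A)
    (hAQ : A ≤ o2 (CZ T) ⊓ centralizer (NN F i : Set G)) (hm : MinOff (EE T F V i j) A)
    (hX : A ≤ centralizer (XX F V i j : Set G)) : A ≤ centralizer (NN F j : Set G) := by
  by_contra hN
  have hAO : A ≤ o2 (CZ T) := hAQ.trans inf_le_left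
  have hAV : A ≤ centralizer (V i : Set G) := (hAQ.trans inf_le_right).trans (centralizer_le (h.VX i))
  have hNE : NN F j ≤ EE T F V i j := h.NN_le_EE i j
  have hNEi : NN F i ≤ EE T F V i j := by
    have h1 := h.NN_le_EE j i
    have e : EE T F V j i = EE T F V i j := by rw [EE, EE, WT, WT, sup_comm (LT F V i)]
    rwa [e] at h1
  have hWE : WT T F V i j ≤ normalizer (EE T F V i j : Set G) := le_normalizer_XS _ _
  have hEe : IsElementaryAbelian 2 (EE T F V i j) := eab_mono (h.eab_X hc hij) (h.EE_le_X i j)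
  have hsit := h.sit hc ml kg
  obtain ⟨h1, h2, h3, h4, h5⟩ := exact_of hA hAO hm hNE (hsit.no j) hN
  have hAT : A ≤ T := hAO.trans (h.o2_CZ_le j)
  refine GM.false_of (C := YY F j) (T := T) (A := A) (M := EE T F V i j) (Z := F j) (Y := V i) (Y' := V j) hE
    { CM := ((h.YY_le j).trans (sup_le_sup_left le_sup_right _)).trans hWE
      sqM := hEe.2
      TC := h.T_le j
      two := h.two
      syl := h.syl j
      YM := (h.VX i).trans hNEi
      YM' := (h.VX j).trans hNE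
      TZ := h.TC j
      NZ := fun n hn => (h.nrm j n hn.2 hn.1).1
      NY := fun n hn => (h.nrm j n hn.2 hn.1).2 i
      NY' := fun n hn => (h.nrm j n hn.2 hn.1).2 j
      ZY' := h.FV j
      dis := h.dis i j hij
      cY := ?_
      par := ?_
      AT := hAT
      sqA := hA.2
      AZ := ?_
      AY := ?_
      mv := hm.mov
      ker := h1
      le := hm.le
      no := ?_
      K := kg j }
  · -- the `T`-fixed points of `V_i`
    refine (YY_le_cent hij).trans (centralizer_le ?_)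
    intro x hx
    refine h.cV i ⟨hx.1, MinSimple.VModule.mem_zc.2 ⟨?_, ?_, ?_⟩⟩
    · exact ((h.VX i).trans ((h.NN_le_O hc i).trans (h.o2_CZ_le j))) hx.1
    · intro s hs
      exact mem_centralizer_iff.1 hx.2 s hs
    · exact hEe.2 x (hNEi (h.VX i hx.1))
  · intro P hP hPY
    rcases h.par j P hP hPY with h1 | h1
    · exact Or.inl h1
    · exact Or.inr ⟨h1 i, h1 j⟩
  · -- `C_{Y_j}(F_j) = D`
    have e : YY F j ⊓ centralizer (F j : Set G) = CZ T := by
      apply le_antisymm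
      · refine h.le_CZ_of fun l => ?_
        by_cases hl : l = j
        · subst hl
          exact inf_le_right
        · exact inf_le_left.trans (YY_le_cent hl)
      · exact le_inf (h.CZ_le j) (centralizer_le (h.le j))
    rw [e]
    exact hAO
  · -- `O₂(C_{Y_j}(V_i) T) ∩ C(V_i) ≤ O₂(C_{Y_j}(V_i))`
    set K := YY F j ⊓ centralizer (V i : Set G) with hK
    have hl : A ≤ o2 (K ⊔ T) :=
      (le_inf le_rfl hX).trans (h.noOn' hc ml kg (inf_le_left : K ≤ YY F j) (h.T_norm_H i j) hA hAO).2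
    have hAK : A ≤ K := le_inf (hAT.trans (h.T_le j)) hAV
    refine (le_inf hl hAK).trans (MinSimple.VModule.le_o2 inf_le_right
      ((MinSimple.VModule.o2_isPGroup _).to_le inf_le_left) ?_)
    intro g hg
    rw [mem_normalizer_iff_cj, cj_inf,
      cj_eq_of_mem_normalizer (MinSimple.VModule.le_normalizer_o2 _ ((le_sup_left : K ≤ K ⊔ T) hg)),
      cj_eq_of_mem_normalizer (le_normalizer hg)]
  · intro B hB
    have hBO := hAO.trans' hB
    have h6 := hsit.no j B (eab_mono hA hB) hBO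
    have h7 : (centralizer (EE T F V i j : Set G)).relIndex B ≤ (centralizer (NN F j : Set G)).relIndex B := by
      rw [← inf_relIndex_left B (centralizer (NN F j : Set G))]
      exact Sigma.relIndex_le_left ((inf_le_inf_right _ hB).trans h1)
    exact h7.trans (h6.trans (Sigma.relIndex_le_right hNE))

/-- **`EXN.BigW`** -/
theorem big (hE : NoInpM.{u, u}) : BigW (CZ T) (o2 (CZ T)) F (LT F V) (NN F) (XX F V) (EE T F V) where
  toSit := h.sit hc ml kg
  eE i j hij := eab_mono (h.eab_X hc hij) (h.EE_le_X i j)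
  EO i j hij := (h.EE_le_X i j).trans (h.X_le_O hc hij)
  NE i j _ := h.NN_le_EE i j
  symm i j := by rw [EE, EE, WT, WT, sup_comm (LT F V i)]
  DE i j _ := (le_sup_left : _ ≤ WT T F V i j).trans (le_normalizer_XS _ _)
  LE i j _ := ((le_sup_left : _ ≤ LT F V i ⊔ LT F V j).trans
    (le_sup_right : _ ≤ WT T F V i j)).trans (le_normalizer_XS _ _)
  minE i j _ U h1 h2 h3 h4 := XS_le_of (h.sup.trans (iSup_le h1)) (sup_le h2 (sup_le h3 h4))
  kl i j hij A hA hAQ hm hX := h.kl hc ml kg hE hij hA hAQ hm hX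

/-- **At least three types over `T` are impossible.** -/
theorem false_of [Finite ι] (hE : NoInpM.{u, u}) : False := by
  have hne : Nonempty ι := by
    by_contra hcon
    rw [not_nonempty_iff] at hcon
    have : Fact (Nat.Prime 2) := ⟨Nat.prime_two⟩
    obtain ⟨S⟩ : Nonempty (Sylow 2 G) := inferInstance
    have h1 : (S : Subgroup G) = ⊥ := h.non S S.isPGroup' fun j => isEmptyElim j
    have h2 := S.not_dvd_index
    rw [h1, index_bot] at h2
    exact h2 hc.1.two_dvd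
  obtain ⟨j⟩ := hne
  obtain ⟨⟨x, hx⟩, hx1⟩ := (Subgroup.ne_bot_iff_exists_ne_one).1 (h.ne j)
  have hx1' : x ≠ 1 := fun h => hx1 (Subtype.ext h)
  have hxO : x ∈ o2 (CZ T) := h.NN_le_O hc j (le_XS _ _ hx)
  obtain ⟨U, hU1, hUO, hUD, hUL⟩ := (h.big hc ml kg hE).exn ⟨x, hxO, hx1', MinSimple.VModule.zc_sq _ x (h.le j hx)⟩
  exact hU1 (h.non U ((MinSimple.VModule.o2_isPGroup _).to_le hUO) fun j =>
    (h.YY_le j).trans (sup_le hUD (hUL j)))

end TypT

end Cfsg.Agent.Omega.NOThreeL.RWide
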