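import Cfsg.Agent.Omega.NOThreeL.RWide.LinePerm

/-!
# `S` permutes the pairs (block, line) (helper540)

* `PNat.cj_YY` : `s ∈ S`, `cj s (blk M i) = blk M j` ⟹ `cj s (YY h i) = YY h j`.
* `PNat.transZ` : `S` is transitive on the pairs `(blk M i, YY h i)`.
-/

set_option autoImplicit false
set_option linter.unusedSectionVars false

namespace Cfsg.Agent.Omega.NOThreeL.RWide.PNat

open Subgroup Cfsg Cfsg.Agent.ZN Cfsg.Agent.ZN.ChoiceBase
open Cfsg.Agent.Omega.FFThm Cfsg.Agent.Lib.SL2Mat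
open Cfsg.Agent.Omega.NatPair hiding cj mem_cj
open Cfsg.Agent.Omega.NO3S.ThmB Cfsg.Agent.Omega.NO3S.KeyRad
open Cfsg.Agent.Omega.NOThreeL.RRed.NS

universe u

variable {G : Type u} [Group G] {F : Type} [Field F] [CharP F 2] {S P V D : Subgroup G} {k : ℕ}
  {M : NatKM F S P V D k} (h : Nb M) (spl : ∀ j, DD M j = ⊥)
include h spl

theorem conj_mem_YY {t : G} (ht : t ∈ S) {i j : Fin k} (he : cj t (blk M i) = blk M j) {y : G} (hy : y ∈ YY h i) :
    t * y * t⁻¹ ∈ YY h j := by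
  have hmem : ∀ w ∈ blk M i, t * w * t⁻¹ ∈ blk M j := fun w hw => by
    rw [← he, mem_cj]
    have e : t⁻¹ * (t * w * t⁻¹) * t = w := by group
    rwa [e]
  obtain ⟨σ, hσ⟩ := M.line t ht
  obtain ⟨w, hw, hwe⟩ := exists_blk_e h i ![0, 1]
  have h1 : σ i = j := by
    by_contra hne
    have h2 := e_blk h hne (hmem w hw)
    have h3 : M.e (t * w * t⁻¹) (σ i) 1 = 0 := by rw [h2]; rfl
    have h4 := (hσ w (blk_le h i hw) i).1 h3
    rw [hwe] at h4
    exact one_ne_zero h4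
  have h5 := (hσ y (blk_le h i hy.1) i).2 hy.2
  rw [h1] at h5
  exact ⟨hmem y hy.1, h5⟩

theorem cj_YY {t : G} (ht : t ∈ S) {i j : Fin k} (he : cj t (blk M i) = blk M j) : cj t (YY h i) = YY h j := by
  have he' : cj t⁻¹ (blk M j) = blk M i := by
    rw [← he]
    ext x
    rw [mem_cj, mem_cj]
    have e : t⁻¹ * (t⁻¹⁻¹ * x * t⁻¹) * t = x := by group
    rw [e]
  ext x
  rw [mem_cj]
  constructor
  · intro hx
    have h1 := conj_mem_YY h spl ht he hx
    have e : t * (t⁻¹ * x * t) * t⁻¹ = x := by group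
    rwa [e] at h1
  · intro hx
    have h1 := conj_mem_YY h spl (inv_mem ht) he' hx
    rwa [inv_inv] at h1

theorem transZ (i j : Fin k) : ∃ s ∈ S, cj s (blk M i) = blk M j ∧ cj s (YY h i) = YY h j := by
  obtain ⟨s, hs, he⟩ := trans h spl i j
  exact ⟨s, hs, he, cj_YY h spl hs he⟩

end Cfsg.Agent.Omega.NOThreeL.RWide.PNat
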