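import Cfsg.Agent.Omega.KL.TwoZ.Inp
import Cfsg.Agent.Omega.NOThreeL.RWide.Typ

/-!
# THEOREM KL*(q) on the level of subgroups

`C` acts on the elementary abelian `M` by conjugation, `T` is a Sylow 2-subgroup of `C`, `Z`, `Y ≤ M` are normalised by
`N_C(T)`, `T` centralises `Z`, `C` centralises `C_Y(T)`; every `T`-minimal `P ≤ C` centralises `Z`, or its elements of
odd order centralise `Y`; `A ≤ O₂(C_C(Z)) ∩ O₂(C_C(Y) T)` is exact modulo `C_A(⟨Z^C⟩) = C_A(M)`.

* `GQ C T A M Z Y` : this situation;  `GQ.preQ` : `TwoZ.PreQ`;  **`GQ.false_of`** : contradiction (with (ML) and EXT).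
-/

set_option autoImplicit false
set_option linter.unusedSectionVars false

namespace Cfsg.Agent.Omega.NOThreeL.RWide

open Subgroup Cfsg Cfsg.Agent.Omega.MinPar
open Cfsg.Agent.ZN (o2 zc)
open Cfsg.Agent.ClassTwoFusion.Quad Cfsg.Agent.Omega.ML.MinFrame
open Cfsg.Agent.MinSimple.MinParabolic (IsMinPar)
open Cfsg.Agent.Omega.NoFF.Basic (comm_symm comm_mono)
open Cfsg.Agent.Omega.KL.TwoZ (PreQ actX)
open Cfsg.Agent.Omega.KL (Plug.sub_o2 Plug.minPar_map)

universe u v

/-- the input on the level of subgroups of `G` -/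
structure GQ {G : Type u} [Group G] (C T A M Z Y : Subgroup G) : Prop where
  CM : C ≤ normalizer (M : Set G)
  sqM : ∀ m ∈ M, m ^ 2 = 1
  TC : T ≤ C
  two : IsPGroup 2 T
  syl : ¬ 2 ∣ T.relIndex C
  ZM : Z ≤ M
  YM : Y ≤ M
  TZ : T ≤ centralizer (Z : Set G)
  NZ : C ⊓ normalizer (T : Set G) ≤ normalizer (Z : Set G)
  NY : C ⊓ normalizer (T : Set G) ≤ normalizer (Y : Set G)
  cY : C ≤ centralizer ((Y ⊓ centralizer (T : Set G) : Subgroup G) : Set G)
  par : ∀ P : Subgroup G, IsMinPar T P → P ≤ C → P ≤ centralizer (Z : Set G) ∨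
    ∀ g ∈ P, Odd (orderOf g) → g ∈ centralizer (Y : Set G)
  AT : A ≤ T
  sqA : ∀ a ∈ A, a ^ 2 = 1
  AZ : A ≤ o2 (C ⊓ centralizer (Z : Set G))
  AY : A ≤ o2 (C ⊓ centralizer (Y : Set G) ⊔ T)
  mv : ¬ A ≤ centralizer (M : Set G)
  ker : A ⊓ centralizer (XS Z C : Set G) ≤ centralizer (M : Set G)
  le : (centralizer (A : Set G)).relIndex M ≤ (centralizer (M : Set G)).relIndex A
  no : ∀ B : Subgroup G, B ≤ A → (centralizer (M : Set G)).relIndex B ≤ (centralizer (B : Set G)).relIndex M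
  K : IsKGroup C

namespace GQ

variable {G : Type u} [Group G] {C T A M Z Y : Subgroup G}

theorem preQ [Finite G] (h : GQ C T A M Z Y) :
    letI := actX h.CM
    PreQ (T.subgroupOf C) (A.subgroupOf C) (Z.subgroupOf M) (Y.subgroupOf M) := by
  let := actX h.CM
  change PreQ (T.subgroupOf C) (A.subgroupOf C) (Z.subgroupOf M) (Y.subgroupOf M)
  have hAC : A ≤ C := h.AT.trans h.TC
  have hsm : ∀ (c : C) (m : M), ((c • m : M) : G) = c * m * (c : G)⁻¹ := fun _ _ => rfl
  have hfix : ∀ (c : C) (m : M), c • m = m ↔ (m : G) * c = c * m := by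
    intro c m
    rw [Subtype.ext_iff, hsm, mul_inv_eq_iff_eq_mul, eq_comm]
  have hnrm : ∀ (Y : Subgroup G) (c : C), (c : G) ∈ normalizer (Y : Set G) → ∀ m ∈ Y.subgroupOf M,
      c • m ∈ Y.subgroupOf M := by
    intro Y c hc m hm
    refine mem_subgroupOf.2 ?_
    rw [hsm]
    exact (mem_normalizer_iff.1 hc _).1 (mem_subgroupOf.1 hm)
  have hfxr : ∀ Y : Subgroup G, Y ≤ M → fxr C (Y.subgroupOf M) = (centralizer (Y : Set G)).subgroupOf C := by
    intro Y hY
    ext c
    rw [mem_subgroupOf, mem_centralizer_iff]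
    constructor
    · intro h y hy
      exact (hfix c ⟨y, hY hy⟩).1 (h _ (mem_subgroupOf.2 hy))
    · intro h y hy
      exact (hfix c y).2 (h _ (mem_subgroupOf.1 hy))
  have hfxt : fxr C (⊤ : Subgroup M) = (centralizer (M : Set G)).subgroupOf C := by
    rw [← hfxr M le_rfl, subgroupOf_self]
  have hcv : ∀ B : Subgroup G, B ≤ C → cv M (B.subgroupOf C : Set C) = (centralizer (B : Set G)).subgroupOf M := by
    intro B hB
    ext m
    rw [mem_subgroupOf, mem_centralizer_iff]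
    constructor
    · intro h b hb
      exact ((hfix ⟨b, hB hb⟩ m).1 (h _ (mem_subgroupOf.2 hb))).symm
    · intro h b hb
      exact (hfix b m).2 (h b (mem_subgroupOf.1 hb)).symm
  have hnT : ∀ g : C, g ∈ normalizer ((T.subgroupOf C : Subgroup C) : Set C) → (g : G) ∈ C ⊓ normalizer (T : Set G) := by
    intro g hg
    refine mem_inf.2 ⟨g.2, ?_⟩
    rw [mem_normalizer_iff]
    intro t
    constructor
    · intro ht
      exact (mem_normalizer_iff.1 hg ⟨t, h.TC ht⟩).1 ht
    · intro ht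
      have h1 : (g : G)⁻¹ * ((g : G) * t * (g : G)⁻¹) * (g : G)⁻¹⁻¹ ∈ T :=
        (mem_normalizer_iff.1 (inv_mem hg) ⟨(g : G) * t * (g : G)⁻¹, h.TC ht⟩).1 ht
      have e : (g : G)⁻¹ * ((g : G) * t * (g : G)⁻¹) * (g : G)⁻¹⁻¹ = t := by group
      rwa [e] at h1
  refine ⟨?_, ?_, h.syl, ?_, ?_, ?_, ?_, ?_, ?_, ?_, ?_, ?_, ?_, ?_, ?_, h.K⟩
  · intro m
    apply Subtype.ext
    have h1 := h.sqM m m.2
    rw [pow_two] at h1
    exact h1
  · exact h.two.comap_of_injective C.subtype C.subtype_injective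
  · intro z hz t ht
    rw [hfix]
    exact mem_centralizer_iff.1 (h.TZ (mem_subgroupOf.1 ht)) z (mem_subgroupOf.1 hz)
  · exact fun g hg => hnrm _ g (h.NZ (hnT g hg))
  · exact fun g hg => hnrm _ g (h.NY (hnT g hg))
  · intro w hw hwT g
    rw [hfix]
    refine mem_centralizer_iff.1 (h.cY g.2) w ⟨mem_subgroupOf.1 hw, ?_⟩
    change (w : G) ∈ centralizer (T : Set G)
    rw [mem_centralizer_iff]
    intro t ht
    exact ((hfix ⟨t, h.TC ht⟩ w).1 (hwT _ (mem_subgroupOf.2 ht))).symm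
  · intro P hP
    rcases h.par _ (Plug.minPar_map h.TC hP) (map_subtype_le P) with h1 | h1
    · left
      intro z hz p hp
      rw [hfix]
      exact mem_centralizer_iff.1 (h1 (mem_map_of_mem C.subtype hp)) z (mem_subgroupOf.1 hz)
    · right
      intro g hg hog w hw
      rw [hfix]
      exact mem_centralizer_iff.1 (h1 g (mem_map_of_mem C.subtype hg) (by rwa [orderOf_coe])) w (mem_subgroupOf.1 hw)
  · intro a ha
    apply Subtype.ext
    have h1 := h.sqA a (mem_subgroupOf.1 ha)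
    rw [pow_two] at h1
    exact h1
  · refine Plug.sub_o2 (S := C ⊓ centralizer (Z : Set G)) (fun c => ?_) h.AZ
    rw [hfxr _ h.ZM, mem_subgroupOf]
    exact ⟨fun h1 => ⟨c.2, h1⟩, fun h1 => h1.2⟩
  · refine Plug.sub_o2 (S := C ⊓ centralizer (Y : Set G) ⊔ T) (fun c => ?_) h.AY
    have e : (C ⊓ centralizer (Y : Set G)).subgroupOf C = (centralizer (Y : Set G)).subgroupOf C := by
      rw [inf_subgroupOf_left]
    rw [hfxr Y h.YM, ← e, ← subgroupOf_sup inf_le_left h.TC, mem_subgroupOf]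
  · intro a ha hc m
    rw [hfix]
    have h1 : (a : G) ∈ centralizer (XS Z C : Set G) := by
      have h2 : XS Z C ≤ centralizer ({(a : G)} : Set G) := by
        refine XS_le fun c hc' z hz => ?_
        rw [mem_centralizer_iff]
        rintro _ rfl
        have h3 := (hfix a _).1 (hc ⟨c, hc'⟩ ⟨z, h.ZM hz⟩ (mem_subgroupOf.2 hz))
        exact h3.symm
      rw [mem_centralizer_iff]
      intro x hx
      exact (mem_centralizer_iff.1 (h2 hx) a rfl).symm
    exact mem_centralizer_iff.1 (h.ker ⟨mem_subgroupOf.1 ha, h1⟩) m m.2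
  · by_contra hcon
    push Not at hcon
    apply h.mv
    intro a ha
    rw [mem_centralizer_iff]
    intro m hm
    exact (hfix ⟨a, hAC ha⟩ ⟨m, hm⟩).1 (hcon _ (mem_subgroupOf.2 ha) ⟨m, hm⟩)
  · intro B hB
    set B' : Subgroup G := B.map C.subtype with hB'
    have hBB : B'.subgroupOf C = B := comap_map_eq_self_of_injective C.subtype_injective B
    have hB'A : B' ≤ A := by
      rintro _ ⟨b, hb, rfl⟩
      exact mem_subgroupOf.1 (hB hb)
    have h1 := h.no B' hB'A
    rw [hfxt, ← hBB, hcv B' (hB'A.trans hAC), relIndex_subgroupOf (hB'A.trans hAC)]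
    exact h1
  · rw [hfxt, hcv A hAC, relIndex_subgroupOf hAC]
    exact h.le

/-- **THEOREM KL*(q)** on the level of subgroups, with EXT -/
theorem false_of [Finite G] (hM : ML.Final.MLK.{u, u}) (hE : ML.Ex.Two.Ext.{u, u}) (h : GQ C T A M Z Y) : False := by
  let := actX h.CM
  obtain ⟨H, _, _, _, T', A', i⟩ := h.preQ.inp
  exact i.false_of hM hE

end GQ

end Cfsg.Agent.Omega.NOThreeL.RWide
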