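import Cfsg.Agent.Omega.EXN.Off
import Cfsg.Agent.Omega.NOThreeL.RWide.ExnK

/-!
# NO-3L, box R: at least three types are impossible (#24089, #23252, #23600)

`D = C_G(Z)`, `O = O₂(D)`, `N_j = ⟨Z_j^(Y_j)⟩`, `X_ij = ⟨Z_j^(C_(Y_j)(V_i))⟩`, `E_ij = ⟨Z^⟨D, LL i, LL j⟩⟩`.

* `Typed.sit` : the frame `EXN.Sit`;  `Typed.big` : `EXN.Big` (with (ML) and EXT);
* **`Typed.false_of`** : `Typed S Z V` is impossible.
-/

set_option autoImplicit false
set_option linter.unusedSectionVars false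

namespace Cfsg.Agent.Omega.NOThreeL.RWide

open Subgroup Cfsg Cfsg.Agent.ZN Cfsg.Agent.Omega.MinPar Cfsg.Agent.Omega.Frame Cfsg.Agent.Omega.FrameNOFF
open Cfsg.Agent.Omega.Node.NO3L
open Cfsg.Agent.ZN.ChoiceBase (cj cj_mono cj_inf cj_centralizer cj_eq_of_mem_normalizer mem_cj mem_normalizer_iff_cj
  cj_cj_inv cj_inv_cj)
open Cfsg.Agent.Omega.NoFF.Basic (comm_symm comm_mono)
open Cfsg.Agent.Omega.NO3S.EThree Cfsg.Agent.Omega.NO3S.EThree.ExactA
open Cfsg.Agent.Omega.EK3.Rank (NoOn)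
open Cfsg.Agent.Omega.ML.Final (MLK)
open Cfsg.Agent.MinSimple.MinParabolic (IsMinPar)
open Cfsg.Agent.Omega.EXN

universe u v

namespace TypB

variable {G : Type u} [Group G] [Finite G] {S : Sylow 2 G} {ι : Type v} {Z V : ι → Subgroup G}

/-- `N_j` -/
abbrev NN (Z : ι → Subgroup G) (j : ι) : Subgroup G := XS (Z j) (YY Z j)

/-- `X_ij` -/
abbrev XX (Z V : ι → Subgroup G) (i j : ι) : Subgroup G := XS (Z j) (YY Z j ⊓ centralizer (V i : Set G))

/-- `⟨D, LL i, LL j⟩` -/
abbrev WW (S : Subgroup G) (Z : ι → Subgroup G) (i j : ι) : Subgroup G := CZ S ⊔ (LL S Z i ⊔ LL S Z j)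

variable (T : TypB (S : Subgroup G) Z V)
include T

theorem locW (i j : ι) : IsLoc (S : Subgroup G) (WW (S : Subgroup G) Z i j) := by
  obtain ⟨l, h1, h2⟩ := T.three i j
  refine T.isLoc_of (l := l) ((le_CZ S).trans le_sup_left) (sup_le (centralizer_le (T.le l)) (sup_le ?_ ?_))
  · exact (LL_le _ _ _).trans (YY_le_cent h1)
  · exact (LL_le _ _ _).trans (YY_le_cent h2)

theorem longW (i j : ι) : IsLong (S : Subgroup G) (WW (S : Subgroup G) Z i j) := ⟨T.locW i j, le_sup_left⟩

/-- `⟨Z_j^(Y_j)⟩ ≤ U` -/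
theorem NN_le {j : ι} {U : Subgroup G} (hZ : Z j ≤ U) (hD : CZ (S : Subgroup G) ≤ normalizer (U : Set G))
    (hL : LL (S : Subgroup G) Z j ≤ normalizer (U : Set G)) : NN Z j ≤ U :=
  XS_le_of hZ ((T.YY_le j).trans (sup_le hD hL))

/-- `LL i` normalises `C_{Y_j}(V_i)` -/
theorem LL_norm_H {i j : ι} (hij : i ≠ j) :
    LL (S : Subgroup G) Z i ≤ normalizer ((YY Z j ⊓ centralizer (V i : Set G) : Subgroup G) : Set G) := by
  have key : ∀ g ∈ LL (S : Subgroup G) Z i, ∀ r ∈ YY Z j ⊓ centralizer (V i : Set G),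
      g * r * g⁻¹ ∈ YY Z j ⊓ centralizer (V i : Set G) := by
    intro g hg r hr
    have h1 : g * r * g⁻¹ ∈ centralizer (V i : Set G) := by
      have h2 := T.LL_norm_V i hg
      rw [mem_normalizer_iff_cj] at h2
      have h3 : g * r * g⁻¹ ∈ cj g (centralizer (V i : Set G)) := by
        rw [mem_cj]
        have e : g⁻¹ * (g * r * g⁻¹) * g = r := by group
        rw [e]
        exact hr.2
      rwa [cj_centralizer, h2] at h3
    refine ⟨?_, h1⟩
    change g * r * g⁻¹ ∈ YY Z j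
    rw [YY, mem_centralizer_iff]
    rintro x ⟨l, hl, hx⟩
    by_cases hli : l = i
    · subst hli
      exact mem_centralizer_iff.1 h1 x (T.ZV l hx)
    · have h2 : x * g = g * x := mem_centralizer_iff.1 (YY_le_cent hli (LL_le _ _ _ hg)) x hx
      have h3 : x * r = r * x := mem_centralizer_iff.1 (YY_le_cent hl hr.1) x hx
      have h4 : x * g⁻¹ = g⁻¹ * x := by
        rw [eq_inv_mul_iff_mul_eq, ← mul_assoc, ← h2, mul_inv_cancel_right]
      calc x * (g * r * g⁻¹) = (x * g) * r * g⁻¹ := by group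
        _ = g * (x * r) * g⁻¹ := by rw [h2]; group
        _ = g * r * (x * g⁻¹) := by rw [h3]; group
        _ = g * r * g⁻¹ * x := by rw [h4]; group
  intro g hg
  rw [mem_normalizer_iff]
  intro r
  refine ⟨key g hg r, fun h => ?_⟩
  have h1 := key g⁻¹ (inv_mem hg) _ h
  have e : g⁻¹ * (g * r * g⁻¹) * g⁻¹⁻¹ = r := by group
  rwa [e] at h1

/-- `LL i` normalises `X_ij` -/
theorem LL_norm_X {i j : ι} (hij : i ≠ j) :
    LL (S : Subgroup G) Z i ≤ normalizer ((XX Z V i j : Subgroup G) : Set G) := fun _ hg =>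
  mem_normalizer_XS (centralizer_le_normalizer _ (YY_le_cent hij.symm (LL_le _ _ _ hg))) (T.LL_norm_H hij hg)

theorem S_norm_H (i j : ι) :
    (S : Subgroup G) ≤ normalizer ((YY Z j ⊓ centralizer (V i : Set G) : Subgroup G) : Set G) := by
  intro s hs
  rw [mem_normalizer_iff_cj, cj_inf, cj_centralizer, cj_eq_of_mem_normalizer (le_normalizer (T.S_le j hs)),
    cj_eq_of_mem_normalizer (T.SV i hs)]

/-- `C_O(N_i) = O₂(C_{Y_i}(N_i))` is normalised by `Y_i` -/
theorem YY_norm_Q (i : ι) : YY Z i ≤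
    normalizer ((o2 (CZ (S : Subgroup G)) ⊓ centralizer (NN Z i : Set G) : Subgroup G) : Set G) := by
  set K := YY Z i ⊓ centralizer (NN Z i : Set G) with hK
  have hKC : K ≤ CZ (S : Subgroup G) := by
    refine T.le_CZ_of fun l => ?_
    by_cases hl : l = i
    · subst hl
      exact inf_le_right.trans (centralizer_le (le_XS _ _))
    · exact inf_le_left.trans (YY_le_cent hl)
  have hYN : YY Z i ≤ normalizer (NN Z i : Set G) := le_normalizer_XS _ _
  have hYK : YY Z i ≤ normalizer (K : Set G) := by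
    intro g hg
    rw [mem_normalizer_iff_cj, hK, cj_inf, cj_centralizer, cj_eq_of_mem_normalizer (le_normalizer hg),
      cj_eq_of_mem_normalizer (hYN hg)]
  have hOC : o2 (CZ (S : Subgroup G)) ≤ CZ (S : Subgroup G) := MinSimple.VModule.o2_le _
  have e : o2 (CZ (S : Subgroup G)) ⊓ centralizer (NN Z i : Set G) = o2 K := by
    apply le_antisymm
    · refine MinSimple.VModule.le_o2 (inf_le_inf_right _ (hOC.trans (T.CZ_le i)))
        ((MinSimple.VModule.o2_isPGroup _).to_le inf_le_left) ?_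
      intro g hg
      rw [mem_normalizer_iff_cj, cj_inf, cj_centralizer,
        cj_eq_of_mem_normalizer (MinSimple.VModule.le_normalizer_o2 _ (hKC hg)), cj_eq_of_mem_normalizer (hYN hg.1)]
    · refine le_inf (MinSimple.VModule.le_o2 ((MinSimple.VModule.o2_le _).trans hKC) (MinSimple.VModule.o2_isPGroup _) ?_)
        ((MinSimple.VModule.o2_le _).trans inf_le_right)
      intro g hg
      exact Cfsg.Agent.Omega.normalizer_le_normalizer_o2' _ (hYK (T.CZ_le i hg))
  rw [e]
  intro g hg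
  exact Cfsg.Agent.Omega.normalizer_le_normalizer_o2' _ (hYK hg)

variable (hc : IsCharacteristicTwoType G) (ml : MLK.{u, u})
  (kg : ∀ R : Subgroup G, IsLoc (S : Subgroup G) R → IsKGroup R) (hS : (S : Subgroup G) ≠ ⊥)
include hc

theorem NN_le_zl (j : ι) : NN Z j ≤ zl (S : Subgroup G) (YY Z j) := T.XS_le_zl le_rfl

theorem NN_le_O (j : ι) : NN Z j ≤ o2 (CZ (S : Subgroup G)) :=
  (T.NN_le_zl hc j).trans (((T.longY j).zl_le_o2 hc S).trans ((T.longY j).o2_le S))

include ml kg hS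

/-- **The frame.** -/
theorem sit : Sit (CZ (S : Subgroup G)) (o2 (CZ (S : Subgroup G))) Z (LL (S : Subgroup G) Z) (NN Z) (XX Z V) where
  OD := MinSimple.VModule.o2_le _
  nO := MinSimple.VModule.le_normalizer_o2 _
  Oz i := (MinSimple.VModule.o2_le _).trans (centralizer_le (T.le i))
  eN i := eab_mono (FFThm.elem_zl hc S (T.locY i)) (T.NN_le_zl hc i)
  NO i := T.NN_le_O hc i
  nN i := (T.CZ_le i).trans (le_normalizer_XS _ _)
  minN _ _ h1 h2 h3 := T.NN_le h1 h2 h3
  nQ i := (LL_le _ _ _).trans (T.YY_norm_Q i)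
  no i := T.noOn hc ml kg hS le_rfl ((T.S_le i).trans le_normalizer)
  XN _ _ _ := XS_mono inf_le_left
  nX _ _ h := T.LL_norm_X h
  noX i j _ := T.noOn hc ml kg hS inf_le_left (T.S_norm_H i j)

end TypB

namespace Typed

open TypB

variable {G : Type u} [Group G] [Finite G] {S : Sylow 2 G} {ι : Type v} {Z V : ι → Subgroup G}
  (T : Typed (S : Subgroup G) Z V) (hc : IsCharacteristicTwoType G) (ml : MLK.{u, u})
  (kg : ∀ R : Subgroup G, IsLoc (S : Subgroup G) R → IsKGroup R) (hS : (S : Subgroup G) ≠ ⊥)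
include T hc ml kg hS

/-- (NO) on `N ≤ E` gives the input of KL*(q) -/
theorem kl (hE : ML.Ex.Two.Ext.{u, u}) {i j : ι} (hij : i ≠ j) {F : Subgroup G} (hF : IsElementaryAbelian 2 F)
    (hFO : F ≤ o2 (CZ (S : Subgroup G))) (hm : MinOff (zl (S : Subgroup G) (WW (S : Subgroup G) Z i j)) F)
    (hX : F ≤ centralizer (XX Z V i j : Set G)) : F ≤ centralizer (NN Z j : Set G) := by
  by_contra hN
  have Tb := T.typB
  set E := zl (S : Subgroup G) (WW (S : Subgroup G) Z i j) with hEd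
  have hYW : YY Z j ≤ WW (S : Subgroup G) Z i j := (Tb.YY_le j).trans (sup_le_sup_left le_sup_right _)
  have hYWi : YY Z i ≤ WW (S : Subgroup G) Z i j := (Tb.YY_le i).trans (sup_le_sup_left le_sup_left _)
  have hNE : NN Z j ≤ E := Tb.XS_le_zl hYW
  have hNEi : NN Z i ≤ E := Tb.XS_le_zl hYWi
  have hWE : WW (S : Subgroup G) Z i j ≤ normalizer (E : Set G) := MinSimple.VModule.le_normalizer_zl _ _
  have hEe : IsElementaryAbelian 2 E := FFThm.elem_zl hc S (Tb.locW i j)
  have hsit := Tb.sit hc ml kg hS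
  obtain ⟨h1, h2, h3, h4, h5⟩ := exact_of hF hFO hm hNE (hsit.no j) hN
  have hFS : F ≤ (S : Subgroup G) := hFO.trans ((isLoc_centralizer_zc S hS).o2_le S)
  refine GQ.false_of (C := YY Z j) (T := (S : Subgroup G)) (A := F) (M := E) (Z := Z j) (Y := V i) ml hE
    { CM := hYW.trans hWE
      sqM := hEe.2
      TC := Tb.S_le j
      two := S.isPGroup'
      syl := MinSimple.Basic.not_dvd_relIndex S (Tb.S_le j)
      ZM := (le_XS _ _).trans hNE
      YM := (T.VX i).trans hNEi
      TZ := Tb.ZC j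
      NZ := fun n hn => (T.nrm j n hn.2 hn.1).1
      NY := fun n hn => (T.nrm j n hn.2 hn.1).2 i
      cY := ?_
      par := ?_
      AT := hFS
      sqA := hF.2
      AZ := ?_
      AY := ?_
      mv := hm.mov
      ker := h1
      le := hm.le
      no := ?_
      K := kg _ (Tb.locY j) }
  · -- the `S`-fixed points of `V_i`
    refine (YY_le_cent hij).trans (centralizer_le ?_)
    intro x hx
    refine T.cV i ⟨hx.1, MinSimple.VModule.mem_zc.2 ⟨?_, ?_, ?_⟩⟩
    · exact ((T.VX i).trans ((Tb.NN_le_O hc i).trans ((isLoc_centralizer_zc S hS).o2_le S))) hx.1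
    · intro s hs
      exact mem_centralizer_iff.1 hx.2 s hs
    · exact hEe.2 x (hNEi (T.VX i hx.1))
  · intro P hP hPY
    have hPp := (Tb.locY j).isPar S hP hPY
    by_cases h : IsParS (S : Subgroup G) P
    · exact Or.inr ((T.par j P h hPY).2 i hij)
    · exact Or.inl ((par_le_CZ S hPp h).trans (centralizer_le (T.le j)))
  · -- `C_{Y_j}(Z_j) = D`
    have e : YY Z j ⊓ centralizer (Z j : Set G) = CZ (S : Subgroup G) := by
      apply le_antisymm
      · refine Tb.le_CZ_of fun l => ?_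
        by_cases hl : l = j
        · subst hl
          exact inf_le_right
        · exact inf_le_left.trans (YY_le_cent hl)
      · exact le_inf (Tb.CZ_le j) (centralizer_le (T.le j))
    rw [e]
    exact hFO
  · -- `C_{Y_j}(V_i) S`
    refine le_o2_of_comm hFO (hFS.trans le_sup_right) ?_
    refine comm_symm ((Tb.zl_le_sup inf_le_left (Tb.S_norm_H i j)).trans (sup_le (comm_symm hX) ?_))
    exact comm_symm (hFO.trans (MinSimple.VModule.o2_le _))
  · intro B hB
    have hBO := hFO.trans' hB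
    have h6 := hsit.no j B (eab_mono hF hB) hBO
    have h7 : (centralizer (E : Set G)).relIndex B ≤ (centralizer (NN Z j : Set G)).relIndex B := by
      rw [← inf_relIndex_left B (centralizer (NN Z j : Set G))]
      exact Sigma.relIndex_le_left ((inf_le_inf_right _ hB).trans h1)
    exact h7.trans (h6.trans (Sigma.relIndex_le_right hNE))

/-- **`EXN.Big`** -/
theorem big (hE : ML.Ex.Two.Ext.{u, u}) : Big (CZ (S : Subgroup G)) (o2 (CZ (S : Subgroup G))) Z
    (LL (S : Subgroup G) Z) (NN Z) (XX Z V) (fun i j => zl (S : Subgroup G) (WW (S : Subgroup G) Z i j)) where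
  toSit := T.typB.sit hc ml kg hS
  eE i j _ := FFThm.elem_zl hc S (T.typB.locW i j)
  EO i j _ := ((T.typB.longW i j).zl_le_o2 hc S).trans ((T.typB.longW i j).o2_le S)
  NE i j _ := T.typB.XS_le_zl ((T.typB.YY_le j).trans (sup_le_sup_left le_sup_right _))
  symm i j := by rw [WW, WW, sup_comm (LL (S : Subgroup G) Z i)]
  DE i j _ := (le_sup_left : _ ≤ WW (S : Subgroup G) Z i j).trans (MinSimple.VModule.le_normalizer_zl _ _)
  LE i j _ := ((le_sup_left : _ ≤ LL (S : Subgroup G) Z i ⊔ LL (S : Subgroup G) Z j).trans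
    (le_sup_right : _ ≤ WW (S : Subgroup G) Z i j)).trans (MinSimple.VModule.le_normalizer_zl _ _)
  minE i j _ U h1 h2 h3 h4 := MinSimple.VModule.zl_le (T.sup.trans (iSup_le h1)) (sup_le h2 (sup_le h3 h4))
  kl i j hij F hF hFO hm hX := T.kl hc ml kg hS hE hij hF hFO hm hX

/-- **At least three types are impossible.** -/
theorem false_of [Finite ι] (hE : ML.Ex.Two.Ext.{u, u}) : False := by
  have hz := MinSimple.Basic.zc_ne_bot S.isPGroup' hS
  obtain ⟨⟨x, hx⟩, hx1⟩ := (Subgroup.ne_bot_iff_exists_ne_one).1 hz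
  have hx1' : x ≠ 1 := fun h => hx1 (Subtype.ext h)
  have hzO : zc (S : Subgroup G) ≤ o2 (CZ (S : Subgroup G)) := by
    have hL : IsLong (S : Subgroup G) (CZ (S : Subgroup G)) := ⟨isLoc_centralizer_zc S hS, le_rfl⟩
    exact zc_le_zl.trans (hL.zl_le_o2 hc S)
  obtain ⟨U, hU1, hUO, hUD, hUL⟩ := (T.big hc ml kg hS hE).exn ⟨x, hzO hx, hx1', MinSimple.VModule.zc_sq _ x hx⟩
  exact hU1 (T.non U ((MinSimple.VModule.o2_isPGroup _).to_le hUO) fun j => (T.typB.YY_le j).trans (sup_le hUD (hUL j)))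

end Typed

end Cfsg.Agent.Omega.NOThreeL.RWide
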