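import Cfsg.Agent.Omega.NOThreeL.RTree
import Cfsg.Agent.Omega.NOThreeL.RRed.Blk.Orbit

/-!
# The normality line of #25652 (helper505)

Blocks `N b` with groups `E b` (`E b` normalises `N b` and centralises the other blocks) and lines `l b ≤ N b`,
`Gb l b = C(l c : c ≠ b)`.  If `Y` permutes the `N b` and moves the lines inside the `E`-classes (`LinY`), and `C` permutes
the lines, then `⨆ b, Gb l b` is normalised by `Y ⊔ C` (`LinY.gb_norm`).

* `false_of` : if no 2-subgroup `≠ 1` is normalised by `Y ⊔ C`, then no group `H ≥ ⨆ b, Gb l b` has `Z ≤ O₂(H)` for a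
  `1 ≠ Z ≤ ⨆ l`; `two` : the same for two blocks and `C(l 0) ⊔ C(l 1)`.
-/

set_option autoImplicit false
set_option linter.unusedSectionVars false

namespace Cfsg.Agent.Omega.NOThreeL.RWide.GNloc

open Subgroup Cfsg Cfsg.Agent.ZN Cfsg.Agent.Omega.MinPar Cfsg.Agent.Omega.Frame Cfsg.Agent.Omega.FrameNOFF
open Cfsg.Agent.ZN.ChoiceBase (cj cj_mono cj_inf cj_centralizer cj_eq_of_mem_normalizer mem_cj mem_normalizer_iff_cj
  cj_cj_inv cj_inv_cj cj_cj cj_one isPGroup_cj)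
open Cfsg.Agent.ZN.ChoiceSit (Syl syl_conj o2_cj)

universe u v

variable {G : Type u} [Group G] {ι : Type v}

theorem cj_sSup' (g : G) (f : ι → Subgroup G) : cj g (⨆ i, f i) = ⨆ i, cj g (f i) := Subgroup.map_iSup _ _

theorem cj_iSup₂ (g : G) {κ : ι → Prop} (f : ι → Subgroup G) :
    cj g (⨆ (i : ι) (_ : κ i), f i) = ⨆ (i : ι) (_ : κ i), cj g (f i) := by
  rw [cj_sSup']
  exact iSup_congr fun i => Subgroup.map_iSup _ _

theorem cj_inj {g : G} {H K : Subgroup G} (h : cj g H = cj g K) : H = K := by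
  rw [← cj_inv_cj g H, h, cj_inv_cj]

/-- `C(l c : c ≠ b)` -/
def Gb (l : ι → Subgroup G) (b : ι) : Subgroup G := centralizer ((⨆ (c : ι) (_ : c ≠ b), l c : Subgroup G) : Set G)

theorem cent_le_Gb (l : ι → Subgroup G) (b : ι) : centralizer ((⨆ c, l c : Subgroup G) : Set G) ≤ Gb l b :=
  centralizer_le (iSup_le fun c => iSup_le fun _ => le_iSup l c)

/-- `g` permutes the lines -/
theorem cj_Gb {l : ι → Subgroup G} {g : G} (σ : ι ≃ ι) (h : ∀ b, cj g (l b) = l (σ b)) (b : ι) :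
    cj g (Gb l b) = Gb l (σ b) := by
  rw [Gb, cj_centralizer, cj_iSup₂, Gb]
  congr 2
  apply le_antisymm
  · refine iSup_le fun c => iSup_le fun hc => ?_
    rw [h c]
    exact le_iSup₂_of_le (σ c) (fun e => hc (σ.injective e)) le_rfl
  · refine iSup_le fun c => iSup_le fun hc => ?_
    have h1 : cj g (l (σ.symm c)) = l c := by rw [h, σ.apply_symm_apply]
    rw [← h1]
    refine le_iSup₂_of_le (σ.symm c) (fun e => hc ?_) le_rfl
    rw [← e, σ.apply_symm_apply]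

/-- **The blocks with their lines**, and the action of `Y` and `C`. -/
structure LinY (Y C : Subgroup G) (N E l : ι → Subgroup G) : Prop where
  lN : ∀ b, l b ≤ N b
  EN : ∀ b, E b ≤ normalizer (N b : Set G)
  EC : ∀ b c, c ≠ b → E b ≤ centralizer (N c : Set G)
  Ninj : Function.Injective N
  linj : Function.Injective l
  Y : ∀ y ∈ Y, ∀ b, ∃ c, cj y (N b) = N c ∧ ∃ e ∈ E c, cj y (l b) = cj e (l c)
  C : ∀ x ∈ C, ∀ b, ∃ c, cj x (l b) = l c

namespace LinY

variable [Finite ι] {Y C : Subgroup G} {N E l : ι → Subgroup G} (h : LinY Y C N E l)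
include h

theorem E_le_Gb (b : ι) : E b ≤ Gb l b := by
  rw [Gb, le_centralizer_iff]
  exact iSup_le fun c => iSup_le fun hc => (h.lN c).trans (le_centralizer_iff.1 (h.EC b c hc))

/-- one element `g ∈ ⨆ E` moves all lines `l c` to `l c ^ (e c)` -/
theorem exists_one (e : ι → G) (he : ∀ c, e c ∈ E c) : ∃ g ∈ ⨆ b, E b, ∀ c, cj g (l c) = cj (e c) (l c) := by
  classical
  have := Fintype.ofFinite ι
  have key : ∀ s : Finset ι, ∃ g ∈ ⨆ b, E b, (∀ c ∈ s, cj g (l c) = cj (e c) (l c)) ∧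
      ∀ c, c ∉ s → g ∈ centralizer (N c : Set G) := by
    intro s
    induction s using Finset.induction_on with
    | empty => exact ⟨1, one_mem _, fun c hc => absurd hc (by simp), fun c _ => one_mem _⟩
    | insert a s ha ih =>
      obtain ⟨g, hg, h1, h2⟩ := ih
      refine ⟨e a * g, mul_mem (mem_iSup_of_mem a (he a)) hg, fun c hc => ?_, fun c hc => ?_⟩
      · rw [← cj_cj]
        by_cases hca : c = a
        · subst hca
          have h3 : cj g (l c) = l c := by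
            refine cj_eq_of_mem_normalizer ?_
            have h4 := h2 c ha
            exact centralizer_le_normalizer _ (centralizer_le (h.lN c) h4)
          rw [h3]
        · have hcs : c ∈ s := (Finset.mem_insert.1 hc).resolve_left hca
          rw [h1 c hcs]
          refine cj_eq_of_mem_normalizer ?_
          have h4 : cj (e c) (l c) ≤ N c := by
            have h5 := cj_mono (e c) (h.lN c)
            rwa [cj_eq_of_mem_normalizer (h.EN c (he c))] at h5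
          exact centralizer_le_normalizer _ (centralizer_le h4 (h.EC a c hca (he a)))
      · rw [Finset.mem_insert, not_or] at hc
        exact mul_mem (h.EC a c hc.1 (he a)) (h2 c hc.2)
  obtain ⟨g, hg, h1, -⟩ := key Finset.univ
  exact ⟨g, hg, fun c => h1 c (Finset.mem_univ c)⟩

theorem norm_Y : Y ≤ normalizer ((⨆ b, Gb l b : Subgroup G) : Set G) := by
  classical
  intro y hy
  rw [mem_normalizer_iff_cj]
  choose σ hσ e he hl using h.Y y hy
  have hinj : Function.Injective σ := fun a b hab => h.Ninj (cj_inj (g := y) (by rw [hσ a, hσ b, hab]))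
  have hbij : Function.Bijective σ := Finite.injective_iff_bijective.1 hinj
  set τ : ι ≃ ι := Equiv.ofBijective σ hbij with hτ
  have hτ' : ∀ b, τ b = σ b := fun b => rfl
  obtain ⟨g, hg, h1⟩ := h.exists_one (fun c => e (τ.symm c)) fun c => by
    have h2 := he (τ.symm c)
    rwa [← hτ', τ.apply_symm_apply] at h2
  have h2 : ∀ b, cj (g⁻¹ * y) (l b) = l (τ b) := fun b => by
    rw [← cj_cj, hl b]
    have h3 := h1 (τ b)
    rw [τ.symm_apply_apply] at h3
    rw [← hτ' b, ← h3, cj_inv_cj]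
  have h3 : cj (g⁻¹ * y) (⨆ b, Gb l b) = ⨆ b, Gb l b := by
    rw [cj_sSup']
    calc ⨆ b, cj (g⁻¹ * y) (Gb l b) = ⨆ b, Gb l (τ b) := iSup_congr fun b => cj_Gb τ h2 b
      _ = _ := τ.iSup_comp (g := fun b => Gb l b)
  have h4 : g ∈ ⨆ b, Gb l b := (iSup_mono h.E_le_Gb) hg
  have h5 := congrArg (cj g) h3
  rwa [cj_cj, mul_inv_cancel_left, cj_eq_of_mem_normalizer (le_normalizer h4)] at h5

theorem norm_C : C ≤ normalizer ((⨆ b, Gb l b : Subgroup G) : Set G) := by
  classical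
  intro x hx
  rw [mem_normalizer_iff_cj]
  choose σ hσ using h.C x hx
  have hinj : Function.Injective σ := fun a b hab => h.linj (cj_inj (g := x) (by rw [hσ a, hσ b, hab]))
  set τ : ι ≃ ι := Equiv.ofBijective σ (Finite.injective_iff_bijective.1 hinj) with hτ
  rw [cj_sSup']
  calc ⨆ b, cj x (Gb l b) = ⨆ b, Gb l (τ b) := iSup_congr fun b => cj_Gb τ hσ b
    _ = _ := τ.iSup_comp (g := fun b => Gb l b)

/-- **`⟨Y, C⟩` normalises `⟨C(l c : c ≠ b) : b⟩`.** -/
theorem gb_norm : Y ⊔ C ≤ normalizer ((⨆ b, Gb l b : Subgroup G) : Set G) := sup_le h.norm_Y h.norm_C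

/-- **No group `H ≥ ⨆ b, Gb l b` has `Z ≤ O₂(H)`.** -/
theorem false_of [Finite G] [Nonempty ι] (hnl : ∀ Q : Subgroup G, IsPGroup 2 Q → Q ≠ ⊥ → ¬ Y ⊔ C ≤ normalizer (Q : Set G))
    {H Z : Subgroup G} (hH : ⨆ b, Gb l b ≤ H) (hZ : Z ≤ o2 H) (hZl : Z ≤ ⨆ c, l c) (hZ1 : Z ≠ ⊥)
    (hab : ∀ x ∈ ⨆ c, l c, ∀ y ∈ ⨆ c, l c, x * y = y * x) : False := by
  have hZG : Z ≤ ⨆ b, Gb l b := fun z hz => by
    obtain ⟨b⟩ := ‹Nonempty ι›
    exact mem_iSup_of_mem b (cent_le_Gb l b (mem_centralizer_iff.2 fun x hx => hab x hx z (hZl hz)))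
  have h1 : o2 H ⊓ ⨆ b, Gb l b ≤ o2 (⨆ b, Gb l b) := by
    refine le_o2 inf_le_right ((isPGroup_o2 H).to_le inf_le_left) fun x hx => ?_
    have h2 : cj x (o2 H ⊓ ⨆ b, Gb l b) = o2 H ⊓ ⨆ b, Gb l b := by
      rw [cj_inf, cj_eq_of_mem_normalizer (le_normalizer_o2 H (hH hx)), cj_eq_of_mem_normalizer (le_normalizer hx)]
    exact mem_normalizer_iff_cj.2 h2
  have h2 : Z ≤ o2 (⨆ b, Gb l b) := (le_inf hZ hZG).trans h1
  refine hnl _ (isPGroup_o2 _) (fun h3 => hZ1 (le_bot_iff.1 (h3 ▸ h2))) fun x hx => ?_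
  rw [mem_normalizer_iff_cj, ← o2_cj, cj_eq_of_mem_normalizer (h.gb_norm hx)]

/-- **No local `H ≥ S` contains `⨆ b, Gb l b`.** -/
theorem not_isLoc [Finite G] [Nonempty ι] {S : Sylow 2 G} (hG : Ctx G)
    (hnl : NonLoc Y C) (hZl : zc (S : Subgroup G) ≤ ⨆ c, l c)
    (hab : ∀ x ∈ ⨆ c, l c, ∀ y ∈ ⨆ c, l c, x * y = y * x) {H : Subgroup G} (hH : IsLoc (S : Subgroup G) H) :
    ¬ ⨆ b, Gb l b ≤ H := fun hle => by
  refine h.false_of (fun Q hQ hQ1 hn => hQ1 (hnl Q hQ (le_sup_left.trans hn) (le_sup_right.trans hn))) hle ?_ hZl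
    (zc_ne_bot S.isPGroup' (hG.sylow_ne_bot S)) hab
  intro z hz
  refine hH.char2 S hG.char2 ⟨hH.le (mem_zc.1 hz).1, mem_centralizer_iff.2 fun x hx => ?_⟩
  exact (mem_zc.1 hz).2.1 x (hH.o2_le S hx)

/-- `⟨C(l c : c ≠ b) : b⟩` normalises no 2-subgroup `≠ 1`. -/
theorem eq_bot_of_norm [Finite G] [Nonempty ι] {S : Sylow 2 G} (hG : Ctx G)
    (hnl : NonLoc Y C) (hZl : zc (S : Subgroup G) ≤ ⨆ c, l c)
    (hab : ∀ x ∈ ⨆ c, l c, ∀ y ∈ ⨆ c, l c, x * y = y * x) {U : Subgroup G} (hU : IsPGroup 2 U)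
    (hSU : (S : Subgroup G) ≤ normalizer (U : Set G)) (hn : ⨆ b, Gb l b ≤ normalizer (U : Set G)) : U = ⊥ := by
  by_contra h1
  have h2 : U ≤ o2 (normalizer (U : Set G)) := le_o2 le_normalizer hU le_rfl
  exact h.not_isLoc hG hnl hZl hab ⟨hSU, fun h3 => h1 (le_bot_iff.1 (h3 ▸ h2))⟩ hn

end LinY

/-! ### The instance over `Blk.Dec` -/

section inst

open Cfsg.Agent.Omega.NOThreeL.Merge (MZ nonLoc_MZ)
open Cfsg.Agent.Omega.NOThreeL.RTree (RB)
open scoped Pointwise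

variable [Finite G] {S : Sylow 2 G} {L U C : Subgroup G} {N E l : ι → Subgroup G} {R₀ : Subgroup G}

/-- **The instance**: `L` permutes the blocks (`Blk.Dec`), an element of `L` which maps `(N b, E b, S ∩ E b)` to
`(N c, E c, S ∩ E c)` maps the line `l b` to `l c`, and `C` permutes the lines. -/
theorem of_dec (d : RRed.Blk.Dec (S : Subgroup G) L U N E R₀) (hl : ∀ b, l b ≤ N b) (hl1 : ∀ b, l b ≠ ⊥)
    (hln : ∀ g ∈ L, ∀ b c, MulAut.conj g • N b = N c → MulAut.conj g • E b = E c →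
      MulAut.conj g • ((S : Subgroup G) ⊓ E b) = (S : Subgroup G) ⊓ E c → MulAut.conj g • l b = l c)
    (hC : ∀ x ∈ C, ∀ b, ∃ c, MulAut.conj x • l b = l c) : LinY L C N E l where
  lN := hl
  EN := d.EN
  EC b c hbc := d.EC b c hbc.symm
  Ninj b c e := d.Ninj e
  linj b c e := by
    by_contra hbc
    apply hl1 b
    have h1 : l b ≤ N b ⊓ ((⨆ c : {c // c ≠ b}, N c) ⊔ R₀) :=
      le_inf (hl b) ((e.le.trans (hl c)).trans (d.N_le_Co fun e => hbc e.symm))
    rw [d.ind b] at h1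
    exact le_bot_iff.1 h1
  Y y hy b := by
    obtain ⟨c, hN, hE⟩ := d.perm y hy b
    refine ⟨c, hN, ?_⟩
    have hs1 : Syl (cj y ((S : Subgroup G) ⊓ E b)) (E c) := by
      have h1 := d.syl_E b
      refine ⟨?_, isPGroup_cj y h1.2.1, fun Q hQ hQ2 hle => ?_⟩
      · have h2 := cj_mono y h1.1
        exact h2.trans hE.le
      · have h2 : cj y⁻¹ Q ≤ E b := by
          have h3 := cj_mono y⁻¹ (hQ.trans hE.ge)
          have h4 : cj y⁻¹ (MulAut.conj y • E b) = E b := cj_inv_cj y (E b)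
          rwa [h4] at h3
        have h3 := h1.2.2 _ h2 (isPGroup_cj y⁻¹ hQ2) (by
          have h4 := cj_mono y⁻¹ hle
          rwa [cj_inv_cj] at h4)
        rw [← h3, cj_cj_inv]
    obtain ⟨e, he, h2⟩ := syl_conj hs1 (d.syl_E c)
    refine ⟨e⁻¹, inv_mem he, ?_⟩
    have h3 : cj (e * y) (l b) = l c := by
      refine hln (e * y) (mul_mem (d.EL c he) hy) b c ?_ ?_ ?_
      · show cj (e * y) (N b) = N c
        rw [← cj_cj]
        have h4 : cj y (N b) = N c := hN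
        rw [h4, cj_eq_of_mem_normalizer (d.EN c he)]
      · show cj (e * y) (E b) = E c
        rw [← cj_cj]
        have h4 : cj y (E b) = E c := hE
        rw [h4, cj_eq_of_mem_normalizer (le_normalizer he)]
      · show cj (e * y) ((S : Subgroup G) ⊓ E b) = (S : Subgroup G) ⊓ E c
        rw [← cj_cj, h2]
    rw [← h3, cj_cj, inv_mul_cancel_left]
  C := hC

/-- **`⟨C(l c : c ≠ b) : b⟩` is nonlocal in box R** (`L = M₀ = ⟨P*(S)⟩`, `C = C_G(Z)`). -/
theorem not_isLoc_RB [Nonempty ι] (B : RB S) (h : LinY (MZ (S : Subgroup G)) (CZ (S : Subgroup G)) N E l)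
    (hZl : zc (S : Subgroup G) ≤ ⨆ c, l c) (hab : ∀ x ∈ ⨆ c, l c, ∀ y ∈ ⨆ c, l c, x * y = y * x) {H : Subgroup G}
    (hH : IsLoc (S : Subgroup G) H) : ¬ ⨆ b, Gb l b ≤ H := by
  rcases finite_or_infinite ι with hι | hι
  · exact h.not_isLoc B.ctx (nonLoc_MZ B.ctx B.full) hZl hab hH
  · exact absurd (Finite.of_injective l h.linj) (not_finite_iff_infinite.2 hι)

end inst

end Cfsg.Agent.Omega.NOThreeL.RWide.GNloc
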