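import Cfsg.Agent.Omega.NOThreeL.RWide.PInInst
import Cfsg.Agent.Omega.KL.TwoS.Fr

/-!
# Permutations of one orbit of blocks (helper540, for the plug of `LeftPerm`)

* **`perm_orbit`** : `s` permutes all pairs `(N b, l b)`, `N` independent; the pairs `(V i, Z i)` are some of them, and
  `s` centralises a vector `z ∈ ⨆ V` all whose components are nontrivial: then `s` permutes the pairs `(V i, Z i)`;
* `mem_AA_of_Mx` : `Mx O A` is membership in `AA O`.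
-/

set_option autoImplicit false
set_option linter.unusedSectionVars false

namespace Cfsg.Agent.Omega.NOThreeL.RWide.PInst

open Subgroup Cfsg Cfsg.Agent.ZN Cfsg.Agent.ZN.ChoiceBase

universe u

variable {G : Type u} [Group G]

theorem cj_inj {s : G} {A B : Subgroup G} (h : cj s A = cj s B) : A = B := by
  ext x
  have h1 : s * x * s⁻¹ ∈ cj s A ↔ x ∈ A := by
    rw [mem_cj]
    have e : s⁻¹ * (s * x * s⁻¹) * s = x := by group
    rw [e]
  have h2 : s * x * s⁻¹ ∈ cj s B ↔ x ∈ B := by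
    rw [mem_cj]
    have e : s⁻¹ * (s * x * s⁻¹) * s = x := by group
    rw [e]
  rw [← h1, ← h2, h]

theorem conj_mem_cj {s x : G} {A : Subgroup G} (hx : x ∈ A) : s * x * s⁻¹ ∈ cj s A := by
  rw [mem_cj]
  have e : s⁻¹ * (s * x * s⁻¹) * s = x := by group
  rwa [e]

theorem orbit_of_vec {β ι : Type*} {N : β → Subgroup G} {V : ι → Subgroup G}
    (cm : ∀ i j, ∀ x ∈ V i, ∀ y ∈ V j, x * y = y * x) (ind : iSupIndep N) (hV : ∀ i, ∃ b, N b = V i)
    (hinj : ∀ i j, V i = V j → i = j) {s z : G} (hσ : ∀ b, ∃ c, cj s (N b) = N c) (hz : z ∈ ⨆ i, V i)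
    (hzi : ∀ i, z ∉ ⨆ (j) (_ : j ≠ i), V j) (hs : s * z = z * s) (i : ι) : ∃ j, cj s (V i) = V j := by
  classical
  obtain ⟨b, hb⟩ := hV i
  obtain ⟨c, hc⟩ := hσ b
  by_contra hcon
  push Not at hcon
  have hc' : cj s (V i) = N c := by rw [← hb, hc]
  -- `V j ≤ ⨆ (a ≠ c), N a`
  have h1 : ∀ j, V j ≤ ⨆ (a) (_ : a ≠ c), N a := by
    intro j
    obtain ⟨a, ha⟩ := hV j
    have hac : a ≠ c := fun e => hcon j (by rw [hc', ← e, ha])
    rw [← ha]
    exact le_iSup₂_of_le a hac le_rfl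
  have h2 : ∀ j, j ≠ i → cj s (V j) ≤ ⨆ (a) (_ : a ≠ c), N a := by
    intro j hj
    obtain ⟨a, ha⟩ := hV j
    obtain ⟨d, hd⟩ := hσ a
    have hdc : d ≠ c := fun e => hj (hinj j i (cj_inj (s := s) (by rw [hc', ← ha, hd, e])))
    rw [← ha, hd]
    exact le_iSup₂_of_le d hdc le_rfl
  -- decompose `z`
  have hle : (⨆ j, V j) ≤ (⨆ (j) (_ : j ≠ i), V j) ⊔ V i := by
    refine iSup_le fun j => ?_
    by_cases hj : j = i
    · rw [hj]; exact le_sup_right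
    · exact le_sup_of_le_left (le_iSup₂_of_le j hj le_rfl)
  have hnorm : (⨆ (j) (_ : j ≠ i), V j) ≤ normalizer (V i : Set G) := by
    refine iSup₂_le fun j _ x hx => ?_
    exact centralizer_le_normalizer _ (mem_centralizer_iff.2 fun y hy => cm i j y hy x hx)
  have h3 : z ∈ (((⨆ (j) (_ : j ≠ i), V j) ⊔ V i : Subgroup G) : Set G) := hle hz
  rw [coe_mul_of_left_le_normalizer_right _ _ hnorm] at h3
  obtain ⟨x, hx, y, hy, hxy⟩ := h3
  have hxy' : x * y = z := hxy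
  have hzs : s * z * s⁻¹ = z := by rw [hs]; group
  have h4 : s * y * s⁻¹ = (s * x * s⁻¹)⁻¹ * z := by
    calc s * y * s⁻¹ = (s * x * s⁻¹)⁻¹ * (s * (x * y) * s⁻¹) := by group
      _ = (s * x * s⁻¹)⁻¹ * z := by rw [hxy', hzs]
  have h5 : s * x * s⁻¹ ∈ ⨆ (a) (_ : a ≠ c), N a := by
    have h6 : (⨆ (j) (_ : j ≠ i), V j) ≤ (⨆ (a) (_ : a ≠ c), N a).comap (MulAut.conj s).toMonoidHom := by
      refine iSup₂_le fun j hj w hw => ?_
      rw [mem_comap]
      exact h2 j hj (conj_mem_cj hw)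
    have h7 := h6 hx
    rw [mem_comap] at h7
    exact h7
  have h8 : s * y * s⁻¹ ∈ ⨆ (a) (_ : a ≠ c), N a := by
    rw [h4]
    exact mul_mem (inv_mem h5) ((iSup_le h1 : (⨆ j, V j) ≤ _) hz)
  have h9 : s * y * s⁻¹ ∈ N c := by rw [← hc']; exact conj_mem_cj hy
  have h10 := (disjoint_iff_inf_le.1 (ind c)) ⟨h9, h8⟩
  rw [mem_bot] at h10
  have h11 : y = 1 := by
    have e : y = s⁻¹ * (s * y * s⁻¹) * s := by group
    rw [e, h10]; group
  rw [h11, mul_one] at hxy'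
  exact hzi i (hxy' ▸ hx)

theorem perm_orbit {β ι : Type*} {N l : β → Subgroup G} {V Z : ι → Subgroup G}
    (cm : ∀ i j, ∀ x ∈ V i, ∀ y ∈ V j, x * y = y * x) (ind : iSupIndep N) (hN : ∀ b, N b ≠ ⊥)
    (hV : ∀ i, ∃ b, N b = V i ∧ l b = Z i) (indV : iSupIndep V) {s z : G}
    (hσ : ∀ b, ∃ c, cj s (N b) = N c ∧ cj s (l b) = l c) (hz : z ∈ ⨆ i, V i)
    (hzi : ∀ i, z ∉ ⨆ (j) (_ : j ≠ i), V j) (hs : s * z = z * s) (i : ι) :
    ∃ j, cj s (V i) = V j ∧ cj s (Z i) = Z j := by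
  have hNi : Function.Injective N := ind.injective hN
  have hVi : Function.Injective V := indV.injective fun i => by
    obtain ⟨b, hb, -⟩ := hV i
    rw [← hb]; exact hN b
  obtain ⟨j, hj⟩ := orbit_of_vec cm ind (fun i => (hV i).imp fun b hb => hb.1) (fun i j h => hVi h)
    (fun b => (hσ b).imp fun c hc => hc.1) hz hzi hs i
  refine ⟨j, hj, ?_⟩
  obtain ⟨b, hb, hlb⟩ := hV i
  obtain ⟨b', hb', hlb'⟩ := hV j
  obtain ⟨c, hc, hlc⟩ := hσ b
  have h1 : c = b' := hNi (by rw [← hc, hb, hj, hb'])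
  rw [← hlb, hlc, h1, hlb']

theorem mem_AA_of_Mx {O A : Subgroup G} (h : KL.TwoS.Mx O A) : A ∈ AA O := by
  refine ⟨⟨⟨⟨fun a b => ?_⟩⟩, h.sq⟩, h.le, fun B hB hBO => h.max B hBO hB.2⟩
  have key : ∀ x ∈ A, ∀ y ∈ A, x * y = y * x := fun x hx y hy => by
    have h1 := h.sq x hx
    have h2 := h.sq y hy
    have h3 := h.sq (x * y) (mul_mem hx hy)
    rw [pow_two] at h1 h2 h3
    have e1 : x⁻¹ = x := inv_eq_of_mul_eq_one_left h1
    have e2 : y⁻¹ = y := inv_eq_of_mul_eq_one_left h2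
    have e3 : (x * y)⁻¹ = x * y := inv_eq_of_mul_eq_one_left h3
    rw [← e3, mul_inv_rev, e1, e2]
  exact Subtype.ext (key a a.2 b b.2)

end Cfsg.Agent.Omega.NOThreeL.RWide.PInst
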