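import Cfsg.Agent.Omega.NOThreeL.RWide.PermAll
import Cfsg.Agent.Omega.NOThreeL.RWide.PermOrb
import Cfsg.Agent.Omega.KL.Star.Core

/-!
# THEOREM PERM+ for one `P` in the block data (helper540, head of the socket: helper278)

`RB S`, `P ∈ P*(S)` natural without radical, `P` centralises `1 ≠ X ≤ Z`; the pairs `(blk M i, YY h i)` are some of the
pairs `(N b, l b)`, `N` independent, `N_G(S)` permutes the pairs `(N b, l b)`, `AA(O₂(C_G(Z)))` moves `⨆ blk M`.

* **`line_perm`** : `C_G(Z)` permutes the lines `YY h i`.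
* `cent_of_odd` : `P` centralises `U ≤ Z` if its elements of odd order do.
* `inf_zc_ne` : `1 ≠ W ≤ S`, `W` elementary abelian and `S`-invariant ⟹ `W ∩ Z ≠ 1`.
-/

set_option autoImplicit false
set_option linter.unusedSectionVars false

namespace Cfsg.Agent.Omega.NOThreeL.RWide.PInst

open Subgroup Cfsg Cfsg.Agent.ZN Cfsg.Agent.ZN.ChoiceBase
open Cfsg.Agent.Omega.FFThm Cfsg.Agent.Lib.SL2Mat
open Cfsg.Agent.Omega.MinPar Cfsg.Agent.Omega.Frame Cfsg.Agent.Omega.FrameNOFF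
open Cfsg.Agent.Omega.FrameFF (cv)
open Cfsg.Agent.Omega.NO3S.ThmB hiding WP
open Cfsg.Agent.Omega.NO3S.KeyRad
open Cfsg.Agent.Omega.NOThreeL.RRed.NS
open Cfsg.Agent.Omega.NOThreeL.RTree (RB)

universe u

variable {G : Type u} [Group G] [Finite G] {S : Sylow 2 G}

theorem inf_zc_ne {W : Subgroup G} (hWS : W ≤ (S : Subgroup G)) (hW : (S : Subgroup G) ≤ normalizer (W : Set G))
    (hsq : ∀ w ∈ W, w ^ 2 = 1) (hne : W ≠ ⊥) : W ⊓ zc (S : Subgroup G) ≠ ⊥ := by
  have hf : Fact (Nat.Prime 2) := ⟨Nat.prime_two⟩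
  have h1 := PLocal.OffenderStep.inf_centralizer_ne_bot W (S : Subgroup G) (S.isPGroup'.to_le hWS) S.isPGroup' hW hne
  intro h0
  apply h1
  rw [eq_bot_iff, ← h0]
  exact fun x hx => ⟨hx.1, ChoiceBase.mem_zc.2 ⟨hWS hx.1, hsq x hx.1, fun s hs => mem_centralizer_iff.1 hx.2 s hs⟩⟩

/-- a minimal parabolic is generated by `S` and its elements of odd order -/
theorem cent_of_odd {P U : Subgroup G} (hSP : (S : Subgroup G) ≤ P) (hU : U ≤ zc (S : Subgroup G))
    (h : ∀ g ∈ P, Odd (orderOf g) → g ∈ centralizer (U : Set G)) : P ≤ centralizer (U : Set G) := by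
  have hU' : (S : Subgroup G) ≤ centralizer (U : Set G) := (le_CZ S).trans (centralizer_le hU)
  rw [← KL.Star.Core.oddGen_sup hSP (MinSimple.Basic.not_dvd_relIndex S hSP)]
  refine sup_le ?_ hU'
  rw [MinSimple.VModule.oddGen_def, closure_le]
  exact fun g hg => h g hg.1 hg.2

variable {P X : Subgroup G} {F : Type} [Field F] [CharP F 2] {k : ℕ}
  {M : NatKM F (S : Subgroup G) P (zl (S : Subgroup G) P) (cv (S : Subgroup G) P) k}

theorem line_perm {β : Type*} {N l : β → Subgroup G} (h : Nb M) (spl : ∀ j, DD M j = ⊥) (hB : RB S)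
    (hP : IsParS (S : Subgroup G) P) (hX : X ≤ zc (S : Subgroup G)) (hX1 : X ≠ ⊥)
    (hPX : P ≤ centralizer (X : Set G))
    (mov : ∃ A, KL.TwoS.Mx (o2 (centralizer (zc (S : Subgroup G) : Set G))) A ∧
      ¬ A ≤ centralizer ((⨆ j, blk M j : Subgroup G) : Set G))
    (ind : iSupIndep N) (hN : ∀ b, N b ≠ ⊥) (hV : ∀ i, ∃ b, N b = blk M i ∧ l b = YY h i)
    (permN : ∀ s ∈ normalizer ((S : Subgroup G) : Set G), ∀ b, ∃ c, cj s (N b) = N c ∧ cj s (l b) = l c) :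
    ∀ x ∈ centralizer (zc (S : Subgroup G) : Set G), ∀ i, ∃ j, cj x (YY h i) = YY h j := by
  intro x hx i
  have hk : 0 < k := lt_of_le_of_lt (Nat.zero_le _) i.2
  have hS1 : (S : Subgroup G) ≠ ⊥ := hB.ctx.sylow_ne_bot S
  have hVS : zl (S : Subgroup G) P ≤ S :=
    ((Basic.zl_le_WP hP).trans (Basic.WP_le_Q hB.data)).trans ((isLoc_centralizer_zc S hS1).o2_le S)
  obtain ⟨z, hz1, hz2, hz3⟩ := exists_vec h spl hVS hk
  have hz2' : z ∈ ⨆ j, blk M j := (iSup_mono (YY_le h) : (⨆ j, YY h j) ≤ _) hz2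
  obtain ⟨A, hA, hA'⟩ := mov
  refine (pin_of h spl hB hP hk hX hX1 hPX ⟨A, mem_AA_of_Mx hA, hA'⟩ fun s hs => ?_).permD x hx i
  exact perm_orbit (fun i j x hx y hy => h.cm (blk_le h i hx) (blk_le h j hy)) ind hN hV (PNat.ind h spl)
    (permN s hs.1) hz2' hz3 (mem_centralizer_iff.1 hs.2 z hz1).symm

end Cfsg.Agent.Omega.NOThreeL.RWide.PInst
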