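import Cfsg.Agent.Omega.NOThreeL.RWide.NonF

/-!
# `B = S ∩ C_G(Z_J)` acts on the blocks by root elements (#26055, #26214)

`N = F²` (coordinates `e`), `l = {v : e v 1 = 0}`.

* `act_root` : a 2-element which acts semilinearly and upper triangularly on `N` and centralises `l` acts as
  `(x, y) ↦ (x + c y, y)`;
* `exists_root` : so it acts like an element of `S ∩ E` (`root`);
* `fix_block` : `s` permutes the independent blocks and centralises all lines: it normalises all blocks;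
* `B_act` : `B` acts on every block like a subgroup of `R b` (`R b := S ∩ E b`; then `NonF.le_prod`, `NonF.BN_of`).
-/

set_option autoImplicit false
set_option linter.unusedSectionVars false

namespace Cfsg.Agent.Omega.NOThreeL.RWide.RootB

open Subgroup Cfsg
open Cfsg.Agent.ZN.ChoiceBase (cj cj_mono cj_eq_of_mem_normalizer mem_normalizer_iff_cj)

universe u v

variable {G : Type u} [Group G]

section nat

variable {F : Type} [Field F] {e : G → Fin 2 → F} {N l : Subgroup G}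

/-- **a 2-element which is semilinear, upper triangular and trivial on `l` is a root element** -/
theorem act_root [CharP F 2] (sur : ∀ x : Fin 2 → F, ∃ v ∈ N, e v = x)
    (line : ∀ v, v ∈ l ↔ v ∈ N ∧ e v 1 = 0) {s : G} (h2 : ∃ k : ℕ, s ^ 2 ^ k = 1)
    (hN : s ∈ normalizer (N : Set G)) (hl : s ∈ centralizer (l : Set G))
    (semi : ∃ (σ : F ≃+* F) (a b d : F), ∀ v ∈ N, e (s * v * s⁻¹) = ![a * σ (e v 0) + b * σ (e v 1), d * σ (e v 1)]) :
    ∃ c : F, ∀ v ∈ N, e (s * v * s⁻¹) = ![e v 0 + c * e v 1, e v 1] := by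
  obtain ⟨σ, a, b, d, h⟩ := semi
  -- on `l`
  have h1 : ∀ x : F, a * σ x = x := by
    intro x
    obtain ⟨v, hv, hx⟩ := sur ![x, 0]
    have hvl : v ∈ l := (line v).2 ⟨hv, by rw [hx]; simp⟩
    have h3 : s * v * s⁻¹ = v := by
      rw [← mem_centralizer_iff.1 hl v hvl]; group
    have h4 := h v hv
    rw [h3, hx] at h4
    have h5 := congrFun h4 0
    simp at h5
    exact h5.symm
  have ha : a = 1 := by
    have := h1 1
    rwa [map_one, mul_one] at this
  have hσ : ∀ x : F, σ x = x := fun x => by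
    have := h1 x
    rwa [ha, one_mul] at this
  -- the second coordinate
  have hpow : ∀ n : ℕ, ∀ v ∈ N, e (s ^ n * v * (s ^ n)⁻¹) 1 = d ^ n * e v 1 := by
    intro n
    induction n with
    | zero => intro v _; simp
    | succ n ih =>
      intro v hv
      have h3 : s * v * s⁻¹ ∈ N := (mem_normalizer_iff.1 hN v).1 hv
      have e1 : s ^ (n + 1) * v * (s ^ (n + 1))⁻¹ = s ^ n * (s * v * s⁻¹) * (s ^ n)⁻¹ := by
        rw [pow_succ]; group
      rw [e1, ih _ h3, h v hv]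
      simp only [Matrix.cons_val_one, Matrix.cons_val_fin_one, hσ]
      ring
  obtain ⟨k, hk⟩ := h2
  have hd : d = 1 := by
    obtain ⟨v, hv, hx⟩ := sur ![0, 1]
    have h3 := hpow (2 ^ k) v hv
    rw [hk] at h3
    have h4 : e v 1 = 1 := by rw [hx]; simp
    rw [one_mul, inv_one, mul_one, h4, mul_one] at h3
    have : Fact (Nat.Prime 2) := ⟨Nat.prime_two⟩
    have h5 : (d - 1) ^ 2 ^ k = 0 := by
      rw [sub_pow_char_pow, one_pow, ← h3, sub_self]
    exact sub_eq_zero.1 (pow_eq_zero_iff (pow_ne_zero _ two_ne_zero) |>.1 h5)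
  refine ⟨b, fun v hv => ?_⟩
  rw [h v hv, ha, hd, hσ, hσ, one_mul, one_mul]

/-- … so it acts like an element of `R`, if all root elements occur in `R`. -/
theorem exists_root [CharP F 2] (mul : ∀ v ∈ N, ∀ w ∈ N, e (v * w) = e v + e w) (inj : ∀ v ∈ N, e v = 0 → v = 1)
    (sur : ∀ x : Fin 2 → F, ∃ v ∈ N, e v = x) (line : ∀ v, v ∈ l ↔ v ∈ N ∧ e v 1 = 0) {R : Subgroup G}
    (hRN : R ≤ normalizer (N : Set G))
    (root : ∀ c : F, ∃ r ∈ R, ∀ v ∈ N, e (r * v * r⁻¹) = ![e v 0 + c * e v 1, e v 1]) {s : G}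
    (h2 : ∃ k : ℕ, s ^ 2 ^ k = 1) (hN : s ∈ normalizer (N : Set G)) (hl : s ∈ centralizer (l : Set G))
    (semi : ∃ (σ : F ≃+* F) (a b d : F), ∀ v ∈ N, e (s * v * s⁻¹) = ![a * σ (e v 0) + b * σ (e v 1), d * σ (e v 1)]) :
    ∃ r ∈ R, ∀ v ∈ N, s * v * s⁻¹ = r * v * r⁻¹ := by
  obtain ⟨c, hc⟩ := act_root sur line h2 hN hl semi
  obtain ⟨r, hr, hrc⟩ := root c
  refine ⟨r, hr, fun v hv => ?_⟩
  have h1 : s * v * s⁻¹ ∈ N := (mem_normalizer_iff.1 hN v).1 hv
  have h3 : r * v * r⁻¹ ∈ N := (mem_normalizer_iff.1 (hRN hr) v).1 hv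
  have e1 : e 1 = 0 := by
    have h := mul 1 (one_mem _) 1 (one_mem _)
    rw [mul_one] at h
    simpa using h
  have einv : ∀ w ∈ N, e w⁻¹ = -e w := by
    intro w hw
    have h := mul w hw w⁻¹ (inv_mem hw)
    rw [mul_inv_cancel, e1] at h
    exact (neg_eq_of_add_eq_zero_right h.symm).symm
  have h4 := inj (s * v * s⁻¹ * (r * v * r⁻¹)⁻¹) (mul_mem h1 (inv_mem h3)) (by
    rw [mul _ h1 _ (inv_mem h3), einv _ h3, hc v hv, hrc v hv, add_neg_cancel])
  exact mul_inv_eq_one.1 h4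

end nat

section frame

variable {ι : Type v} {N l : ι → Subgroup G}

/-- An element permuting the independent blocks and centralising the lines normalises every block. -/
theorem fix_block (ind : ∀ b, N b ⊓ (⨆ c : {c // c ≠ b}, N c) = ⊥) (lN : ∀ b, l b ≤ N b) (lne : ∀ b, l b ≠ ⊥) {s : G}
    (hp : ∀ b, ∃ c, cj s (N b) = N c) (hl : ∀ b, s ∈ centralizer (l b : Set G)) (b : ι) :
    s ∈ normalizer (N b : Set G) := by
  obtain ⟨c, hc⟩ := hp b
  have h1 : cj s (l b) = l b := cj_eq_of_mem_normalizer (centralizer_le_normalizer _ (hl b))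
  have h2 : l b ≤ N c := by rw [← hc, ← h1]; exact cj_mono s (lN b)
  by_cases hcb : c = b
  · rw [hcb] at hc; exact mem_normalizer_iff_cj.2 hc
  exfalso
  apply lne b
  rw [eq_bot_iff, ← ind b]
  exact le_inf (lN b) (h2.trans (le_iSup (fun c : {c // c ≠ b} => N c) ⟨c, hcb⟩))

/-- **`B` acts on every block like a subgroup of `R b`.** -/
theorem B_act {S B : Subgroup G} {R : ι → Subgroup G} (h2 : IsPGroup 2 B) (hBS : B ≤ S)
    (hBl : ∀ b, B ≤ centralizer (l b : Set G)) (ind : ∀ b, N b ⊓ (⨆ c : {c // c ≠ b}, N c) = ⊥)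
    (lN : ∀ b, l b ≤ N b) (lne : ∀ b, l b ≠ ⊥) (hp : ∀ s ∈ S, ∀ b, ∃ c, cj s (N b) = N c)
    (hRN : ∀ b, R b ≤ normalizer (N b : Set G))
    (nat : ∀ b, ∃ (F : Type) (_ : Field F) (_ : CharP F 2) (e : G → Fin 2 → F),
      (∀ v ∈ N b, ∀ w ∈ N b, e (v * w) = e v + e w) ∧ (∀ v ∈ N b, e v = 0 → v = 1) ∧
      (∀ x : Fin 2 → F, ∃ v ∈ N b, e v = x) ∧ (∀ v, v ∈ l b ↔ v ∈ N b ∧ e v 1 = 0) ∧
      (∀ c : F, ∃ r ∈ R b, ∀ v ∈ N b, e (r * v * r⁻¹) = ![e v 0 + c * e v 1, e v 1]) ∧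
      ∀ s ∈ S, s ∈ normalizer (N b : Set G) → ∃ (σ : F ≃+* F) (a c d : F), ∀ v ∈ N b,
        e (s * v * s⁻¹) = ![a * σ (e v 0) + c * σ (e v 1), d * σ (e v 1)]) :
    ∀ s ∈ B, ∀ b, ∃ r ∈ R b, ∀ v ∈ N b, s * v * s⁻¹ = r * v * r⁻¹ := by
  intro s hs b
  obtain ⟨F, _, _, e, mul, inj, sur, line, root, semi⟩ := nat b
  have hN : s ∈ normalizer (N b : Set G) :=
    fix_block ind lN lne (hp s (hBS hs)) (fun c => hBl c hs) b
  refine exists_root mul inj sur line (hRN b) root ?_ hN (hBl b hs) (semi s (hBS hs) hN)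
  obtain ⟨k, hk⟩ := h2 ⟨s, hs⟩
  exact ⟨k, by have := congrArg Subtype.val hk; simpa using this⟩

end frame

end Cfsg.Agent.Omega.NOThreeL.RWide.RootB
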