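import Cfsg.Agent.Omega.NOThreeL.RWide.NonF
import Cfsg.Agent.Omega.NOThreeL.RWide.RootB
import Cfsg.Agent.Omega.NOThreeL.RWide.TBlk

/-!
# The field `non` of `TypT` from natural blocks (`TBlk.Bls`, #26055)

* `B_act`, `BB_le` : `B = C_S(Z_J) ≤ ⟨S ∩ E b⟩ C_S(V)`; `BB_le_YY` : `B ≤ ⟨C_G(N_c : c ≠ b)⟩`;
* `nf` : the structure `NonF.NF`: `N_G(B)` permutes the `(l b, N b)`, `C_G(Z) ≤ N_G(Z_J)`, the `P ∈ P*(S)` permute the
  `N b`, `B` is weakly closed in `S` with respect to `N_G(V)`;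
* `non` : the field `non` of `TypT` for `F i ≤ l i`; `non_FF` : for `F i = FF S N l i`.
-/

set_option autoImplicit false
set_option linter.unusedSectionVars false

namespace Cfsg.Agent.Omega.NOThreeL.RWide.NonBls

open Subgroup Cfsg Cfsg.Agent.ZN Cfsg.Agent.Omega.MinPar Cfsg.Agent.Omega.Frame Cfsg.Agent.Omega.FrameNOFF
open Cfsg.Agent.ZN.ChoiceBase (cj cj_mono mem_normalizer_iff_cj)
open Cfsg.Agent.Omega.NOThreeL.RWide.NonF (NF)
open Cfsg.Agent.Omega.NOThreeL.RWide.TBlk (NB Bls TT BB)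

universe u v

variable {G : Type u} [Group G] {ι : Type v}

section blocks

variable {S V : Subgroup G} {N l E : ι → Subgroup G} (h : Bls S V N l E)
include h

theorem lN (b : ι) : l b ≤ N b := by
  obtain ⟨F, _, _, _, e, he⟩ := h.nat b
  exact fun v hv => ((he.line v).1 hv).1

theorem NV (b : ι) : N b ≤ V := h.sup ▸ le_iSup N b

theorem l_ne (b : ι) : l b ≠ ⊥ := by
  obtain ⟨F, _, _, _, e, he⟩ := h.nat b
  obtain ⟨v, hv, hx⟩ := he.sur ![1, 0]
  intro h0
  have h1 : v ∈ l b := (he.line v).2 ⟨hv, by rw [hx]; simp⟩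
  rw [h0, mem_bot] at h1
  have h2 := he.mul 1 (one_mem _) 1 (one_mem _)
  rw [mul_one] at h2
  have h3 : e 1 = 0 := left_eq_add.1 h2
  rw [h1, h3] at hx
  have h4 := congrFun hx 0
  simp at h4

theorem N_inj : Function.Injective N := by
  intro a b hab
  by_contra hne
  apply l_ne h a
  rw [eq_bot_iff, ← h.ind a]
  refine le_inf (lN h a) ((lN h a).trans ?_)
  rw [hab]
  exact le_iSup (fun c : {c // c ≠ a} => N c) ⟨b, Ne.symm hne⟩

/-- **`B` acts on every block like a subgroup of `S ∩ E b`.** -/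
theorem B_act (hS : IsPGroup 2 S) : ∀ s ∈ BB S l, ∀ b, ∃ r ∈ S ⊓ E b, ∀ v ∈ N b, s * v * s⁻¹ = r * v * r⁻¹ := by
  refine RootB.B_act (S := S) (hS.to_le inf_le_left) inf_le_left
    (fun b => inf_le_right.trans (centralizer_le (by exact_mod_cast le_iSup l b))) h.ind (lN h) (l_ne h)
    (fun s hs b => (h.perm s hs b).imp fun c hc => hc.1) (fun b => inf_le_right.trans (h.EN b)) fun b => ?_
  obtain ⟨F, i1, i2, i3, e, he⟩ := h.nat b
  exact ⟨F, i1, i3, e, he.mul, he.inj, he.sur, he.line, he.root, he.semi⟩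

/-- **`B ≤ ⟨S ∩ E b⟩ C_S(V)`** -/
theorem BB_le [Finite ι] (hS : IsPGroup 2 S) :
    BB S l ≤ (⨆ b, S ⊓ E b) ⊔ (S ⊓ centralizer (V : Set G)) := by
  intro s hs
  have h1 := NonF.le_prod (N := N) (R := fun b => S ⊓ E b) (B := BB S l)
    (fun b c hbc => inf_le_right.trans (h.EC b c hbc)) (fun b => inf_le_right.trans (h.EN b)) (B_act h hS) hs
  rw [h.sup] at h1
  have hn : (⨆ b, S ⊓ E b) ≤ normalizer ((centralizer (V : Set G) : Subgroup G) : Set G) := by
    refine iSup_le fun b x hx => ?_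
    have h2 : x ∈ normalizer (V : Set G) := by
      rw [← h.sup]
      refine mem_normalizer_iff_cj.2 ?_
      have e1 : cj x (⨆ b, N b) = ⨆ b, cj x (N b) := Subgroup.map_iSup _ _
      rw [e1]
      refine iSup_congr fun c => ?_
      by_cases hcb : b = c
      · subst hcb
        exact mem_normalizer_iff_cj.1 (h.EN b hx.2)
      · exact mem_normalizer_iff_cj.1 (centralizer_le_normalizer _ (h.EC b c hcb hx.2))
    rw [mem_normalizer_iff_cj, ChoiceBase.cj_centralizer, mem_normalizer_iff_cj.1 h2]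
  have h2 : s ∈ (((⨆ b, S ⊓ E b) ⊔ centralizer (V : Set G) : Subgroup G) : Set G) := h1
  rw [coe_mul_of_left_le_normalizer_right _ _ hn] at h2
  obtain ⟨g, hg, c, hc, rfl⟩ := Set.mem_mul.1 h2
  have hgS : g ∈ S := (iSup_le fun b => inf_le_left : (⨆ b, S ⊓ E b) ≤ S) hg
  have hcS : c ∈ S := by
    have h3 := mul_mem (inv_mem hgS) hs.1
    rwa [inv_mul_cancel_left] at h3
  exact mul_mem (mem_sup_left hg) (mem_sup_right ⟨hcS, hc⟩)

/-- **`B ≤ ⟨C_G(N_c : c ≠ b) : b⟩`** -/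
theorem BB_le_YY [Finite ι] [Nonempty ι] (hS : IsPGroup 2 S) : BB S l ≤ ⨆ b, YY N b :=
  NonF.BN_of (R := fun b => S ⊓ E b) (fun b c hbc => inf_le_right.trans (h.EC b c hbc))
    (fun b => inf_le_right.trans (h.EN b)) (B_act h hS)

end blocks

section frame

variable [Finite G] [Finite ι] [Nonempty ι] {S : Sylow 2 G} {V : Subgroup G} {N l E : ι → Subgroup G}

/-- **The frame `NF` from natural blocks.** -/
theorem nf (h : Bls (S : Subgroup G) V N l E) (VS : V ≤ (S : Subgroup G))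
    (hB : ∀ x ∈ normalizer (BB (S : Subgroup G) l : Set G), ∀ b, ∃ c, cj x (l b) = l c ∧ cj x (N b) = N c)
    (cz : centralizer (zc (S : Subgroup G) : Set G) ≤ normalizer ((⨆ b, l b : Subgroup G) : Set G))
    (par : ∀ P : Subgroup G, IsParS (S : Subgroup G) P → ∀ x ∈ P, ∀ b, ∃ c, cj x (N b) = N c)
    (wc : ∀ g ∈ normalizer (V : Set G), cj g (BB (S : Subgroup G) l) ≤ (S : Subgroup G) →
      cj g (BB (S : Subgroup G) l) = BB (S : Subgroup G) l) : NF S N l (BB (S : Subgroup G) l) where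
  eq := rfl
  lN := lN h
  lS := fun b => (lN h b).trans ((NV h b).trans VS)
  lc := fun a b x hx => mem_centralizer_iff.2 fun y hy =>
    h.com y (NV h b (lN h b hy)) x (NV h a (lN h a hx))
  Ninj := N_inj h
  NB := hB
  cz := cz
  par := par
  wc := fun P hP g hg => wc g (by
    rw [← h.sup]
    exact NonF.norm_ZJ (l := N) (par P hP g hg))
  BN := BB_le_YY h S.isPGroup'

/-- **The field `non` of `TypT`** for `F i ≤ l i`. -/
theorem non (hG : Ctx G) (hF : Full (S : Subgroup G)) (h : Bls (S : Subgroup G) V N l E) (VS : V ≤ (S : Subgroup G))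
    (hB : ∀ x ∈ normalizer (BB (S : Subgroup G) l : Set G), ∀ b, ∃ c, cj x (l b) = l c ∧ cj x (N b) = N c)
    (cz : centralizer (zc (S : Subgroup G) : Set G) ≤ normalizer ((⨆ b, l b : Subgroup G) : Set G))
    (par : ∀ P : Subgroup G, IsParS (S : Subgroup G) P → ∀ x ∈ P, ∀ b, ∃ c, cj x (N b) = N c)
    (wc : ∀ g ∈ normalizer (V : Set G), cj g (BB (S : Subgroup G) l) ≤ (S : Subgroup G) →
      cj g (BB (S : Subgroup G) l) = BB (S : Subgroup G) l)
    {F : ι → Subgroup G} (hFl : ∀ i, F i ≤ l i) (U : Subgroup G) (hU2 : IsPGroup 2 U)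
    (hU : ∀ j, YY F j ≤ normalizer (U : Set G)) : U = ⊥ :=
  (nf h VS hB cz par wc).non hG hF hFl U hU2 hU

/-- **The field `non` of `TypT`** for `F i = C_{l i}(T)`. -/
theorem non_FF (hG : Ctx G) (hF : Full (S : Subgroup G)) (h : Bls (S : Subgroup G) V N l E)
    (VS : V ≤ (S : Subgroup G))
    (hB : ∀ x ∈ normalizer (BB (S : Subgroup G) l : Set G), ∀ b, ∃ c, cj x (l b) = l c ∧ cj x (N b) = N c)
    (cz : centralizer (zc (S : Subgroup G) : Set G) ≤ normalizer ((⨆ b, l b : Subgroup G) : Set G))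
    (par : ∀ P : Subgroup G, IsParS (S : Subgroup G) P → ∀ x ∈ P, ∀ b, ∃ c, cj x (N b) = N c)
    (wc : ∀ g ∈ normalizer (V : Set G), cj g (BB (S : Subgroup G) l) ≤ (S : Subgroup G) →
      cj g (BB (S : Subgroup G) l) = BB (S : Subgroup G) l) :
    ∀ U : Subgroup G, IsPGroup 2 U → (∀ j, YY (TBlk.FF (S : Subgroup G) N l) j ≤ normalizer (U : Set G)) → U = ⊥ :=
  non hG hF h VS hB cz par wc fun _ => inf_le_left

end frame

end Cfsg.Agent.Omega.NOThreeL.RWide.NonBls
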