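import Cfsg.Agent.Omega.NOThreeL.RWide.NonT

/-!
# `⟨C_G(Z_J), C_G(N_c : c ≠ b)⟩` is nonlocal: the field `non` from the block frame (#24915 (B4), #26055)

`N b` the blocks, `l b` their lines, `Z_J = ⨆ l b`, `B = S ∩ C_G(Z_J)`, `YY N b = C_G(N c : c ≠ b)`.

* `NF S N l B` : `N_G(B)` permutes the `(l b, N b)`, `C_G(Z) ≤ N_G(Z_J)`, the `P ∈ P*(S)` permute the `N b`, `B` is weakly
  closed in `S` with respect to them and `B ≤ ⟨YY N b : b⟩`;
* `NF.par_le` : `P = ⟨B^P⟩ N_P(B)` normalises `G₀₀ = ⟨C_G(Z_J), YY N b⟩`;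
* `NF.ng` : the structure `NonT.NG`; `NF.eq_bot` : `G₀₀` normalises no 2-group `≠ 1`;
* `NF.non` : the field `non` of `TypT` for any `F i ≤ l i`.
-/

set_option autoImplicit false
set_option linter.unusedSectionVars false

namespace Cfsg.Agent.Omega.NOThreeL.RWide.NonF

open Subgroup Cfsg Cfsg.Agent.ZN Cfsg.Agent.Omega.MinPar Cfsg.Agent.Omega.Frame Cfsg.Agent.Omega.FrameNOFF
open Cfsg.Agent.ZN.ChoiceBase (cj cj_mono cj_inf cj_centralizer cj_eq_of_mem_normalizer mem_cj mem_normalizer_iff_cj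
  cj_cj_inv cj_inv_cj cj_cj cj_one)
open Cfsg.Agent.Omega.NOThreeL.RWide.NonT (G00 NG)

universe u v

variable {G : Type u} [Group G] {ι : Type v}

/-- The block frame for (B4). -/
structure NF (S : Sylow 2 G) (N l : ι → Subgroup G) (B : Subgroup G) : Prop where
  eq : B = (S : Subgroup G) ⊓ centralizer ((⨆ b, l b : Subgroup G) : Set G)
  lN : ∀ b, l b ≤ N b
  lS : ∀ b, l b ≤ (S : Subgroup G)
  lc : ∀ a b, l a ≤ centralizer (l b : Set G)
  Ninj : Function.Injective N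
  /-- `N_G(B)` permutes the blocks and their lines -/
  NB : ∀ x ∈ normalizer (B : Set G), ∀ b, ∃ c, cj x (l b) = l c ∧ cj x (N b) = N c
  /-- `C_G(Z) ≤ N_G(Z_J)` -/
  cz : CZ (S : Subgroup G) ≤ normalizer ((⨆ b, l b : Subgroup G) : Set G)
  /-- the `P ∈ P*(S)` permute the blocks -/
  par : ∀ P : Subgroup G, IsParS (S : Subgroup G) P → ∀ x ∈ P, ∀ b, ∃ c, cj x (N b) = N c
  wc : ∀ P : Subgroup G, IsParS (S : Subgroup G) P → ∀ g ∈ P, cj g B ≤ (S : Subgroup G) → cj g B = B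
  /-- `B` acts on the blocks as the product of the root groups -/
  BN : B ≤ ⨆ b, YY N b

/-- An element permuting the blocks permutes the `YY N b`. -/
theorem cj_YY [Finite ι] {N : ι → Subgroup G} (hinj : Function.Injective N) {x : G} (hx : ∀ b, ∃ c, cj x (N b) = N c)
    (b : ι) : ∃ c, cj x (YY N b) ≤ YY N c := by
  choose σ hσ using hx
  have hσi : Function.Injective σ := by
    intro a b hab
    apply hinj
    have h1 : cj x⁻¹ (cj x (N a)) = cj x⁻¹ (cj x (N b)) := by rw [hσ, hσ, hab]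
    rwa [cj_inv_cj, cj_inv_cj] at h1
  have hσs : Function.Surjective σ := Finite.surjective_of_injective hσi
  refine ⟨σ b, le_YY fun c hc => ?_⟩
  obtain ⟨d, rfl⟩ := hσs c
  have hdb : d ≠ b := fun e => hc (by rw [e])
  have h1 := cj_mono x (YY_le_cent (Z := N) hdb)
  rwa [cj_centralizer, hσ] at h1

/-- the lines are permuted, so `Z_J` is normalised -/
theorem norm_ZJ [Finite G] {l : ι → Subgroup G} {x : G} (hx : ∀ b, ∃ c, cj x (l b) = l c) :
    x ∈ normalizer ((⨆ b, l b : Subgroup G) : Set G) := by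
  refine ChoiceBase.mem_normalizer_of_cj_le ?_
  have e : cj x (⨆ b, l b) = ⨆ b, cj x (l b) := Subgroup.map_iSup _ _
  rw [e]
  refine iSup_le fun b => ?_
  obtain ⟨c, hc⟩ := hx b
  rw [hc]
  exact le_iSup l c

/-- A group acting on every block like a group `R b` (which centralises the other blocks) lies in
`⟨R b⟩ C(⨆ N b)`. -/
theorem le_prod [Finite ι] {N R : ι → Subgroup G} {B : Subgroup G}
    (hR : ∀ b c, b ≠ c → R b ≤ centralizer (N c : Set G)) (hN : ∀ b, R b ≤ normalizer (N b : Set G))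
    (hB : ∀ s ∈ B, ∀ b, ∃ r ∈ R b, ∀ v ∈ N b, s * v * s⁻¹ = r * v * r⁻¹) :
    B ≤ (⨆ b, R b) ⊔ centralizer ((⨆ b, N b : Subgroup G) : Set G) := by
  classical
  have := Fintype.ofFinite ι
  intro s hs
  choose r hr hrs using hB s hs
  have key : ∀ t : Finset ι, ∃ g ∈ ⨆ b, R b, (∀ b ∈ t, ∀ v ∈ N b, s * v * s⁻¹ = g * v * g⁻¹) ∧
      ∀ b, b ∉ t → g ∈ centralizer (N b : Set G) := by
    intro t
    induction t using Finset.induction_on with
    | empty => exact ⟨1, one_mem _, by simp, fun b _ => one_mem _⟩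
    | insert b t hb ih =>
      obtain ⟨g, hg, h1, h2⟩ := ih
      refine ⟨g * r b, mul_mem hg ((le_iSup R b) (hr b)), fun a ha v hv => ?_, fun a ha => ?_⟩
      · rcases Finset.mem_insert.1 ha with rfl | ha
        · have h3 : r a * v * (r a)⁻¹ ∈ N a := (mem_normalizer_iff.1 (hN a (hr a)) v).1 hv
          have h4 := mem_centralizer_iff.1 (h2 a hb) _ h3
          calc s * v * s⁻¹ = r a * v * (r a)⁻¹ := hrs a v hv
            _ = (r a * v * (r a)⁻¹) * g * g⁻¹ := by group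
            _ = g * (r a * v * (r a)⁻¹) * g⁻¹ := by rw [h4]
            _ = g * r a * v * (g * r a)⁻¹ := by group
        · have hab : a ≠ b := fun e => hb (e ▸ ha)
          have h3 := mem_centralizer_iff.1 (hR b a hab.symm (hr b)) v hv
          rw [h1 a ha v hv]
          have e : r b * v * (r b)⁻¹ = v := by rw [← h3]; group
          calc g * v * g⁻¹ = g * (r b * v * (r b)⁻¹) * g⁻¹ := by rw [e]
            _ = g * r b * v * (g * r b)⁻¹ := by group
      · rw [Finset.mem_insert, not_or] at ha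
        exact mul_mem (h2 a ha.2) (hR b a (Ne.symm ha.1) (hr b))
  obtain ⟨g, hg, h1, -⟩ := key Finset.univ
  have h2 : g⁻¹ * s ∈ centralizer ((⨆ b, N b : Subgroup G) : Set G) := by
    have h3 : (⨆ b, N b) ≤ centralizer ({g⁻¹ * s} : Set G) := by
      refine iSup_le fun b v hv => mem_centralizer_singleton_iff.2 ?_
      have h4 := h1 b (Finset.mem_univ b) v hv
      calc v * (g⁻¹ * s) = g⁻¹ * (g * v * g⁻¹) * s := by group
        _ = g⁻¹ * (s * v * s⁻¹) * s := by rw [h4]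
        _ = g⁻¹ * s * v := by group
    exact mem_centralizer_iff.2 fun v hv => mem_centralizer_singleton_iff.1 (h3 hv)
  have h5 := mul_mem (mem_sup_left hg : g ∈ (⨆ b, R b) ⊔ centralizer ((⨆ b, N b : Subgroup G) : Set G))
    (mem_sup_right h2)
  rwa [mul_inv_cancel_left] at h5

/-- the field `BN` -/
theorem BN_of [Finite ι] [Nonempty ι] {N R : ι → Subgroup G} {B : Subgroup G}
    (hR : ∀ b c, b ≠ c → R b ≤ centralizer (N c : Set G)) (hN : ∀ b, R b ≤ normalizer (N b : Set G))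
    (hB : ∀ s ∈ B, ∀ b, ∃ r ∈ R b, ∀ v ∈ N b, s * v * s⁻¹ = r * v * r⁻¹) : B ≤ ⨆ b, YY N b := by
  refine (le_prod hR hN hB).trans (sup_le (iSup_mono fun b => le_YY fun c hc => hR b c hc.symm) ?_)
  obtain ⟨i⟩ := ‹Nonempty ι›
  exact (le_YY fun c _ => centralizer_le (by exact_mod_cast le_iSup N c)).trans (le_iSup (YY N) i)

namespace NF

variable [Finite G] [Finite ι] {S : Sylow 2 G} {N l : ι → Subgroup G} {B : Subgroup G} (h : NF S N l B)
include h

/-- `N_G(B)` normalises `G₀₀`. -/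
theorem NB_le : normalizer (B : Set G) ≤ normalizer (G00 (⨆ b, l b) (YY N) : Set G) := by
  intro x hx
  refine NonT.mem_normalizer_G00 (norm_ZJ fun b => ?_) fun b => ?_
  · obtain ⟨c, hc, -⟩ := h.NB x hx b
    exact ⟨c, hc⟩
  · obtain ⟨c, hc⟩ := cj_YY h.Ninj (fun b => (h.NB x hx b).imp fun c hc => hc.2) b
    exact hc.trans (NonT.L_le _ _ c)

/-- a group permuting the blocks normalises `⟨YY N b⟩` -/
theorem norm_Y {x : G} (hx : ∀ b, ∃ c, cj x (N b) = N c) :
    x ∈ normalizer ((⨆ b, YY N b : Subgroup G) : Set G) := by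
  refine ChoiceBase.mem_normalizer_of_cj_le ?_
  have e : cj x (⨆ b, YY N b) = ⨆ b, cj x (YY N b) := Subgroup.map_iSup _ _
  rw [e]
  refine iSup_le fun b => ?_
  obtain ⟨c, hc⟩ := cj_YY h.Ninj hx b
  exact hc.trans (le_iSup (YY N) c)

/-- **`P ∈ P*(S)` normalises `G₀₀`**: `P = ⟨B^P⟩ N_P(B)`. -/
theorem par_le {P : Subgroup G} (hP : IsParS (S : Subgroup G) P) :
    P ≤ normalizer (G00 (⨆ b, l b) (YY N) : Set G) := by
  intro x hx
  have hBS : B ≤ (S : Subgroup G) := by rw [h.eq]; exact inf_le_left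
  have hBP : B ≤ P := hBS.trans hP.le
  have hPK := le_normalizer_XS B P
  obtain ⟨c, hc, hcn⟩ := EndFive.frattini (S := S) (hP.le.trans hPK) (hPK hx)
  have hKP : XS B P ≤ P := XS_le_of hBP Subgroup.le_normalizer
  have hKY : XS B P ≤ ⨆ b, YY N b := XS_le_of h.BN fun y hy => h.norm_Y (h.par P hP y hy)
  have hm : c⁻¹ * x ∈ P := mul_mem (inv_mem (hKP hc)) hx
  have h1 : cj (c⁻¹ * x) B ≤ (S : Subgroup G) := by
    have h2 := cj_mono (c⁻¹ * x) (le_inf hBS (le_XS B P))
    rw [mem_normalizer_iff_cj.1 hcn] at h2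
    exact h2.trans inf_le_left
  have h2 : c⁻¹ * x ∈ normalizer (B : Set G) := mem_normalizer_iff_cj.2 (h.wc P hP _ hm h1)
  have h3 : c ∈ normalizer (G00 (⨆ b, l b) (YY N) : Set G) :=
    Subgroup.le_normalizer ((le_sup_right : (⨆ b, YY N b) ≤ G00 (⨆ b, l b) (YY N)) (hKY hc))
  have h4 := mul_mem h3 (h.NB_le h2)
  rwa [mul_inv_cancel_left] at h4

theorem ng : NG S (⨆ b, l b) B (YY N) where
  eq := h.eq
  ZB := by
    rw [h.eq]
    refine le_inf (iSup_le h.lS) (iSup_le fun a => ?_)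
    exact le_centralizer_iff.1 (iSup_le fun b => h.lc b a)
  NB := fun x hx => norm_ZJ fun b => (h.NB x hx b).imp fun c hc => hc.1
  perm := fun x hx b => by
    obtain ⟨c, hc⟩ := cj_YY h.Ninj (fun b => (h.NB x hx b).imp fun c hc => hc.2) b
    exact hc.trans (NonT.L_le _ _ c)
  cz := h.cz
  par := fun P hP => h.par_le hP

omit h in
/-- **`⟨C_G(Z_J), YY N b⟩` normalises no 2-group `≠ 1`.** -/
theorem eq_bot (hG : Ctx G) (hF : Full (S : Subgroup G)) (h : NF S N l B) {U : Subgroup G} (hU2 : IsPGroup 2 U)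
    (hU : G00 (⨆ b, l b) (YY N) ≤ normalizer (U : Set G)) : U = ⊥ :=
  h.ng.eq_bot hG hF hU2 hU

omit h in
/-- **The field `non` of `TypT`**, `F i ≤ l i`. -/
theorem non [Nonempty ι] (hG : Ctx G) (hF : Full (S : Subgroup G)) (h : NF S N l B) {F : ι → Subgroup G}
    (hFl : ∀ i, F i ≤ l i) (U : Subgroup G) (hU2 : IsPGroup 2 U)
    (hU : ∀ j, YY F j ≤ normalizer (U : Set G)) : U = ⊥ :=
  h.ng.non hG hF (fun i => (hFl i).trans (le_iSup l i))
    (fun b => ⟨b, le_YY fun c hc => (YY_le_cent hc).trans (centralizer_le ((hFl c).trans (h.lN c)))⟩) U hU2 hU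

omit h in
/-- The same for coarser index sets: `F i ≤ ⨆ l b` over the blocks `b` of the class `i = p b`. -/
theorem non' [Nonempty ι] (hG : Ctx G) (hF : Full (S : Subgroup G)) (h : NF S N l B) {κ : Type*} (p : ι → κ)
    {F : κ → Subgroup G} (hFl : ∀ i, F i ≤ ⨆ (b) (_ : p b = i), l b) (U : Subgroup G) (hU2 : IsPGroup 2 U)
    (hU : ∀ j, YY F j ≤ normalizer (U : Set G)) : U = ⊥ := by
  refine h.eq_bot hG hF hU2 (sup_le ?_ (iSup_le fun b => ?_))
  · obtain ⟨i⟩ := ‹Nonempty ι›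
    refine (le_YY fun j _ => centralizer_le ?_ : _ ≤ YY F (p i)).trans (hU (p i))
    exact_mod_cast (hFl j).trans (iSup₂_le fun b _ => le_iSup l b)
  · refine (le_YY fun j hj => ?_ : _ ≤ YY F (p b)).trans (hU (p b))
    refine le_trans ?_ (centralizer_le (hFl j))
    refine le_centralizer_iff.1 (iSup₂_le fun c hc => le_centralizer_iff.1 ?_)
    refine (YY_le_cent ?_).trans (centralizer_le (h.lN c))
    rintro rfl
    exact hj hc.symm

end NF

end Cfsg.Agent.Omega.NOThreeL.RWide.NonF
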