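import Cfsg.Agent.Omega.NOThreeL.RWide.NonT

/-!
# `G₁ = ⟨C_G(R_a : a ≠ b) : b⟩` is nonlocal (#25652, #24915 (B4))

`R b` the lines of the blocks `V b`, `E b` the block groups (`E b` centralises `V a`, `a ≠ b`).

* `mem_norm_of_perm`, `mem_norm_of_twist` : who permutes the `R b` (up to an element of `G₁`) normalises `G₁`;
* `exists_twist` : one element of `⟨E b⟩` moves all given lines to the `R b`;
* `NLn S R V E` : `C_G(Z)` permutes the `R b`, the `P ∈ P*(S)` permute the `V b`, `E b` moves every line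
  `(R a)^x ≤ V b` to `R b`;
* `NLn.eq_bot` : `G₁` normalises no 2-group `≠ 1`; `NLn.non` : the field `non` of `TypT`, `Typed`, `TypedM` for `F i ≤ R i`.
-/

set_option autoImplicit false
set_option linter.unusedSectionVars false

namespace Cfsg.Agent.Omega.NOThreeL.RWide.NonLines

open Subgroup Cfsg Cfsg.Agent.ZN Cfsg.Agent.Omega.MinPar Cfsg.Agent.Omega.Frame Cfsg.Agent.Omega.FrameNOFF
open Cfsg.Agent.ZN.ChoiceBase (cj cj_mono cj_inf cj_centralizer cj_eq_of_mem_normalizer mem_cj mem_normalizer_iff_cj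
  cj_cj_inv cj_inv_cj cj_cj cj_one)

universe u v

variable {G : Type u} [Group G]

section basic

variable {ι : Type v}

theorem YY_eq (Z : ι → Subgroup G) (j : ι) :
    YY Z j = centralizer ((⨆ (l) (_ : l ≠ j), Z l : Subgroup G) : Set G) := by
  apply le_antisymm
  · refine le_centralizer_iff.1 (iSup₂_le fun l hl => ?_)
    exact le_centralizer_iff.1 (YY_le_cent hl)
  · refine le_YY fun l hl => centralizer_le ?_
    exact_mod_cast le_iSup₂ (f := fun l (_ : l ≠ j) => Z l) l hl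

theorem GZ_eq (Z : ι → Subgroup G) : GZ Z = ⨆ j, YY Z j := by
  rw [GZ]
  exact iSup_congr fun j => (YY_eq Z j).symm

/-- Whoever permutes the lines normalises `G₁`. -/
theorem mem_norm_of_perm [Finite G] [Finite ι] {R : ι → Subgroup G} (hinj : Function.Injective R) {x : G}
    (hx : ∀ b, ∃ c, cj x (R b) = R c) : x ∈ normalizer ((⨆ j, YY R j : Subgroup G) : Set G) := by
  rw [← GZ_eq]
  exact mem_normalizer_GZ hinj hx

/-- Whoever permutes the lines up to an element of `G₁` normalises `G₁`. -/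
theorem mem_norm_of_twist [Finite G] [Finite ι] {R : ι → Subgroup G} (hinj : Function.Injective R) {h x : G}
    (hh : h ∈ ⨆ j, YY R j) (hx : ∀ b, ∃ c, cj (h * x) (R b) = R c) :
    x ∈ normalizer ((⨆ j, YY R j : Subgroup G) : Set G) := by
  have h1 := mul_mem (inv_mem (Subgroup.le_normalizer hh)) (mem_norm_of_perm hinj hx)
  rwa [inv_mul_cancel_left] at h1

theorem cj_of_cent {g : G} {A B : Subgroup G} (hg : g ∈ centralizer (B : Set G)) (hA : A ≤ B) : cj g A = A :=
  cj_eq_of_mem_normalizer (centralizer_le_normalizer _ (centralizer_le hA hg))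

/-- One element of `⟨E b⟩` moves all the given lines. -/
theorem exists_twist [Finite ι] {V E K R : ι → Subgroup G} (hEc : ∀ a b, a ≠ b → E b ≤ centralizer (V a : Set G))
    (KV : ∀ b, K b ≤ V b) (RV : ∀ b, R b ≤ V b) (hl : ∀ b, ∃ h ∈ E b, cj h (K b) = R b) :
    ∃ h ∈ ⨆ b, E b, ∀ b, cj h (K b) = R b := by
  classical
  have := Fintype.ofFinite ι
  choose g hg hgK using hl
  have key : ∀ s : Finset ι, ∃ h ∈ ⨆ b, E b, (∀ b ∈ s, cj h (K b) = R b) ∧ ∀ b, b ∉ s → h ∈ centralizer (V b : Set G) := by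
    intro s
    induction s using Finset.induction_on with
    | empty => exact ⟨1, one_mem _, by simp, fun b _ => one_mem _⟩
    | insert b s hb ih =>
      obtain ⟨h, hh, h1, h2⟩ := ih
      refine ⟨h * g b, mul_mem hh ((le_iSup E b) (hg b)), fun a ha => ?_, fun a ha => ?_⟩
      · rw [← cj_cj]
        rcases Finset.mem_insert.1 ha with rfl | ha
        · rw [hgK]
          exact cj_of_cent (h2 a hb) (RV a)
        · have hab : a ≠ b := fun e => hb (e ▸ ha)
          rw [cj_of_cent (hEc a b hab (hg b)) (KV a)]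
          exact h1 a ha
      · rw [Finset.mem_insert, not_or] at ha
        exact mul_mem (h2 a ha.2) (hEc a b ha.1 (hg b))
  obtain ⟨h, hh, h1, -⟩ := key Finset.univ
  exact ⟨h, hh, fun b => h1 b (Finset.mem_univ b)⟩

end basic

/-- **`G₀` normalises no 2-group `≠ 1`**, for any `G₀ ≥ C_G(Z_J)` normalised by `C_G(Z)` and the `P ∈ P*(S)`. -/
theorem eq_bot_of [Finite G] {S : Sylow 2 G} (hG : Ctx G) (hF : Full (S : Subgroup G)) {ZJ G0 U : Subgroup G}
    (hSZ : (S : Subgroup G) ≤ normalizer (ZJ : Set G)) (hZS : ZJ ≤ (S : Subgroup G))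
    (hZZ : ZJ ≤ centralizer (ZJ : Set G)) (hcG : centralizer (ZJ : Set G) ≤ G0)
    (hC : CZ (S : Subgroup G) ≤ normalizer (G0 : Set G))
    (hP : ∀ P : Subgroup G, IsParS (S : Subgroup G) P → P ≤ normalizer (G0 : Set G)) (hU2 : IsPGroup 2 U)
    (hU : G0 ≤ normalizer (U : Set G)) : U = ⊥ := by
  have hf : Fact (Nat.Prime 2) := ⟨Nat.prime_two⟩
  by_contra hU1
  have ho : o2 G0 = ⊥ := by
    refine FrameNOFF.eq_bot_of_norm hG S hF (MinSimple.VModule.o2_isPGroup _) (fun P hP' => ?_) ?_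
    · exact (hP P hP').trans (ZN.normalizer_le_normalizer_o2 _)
    · exact hC.trans (ZN.normalizer_le_normalizer_o2 _)
  have hnc : normalizer (ZJ : Set G) ≤ normalizer ((centralizer (ZJ : Set G) : Subgroup G) : Set G) := by
    intro y hy
    apply mem_normalizer_iff_cj.2
    rw [cj_centralizer, cj_eq_of_mem_normalizer hy]
  have hsyl := EndFive.syl_inf (S := S) (hSZ.trans hnc)
  set B : Subgroup G := (S : Subgroup G) ⊓ centralizer (ZJ : Set G) with hB
  have hBC : B ≤ centralizer (ZJ : Set G) := inf_le_right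
  have hBG : B ≤ G0 := hBC.trans hcG
  have hB2 : IsPGroup 2 B := S.isPGroup'.to_le inf_le_left
  -- `C_U(B) ≠ 1`
  have hne := PLocal.OffenderStep.inf_centralizer_ne_bot U B hU2 hB2 (hBG.trans hU) hU1
  obtain ⟨⟨u, hu, huC⟩, hu1'⟩ := (Subgroup.ne_bot_iff_exists_ne_one).1 hne
  have hu1 : u ≠ 1 := fun h0 => hu1' (Subtype.ext h0)
  have hT2 : IsPGroup 2 ↥(B ⊔ zpowers u) := by
    refine IsPGroup.to_sup_of_normal_left' hB2 (hU2.to_le (zpowers_le.2 hu)) ?_
    exact zpowers_le.2 (centralizer_le_normalizer _ huC)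
  have hZB : ZJ ≤ B := le_inf hZS hZZ
  have hTB : B ⊔ zpowers u ≤ B := (hsyl.2.2 _
    (sup_le hBC (zpowers_le.2 (centralizer_le hZB huC))) hT2 le_sup_left).le
  have huG : u ∈ G0 := hBG (hTB ((le_sup_right : zpowers u ≤ _) (mem_zpowers u)))
  have hle : U ⊓ G0 ≤ o2 G0 := by
    refine MinSimple.VModule.le_o2 inf_le_right (hU2.to_le inf_le_left) ?_
    intro g hg
    exact EndFive.mem_norm_inf (hU hg) (Subgroup.le_normalizer hg)
  rw [ho] at hle
  exact hu1 ((mem_bot).1 (hle ⟨hu, huG⟩))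

/-- The situation: the lines `R b` of the blocks `V b` with block groups `E b`. -/
structure NLn {ι : Type v} (S : Sylow 2 G) (R V E : ι → Subgroup G) : Prop where
  RV : ∀ b, R b ≤ V b
  RS : ∀ b, R b ≤ (S : Subgroup G)
  Rc : ∀ a b, R a ≤ centralizer (R b : Set G)
  Rinj : Function.Injective R
  Vinj : Function.Injective V
  /-- `E b` centralises the other blocks -/
  EV : ∀ a b, a ≠ b → E b ≤ centralizer (V a : Set G)
  /-- `C_G(Z)` permutes the lines -/
  C : ∀ x ∈ CZ (S : Subgroup G), ∀ b, ∃ c, cj x (R b) = R c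
  /-- the `P ∈ P*(S)` permute the blocks -/
  P : ∀ P : Subgroup G, IsParS (S : Subgroup G) P → ∀ x ∈ P, ∀ a, ∃ b, cj x (V a) = V b
  /-- `E b` moves every line of `V b` to `R b` -/
  line : ∀ P : Subgroup G, IsParS (S : Subgroup G) P → ∀ x ∈ P, ∀ a b, cj x (V a) = V b →
    ∃ h ∈ E b, cj h (cj x (R a)) = R b

namespace NLn

variable {ι : Type v} [Finite ι] {S : Sylow 2 G} {R V E : ι → Subgroup G}

/-- an element which permutes the blocks: `E b` transitive on the lines: it normalises `G₁` -/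
theorem mem_norm [Finite G] (h : NLn S R V E) {x : G} (hx : ∀ a, ∃ b, cj x (V a) = V b)
    (hl : ∀ a b, cj x (V a) = V b → ∃ g ∈ E b, cj g (cj x (R a)) = R b) :
    x ∈ normalizer ((⨆ j, YY R j : Subgroup G) : Set G) := by
  choose σ hσ using hx
  have hinj : Function.Injective σ := by
    intro a b hab
    apply h.Vinj
    have h1 : cj x⁻¹ (cj x (V a)) = cj x⁻¹ (cj x (V b)) := by rw [hσ, hσ, hab]
    rwa [cj_inv_cj, cj_inv_cj] at h1
  have hsurj : Function.Surjective σ := Finite.surjective_of_injective hinj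
  choose τ hτ using hsurj
  obtain ⟨g, hg, hgK⟩ := exists_twist (K := fun b => cj x (R (τ b))) h.EV
    (fun b => by
      have h1 := cj_mono x (h.RV (τ b))
      rwa [hσ, hτ] at h1) h.RV
    (fun b => hl (τ b) b (by rw [hσ, hτ]))
  have hgG : g ∈ ⨆ j, YY R j := by
    refine (iSup_le fun b => ?_ : (⨆ b, E b) ≤ ⨆ j, YY R j) hg
    refine (le_YY fun l hl => ?_ : E b ≤ YY R b).trans (le_iSup (YY R) b)
    exact (h.EV l b hl).trans (centralizer_le (h.RV l))
  refine mem_norm_of_twist h.Rinj hgG fun a => ⟨σ a, ?_⟩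
  have h1 := hgK (σ a)
  have h2 : τ (σ a) = a := hinj (hτ _)
  rw [← cj_cj]
  simpa only [h2] using h1

variable [Finite G]

/-- **`G₁` normalises no 2-group `≠ 1`.** -/
theorem eq_bot [Nonempty ι] (hG : Ctx G) (hF : Full (S : Subgroup G)) (h : NLn S R V E) {U : Subgroup G}
    (hU2 : IsPGroup 2 U) (hU : (⨆ j, YY R j) ≤ normalizer (U : Set G)) : U = ⊥ := by
  have hZZ : (⨆ i, R i) ≤ centralizer ((⨆ i, R i : Subgroup G) : Set G) := by
    refine iSup_le fun a => ?_
    refine le_centralizer_iff.1 (iSup_le fun b => ?_)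
    exact h.Rc b a
  have hSZ : (S : Subgroup G) ≤ normalizer ((⨆ i, R i : Subgroup G) : Set G) := by
    intro s hs
    refine ChoiceBase.mem_normalizer_of_cj_le ?_
    have e : cj s (⨆ i, R i) = ⨆ i, cj s (R i) := Subgroup.map_iSup _ _
    rw [e]
    refine iSup_le fun i => ?_
    obtain ⟨c, hc⟩ := h.C s (le_CZ S hs) i
    rw [hc]
    exact le_iSup R c
  refine eq_bot_of hG hF (ZJ := ⨆ i, R i) (G0 := ⨆ j, YY R j) hSZ (iSup_le h.RS) hZZ ?_ (fun x hx => ?_)
    (fun P hP x hx => ?_) hU2 hU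
  · obtain ⟨i⟩ := ‹Nonempty ι›
    exact (le_YY fun l _ => centralizer_le (by exact_mod_cast le_iSup R l)).trans (le_iSup (YY R) i)
  · exact mem_norm_of_perm h.Rinj (h.C x hx)
  · exact h.mem_norm (h.P P hP x hx) (h.line P hP x hx)

/-- **The field `non` of `TypT`, `Typed`, `TypedM`** for any `F i ≤ R i`. -/
theorem non [Nonempty ι] (hG : Ctx G) (hF : Full (S : Subgroup G)) (h : NLn S R V E) {F : ι → Subgroup G}
    (hFR : ∀ i, F i ≤ R i) (U : Subgroup G) (hU2 : IsPGroup 2 U)
    (hU : ∀ j, YY F j ≤ normalizer (U : Set G)) : U = ⊥ :=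
  h.eq_bot hG hF hU2 (iSup_le fun j =>
    (le_YY fun l hl => (YY_le_cent hl).trans (centralizer_le (hFR l))).trans (hU j))

/-- The same for coarser index sets: `F i ≤ ⨆ R b` over the blocks `b` of the class `i = p b`. -/
theorem non' [Nonempty ι] (hG : Ctx G) (hF : Full (S : Subgroup G)) (h : NLn S R V E) {κ : Type*} (p : ι → κ)
    {F : κ → Subgroup G} (hFR : ∀ i, F i ≤ ⨆ (b) (_ : p b = i), R b) (U : Subgroup G) (hU2 : IsPGroup 2 U)
    (hU : ∀ j, YY F j ≤ normalizer (U : Set G)) : U = ⊥ := by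
  refine h.eq_bot hG hF hU2 (iSup_le fun j => (le_YY fun l hl => ?_).trans (hU (p j)))
  refine le_trans ?_ (centralizer_le (hFR l))
  refine le_centralizer_iff.1 (iSup₂_le fun b hb => le_centralizer_iff.1 (YY_le_cent ?_))
  rintro rfl
  exact hl hb.symm

end NLn

end Cfsg.Agent.Omega.NOThreeL.RWide.NonLines
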