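import Cfsg.Agent.Omega.NOThreeL.RWide.PermEnd
import Cfsg.Agent.Omega.NOThreeL.RWide.Typ
import Cfsg.Agent.Omega.NOThreeL.RTree

/-!
# `⟨C_G(Z_J), blocks⟩` is nonlocal, any number of levels (#24915 (B4); field `non` of `TypT`, #25339)

`B = S ∩ C_G(Z_J)`, `Z_J ≤ B`, `L k` the block groups, `G₀₀ = ⟨C_G(Z_J), L k : k⟩` (`G00 ZJ L`).

* `NG S ZJ B L` : `N_G(B)` normalises `Z_J` and `G₀₀`, `C_G(Z)` normalises `Z_J`, the `P ∈ P*(S)` normalise `G₀₀`;
  `NG.of` : the `P ∈ P*(S)` lie in `⟨L k⟩S`, in `N_G(B)` or in `N_G(Z_J)`;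
* `NG.frattini` : `N_G(Z_J)` normalises `G₀₀`;
* `NG.eq_bot` : `G₀₀` normalises no 2-group `≠ 1`;
* `NG.non` : the field `non` of `TypT`: `F i ≤ Z_J`, every `L k` lies in some `Y_j = C_G(F_l : l ≠ j)`.
-/

set_option autoImplicit false
set_option linter.unusedSectionVars false

namespace Cfsg.Agent.Omega.NOThreeL.RWide.NonT

open Subgroup Cfsg Cfsg.Agent.ZN Cfsg.Agent.Omega.MinPar Cfsg.Agent.Omega.Frame Cfsg.Agent.Omega.FrameNOFF
open Cfsg.Agent.ZN.ChoiceBase (cj cj_mono cj_inf cj_centralizer cj_eq_of_mem_normalizer mem_cj mem_normalizer_iff_cj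
  cj_cj_inv cj_inv_cj cj_cj cj_one)
open Cfsg.Agent.Omega.NOThreeL.RTree (RB)

universe u

variable {G : Type u} [Group G]

/-- `G₀₀ = ⟨C_G(Z_J), L k : k⟩` -/
def G00 {κ : Sort*} (ZJ : Subgroup G) (L : κ → Subgroup G) : Subgroup G :=
  centralizer (ZJ : Set G) ⊔ ⨆ k, L k

theorem cent_le {κ : Sort*} (ZJ : Subgroup G) (L : κ → Subgroup G) : centralizer (ZJ : Set G) ≤ G00 ZJ L :=
  le_sup_left

theorem L_le {κ : Sort*} (ZJ : Subgroup G) (L : κ → Subgroup G) (k : κ) : L k ≤ G00 ZJ L :=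
  (le_iSup L k).trans le_sup_right

/-- The situation of (B4). -/
structure NG {κ : Sort*} (S : Sylow 2 G) (ZJ B : Subgroup G) (L : κ → Subgroup G) : Prop where
  eq : B = (S : Subgroup G) ⊓ centralizer (ZJ : Set G)
  ZB : ZJ ≤ B
  /-- `N_G(B) ≤ N_G(Z_J)` -/
  NB : normalizer (B : Set G) ≤ normalizer (ZJ : Set G)
  /-- `N_G(B)` permutes the `L k` (up to `G₀₀`) -/
  perm : ∀ x ∈ normalizer (B : Set G), ∀ k, cj x (L k) ≤ G00 ZJ L
  /-- `C_G(Z) ≤ N_G(Z_J)` -/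
  cz : CZ (S : Subgroup G) ≤ normalizer (ZJ : Set G)
  /-- the `P ∈ P*(S)` -/
  par : ∀ P : Subgroup G, IsParS (S : Subgroup G) P → P ≤ normalizer (G00 ZJ L : Set G)

section basic

variable [Finite G] {κ : Sort*} {S : Sylow 2 G} {ZJ B : Subgroup G} {L : κ → Subgroup G}

/-- an element permuting the `L k` up to `G₀₀` and normalising `Z_J` normalises `G₀₀` -/
theorem mem_normalizer_G00 {x : G} (hx : x ∈ normalizer (ZJ : Set G)) (hL : ∀ k, cj x (L k) ≤ G00 ZJ L) :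
    x ∈ normalizer (G00 ZJ L : Set G) := by
  refine ChoiceBase.mem_normalizer_of_cj_le ?_
  have e : cj x (G00 ZJ L) = cj x (centralizer (ZJ : Set G)) ⊔ ⨆ k, cj x (L k) := by
    rw [G00, cj, Subgroup.map_sup, Subgroup.map_iSup]
  rw [e, cj_centralizer, mem_normalizer_iff_cj.1 hx]
  exact sup_le (cent_le _ _) (iSup_le hL)

/-- **Frattini**: `N_G(Z_J)` normalises `G₀₀`, if `N_G(B)` does (`B = C_S(Z_J)`). -/
theorem frattini_of (hS : (S : Subgroup G) ≤ normalizer (ZJ : Set G))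
    (hN : normalizer (((S : Subgroup G) ⊓ centralizer (ZJ : Set G) : Subgroup G) : Set G) ≤
      normalizer (G00 ZJ L : Set G)) : normalizer (ZJ : Set G) ≤ normalizer (G00 ZJ L : Set G) := by
  have hnc : normalizer (ZJ : Set G) ≤ normalizer ((centralizer (ZJ : Set G) : Subgroup G) : Set G) := by
    intro y hy
    apply mem_normalizer_iff_cj.2
    rw [cj_centralizer, cj_eq_of_mem_normalizer hy]
  intro n hn
  obtain ⟨c, hc, hcn⟩ := EndFive.frattini (S := S) (hS.trans hnc) (hnc hn)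
  have h1 : c ∈ normalizer (G00 ZJ L : Set G) := Subgroup.le_normalizer (cent_le ZJ L hc)
  have h2 := mul_mem h1 (hN hcn)
  rwa [mul_inv_cancel_left] at h2

end basic

namespace NG

variable [Finite G] {κ : Sort*} {S : Sylow 2 G} {ZJ B : Subgroup G} {L : κ → Subgroup G}

section

variable (h : NG S ZJ B L)
include h

theorem SZ : (S : Subgroup G) ≤ normalizer (ZJ : Set G) := (le_CZ S).trans h.cz

/-- `N_G(B)` normalises `G₀₀` -/
theorem NB_le : normalizer (B : Set G) ≤ normalizer (G00 ZJ L : Set G) := fun x hx =>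
  mem_normalizer_G00 (h.NB hx) (h.perm x hx)

/-- **Frattini**: `N_G(Z_J)` normalises `G₀₀`. -/
theorem frattini : normalizer (ZJ : Set G) ≤ normalizer (G00 ZJ L : Set G) :=
  frattini_of h.SZ (by rw [← h.eq]; exact h.NB_le)

theorem two : IsPGroup 2 B := by
  rw [h.eq]; exact S.isPGroup'.to_le inf_le_left

theorem max {T : Subgroup G} (hT : IsPGroup 2 T) (hB : B ≤ T) (hTC : T ≤ centralizer (ZJ : Set G)) : T ≤ B := by
  have hnc : normalizer (ZJ : Set G) ≤ normalizer ((centralizer (ZJ : Set G) : Subgroup G) : Set G) := by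
    intro y hy
    apply mem_normalizer_iff_cj.2
    rw [cj_centralizer, cj_eq_of_mem_normalizer hy]
  have h1 := EndFive.syl_inf (S := S) (h.SZ.trans hnc)
  rw [← h.eq] at h1
  exact (h1.2.2 T hTC hT hB).le

end

/-- `O₂(G₀₀) = 1`. -/
theorem o2_eq_bot (hG : Ctx G) (hF : Full (S : Subgroup G)) (h : NG S ZJ B L) : o2 (G00 ZJ L) = ⊥ := by
  refine FrameNOFF.eq_bot_of_norm hG S hF (MinSimple.VModule.o2_isPGroup _) (fun P hP => ?_) ?_
  · exact (h.par P hP).trans (ZN.normalizer_le_normalizer_o2 _)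
  · exact (h.cz.trans h.frattini).trans (ZN.normalizer_le_normalizer_o2 _)

/-- **`G₀₀` normalises no 2-group `≠ 1`.** -/
theorem eq_bot (hG : Ctx G) (hF : Full (S : Subgroup G)) (h : NG S ZJ B L) {U : Subgroup G} (hU2 : IsPGroup 2 U)
    (hU : G00 ZJ L ≤ normalizer (U : Set G)) : U = ⊥ := by
  have hf : Fact (Nat.Prime 2) := ⟨Nat.prime_two⟩
  by_contra hU1
  have hBC : B ≤ centralizer (ZJ : Set G) := by rw [h.eq]; exact inf_le_right
  have hBG : B ≤ G00 ZJ L := hBC.trans (cent_le _ _)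
  -- `C_U(B) ≠ 1`
  have hne := PLocal.OffenderStep.inf_centralizer_ne_bot U B hU2 h.two (hBG.trans hU) hU1
  obtain ⟨⟨u, hu, huC⟩, hu1'⟩ := (Subgroup.ne_bot_iff_exists_ne_one).1 hne
  have hu1 : u ≠ 1 := fun h0 => hu1' (Subtype.ext h0)
  have hT2 : IsPGroup 2 ↥(B ⊔ zpowers u) := by
    refine IsPGroup.to_sup_of_normal_left' h.two (hU2.to_le (zpowers_le.2 hu)) ?_
    exact zpowers_le.2 (centralizer_le_normalizer _ huC)
  have hTB : B ⊔ zpowers u ≤ B := h.max hT2 le_sup_left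
    (sup_le hBC (zpowers_le.2 (centralizer_le h.ZB huC)))
  have huG : u ∈ G00 ZJ L := hBG (hTB ((le_sup_right : zpowers u ≤ _) (mem_zpowers u)))
  have hle : U ⊓ G00 ZJ L ≤ o2 (G00 ZJ L) := by
    refine MinSimple.VModule.le_o2 inf_le_right (hU2.to_le inf_le_left) ?_
    intro g hg
    exact EndFive.mem_norm_inf (hU hg) (Subgroup.le_normalizer hg)
  rw [h.o2_eq_bot hG hF] at hle
  exact hu1 ((mem_bot).1 (hle ⟨hu, huG⟩))

/-- **The field `non` of `TypT`** for any `F i ≤ Z_J`, if every `L k` lies in some `Y_j`. -/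
theorem non (hG : Ctx G) (hF : Full (S : Subgroup G)) (h : NG S ZJ B L) {ι : Type*} [Nonempty ι]
    {F : ι → Subgroup G} (hFZ : ∀ i, F i ≤ ZJ) (hL : ∀ k, ∃ j, L k ≤ YY F j) (U : Subgroup G) (hU2 : IsPGroup 2 U)
    (hU : ∀ j, YY F j ≤ normalizer (U : Set G)) : U = ⊥ := by
  refine h.eq_bot hG hF hU2 (sup_le ?_ (iSup_le fun k => ?_))
  · obtain ⟨i⟩ := ‹Nonempty ι›
    exact (le_YY fun l _ => centralizer_le (hFZ l)).trans (hU i)
  · obtain ⟨j, hj⟩ := hL k
    exact hj.trans (hU j)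

/-- **The field `non`**, `L k` centralises `R l` for `l ≠ p k`, `F l ≤ R l ≤ Z_J`. -/
theorem non' (hG : Ctx G) (hF : Full (S : Subgroup G)) (h : NG S ZJ B L) {ι : Type*} [Nonempty ι]
    {F R : ι → Subgroup G} (hFR : ∀ i, F i ≤ R i) (hRZ : ∀ i, R i ≤ ZJ) (p : κ → ι)
    (hL : ∀ k, ∀ l, l ≠ p k → L k ≤ centralizer (R l : Set G)) (U : Subgroup G) (hU2 : IsPGroup 2 U)
    (hU : ∀ j, YY F j ≤ normalizer (U : Set G)) : U = ⊥ :=
  h.non hG hF (fun i => (hFR i).trans (hRZ i))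
    (fun k => ⟨p k, le_YY fun l hl => (hL k l hl).trans (centralizer_le (hFR l))⟩) U hU2 hU

/-- **`NG` from the shape of the minimal parabolics**: each `P ∈ P*(S)` lies in `⟨L k⟩S` or `N_G(B)` or `N_G(Z_J)`. -/
theorem of (eq : B = (S : Subgroup G) ⊓ centralizer (ZJ : Set G)) (ZB : ZJ ≤ B)
    (NB : normalizer (B : Set G) ≤ normalizer (ZJ : Set G))
    (perm : ∀ x ∈ normalizer (B : Set G), ∀ k, cj x (L k) ≤ G00 ZJ L)
    (cz : CZ (S : Subgroup G) ≤ normalizer (ZJ : Set G))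
    (par : ∀ P : Subgroup G, IsParS (S : Subgroup G) P →
      P ≤ (centralizer (ZJ : Set G) ⊔ ⨆ k, L k) ⊔ (S : Subgroup G) ∨ P ≤ normalizer (ZJ : Set G)) : NG S ZJ B L := by
  have hS : (S : Subgroup G) ≤ normalizer (ZJ : Set G) := (le_CZ S).trans cz
  have hN : normalizer (ZJ : Set G) ≤ normalizer (G00 ZJ L : Set G) :=
    frattini_of hS (by rw [← eq]; exact fun x hx => mem_normalizer_G00 (NB hx) (perm x hx))
  refine ⟨eq, ZB, NB, perm, cz, fun P hP => ?_⟩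
  rcases par P hP with h1 | h1
  · exact h1.trans (sup_le Subgroup.le_normalizer (hS.trans hN))
  · exact h1.trans hN

end NG

end Cfsg.Agent.Omega.NOThreeL.RWide.NonT
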