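import Cfsg.Agent.Omega.NOThreeL.RRed.NS.Gd

/-!
# Box R: one natural block (858's ledger W7)

`U = V*` is one natural `SL₂(F)`-module for some `P ∈ P*(S)` moved by a smallest best offender, `|F| > 2`.  Then
`C_Z(P') = 1` for every `P' ∈ P*(S)` normalising `U`.
-/

set_option autoImplicit false
set_option linter.unusedSectionVars false

namespace Cfsg.Agent.Omega.NOThreeL.RWide.OneBlkNat

open Subgroup Cfsg Cfsg.Agent.ZN Cfsg.Agent.ZN.ChoiceBase Cfsg.Agent.Omega.MinPar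
open Cfsg.Agent.Omega.FFThm (NatKM SymKM OffM ElemM NoOverM StmtM ConclM syl_of_sylow ActsSL)
open Cfsg.Agent.Omega.FrameFF (cv)
open Cfsg.Agent.Lib.SL2Mat
open Cfsg.Agent.Omega.NatPair (ap)
open Cfsg.Agent.Omega.NO3S.ThmB Cfsg.Agent.Omega.NO3S.KeyRad
open Cfsg.Agent.Omega.NOThreeL.RRed.NS

universe u

variable {G : Type u} [Group G] [Finite G] {S : Sylow 2 G} {P P' U A : Subgroup G}

/-- multiplicative endomorphisms of `Fˣ` commute -/
theorem comm_units {F : Type} [Field F] [Finite F] (σ τ : Fˣ →* Fˣ) (x : Fˣ) : σ (τ x) = τ (σ x) := by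
  obtain ⟨m, hm⟩ := MonoidHom.map_cyclic σ
  obtain ⟨n, hn⟩ := MonoidHom.map_cyclic τ
  rw [hm, hn, hn, hm, ← zpow_mul, ← zpow_mul, mul_comm]

/-- `P' = ⟨S^P'⟩` -/
theorem le_of_conj (hP : IsParS (S : Subgroup G) P') {K : Subgroup G}
    (h : ∀ g ∈ P', ∀ s ∈ (S : Subgroup G), g * s * g⁻¹ ∈ K) : P' ≤ K := by
  have hN : P' ≤ normalizer (NC P' (S : Subgroup G) : Set G) := fun g hg => mem_normalizer_iff.2 fun x =>
    ⟨fun hx => conj_NC hg hx, fun hx => by
      have h1 := conj_NC (inv_mem hg) hx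
      have e : g⁻¹ * (g * x * g⁻¹) * g⁻¹⁻¹ = x := by group
      rwa [e] at h1⟩
  have hK : NC P' (S : Subgroup G) ≤ K := by
    rw [NC, closure_le]
    rintro _ ⟨g, hg, s, hs, rfl⟩
    exact h g hg s hs
  rcases IsPar.sup_eq_or_inf_le S hP.toIsPar (NC_le hP.le) hN with h1 | h1
  · rw [sup_eq_left.2 (le_NC (P := P') (A := (S : Subgroup G)))] at h1
    rw [← h1]
    exact hK
  · exfalso
    have h2 : (S : Subgroup G) ≤ o2 P' := (le_inf le_rfl le_NC).trans h1
    have h3 : (S : Subgroup G) = o2 P' := le_antisymm h2 (hP.isLoc.o2_le S)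
    exact hP.not_zc (by
      rw [h3]
      exact MinSimple.VModule.normalizer_le_normalizer_zc _ |>.trans' (MinSimple.VModule.le_normalizer_o2 _))

section

variable (hG : IsCharacteristicTwoType G) (hP : IsParS (S : Subgroup G) P) (hP' : IsParS (S : Subgroup G) P')
  {F : Type} [Field F] [Finite F] [CharP F 2] (hF : 2 < Nat.card F)
  (M : NatKM F (S : Subgroup G) P (zl (S : Subgroup G) P) (cv (S : Subgroup G) P) 1)
  (hD : cv (S : Subgroup G) P = ⊥) (hU : zl (S : Subgroup G) P = U)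
  (hPU : P' ≤ normalizer (U : Set G))

include hG hP hU in
/-- the root group -/
theorem one_zero {B : Subgroup G} (hBS : B ≤ S) (t : Tt U B) : One M U B 0 := by
  obtain ⟨i, hi⟩ := Tt.one (Inst.nb hG hP M) t (hU ▸ Inst.zl_el hG hP) hU.le hBS (by rw [hU]; exact t.ne)
  rwa [Subsingleton.elim i 0] at hi

include hG hP hD in
/-- `V` is the block -/
theorem mem_blk' {v : G} (hv : v ∈ zl (S : Subgroup G) P) : v ∈ blk M 0 := by
  have h := Inst.nb hG hP M
  obtain ⟨w, hw, he⟩ := exists_blk_e (M := M) h 0 (M.e v 0)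
  have h1 : v * w⁻¹ ∈ cv (S : Subgroup G) P := (h.mem_D hv (blk_le h 0 hw)).2 (by
    funext i
    rw [Subsingleton.elim i 0, he])
  rw [hD, mem_bot] at h1
  rw [mul_inv_eq_one.1 h1]
  exact hw

variable {l g : F → G} (C : Cd M 0 l g)

include hD C in
theorem g_one (x : F) : g x = 1 := by
  have h1 := C.gD x
  rw [hD] at h1
  exact mem_bot.1 h1

include hG hP hD C in
theorem eq_l {v : G} (hv : v ∈ zl (S : Subgroup G) P) (h0 : M.e v 0 1 = 0) : v = l (M.e v 0 0) := by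
  have h := Inst.nb hG hP M
  obtain ⟨s, x, e⟩ := C.exists_eq h ((mem_YY h).2 ⟨mem_blk' hG hP M hD hv, h0⟩)
  rw [g_one M hD C, mul_one] at e
  have h1 := C.le s
  rw [← e] at h1
  rw [e]
  congr 1
  rw [← e, h1]
  rfl

include hG hP hU in
theorem e_zc {z : G} (hAS : A ≤ S) (t : Tt U A) (hz : z ∈ zc (S : Subgroup G)) : M.e z 0 1 = 0 :=
  ((one_zero hG hP M hU hAS t).cen z (ZN.zc_le_zl hz)).1 fun a ha => ((ChoiceBase.mem_zc.1 hz).2.2 a (hAS ha))

include hG hP hP' hD hU hPU C in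
/-- the action of `g ∈ P'` on the line -/
theorem exists_phi (hAS : A ≤ S) (t : Tt U A)
    (hb : ∀ B : Subgroup G, B ≤ S → Tt U B → B ≤ centralizer (zl (S : Subgroup G) P' : Set G)) {x : G} (hx : x ∈ P') :
    ∃ φ : F → F, (∀ s, x * l s * x⁻¹ = l (φ s)) ∧ ∀ β t, φ (β * t) * φ 1 = φ β * φ t := by
  have h := Inst.nb hG hP M
  have O := one_zero hG hP M hU hAS t
  have hBS : cj x A ≤ S := NO3S.Level.conj_le_of_cent hG hP' hAS (hb A hAS t) hx
  have OB := one_zero hG hP M hU hBS (t.cj (hPU hx))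
  choose a haA ha using O.all
  choose v hv hvj hvl using fun t : F => Nb.exists_single M 0 ![0, t]
  have hxa : ∀ β, x * a β * x⁻¹ ∈ cj x A := fun β => ⟨a β, haA β, rfl⟩
  choose θ hθ using fun β => OB.act _ (hxa β)
  have hxV : ∀ w ∈ zl (S : Subgroup G) P, x * w * x⁻¹ ∈ zl (S : Subgroup G) P := by
    intro w hw
    rw [hU] at hw ⊢
    exact (mem_normalizer_iff.1 (hPU hx) w).1 hw
  let ψ : F → F := fun t => M.e (x * v t * x⁻¹) 0 1
  have key : ∀ β t, x * l (β * t) * x⁻¹ = l (θ β * ψ t) := by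
    intro β t
    have h1 := C.cm (a β) (hP.le (hAS (haA β))) β (ha β) (v t) (hv t)
    have h2 := C.cm _ (hP.le (hBS (hxa β))) (θ β) (hθ β) (x * v t * x⁻¹) (hxV _ (hv t))
    rw [hvj, g_one M hD C, mul_one] at h1
    rw [g_one M hD C, mul_one] at h2
    have e : x * a β * x⁻¹ * (x * v t * x⁻¹) * (x * a β * x⁻¹)⁻¹ * (x * v t * x⁻¹)⁻¹ =
        x * (a β * v t * (a β)⁻¹ * (v t)⁻¹) * x⁻¹ := by group
    rw [e, h1] at h2
    exact h2
  have key2 : ∀ β t, θ (β * t) * ψ 1 = θ β * ψ t := fun β t => by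
    refine C.l_inj ?_
    rw [← key, ← key, mul_one]
  refine ⟨fun s => θ s * ψ 1, fun s => by rw [← key, mul_one], fun β t => ?_⟩
  have h1 := key2 β t
  have h2 := key2 1 t
  rw [one_mul] at h2
  simp only
  rw [h1, h2]
  ring

include hG hP hP' hD hU hPU C in
/-- the action in the coordinate `s₀ x` -/
theorem exists_mu (hAS : A ≤ S) (t : Tt U A)
    (hb : ∀ B : Subgroup G, B ≤ S → Tt U B → B ≤ centralizer (zl (S : Subgroup G) P' : Set G)) {s₀ : F} (hs : s₀ ≠ 0)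
    (hfix : ∀ x ∈ P', x * l s₀ * x⁻¹ = l s₀) {x : G} (hx : x ∈ P') :
    ∃ μ : Fˣ →* Fˣ, ∀ y : Fˣ, x * l (s₀ * y) * x⁻¹ = l (s₀ * μ y) := by
  obtain ⟨φ, h1, h2⟩ := exists_phi hG hP hP' M hD hU hPU C hAS t hb hx
  have hne : ∀ s, s ≠ 0 → φ s ≠ 0 := by
    intro s hs' h0
    have h3 := h1 s
    rw [h0, C.l_zero] at h3
    have h4 : l s = l 0 := by rw [C.l_zero]; exact conj_eq_one_iff.1 h3
    exact hs' (C.l_inj h4)
  have h0 : φ s₀ = s₀ := C.l_inj (by rw [← h1, hfix x hx])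
  have h3 : ∀ y : Fˣ, φ (s₀ * y) / s₀ ≠ 0 := fun y => div_ne_zero (hne _ (mul_ne_zero hs y.ne_zero)) hs
  refine ⟨⟨⟨fun y => Units.mk0 (φ (s₀ * y) / s₀) (h3 y), ?_⟩, fun y z => ?_⟩, fun y => ?_⟩
  · ext
    simp only [Units.val_mk0, Units.val_one, mul_one, h0]
    exact div_self hs
  · ext
    simp only [Units.val_mk0, Units.val_mul]
    have e1 := h2 (s₀ * y) z
    have e2 := h2 s₀ z
    rw [h0] at e2
    have h5 := hne 1 one_ne_zero
    have e3 : φ (s₀ * y * z) * s₀ = φ (s₀ * y) * φ (s₀ * z) := by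
      refine mul_right_cancel₀ h5 ?_
      linear_combination s₀ * e1 - φ (s₀ * y) * e2
    rw [← mul_assoc, div_mul_div_comm, div_eq_div_iff hs (mul_ne_zero hs hs)]
    linear_combination s₀ * e3
  · rw [h1]
    congr 1
    change _ = s₀ * (φ (s₀ * y) / s₀)
    field_simp

include hG hP hP' hF M hD hU hPU in
/-- **One block**: `C_Z(P') = 1` for all `P' ∈ P*(S)` normalising `U = V*`. -/
theorem cent_eq_bot (hFF : StmtM.{u}) (hAS : A ≤ S) (t : Tt U A) :
    zc (S : Subgroup G) ⊓ centralizer (P' : Set G) = ⊥ := by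
  have h := Inst.nb hG hP M
  have hU2 : IsElementaryAbelian 2 U := hU ▸ Inst.zl_el hG hP
  have hZU : zc (S : Subgroup G) ≤ U := hU ▸ ZN.zc_le_zl
  have hVU' : zl (S : Subgroup G) P' ≤ U := ZN.zl_le hZU hPU
  obtain ⟨l, g, C⟩ := exists_cd h hF 0
  rw [eq_bot_iff]
  rintro v ⟨hvZ, hvC⟩
  rw [mem_bot]
  by_contra hv1
  have hvP : ∀ x ∈ P', x * v = v * x := fun x hx => mem_centralizer_iff.1 hvC x hx
  have hvV : v ∈ zl (S : Subgroup G) P := ZN.zc_le_zl hvZ
  have hv0 : M.e v 0 1 = 0 := e_zc hG hP M hU hAS t hvZ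
  by_cases hact : ∀ B : Subgroup G, B ≤ S → Tt U B → B ≤ centralizer (zl (S : Subgroup G) P' : Set G)
  · -- `P'` is not active
    have hvl := eq_l hG hP M hD C hvV hv0
    set s₀ := M.e v 0 0 with hs₀
    have hs0 : s₀ ≠ 0 := by
      intro h0
      rw [h0, C.l_zero] at hvl
      exact hv1 hvl
    have hfix : ∀ x ∈ P', x * l s₀ * x⁻¹ = l s₀ := fun x hx => by
      rw [← hvl, hvP x hx, mul_inv_cancel_right]
    have hcen : P' ≤ centralizer (zc (S : Subgroup G) : Set G) := by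
      refine le_of_conj hP' fun x hx s hs => mem_centralizer_iff.2 fun z hz => ?_
      have hzl := eq_l hG hP M hD C (ZN.zc_le_zl hz) (e_zc hG hP M hU hAS t hz)
      set r := M.e z 0 0 with hr
      by_cases hr0 : r = 0
      · rw [hzl, hr0, C.l_zero, one_mul, mul_one]
      · set y : Fˣ := Units.mk0 (r / s₀) (div_ne_zero hr0 hs0) with hy
        have hry : r = s₀ * y := by
          rw [hy, Units.val_mk0]; field_simp
        obtain ⟨μ, hμ⟩ := exists_mu hG hP hP' M hD hU hPU C hAS t hact hs0 hfix (inv_mem hx)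
        obtain ⟨ν, hν⟩ := exists_mu hG hP hP' M hD hU hPU C hAS t hact hs0 hfix (hP'.le hs)
        have h1 : s * z * s⁻¹ = z := by
          rw [(ChoiceBase.mem_zc.1 hz).2.2 s hs, mul_inv_cancel_right]
        have h2 : ν y = y := by
          rw [hzl, hry, hν] at h1
          exact Units.ext (mul_left_cancel₀ hs0 (C.l_inj h1))
        have h3 : s * (x⁻¹ * z * x) * s⁻¹ = x⁻¹ * z * x := by
          have e1 : x⁻¹ * z * x = l (s₀ * μ y) := by
            have := hμ y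
            rw [← hry, ← hzl, inv_inv] at this
            exact this
          rw [e1, hν, comm_units ν μ, h2]
        calc z * (x * s * x⁻¹) = x * (x⁻¹ * z * x * s) * x⁻¹ := by group
          _ = x * (s * (x⁻¹ * z * x)) * x⁻¹ := by
            rw [mul_inv_eq_iff_eq_mul.1 h3]
          _ = x * s * x⁻¹ * z := by group
    exact hP'.not_zc (hcen.trans (centralizer_le_normalizer _))
  · -- `P'` is active
    push Not at hact
    obtain ⟨B, hBS, tB, hB⟩ := hact
    have O := one_zero hG hP M hU hBS tB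
    obtain ⟨F', i1, i2, i3, k', ⟨M'⟩⟩ := nat_of hG hFF hP' hU2 hPU hZU hBS tB hB hU.le O hF
    have h' := Inst.nb hG hP' M'
    obtain ⟨j', O'⟩ := Tt.one h' tB hU2 hVU' hBS hB
    have hBP : B ≤ P := hBS.trans hP.le
    have hBP' : B ≤ P' := hBS.trans hP'.le
    have hF' : 2 < Nat.card F' := lt_of_lt_of_le hF (card_le_of_one h' O O' hBP' hU.le)
    obtain ⟨l', g', C'⟩ := exists_cd h' hF' j'
    obtain ⟨-, hY, hcD, -⟩ := compare h h' C C' O O' hBP hBP' hU.le hVU' hF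
    have hD0 : DD M 0 = ⊥ := le_bot_iff.1 (inf_le_right.trans hD.le)
    rw [hD0, Subgroup.card_bot] at hcD
    have hD' : DD M' j' = ⊥ := Subgroup.card_eq_one.1 hcD.symm
    have hvY : v ∈ YY h 0 := ⟨mem_blk' hG hP M hD hvV, hv0⟩
    rw [hY] at hvY
    have hvD : v ∈ DD M' j' := ⟨hvY.1, mem_D_of_fix h' (ZN.zc_le_zl hvZ) hvP⟩
    rw [hD'] at hvD
    exact hv1 (mem_bot.1 hvD)

end

end Cfsg.Agent.Omega.NOThreeL.RWide.OneBlkNat
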