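import Cfsg.Agent.Omega.NOThreeL.RWide.PermB
import Cfsg.Agent.PLocal.OffenderStep

/-!
# THEOREM PERM+ with a variable group `O` (helper828, bb OMEGA #26079)

`PInO S D P N O V Z` : helper278's `PIn` with `o2 D` replaced by a `D`-invariant subgroup `O ≤ S`.

* `PIn.toO` : `PIn` is the case `O = o2 D`;
* `best_iff`, `best_of_AA` : (`best_of_AA`: Thompson);
* **`PInO.permB`** : `R` with `S ≤ R ≤ D`, all best offenders of `S` on `W ≤ ⟨(⨆ V)^⟨P, R⟩⟩` lie in `O₂(R)`:
  `R` permutes the `Z i`.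
-/

set_option autoImplicit false
set_option linter.unusedSectionVars false

namespace Cfsg.Agent.Omega.NOThreeL.RWide

open Subgroup Cfsg Cfsg.Agent.ZN Cfsg.Agent.ZN.ChoiceBase Cfsg.Agent.MinSimple.MinParabolic
open Cfsg.Agent.Omega.FFThm Cfsg.Agent.Omega.NO1.BestOff Cfsg.Agent.MinSimple.VModule
open scoped commutatorElement

universe u

variable {G : Type u} [Group G]

/-- `PIn` with a variable `O`. -/
structure PInO (S : Sylow 2 G) (D P N O : Subgroup G) {ι : Type*} (V Z : ι → Subgroup G) : Prop where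
  SD : (S : Subgroup G) ≤ D
  OS : O ≤ (S : Subgroup G)
  DO : D ≤ normalizer (O : Set G)
  VO : ∀ i, V i ≤ O
  sq : ∀ i, ∀ v ∈ V i, v * v = 1
  noff : ∀ x ∈ D, ∀ i j, ∀ v ∈ V i, ∀ w ∈ cj x (V j), v * w = w * v
  ind : iSupIndep V
  ZV : ∀ i, Z i ≤ V i
  Zne : ∀ i, Z i ≠ ⊥
  card : ∀ i, Nat.card (V i) = Nat.card (Z i) ^ 2
  perm : ∀ s ∈ normalizer ((S : Subgroup G) : Set G) ⊓ D, ∀ i, ∃ j, cj s (V i) = V j ∧ cj s (Z i) = Z j
  trans : ∀ i j, ∃ s ∈ (S : Subgroup G), cj s (V i) = V j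
  root : ∀ i, ∀ g ∈ (S : Subgroup G), (∀ v ∈ V i, g * v * g⁻¹ * v⁻¹ ∈ Z i) → (∀ v ∈ V i, g * v = v * g) ∨
    ∀ z ∈ Z i, ∃ v ∈ V i, g * v * g⁻¹ * v⁻¹ = z
  /-- best offenders of `S` on `⨆ V` are products of full root groups -/
  ffp : ∀ F : Subgroup G, F ≤ (S : Subgroup G) → IsBestOffenderOn 2 (⨆ i, V i) F → ∀ i, RootOn F (V i) (Z i)
  mov : ∃ A ∈ AA O, ¬ A ≤ centralizer ((⨆ i, V i : Subgroup G) : Set G)
  Pmin : IsMinPar (S : Subgroup G) P
  PV : P ≤ normalizer ((⨆ i, V i : Subgroup G) : Set G)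
  irr : ∀ U : Subgroup G, U ≤ ⨆ i, V i → P ≤ normalizer (U : Set G) → U ≠ ⊥ → U = ⨆ i, V i
  PN : P ≤ normalizer (N : Set G)
  DN : D ≤ normalizer (N : Set G)
  VN : ∀ i, V i ≤ N
  NO : N ≤ O
  Nsq : ∀ n ∈ N, n * n = 1
  Nab : ∀ m ∈ N, ∀ n ∈ N, m * n = n * m
  /-- a vector of `Z(D) ∩ ⨆ Z` with all components `≠ 1` -/
  vec : ∃ z : G, z ∈ ⨆ i, Z i ∧ (∀ x ∈ D, x * z = z * x) ∧ ∀ i, z ∉ ⨆ (j) (_ : j ≠ i), V j

theorem best_iff [Finite G] {V X : Subgroup G} : IsBestOffenderOn 2 V X ↔ Best V X := by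
  constructor
  · intro h
    refine { sq := h.2.2, comm := fun a ha b hb => h.2.1 (commutator_mem_commutator ha hb), max := fun Y hY _ => h.1 Y hY }
  · intro h
    refine ⟨fun B hB => ?_, ?_, h.sq⟩
    · have h1 := h.max (B ⊔ (X ⊓ centralizer (V : Set G))) (sup_le hB inf_le_left) le_sup_right
      have h2 : Nat.card B ≤ Nat.card ↥(B ⊔ (X ⊓ centralizer (V : Set G))) := card_le_of_le le_sup_left
      have h3 : V ⊓ centralizer (B : Set G) ≤
          V ⊓ centralizer ((B ⊔ (X ⊓ centralizer (V : Set G)) : Subgroup G) : Set G) := by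
        refine le_inf inf_le_left ?_
        rw [le_centralizer_iff]
        refine sup_le (le_centralizer_iff.1 inf_le_right) ?_
        exact inf_le_right.trans (centralizer_le inf_le_left)
      exact (Nat.mul_le_mul h2 (card_le_of_le h3)).trans h1
    · rw [commutator_le]
      intro a ha b hb
      exact h.comm a ha b hb

theorem card_sup_comm' [Finite G] {A B : Subgroup G} (h : ∀ a ∈ A, ∀ b ∈ B, a * b = b * a) :
    Nat.card ↥(A ⊔ B) * Nat.card ↥(A ⊓ B) = Nat.card A * Nat.card B :=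
  Cfsg.Agent.Omega.OmThm.SideBase.card_sup_comm h

/-- members of `AA O` are best offenders on every abelian group of exponent 2 in `O` -/
theorem best_of_AA [Finite G] {O U A : Subgroup G} (hA : A ∈ AA O) (hUO : U ≤ O)
    (hab : ∀ u ∈ U, ∀ v ∈ U, u * v = v * u) (hsq : ∀ u ∈ U, u * u = 1) : Best U A := by
  have hAc : ∀ a ∈ A, ∀ b ∈ A, a * b = b * a := fun a ha b hb =>
    congrArg Subtype.val (hA.1.1.1.1 (⟨a, ha⟩ : A) (⟨b, hb⟩ : A))
  have hAs : ∀ a ∈ A, a ^ 2 = 1 := hA.1.2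
  refine { sq := fun a ha => by rw [hAs a ha]; exact one_mem _, comm := fun a ha b hb => ?_, max := fun Y hY _ => ?_ }
  · rw [hAc a ha b hb]
    have : b * a * a⁻¹ * b⁻¹ = 1 := by group
    rw [this]; exact one_mem _
  · have hc : ∀ y ∈ Y, ∀ u ∈ U ⊓ centralizer (Y : Set G), y * u = u * y := fun y hy u hu =>
      mem_centralizer_iff.1 hu.2 y hy
    have h1 := card_sup_comm' hc
    have hE : IsElementaryAbelian 2 (Y ⊔ U ⊓ centralizer (Y : Set G) : Subgroup G) := by
      refine ⟨⟨⟨fun a b => Subtype.ext ?_⟩⟩, fun a ha => ?_⟩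
      · obtain ⟨y, hy, u, hu, e⟩ := PermB.mem_sup_comm hc a.2
        obtain ⟨y', hy', u', hu', e'⟩ := PermB.mem_sup_comm hc b.2
        show (a : G) * b = b * a
        rw [e, e']
        calc y * u * (y' * u') = y * (u * y') * u' := by group
          _ = y * (y' * u) * u' := by rw [hc y' hy' u hu]
          _ = (y * y') * (u * u') := by group
          _ = (y' * y) * (u' * u) := by rw [hAc y (hY hy) y' (hY hy'), hab u hu.1 u' hu'.1]
          _ = y' * (y * u') * u := by group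
          _ = y' * (u' * y) * u := by rw [hc y hy u' hu']
          _ = _ := by group
      · obtain ⟨y, hy, u, hu, e⟩ := PermB.mem_sup_comm hc ha
        rw [e, pow_two]
        calc y * u * (y * u) = y * (u * y) * u := by group
          _ = y * (y * u) * u := by rw [hc y hy u hu]
          _ = y ^ 2 * (u * u) := by rw [pow_two]; group
          _ = 1 := by rw [hAs y (hY hy), hsq u hu.1, mul_one]
    have h2 := hA.2.2 _ hE (sup_le (hY.trans hA.2.1) (inf_le_left.trans hUO))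
    have h3 : Nat.card ↥(Y ⊓ (U ⊓ centralizer (Y : Set G))) ≤ Nat.card ↥(U ⊓ centralizer (A : Set G)) := by
      refine card_le_of_le (le_inf (inf_le_right.trans inf_le_left) ?_)
      intro y hy
      exact mem_centralizer_iff.2 fun a ha => hAc a ha y (hY hy.1)
    rw [← h1]
    exact Nat.mul_le_mul h2 h3

section

variable [Finite G] {S : Sylow 2 G} {D P N O : Subgroup G} {ι : Type*} {V Z : ι → Subgroup G}

/-- `PIn` is the case `O = O₂(D)`. -/
theorem PIn.toO (h : PIn S D P N V Z) : PInO S D P N (o2 D) V Z :=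
  { SD := h.SD
    OS := o2_le_of_sylow S.isPGroup' (MinSimple.Basic.not_dvd_relIndex S h.SD)
    DO := le_normalizer_o2 D
    VO := h.VO
    sq := h.sq
    noff := h.noff
    ind := h.ind
    ZV := h.ZV
    Zne := h.Zne
    card := h.card
    perm := h.perm
    trans := h.trans
    root := h.root
    ffp := h.ffp
    mov := h.mov
    Pmin := h.Pmin
    PV := h.PV
    irr := h.irr
    PN := h.PN
    DN := h.DN
    VN := h.VN
    NO := h.NO
    Nsq := h.Nsq
    Nab := h.Nab
    vec := h.vec }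

theorem PInO.Zcj (h : PInO S D P N O V Z) (i j : ι) : ∃ s ∈ (S : Subgroup G), cj s (V i) = V j ∧ cj s (Z i) = Z j := by
  obtain ⟨s, hs, e⟩ := h.trans i j
  obtain ⟨k, e1, e2⟩ := h.perm s ⟨le_normalizer hs, h.SD hs⟩ i
  refine ⟨s, hs, e, ?_⟩
  have hk : k = j := by
    by_contra hne
    have h1 : V k = V j := by rw [← e1, e]
    have h2 : Disjoint (V k) (V j) := h.ind.pairwiseDisjoint hne
    rw [h1, disjoint_self] at h2
    have h3 := h.ZV j
    rw [h2, le_bot_iff] at h3
    exact h.Zne j h3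
  rw [e2, hk]

theorem PInO.comm (h : PInO S D P N O V Z) : ∀ u ∈ ⨆ i, V i, ∀ v ∈ ⨆ i, V i, u * v = v * u := fun u hu v hv =>
  h.Nab u ((iSup_le h.VN) hu) v ((iSup_le h.VN) hv)

theorem PInO.VS (h : PInO S D P N O V Z) : (⨆ i, V i) ≤ (S : Subgroup G) := (iSup_le h.VO).trans h.OS

theorem PInO.Vne (h : PInO S D P N O V Z) : (⨆ i, V i) ≠ ⊥ := by
  intro h0
  obtain ⟨A, -, hA⟩ := h.mov
  apply hA
  rw [h0]
  intro a _
  exact mem_centralizer_iff.2 fun w hw => by
    rw [mem_bot.1 hw, one_mul, mul_one]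

/-- `C_V(X) = V` for a 2-group `X` normalised by `P`, `X ≤ N(V)` -/
theorem PInO.le_cent_of (h : PInO S D P N O V Z) {X : Subgroup G} (hX : IsPGroup 2 X)
    (hXV : X ≤ normalizer ((⨆ i, V i : Subgroup G) : Set G))
    (hP : P ≤ normalizer ((((⨆ i, V i : Subgroup G)) ⊓ centralizer (X : Set G) : Subgroup G) : Set G)) :
    X ≤ centralizer ((⨆ i, V i : Subgroup G) : Set G) := by
  have hf : Fact (Nat.Prime 2) := ⟨Nat.prime_two⟩
  have h1 := PLocal.OffenderStep.inf_centralizer_ne_bot (⨆ i, V i) X (S.isPGroup'.to_le h.VS) hX hXV h.Vne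
  have h2 := h.irr _ inf_le_left hP h1
  rw [le_centralizer_iff]
  rw [← h2]
  exact inf_le_right

/-- `C_S(⨆ V) = O₂(P)` -/
theorem PInO.inf_le_o2 (h : PInO S D P N O V Z) :
    (S : Subgroup G) ⊓ centralizer ((⨆ i, V i : Subgroup G) : Set G) ≤ o2 P := by
  have hf : Fact (Nat.Prime 2) := ⟨Nat.prime_two⟩
  have hSP := h.Pmin.le
  set C : Subgroup G := P ⊓ centralizer ((⨆ i, V i : Subgroup G) : Set G) with hC
  have hn : P ≤ normalizer (C : Set G) := by
    intro p hp
    rw [mem_normalizer_iff_cj, hC, cj_inf, cj_eq_of_mem_normalizer (le_normalizer hp), cj_centralizer,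
      cj_eq_of_mem_normalizer (h.PV hp)]
  rcases h.Pmin.sup_eq_or_inf_le S.isPGroup' (MinSimple.Basic.not_dvd_relIndex S hSP) inf_le_left hn with h1 | h1
  · exfalso
    obtain ⟨A, hA, hm⟩ := h.mov
    apply hm
    refine (hA.2.1.trans h.OS).trans (h.le_cent_of S.isPGroup' (hSP.trans h.PV) ?_)
    rw [← h1]
    refine sup_le ?_ ?_
    · intro c hc
      refine centralizer_le_normalizer _ ?_
      exact centralizer_le inf_le_left hc.2
    · intro s hs
      rw [mem_normalizer_iff_cj, cj_inf, cj_eq_of_mem_normalizer (h.PV (hSP hs)), cj_centralizer,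
        cj_eq_of_mem_normalizer (le_normalizer hs)]
  · refine le_trans ?_ h1
    exact le_inf inf_le_left (inf_le_inf_right _ hSP)

theorem PInO.o2_le_cent (h : PInO S D P N O V Z) : o2 P ≤ centralizer ((⨆ i, V i : Subgroup G) : Set G) := by
  refine h.le_cent_of (o2_isPGroup P) ((o2_le P).trans h.PV) ?_
  intro p hp
  rw [mem_normalizer_iff_cj, cj_inf, cj_eq_of_mem_normalizer (h.PV hp), cj_centralizer,
    cj_eq_of_mem_normalizer (le_normalizer_o2 P hp)]

/-- **THEOREM PERM+, case (B)** -/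
theorem PInO.permB (h : PInO S D P N O V Z) {R : Subgroup G} (hR : (S : Subgroup G) ≤ R) (hRD : R ≤ D)
    {W : Subgroup G} (hW : W ≤ ⨆ r : ↥(P ⊔ R), cj (r : G) (⨆ i, V i))
    (hK : ∀ F : Subgroup G, F ≤ (S : Subgroup G) → IsBestOffenderOn 2 W F → F ≤ o2 R) :
    ∀ r ∈ R, ∀ i, ∃ j, cj r (Z i) = Z j := by
  set U : Subgroup G := ⨆ r : ↥(P ⊔ R), cj (r : G) (⨆ i, V i) with hU
  have hVU : (⨆ i, V i) ≤ U := by
    have := le_iSup (fun r : ↥(P ⊔ R) => cj (r : G) (⨆ i, V i)) 1
    rwa [coe_one, cj_one] at this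
  have hUN : U ≤ N := by
    refine iSup_le fun r => ?_
    have h1 : P ⊔ R ≤ normalizer (N : Set G) := sup_le h.PN (hRD.trans h.DN)
    have h2 := cj_mono (r : G) (iSup_le h.VN : (⨆ i, V i) ≤ N)
    rwa [cj_eq_of_mem_normalizer (h1 r.2)] at h2
  have hSyl := MinSimple.Basic.not_dvd_relIndex S hR
  have hab : ∀ u ∈ U, ∀ v ∈ U, u * v = v * u := fun u hu v hv => h.Nab u (hUN hu) v (hUN hv)
  have key : PermB.PB (S : Subgroup G) P R (o2 R) (o2 P) U V Z :=
    { two := S.isPGroup'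
      SP := h.Pmin.le
      SR := hR
      KS := o2_le_of_sylow S.isPGroup' hSyl
      nK := le_normalizer_o2 R
      QS := o2_le_of_sylow S.isPGroup' (MinSimple.Basic.not_dvd_relIndex S h.Pmin.le)
      nQ := le_normalizer_o2 P
      memQ := h.inf_le_o2
      QV := h.o2_le_cent
      nV := h.PV
      nU := by
        intro g hg
        refine mem_normalizer_of_cj_le ?_
        rw [cj_le_iff]
        refine iSup_le fun r => ?_
        rw [← cj_le_iff, cj_cj]
        exact le_iSup (fun r : ↥(P ⊔ R) => cj (r : G) (⨆ i, V i)) ⟨g * r, mul_mem hg r.2⟩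
      US := hUN.trans (h.NO.trans h.OS)
      ab := hab
      VU := fun b => (le_iSup V b).trans hVU
      gen := le_rfl
      ZV := h.ZV
      Zne := h.Zne
      dj := by
        intro b c hbc v hb hc
        have h1 : Disjoint (V b) (V c) := h.ind.pairwiseDisjoint hbc
        rw [disjoint_iff] at h1
        have h2 : v ∈ V b ⊓ V c := ⟨hb, hc⟩
        rw [h1] at h2
        exact mem_bot.1 h2
      card := h.card
      ro := fun A hA hb b => h.ffp A hA (best_iff.2 (PermB.Best.sub hb hVU)) b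
      bK := fun A hA hb => hK A hA (best_iff.2 (PermB.Best.sub hb hW))
      mv := by
        obtain ⟨A, hA, hm⟩ := h.mov
        exact ⟨A, hA.2.1.trans h.OS,
          best_of_AA hA (hUN.trans h.NO) hab (fun u hu => h.Nsq u (hUN hu)), hm⟩
      irr := by
        intro X hX hP
        by_cases h0 : X = ⊥
        · exact Or.inl h0
        · exact Or.inr (h.irr X hX hP h0).ge
      tr := h.Zcj
      z := by
        obtain ⟨z, hz, hc, hv⟩ := h.vec
        refine ⟨z, hz, fun r hr => (hc r (hRD hr)), fun b hb => hv b ?_⟩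
        exact (iSup₂_mono fun c _ => h.ZV c) hb }
  intro r hr i
  exact key.perm hr i

end

end Cfsg.Agent.Omega.NOThreeL.RWide
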