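import Cfsg.Agent.Omega.OM.SwapV.Q.LowFour
import Cfsg.Agent.Omega.OM.Lev.LowBlk
import Cfsg.Agent.Omega.OM.Lev.UniPlus
import Cfsg.Agent.Omega.OM.Lev.FixXQ
import Cfsg.Agent.Omega.NOne.LemmaT
import Cfsg.Agent.Omega.NOThreeL.RWide.Typ

/-!
# `par` of `TypT` for natural blocks over `GF(q)`, `q > 2`, at a level `n ≥ 0` (LL(q), UNI+, FIX-X)

Frame `FrL (BL S n) Q V (zc (lev S n)) (ZL S n) L W Z C A q`, `T ≥ B = BL S n` any 2-group, `1 ≠ F i ≤ Z i ∩ Ω₁(Z(T))`, `T`
Sylow in `Y_j = C_G(F l : l ≠ j)`.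

* `norm_V` : `P ≤ Y_j` minimal over `T`, `P` moves `F j` ⟹ `P ≤ N_G(V)`;
* `norm_W` : then `P` normalises all the `W i` (if `N_G(V)` permutes them);
* `parT_lev` : the field `par` of `TypT`.
-/

set_option autoImplicit false

namespace Cfsg.Agent.Omega.NOThreeL.RWide.ParLev

open Subgroup Cfsg Cfsg.Agent.ZN.ChoiceBase Cfsg.Agent.ZN.ChoiceSit
open Cfsg.Agent.ZN (jj zj bau zc zl o2)
open Cfsg.Agent.MinSimple.MinParabolic (IsMinPar)
open Cfsg.Agent.Omega.NO3S.Level (lev nxt Lev lev_isLev)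
open Cfsg.Agent.Omega.OM Cfsg.Agent.Omega.OM.Uni
open Cfsg.Agent.Omega.OM.Lev.Uni (FrL)
open Cfsg.Agent.Omega.OM.SwapL (ZL BL lb wc)

universe u v

variable {G : Type u} [Group G]

/-- `Y_j` is the centraliser of a group. -/
theorem YY_eq {ι : Type v} (F : ι → Subgroup G) (j : ι) :
    YY F j = centralizer ((⨆ l : {l // l ≠ j}, F l : Subgroup G) : Set G) := by
  apply le_antisymm
  · rw [← le_centralizer_iff]
    refine iSup_le fun l => ?_
    rw [le_centralizer_iff]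
    exact YY_le_cent l.2
  · refine centralizer_le ?_
    rintro x ⟨l, hl, hx⟩
    exact (le_iSup (fun l : {l // l ≠ j} => F l) ⟨l, hl⟩) hx

/-- `T ≤ P ≤ Y_j`, `T` Sylow in `Y_j`: `P` has characteristic 2. -/
theorem char2 [Finite G] (hG : IsCharacteristicTwoType G) {ι : Type v} {F : ι → Subgroup G} {T P : Subgroup G}
    {j l : ι} (hl : l ≠ j) (hne : F l ≠ ⊥) (hF : ∀ i, F i ≤ zc T) (syl : Syl T (YY F j)) (hTP : T ≤ P)
    (hP : P ≤ YY F j) : P ⊓ centralizer (o2 P : Set G) ≤ o2 P := by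
  set E : Subgroup G := ⨆ l : {l // l ≠ j}, F l with hE
  have hE2 : IsPGroup 2 E := syl.2.1.to_le (iSup_le fun l => (hF l).trans (zc_le T))
  have hE1 : E ≠ ⊥ := by
    intro h1
    apply hne
    rw [eq_bot_iff, ← h1]
    exact le_iSup (fun l : {l // l ≠ j} => F l) ⟨l, hl⟩
  have h1 := NOne.LemmaT.char2_centralizer hG hE2 hE1
  rw [← YY_eq] at h1
  have h2 : o2 (YY F j) ≤ o2 P :=
    le_o2 (isPGroup_o2 _) ((o2_le_syl syl).trans hTP) (hP.trans (le_normalizer_o2 _))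
  rintro x ⟨hx, hxc⟩
  exact h2 (h1 ⟨hP hx, centralizer_le (by exact_mod_cast h2) hxc⟩)

section fr

variable {ι : Type v} {B Q V X ZJ : Subgroup G} {L W Z C A : ι → Subgroup G} {q : ℕ}

/-- the elements of `Y_j` normalising `V` normalise the `W i`. -/
theorem norm_W (h : FrL B Q V X ZJ L W Z C A q) {F : ι → Subgroup G} (hF1 : ∀ i, F i ≠ ⊥) (hFZ : ∀ i, F i ≤ Z i)
    (hV : ∀ g ∈ normalizer (V : Set G), ∀ i, ∃ k, cj g (W i) = W k) {j : ι} {P : Subgroup G} (hPY : P ≤ YY F j)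
    (hPV : P ≤ normalizer (V : Set G)) : ∀ i, P ≤ normalizer (W i : Set G) := by
  have hFW : ∀ i, F i ≤ W i := fun i => (hFZ i).trans (h.blk i).ZV
  have hdis : ∀ i k, i ≠ k → ¬ F i ≤ W k := by
    intro i k hik h1
    apply hF1 i
    rw [eq_bot_iff, ← h.dir i]
    exact le_inf (hFW i) (h1.trans (h.WjC i k hik))
  have key : ∀ x ∈ P, ∀ i, i ≠ j → cj x (W i) = W i := by
    intro x hx i hi
    obtain ⟨k, hk⟩ := hV x (hPV hx) i
    have h1 : cj x (F i) = F i :=
      cj_eq_of_mem_normalizer (centralizer_le_normalizer _ (YY_le_cent hi (hPY hx)))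
    have h2 : F i ≤ W k := by
      rw [← h1, ← hk]
      exact cj_mono x (hFW i)
    by_cases hik : i = k
    · rw [hk, hik]
    · exact absurd h2 (hdis i k hik)
  intro i x hx
  rw [mem_normalizer_iff_cj]
  by_cases hi : i = j
  · subst hi
    obtain ⟨k, hk⟩ := hV x (hPV hx) i
    by_cases hik : k = i
    · rw [hk, hik]
    · exfalso
      have h1 := key x hx k hik
      have h2 : W i = W k := by
        have h3 := congrArg (cj x⁻¹) (hk.trans h1.symm)
        rwa [cj_inv_cj, cj_inv_cj] at h3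
      exact hdis i k (Ne.symm hik) ((hFW i).trans h2.le)
  · exact key x hx i hi

end fr

variable [Finite G] {ι : Type} [Finite ι] {S : Sylow 2 G} {V Q : Subgroup G} {n : ℕ}
  {L W Z C A : ι → Subgroup G} {q : ℕ}

/-- **`P ≤ N_G(V)`**. -/
theorem norm_V (hG : IsCharacteristicTwoType G)
    (h : FrL (BL (S : Subgroup G) n) Q V (zc (lev (S : Subgroup G) n)) (ZL (S : Subgroup G) n) L W Z C A q)
    (hq : 2 < q) (hn : ∀ i : ι, ∃ j, j ≠ i) {T : Subgroup G} (hB : BL (S : Subgroup G) n ≤ T)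
    {F : ι → Subgroup G} (hF1 : ∀ i, F i ≠ ⊥) (hFZ : ∀ i, F i ≤ Z i) (hFT : ∀ i, F i ≤ zc T) {j : ι}
    (syl : Syl T (YY F j)) {P : Subgroup G} (hP : IsMinPar T P) (hPY : P ≤ YY F j)
    (hPF : ¬ P ≤ centralizer (F j : Set G)) : P ≤ normalizer (V : Set G) := by
  have hT2 := syl.2.1
  have hTP : T ≤ P := hP.le
  have hT : Syl T P := ⟨hTP, hT2, fun R hR h2 hTR => syl.2.2 R (hR.trans hPY) h2 hTR⟩
  obtain ⟨l₀, hl₀⟩ := hn j
  have hc : P ⊓ centralizer (o2 P : Set G) ≤ o2 P := char2 hG hl₀ (hF1 l₀) hFT syl hTP hPY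
  have hZ : ¬ P ≤ centralizer (zc T : Set G) := fun h1 =>
    hPF (h1.trans (centralizer_le (by exact_mod_cast hFT j)))
  have hTF : T ≤ centralizer (F j : Set G) := by
    intro t ht
    rw [mem_centralizer_iff]
    intro x hx
    exact ((mem_zc.1 (hFT j hx)).2.2 t ht).symm
  by_cases h1 : lev (S : Subgroup G) (n + 1) ≤ o2 P
  · -- `K ≤ O₂(P)`
    have hPZ : P ≤ normalizer (ZL (S : Subgroup G) n : Set G) :=
      (le_normalizer_o2 P).trans ((lb S n).nrm _ (isPGroup_o2 P) h1)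
    have hFJ : F j ≤ ZL (S : Subgroup G) n := (hFZ j).trans (h.Z_le j)
    have hPC : P ≤ normalizer (centralizer (ZL (S : Subgroup G) n : Set G) : Set G) := fun x hx =>
      Dich.norm_cent (hPZ hx)
    have hN : P ≤ normalizer ((P ⊓ centralizer (ZL (S : Subgroup G) n : Set G) : Subgroup G) : Set G) := by
      intro x hx
      rw [mem_normalizer_iff_cj, cj_inf, cj_eq_of_mem_normalizer (le_normalizer hx),
        cj_eq_of_mem_normalizer (hPC hx)]
    rcases hP.sup_eq_or_inf_le (p := 2) hT2 (syl_not_dvd hT)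
      (N := P ⊓ centralizer (ZL (S : Subgroup G) n : Set G)) inf_le_left hN with h2 | h2
    · exfalso
      apply hPF
      rw [← h2]
      exact sup_le (inf_le_right.trans (centralizer_le (by exact_mod_cast hFJ))) hTF
    · have h3 : o2 P ⊓ centralizer (ZL (S : Subgroup G) n : Set G) = BL (S : Subgroup G) n := by
        apply le_antisymm
        · have h4 := (lb S n).inf_eq hT2 hB
          rw [← h4]
          exact inf_le_inf_right _ (o2_le_syl hT)
        · refine le_inf ?_ (lb S n).Bc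
          have h4 : BL (S : Subgroup G) n ≤ T ⊓ (P ⊓ centralizer (ZL (S : Subgroup G) n : Set G)) :=
            le_inf hB (le_inf (hB.trans hTP) (lb S n).Bc)
          exact h4.trans h2
      intro x hx
      have h5 : x ∈ normalizer (BL (S : Subgroup G) n : Set G) := by
        rw [mem_normalizer_iff_cj, ← h3, cj_inf, cj_eq_of_mem_normalizer (le_normalizer_o2 P hx),
          cj_eq_of_mem_normalizer (hPC hx)]
      rw [mem_normalizer_iff_cj]
      exact (SwapV.LowZ.norm h h5).1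
  · -- a block of `P`
    obtain ⟨L', V', hLP, ⟨⟨Z', q', hFB⟩, hb⟩, hsup⟩ := SwapV.LowFour.blk_four h hq hT hB hP hc h1 hZ
    have hlow : lev (S : Subgroup G) n ≤ o2 P := SwapV.LowFour.low_four h hq hT hB hP hc hZ
    have hPX : P ≤ normalizer (zc (lev (S : Subgroup G) n) : Set G) :=
      (le_normalizer_o2 P).trans ((LevD.LB.lev S n).nrm _ (isPGroup_o2 P) hlow)
    have hX : V' ≤ zc (lev (S : Subgroup G) n) := Lev.LowBlk.V_le S rfl h hFB hb.irr
    have hp : ∀ g ∈ normalizer (BL (S : Subgroup G) n : Set G), ∀ j, ∃ k, cj g (Z j) = Z k := by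
      intro g hg j
      obtain ⟨k, hk, -⟩ := (SwapV.LowZ.norm h hg).2 j
      exact ⟨k, hk⟩
    obtain ⟨rfl, i, rfl, hN, hle, hC, -⟩ := Lev.UniPlus.uniPlusX h (lb S n).Bp (wc S n) hp hFB hX
    have hij : i = j := by
      by_contra hne
      apply hF1 i
      rw [eq_bot_iff, ← h.dir i]
      refine le_inf ((hFZ i).trans (h.blk i).ZV) fun z hz => (hC z (h.Z_le i (hFZ i hz))).2 fun l hl => ?_
      exact (mem_centralizer_iff.1 (YY_le_cent hne (hPY (hLP hl))) z hz).symm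
    subst hij
    have hZl : ∀ l, l ≠ i → ∀ r ∈ L', ∀ z ∈ Z l, r * z = z * r := fun l hl r hr z hz =>
      (hC z (h.Z_le l hz)).1 (h.WjC i l hl.symm ((h.blk l).ZV hz)) r hr
    have hVV : V' ≤ V := hle.trans (sup_le (h.WV i) h.ZJV)
    have hXB : zc (lev (S : Subgroup G) n) ≤ BL (S : Subgroup G) n :=
      ((zc_le _).trans (NO3S.Level.lev_le_succ _ n)).trans (lb S n).KB
    have key : ∀ r ∈ L', ∀ k, ∀ w ∈ W k, r * w * r⁻¹ ∈ V := by
      intro r hr k w hw
      by_cases hk : k = i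
      · subst hk
        have hcomm : ∀ v ∈ V', ∀ z ∈ zc (BL (S : Subgroup G) n), v * z = z * v := fun v hv z hz =>
          (mem_zc.1 hz).2.2 v (hN.VB hv)
        have h2 : w ∈ V' ⊔ zc (BL (S : Subgroup G) n) := by
          rw [← OM.UniPlus.sup_zc_eq (Lev.UniPlus.nb h k) hN (by rw [h.zcB]; exact hle)]
          exact mem_sup_left hw
        obtain ⟨v, hv, z, hz, rfl⟩ := Cfsg.Agent.Omega.SQ1.Bau.mem_sup_comm hcomm h2
        have h3 := hFB.nV r hr v hv
        have h4 := hFB.act r hr z hz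
        have h5 : z ∈ V := h.ZJV (by rw [← h.zcB]; exact hz)
        have e : r * (v * z) * r⁻¹ = (r * v * r⁻¹) * (r * z * r⁻¹ * z⁻¹) * z := by group
        rw [e]
        exact mul_mem (mul_mem (hVV h3) (hVV h4)) h5
      · have hwX : w ∈ zc (lev (S : Subgroup G) n) := h.VX (h.WV k hw)
        refine FixXQ.fixX h hXB k ((mem_normalizer_iff.1 (hPX (hLP hr)) w).1 hwX) fun o ho => ?_
        have ho' : r⁻¹ * o * r⁻¹⁻¹ ∈ BL (S : Subgroup G) n :=
          hFB.cor r⁻¹ (inv_mem hr) o (h.QB ho) fun v hv => h.cQ ho (hVV hv)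
        rw [inv_inv] at ho'
        have h2 := (h.blk k).com _ ho' w hw
        have h3 := hZl k hk r hr _ h2
        have e : o * (r * w * r⁻¹) * o⁻¹ * (r * w * r⁻¹)⁻¹ =
            r * (r⁻¹ * o * r * w * (r⁻¹ * o * r)⁻¹ * w⁻¹) * r⁻¹ := by group
        rw [e, h3, mul_inv_cancel_right]
        exact h2
    have hLV : L' ≤ normalizer (V : Set G) := by
      intro r hr
      refine mem_normalizer_of_cj_le ?_
      conv_lhs => rw [h.V_eq]
      rw [cj, Subgroup.map_iSup]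
      refine iSup_le fun k => ?_
      rintro _ ⟨w, hw, rfl⟩
      exact key r hr k w hw
    exact hsup.trans (sup_le hLV (SwapV.LowZ.two_norm h hT2 hB))

/-- **the field `par` of `TypT`**, `q > 2`, stage `n ≥ 0`. -/
theorem parT_lev (hG : IsCharacteristicTwoType G)
    (h : FrL (BL (S : Subgroup G) n) Q V (zc (lev (S : Subgroup G) n)) (ZL (S : Subgroup G) n) L W Z C A q)
    (hq : 2 < q) (hn : ∀ i : ι, ∃ j, j ≠ i) {T : Subgroup G} (hB : BL (S : Subgroup G) n ≤ T)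
    {F : ι → Subgroup G} (hF1 : ∀ i, F i ≠ ⊥) (hFZ : ∀ i, F i ≤ Z i) (hFT : ∀ i, F i ≤ zc T)
    (hV : ∀ g ∈ normalizer (V : Set G), ∀ i, ∃ k, cj g (W i) = W k) (syl : ∀ j, Syl T (YY F j)) :
    ∀ j P, IsMinPar T P → P ≤ YY F j → P ≤ centralizer (F j : Set G) ∨ ∀ i, P ≤ normalizer (W i : Set G) := by
  intro j P hP hPY
  by_cases hPF : P ≤ centralizer (F j : Set G)
  · exact Or.inl hPF
  · exact Or.inr (norm_W h hF1 hFZ hV hPY (norm_V hG h hq hn hB hF1 hFZ hFT (syl j) hP hPY hPF))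

end Cfsg.Agent.Omega.NOThreeL.RWide.ParLev
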