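import Cfsg.Agent.Omega.NOThreeL.RWide.Typ
import Cfsg.Agent.Omega.NOne.LemmaT
import Cfsg.Agent.Omega.OM.Var.HU
import Cfsg.Agent.Omega.OM.Lev.Dich
import Cfsg.Agent.Omega.OM.SwapV.Q.NegK
import Cfsg.Agent.Omega.FF.GlobEnd

/-!
# `par` of `TypT` over `B = bau S` (stage `-1`), natural blocks over any fields, at least three blocks

Frame `Var.Bfr S Q V L W Z C A q m` (`q : ι → ℕ`), `T ≥ B` any 2-group, `1 ≠ F i ≤ Z i ∩ Ω₁(Z(T))`, `T` Sylow in
`Y_j = C_G(F l : l ≠ j)`.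

* `normB` : `K ≤ O₂(P)`: `P ≤ N_G(B)` (every level);
* `norm_V` : `P ≤ Y_j` minimal over `T`, `P` moves `F j` ⟹ `P ≤ N_G(V)`;
* `norm_W` : then `P` normalises all the `W i` (if `N_G(V)` permutes them);
* `parT_neg`, `NegQ.parT` : the field `par` of `TypT`.
-/

set_option autoImplicit false

namespace Cfsg.Agent.Omega.NOThreeL.RWide.ParNeg

open Subgroup Cfsg Cfsg.Agent.ZN.ChoiceBase Cfsg.Agent.ZN.ChoiceSit
open Cfsg.Agent.ZN (jj zj bau zc zl o2)
open Cfsg.Agent.MinSimple.MinParabolic (IsMinPar)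
open Cfsg.Agent.Omega.SQ1.Bau (mem_sup_comm elem_comm elem_sq)
open Cfsg.Agent.Omega.OM
open Cfsg.Agent.Omega.OM.LevD (LB)
open Cfsg.Agent.Omega.OM.Var (Bfr)

universe u v

variable {G : Type u} [Group G]

/-- `Y_j` is the centraliser of a group. -/
theorem YY_eq {ι : Type v} (F : ι → Subgroup G) (j : ι) :
    YY F j = centralizer ((⨆ l : {l // l ≠ j}, F l : Subgroup G) : Set G) := by
  apply le_antisymm
  · rw [← le_centralizer_iff]
    refine iSup_le fun l => ?_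
    rw [le_centralizer_iff]
    exact YY_le_cent l.2
  · refine centralizer_le ?_
    rintro x ⟨l, hl, hx⟩
    exact (le_iSup (fun l : {l // l ≠ j} => F l) ⟨l, hl⟩) hx

/-- `T ≤ P ≤ Y_j`, `T` Sylow in `Y_j`: `P` has characteristic 2. -/
theorem char2 [Finite G] (hG : IsCharacteristicTwoType G) {ι : Type v} {F : ι → Subgroup G} {T P : Subgroup G}
    {j l : ι} (hl : l ≠ j) (hne : F l ≠ ⊥) (hF : ∀ i, F i ≤ zc T) (syl : Syl T (YY F j)) (hTP : T ≤ P)
    (hP : P ≤ YY F j) : P ⊓ centralizer (o2 P : Set G) ≤ o2 P := by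
  set E : Subgroup G := ⨆ l : {l // l ≠ j}, F l with hE
  have hE2 : IsPGroup 2 E := syl.2.1.to_le (iSup_le fun l => (hF l).trans (zc_le T))
  have hE1 : E ≠ ⊥ := by
    intro h1
    apply hne
    rw [eq_bot_iff, ← h1]
    exact le_iSup (fun l : {l // l ≠ j} => F l) ⟨l, hl⟩
  have h1 := NOne.LemmaT.char2_centralizer hG hE2 hE1
  rw [← YY_eq] at h1
  have h2 : o2 (YY F j) ≤ o2 P :=
    le_o2 (isPGroup_o2 _) ((o2_le_syl syl).trans hTP) (hP.trans (le_normalizer_o2 _))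
  rintro x ⟨hx, hxc⟩
  exact h2 (h1 ⟨hP hx, centralizer_le (by exact_mod_cast h2) hxc⟩)

/-- `K ≤ O₂(P)`, `P` minimal over `T ≥ B` moves `F ≤ Z_J ∩ Ω₁(Z(T))`: `P ≤ N_G(B)` (every level). -/
theorem normB [Finite G] {S : Sylow 2 G} {K B ZJ : Subgroup G} (lb : LB S K B ZJ) {T P F : Subgroup G} (hT : Syl T P)
    (hB : B ≤ T) (hP : IsMinPar T P) (h1 : K ≤ o2 P) (hFJ : F ≤ ZJ) (hTF : T ≤ centralizer (F : Set G))
    (hPF : ¬ P ≤ centralizer (F : Set G)) : P ≤ normalizer (B : Set G) := by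
  have hT2 := hT.2.1
  have hPZ : P ≤ normalizer (ZJ : Set G) := (le_normalizer_o2 P).trans (lb.nrm _ (isPGroup_o2 P) h1)
  have hPC : P ≤ normalizer (centralizer (ZJ : Set G) : Set G) := fun x hx => Dich.norm_cent (hPZ hx)
  have hN : P ≤ normalizer ((P ⊓ centralizer (ZJ : Set G) : Subgroup G) : Set G) := by
    intro x hx
    rw [mem_normalizer_iff_cj, cj_inf, cj_eq_of_mem_normalizer (le_normalizer hx),
      cj_eq_of_mem_normalizer (hPC hx)]
  rcases hP.sup_eq_or_inf_le (p := 2) hT2 (syl_not_dvd hT) (N := P ⊓ centralizer (ZJ : Set G)) inf_le_left hN with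
    h2 | h2
  · exfalso
    apply hPF
    rw [← h2]
    exact sup_le (inf_le_right.trans (centralizer_le (by exact_mod_cast hFJ))) hTF
  · have h3 : o2 P ⊓ centralizer (ZJ : Set G) = B := by
      apply le_antisymm
      · have h4 := lb.inf_eq hT2 hB
        rw [← h4]
        exact inf_le_inf_right _ (o2_le_syl hT)
      · refine le_inf ?_ lb.Bc
        have h4 : B ≤ T ⊓ (P ⊓ centralizer (ZJ : Set G)) := le_inf hB (le_inf (hB.trans hT.1) lb.Bc)
        exact h4.trans h2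
    intro x hx
    rw [mem_normalizer_iff_cj, ← h3, cj_inf, cj_eq_of_mem_normalizer (le_normalizer_o2 P hx),
      cj_eq_of_mem_normalizer (hPC hx)]

section perm

variable {ι : Type v} {W C F : ι → Subgroup G}

/-- the elements of `Y_j` permuting the `W i` normalise the `W i`. -/
theorem norm_W (dir : ∀ i, W i ⊓ C i = ⊥) (WjC : ∀ i j, i ≠ j → W j ≤ C i) (hF1 : ∀ i, F i ≠ ⊥)
    (hFW : ∀ i, F i ≤ W i) {j : ι} {P : Subgroup G} (hPY : P ≤ YY F j)
    (hV : ∀ g ∈ P, ∀ i, ∃ k, cj g (W i) = W k) : ∀ i, P ≤ normalizer (W i : Set G) := by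
  have hdis : ∀ i k, i ≠ k → ¬ F i ≤ W k := by
    intro i k hik h1
    apply hF1 i
    rw [eq_bot_iff, ← dir i]
    exact le_inf (hFW i) (h1.trans (WjC i k hik))
  have key : ∀ x ∈ P, ∀ i, i ≠ j → cj x (W i) = W i := by
    intro x hx i hi
    obtain ⟨k, hk⟩ := hV x hx i
    have h1 : cj x (F i) = F i :=
      cj_eq_of_mem_normalizer (centralizer_le_normalizer _ (YY_le_cent hi (hPY hx)))
    have h2 : F i ≤ W k := by
      rw [← h1, ← hk]
      exact cj_mono x (hFW i)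
    by_cases hik : i = k
    · rw [hk, hik]
    · exact absurd h2 (hdis i k hik)
  intro i x hx
  rw [mem_normalizer_iff_cj]
  by_cases hi : i = j
  · subst hi
    obtain ⟨k, hk⟩ := hV x hx i
    by_cases hik : k = i
    · rw [hk, hik]
    · exfalso
      have h1 := key x hx k hik
      have h2 : W i = W k := by
        have h3 := congrArg (cj x⁻¹) (hk.trans h1.symm)
        rwa [cj_inv_cj, cj_inv_cj] at h3
      exact hdis i k (Ne.symm hik) ((hFW i).trans h2.le)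
  · exact key x hx i hi

end perm

variable [Finite G] {ι : Type v} [Finite ι] {S : Sylow 2 G} {V Q : Subgroup G} {L W Z C A : ι → Subgroup G}
  {q : ι → ℕ} {m : ℕ}

/-- **`P ≤ N_G(V)`**, stage `-1`, any fields. -/
theorem norm_V (h : Bfr S Q V L W Z C A q m) (three : ∀ i j : ι, ∃ l, l ≠ i ∧ l ≠ j) {T : Subgroup G}
    (hB : bau (S : Subgroup G) ≤ T) {F : ι → Subgroup G} (hF1 : ∀ i, F i ≠ ⊥) (hFZ : ∀ i, F i ≤ Z i)
    (hFT : ∀ i, F i ≤ zc T) {j : ι} (syl : Syl T (YY F j)) {P : Subgroup G} (hP : IsMinPar T P) (hPY : P ≤ YY F j)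
    (hPF : ¬ P ≤ centralizer (F j : Set G)) : P ≤ normalizer (V : Set G) := by
  have hT2 := syl.2.1
  have hTP : T ≤ P := hP.le
  have hT : Syl T P := ⟨hTP, hT2, fun R hR h2 hTR => syl.2.2 R (hR.trans hPY) h2 hTR⟩
  obtain ⟨l₀, hl₀, -⟩ := three j j
  have hc : P ⊓ centralizer (o2 P : Set G) ≤ o2 P := char2 h.char2 hl₀ (hF1 l₀) hFT syl hTP hPY
  have hZ : ¬ P ≤ centralizer (zc T : Set G) := fun h1 =>
    hPF (h1.trans (centralizer_le (by exact_mod_cast hFT j)))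
  have hTF : T ≤ centralizer (F j : Set G) := by
    intro t ht
    rw [mem_centralizer_iff]
    intro x hx
    exact ((mem_zc.1 (hFT j hx)).2.2 t ht).symm
  have hNB : ∀ g ∈ normalizer (bau (S : Subgroup G) : Set G), cj g V = V := fun g hg =>
    (h.fr.norm_of hg (h.com g hg)).1
  by_cases hJ : jj (S : Subgroup G) ≤ o2 P
  · intro x hx
    rw [mem_normalizer_iff_cj]
    exact hNB x (normB (LB.neg S) hT hB hP hJ ((hFZ j).trans (h.fr.Z_le j)) hTF hPF hx)
  -- a block of `P`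
  rw [← LemmaK.Main.jj_eq S hT2 hB] at hJ
  obtain ⟨L', V', hF, hLP, hsup⟩ := Var.exists_blk FF.Glob.ffthm S hT hB hP hc hJ hZ
  obtain ⟨Z', q', hFB⟩ := hF.fb
  obtain ⟨i, -, -, hN, hle, hLY, -⟩ := h.blk hFB
  have hij : i = j := by
    by_contra hne
    obtain ⟨z, hz, hz1⟩ : ∃ z ∈ F i, z ≠ 1 := by
      by_contra hcon
      push Not at hcon
      exact hF1 i ((eq_bot_iff_forall _).2 hcon)
    exact hz1 (hN.cent (hFZ i hz) fun l hl => (mem_centralizer_iff.1 (YY_le_cent hne (hPY (hLP hl))) z hz).symm)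
  subst hij
  have hZl : ∀ l, l ≠ i → ∀ r ∈ L', ∀ z ∈ Z l, r * z = z * r := fun l hl r hr z hz => h.YZ hl (hLY hr) hz
  have hVV : V' ≤ V := hle.trans (sup_le (h.fr.WV i) h.fr.ZJV)
  have hVB : V ≤ bau (S : Subgroup G) := h.fr.VQ.trans h.fr.QB
  have hsp : ∀ w ∈ W i, ∃ v ∈ V', ∃ z ∈ zc (bau (S : Subgroup G)), w = v * z := by
    intro w hw
    have hcomm : ∀ v ∈ V', ∀ z ∈ zc (bau (S : Subgroup G)), v * z = z * v := fun v hv z hz =>
      (mem_zc.1 hz).2.2 v (hN.VB hv)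
    have h2 : w ∈ V' ⊔ zc (bau (S : Subgroup G)) := by
      rw [← OM.UniPlus.sup_zc_eq (Var.nb h.fr i) hN (by rw [h.fr.zcB]; exact hle)]
      exact mem_sup_left hw
    exact mem_sup_comm hcomm h2
  have key : ∀ r ∈ L', ∀ k, ∀ w ∈ W k, r * w * r⁻¹ ∈ V := by
    intro r hr k w hw
    by_cases hk : k = i
    · subst hk
      obtain ⟨v, hv, z, hz, rfl⟩ := hsp w hw
      have h3 := hFB.nV r hr v hv
      have h4 := hFB.act r hr z hz
      have h5 : z ∈ V := h.fr.ZJV (by rw [← h.fr.zcB]; exact hz)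
      have e : r * (v * z) * r⁻¹ = (r * v * r⁻¹) * (r * z * r⁻¹ * z⁻¹) * z := by group
      rw [e]
      exact mul_mem (mul_mem (hVV h3) (hVV h4)) h5
    · have hwV := h.fr.WV k hw
      have hB1 : r * w * r⁻¹ ∈ bau (S : Subgroup G) :=
        hFB.cor r hr w (hVB hwV) fun v hv => h.fr.Vc hwV (hVV hv)
      have hQB : ∀ x ∈ bau (S : Subgroup G), (∀ v ∈ V', x * v = v * x) → r⁻¹ * x * r ∈ bau (S : Subgroup G) := by
        intro x hx hxc
        have h1 := hFB.cor r⁻¹ (inv_mem hr) x hx hxc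
        rwa [inv_inv] at h1
      have hxQ : r * w * r⁻¹ ∈ Q := by
        refine (h.fr.mem_Q _ hB1).2 fun v hv => ?_
        have h1 : (⨆ k, W k) ≤ centralizer ({r * w * r⁻¹} : Set G) := by
          refine iSup_le fun l v hv => mem_centralizer_singleton_iff.2 ?_
          by_cases hli : l = i
          · subst hli
            obtain ⟨v', hv', z, hz, rfl⟩ := hsp v hv
            have c1 : Commute (r * w * r⁻¹) v' := by
              have h2 := hFB.nV' hr hv'
              have h3 : w * (r⁻¹ * v' * r) = r⁻¹ * v' * r * w := h.fr.Vc hwV (hVV h2)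
              show r * w * r⁻¹ * v' = v' * (r * w * r⁻¹)
              calc r * w * r⁻¹ * v' = r * (w * (r⁻¹ * v' * r)) * r⁻¹ := by group
                _ = r * (r⁻¹ * v' * r * w) * r⁻¹ := by rw [h3]
                _ = v' * (r * w * r⁻¹) := by group
            have c2 : Commute (r * w * r⁻¹) z := (mem_zc.1 hz).2.2 _ hB1
            exact (c1.mul_right c2).symm.eq
          by_cases hlk : l = k
          · subst hlk
            obtain ⟨k', hk1, hk2⟩ := three i l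
            exact (h.com_three hk1 hk2 (hLY hr) hw hv).symm
          · have hvV := h.fr.WV l hv
            have h2 := (h.fr.blk l).com _ hB1 v hv
            have h3 := (h.fr.blk k).com _ (hQB v (hVB hvV) fun y hy => h.fr.Vc hvV (hVV hy)) w hw
            have h4 := hZl k hk r hr _ h3
            have e : v * (r * w * r⁻¹) * v⁻¹ * (r * w * r⁻¹)⁻¹ =
                r * (r⁻¹ * v * r * w * (r⁻¹ * v * r)⁻¹ * w⁻¹) * r⁻¹ := by group
            have h5 : v * (r * w * r⁻¹) * v⁻¹ * (r * w * r⁻¹)⁻¹ ∈ Z k := by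
              rw [e, h4, mul_inv_cancel_right]
              exact h3
            have h6 : v * (r * w * r⁻¹) * v⁻¹ * (r * w * r⁻¹)⁻¹ ∈ Z l := by
              have e2 : v * (r * w * r⁻¹) * v⁻¹ * (r * w * r⁻¹)⁻¹ =
                  (r * w * r⁻¹ * v * (r * w * r⁻¹)⁻¹ * v⁻¹)⁻¹ := by group
              rw [e2]
              exact inv_mem h2
            have h7 := h.fr.Z_inf_C h6 (h.fr.Z_le_C (Ne.symm hlk) h5)
            exact mul_inv_eq_iff_eq_mul.1 (mul_inv_eq_one.1 h7)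
        rw [h.fr.V_eq] at hv
        exact (mem_centralizer_singleton_iff.1 (h1 hv)).symm
      refine Var.fix_Z h.fr (i := k) hxQ ?_ fun y hy => ?_
      · have h1 := elem_sq h.fr.el w hwV
        have e1 : (r * w * r⁻¹) ^ 2 = r * w ^ 2 * r⁻¹ := by rw [pow_two, pow_two]; group
        rw [e1, h1]; group
      · have h3 := (h.fr.blk k).com _ (hQB y (h.fr.QB hy) fun v hv => h.fr.cQ hy (hVV hv)) w hw
        have h4 := hZl k hk r hr _ h3
        have e : y * (r * w * r⁻¹) * y⁻¹ * (r * w * r⁻¹)⁻¹ =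
            r * (r⁻¹ * y * r * w * (r⁻¹ * y * r)⁻¹ * w⁻¹) * r⁻¹ := by group
        have h5 : y * (r * w * r⁻¹) * y⁻¹ * (r * w * r⁻¹)⁻¹ ∈ Z k := by
          rw [e, h4, mul_inv_cancel_right]
          exact h3
        have e2 : r * w * r⁻¹ * y * (r * w * r⁻¹)⁻¹ * y⁻¹ = (y * (r * w * r⁻¹) * y⁻¹ * (r * w * r⁻¹)⁻¹)⁻¹ := by
          group
        rw [e2]
        exact inv_mem h5
  have hLV : L' ≤ normalizer (V : Set G) := by
    intro r hr
    refine mem_normalizer_of_cj_le ?_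
    conv_lhs => rw [h.fr.V_eq]
    rw [cj, Subgroup.map_iSup]
    refine iSup_le fun k => ?_
    rintro _ ⟨w, hw, rfl⟩
    exact key r hr k w hw
  refine hsup.trans (sup_le hLV fun t ht => ?_)
  rw [mem_normalizer_iff_cj]
  exact hNB t (Dich.two_le S hT2 hB ht)

/-- **the field `par` of `TypT`**, stage `-1`, any fields, at least three blocks. -/
theorem parT_neg (h : Bfr S Q V L W Z C A q m) (three : ∀ i j : ι, ∃ l, l ≠ i ∧ l ≠ j) {T : Subgroup G}
    (hB : bau (S : Subgroup G) ≤ T) {F : ι → Subgroup G} (hF1 : ∀ i, F i ≠ ⊥) (hFZ : ∀ i, F i ≤ Z i)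
    (hFT : ∀ i, F i ≤ zc T) (hV : ∀ g ∈ normalizer (V : Set G), ∀ i, ∃ k, cj g (W i) = W k)
    (syl : ∀ j, Syl T (YY F j)) :
    ∀ j P, IsMinPar T P → P ≤ YY F j → P ≤ centralizer (F j : Set G) ∨ ∀ i, P ≤ normalizer (W i : Set G) := by
  intro j P hP hPY
  by_cases hPF : P ≤ centralizer (F j : Set G)
  · exact Or.inl hPF
  · have h1 := norm_V h three hB hF1 hFZ hFT (syl j) hP hPY hPF
    exact Or.inr (norm_W h.fr.dir h.fr.WjC hF1 (fun i => (hFZ i).trans (h.fr.blk i).ZV) hPY fun g hg =>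
      hV g (h1 hg))

/-- **the field `par` of `TypT`** over `NegQ`, `q ≥ 4`. -/
theorem parT_negQ {ι : Type} [Finite ι] [Nonempty ι] {L W Z C A : ι → Subgroup G} {q : ℕ}
    (h : SwapV.Q.NegQ S V Q L W Z C A q) (hq : 4 ≤ q) (three : ∀ i j : ι, ∃ l, l ≠ i ∧ l ≠ j) {T : Subgroup G}
    (hB : bau (S : Subgroup G) ≤ T) {F : ι → Subgroup G} (hF1 : ∀ i, F i ≠ ⊥) (hFZ : ∀ i, F i ≤ Z i)
    (hFT : ∀ i, F i ≤ zc T) (hV : ∀ g ∈ normalizer (V : Set G), ∀ i, ∃ k, cj g (W i) = W k)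
    (syl : ∀ j, Syl T (YY F j)) :
    ∀ j P, IsMinPar T P → P ≤ YY F j → P ≤ centralizer (F j : Set G) ∨ ∀ i, P ≤ normalizer (W i : Set G) :=
  parT_neg (h.bfr hq fun i => (three i i).imp fun _ h => h.1) three hB hF1 hFZ hFT hV syl

end Cfsg.Agent.Omega.NOThreeL.RWide.ParNeg
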