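import Cfsg.Agent.Omega.NOThreeL.RWide.Coord

/-!
# LEMMA PERM (helper892, bb OMEGA #23931; card RWIDE [B]); typed by helper540

`Fr O Q B V Z A col N` : `V* = ⨆ V i` (direct), `B` acts on `V i` as the full root group with centre `Z i`, `A i ≤ O` an
elementary abelian subgroup of maximal order of `O` which induces this root group and centralises the other factors,
`Q = C_B(V*)`, `V i ≤ N (col i)`, `N a ≤ O` abelian; `fixB` : `C_{Ω₁(O)}(B) ≤ V*`.

`Mv B V Z col N x` : `x` normalises `B`, `⨆ Z`, `N a` and centralises an element of `⨆ (col i = a), Z i` with all components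
`≠ 1`.

* **`Fr.perm`** : `x` permutes the `Z i` of each colour.
-/

set_option autoImplicit false
set_option linter.unusedSectionVars false

namespace Cfsg.Agent.Omega.NOThreeL.RWide

open Subgroup Cfsg.Agent.ZN.ChoiceBase
open Cfsg.Agent.Omega.OmThm.SideBase (card_sup_comm)

variable {G : Type*} [Group G] {ι : Type*}

/-- The frame of LEMMA PERM. -/
structure Fr (O Q B : Subgroup G) (V Z A : ι → Subgroup G) (col : ι → Bool) (N : Bool → Subgroup G) : Prop where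
  sq : ∀ i, ∀ v ∈ V i, v * v = 1
  comm : ∀ i j, ∀ v ∈ V i, ∀ w ∈ V j, v * w = w * v
  ind : iSupIndep V
  ZV : ∀ i, Z i ≤ V i
  Zne : ∀ i, Z i ≠ ⊥
  card : ∀ i, Nat.card (V i) = Nat.card (Z i) ^ 2
  VO : ∀ i, V i ≤ O
  VB : ∀ i, V i ≤ B
  QB : Q ≤ B
  BQ : B ≤ normalizer (Q : Set G)
  QV : ∀ i, ∀ g ∈ Q, ∀ v ∈ V i, g * v = v * g
  memQ : ∀ g ∈ B, (∀ i, ∀ v ∈ V i, g * v = v * g) → g ∈ Q
  rt : ∀ i, Rt B (V i) (Z i)
  AO : ∀ i, A i ≤ O
  AB : ∀ i, A i ≤ B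
  Asq : ∀ i, ∀ a ∈ A i, a * a = 1
  Acomm : ∀ i, ∀ a ∈ A i, ∀ b ∈ A i, a * b = b * a
  Amax : ∀ i, ∀ E ≤ O, (∀ a ∈ E, a * a = 1) → (∀ a ∈ E, ∀ b ∈ E, a * b = b * a) → Nat.card E ≤ Nat.card (A i)
  Aoff : ∀ i j, j ≠ i → ∀ a ∈ A i, ∀ v ∈ V j, a * v = v * a
  root : ∀ i, ∀ v ∈ V i, v ∉ Z i → ∀ z ∈ Z i, ∃ a ∈ A i, a * v * a⁻¹ * v⁻¹ = z
  gen : B ≤ Q ⊔ ⨆ i, A i
  fixB : ∀ n ∈ O, n * n = 1 → (∀ b ∈ B, b * n = n * b) → n ∈ ⨆ i, V i
  VN : ∀ i, V i ≤ N (col i)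
  NO : ∀ a, N a ≤ O
  Ncomm : ∀ a, ∀ v ∈ N a, ∀ w ∈ N a, v * w = w * v
  AN : ∀ i a, A i ≤ normalizer (N a : Set G)
  ell : ∀ c, ∃ l ∈ normalizer (Q : Set G), l ∈ normalizer (N (col c) : Set G) ∧ l ∈ normalizer (V c : Set G) ∧
    (∀ i, i ≠ c → ∀ v ∈ V i, l * v = v * l) ∧ ∀ z ∈ Z c, l * z * l⁻¹ ∈ Z c → z = 1

/-- The element `x`. -/
structure Mv (B : Subgroup G) (V Z : ι → Subgroup G) (col : ι → Bool) (N : Bool → Subgroup G) (x : G) : Prop where
  nB : x ∈ normalizer (B : Set G)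
  nZ : ∀ z ∈ ⨆ i, Z i, x * z * x⁻¹ ∈ ⨆ i, Z i
  nN : ∀ a, x ∈ normalizer (N a : Set G)
  z : ∀ a, ∃ z ∈ ⨆ (i) (_ : col i = a), Z i, x * z = z * x ∧ ∀ b, col b = a → z ∉ ⨆ (i) (_ : i ≠ b), V i

namespace Fr

variable [Finite G] [Finite ι] {O Q B : Subgroup G} {V Z A : ι → Subgroup G} {col : ι → Bool}
  {N : Bool → Subgroup G}

section basic

variable (h : Fr O Q B V Z A col N)
include h

theorem one_lt (i : ι) : 1 < Nat.card (Z i) := (Subgroup.one_lt_card_iff_ne_bot _).2 (h.Zne i)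

theorem exists_not (i : ι) : ∃ v ∈ V i, v ∉ Z i := by
  by_contra hcon
  push Not at hcon
  have h1 : Nat.card (V i) ≤ Nat.card (Z i) := Subgroup.card_le_of_le hcon
  rw [h.card i] at h1
  have h2 := h.one_lt i
  nlinarith

theorem BV {i : ι} {g v : G} (hg : g ∈ B) (hv : v ∈ V i) : g * v * g⁻¹ ∈ V i := by
  have h1 := mul_mem (h.ZV i ((h.rt i).com g hg v hv)) hv
  rwa [inv_mul_cancel_right] at h1

theorem commVV : ∀ v ∈ ⨆ i, V i, ∀ w ∈ ⨆ i, V i, v * w = w * v := by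
  have h1 : ∀ i, ∀ w ∈ V i, ∀ v ∈ ⨆ i, V i, v * w = w * v := by
    intro i w hw v hv
    have h2 : (⨆ i, V i) ≤ centralizer ({w} : Set G) := iSup_le fun j u hu =>
      mem_centralizer_singleton_iff.2 (h.comm j i u hu w hw)
    exact mem_centralizer_singleton_iff.1 (h2 hv)
  intro v hv w hw
  have h2 : (⨆ i, V i) ≤ centralizer ({v} : Set G) := iSup_le fun j u hu =>
    mem_centralizer_singleton_iff.2 (h1 j u hu v hv).symm
  exact (mem_centralizer_singleton_iff.1 (h2 hw)).symm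

theorem QVV {g v : G} (hg : g ∈ Q) (hv : v ∈ ⨆ i, V i) : g * v = v * g := by
  have h2 : (⨆ i, V i) ≤ centralizer ({g} : Set G) := iSup_le fun j u hu =>
    mem_centralizer_singleton_iff.2 (h.QV j g hg u hu).symm
  exact (mem_centralizer_singleton_iff.1 (h2 hv)).symm

theorem sqVV {e : G → ι → G} (he : Co V e) : ∀ v ∈ ⨆ i, V i, v * v = 1 := fun v hv =>
  he.ext _ (mul_mem hv hv) fun c => by rw [he.mul v hv v hv, h.sq c _ (he.mem v hv c)]

theorem VVO : (⨆ i, V i) ≤ O := iSup_le h.VO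

theorem VVB : (⨆ i, V i) ≤ B := iSup_le h.VB

theorem VVQ : (⨆ i, V i) ≤ Q := iSup_le fun i v hv => h.memQ v (h.VB i hv) fun j u hu => h.comm i j v hv u hu

/-- some `a ∈ A i` moves `V i` -/
theorem exists_mover (i : ι) : ∃ a ∈ A i, ∃ v ∈ V i, a * v ≠ v * a := by
  obtain ⟨v, hv, hvZ⟩ := h.exists_not i
  obtain ⟨z, hz, hz1⟩ := (Subgroup.bot_or_exists_ne_one _).resolve_left (h.Zne i)
  obtain ⟨a, ha, e⟩ := h.root i v hv hvZ z hz
  refine ⟨a, ha, v, hv, fun h1 => hz1 ?_⟩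
  rw [← e, h1, mul_inv_cancel_right, mul_inv_cancel]

/-- `C_{V i}(A i) = Z i` -/
theorem mem_Z {i : ι} {v : G} (hv : v ∈ V i) (hc : ∀ a ∈ A i, a * v = v * a) : v ∈ Z i := by
  obtain ⟨a, ha, w, hw, hne⟩ := h.exists_mover i
  exact (h.rt i).fix a (h.AB i ha) ⟨w, hw, hne⟩ v hv (hc a ha)

theorem Aidx (i : ι) : (centralizer (V i : Set G)).relIndex (A i) ≤ Nat.card (Z i) :=
  (relIndex_le_of_le_right (H := centralizer (V i : Set G)) (h.AB i) (rne _ _)).trans (h.rt i).idx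

/-- elements of `A i` which centralise `V i` are in `Q` -/
theorem AQ {i : ι} {a : G} (ha : a ∈ A i) (hc : ∀ v ∈ V i, a * v = v * a) : a ∈ Q := by
  refine h.memQ a (h.AB i ha) fun j v hv => ?_
  by_cases hj : j = i
  · subst hj; exact hc v hv
  · exact h.Aoff i j hj a ha v hv

end basic

/-! ### (3) -/

/-- `Ω₁(Z(Q)) ∩ O` -/
def EE (O Q : Subgroup G) : Subgroup G where
  carrier := {n | n ∈ O ∧ n ∈ Q ∧ (∀ q ∈ Q, q * n = n * q) ∧ n * n = 1}
  one_mem' := ⟨one_mem _, one_mem _, fun q _ => by simp, by simp⟩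
  mul_mem' := by
    rintro n m ⟨h1, h2, h3, h4⟩ ⟨k1, k2, k3, k4⟩
    refine ⟨mul_mem h1 k1, mul_mem h2 k2, fun q hq => ?_, ?_⟩
    · rw [← mul_assoc, h3 q hq, mul_assoc, k3 q hq, mul_assoc]
    · calc n * m * (n * m) = n * (m * n) * m := by group
        _ = (n * n) * (m * m) := by rw [h3 m k2]; group
        _ = 1 := by rw [h4, k4, one_mul]
  inv_mem' := by
    rintro n ⟨h1, h2, h3, h4⟩
    refine ⟨inv_mem h1, inv_mem h2, fun q hq => ?_, ?_⟩
    · exact (show Commute q n from h3 q hq).inv_right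
    · rw [← mul_inv_rev, h4, inv_one]

section three

variable (h : Fr O Q B V Z A col N)
include h

theorem V_le_EE (i : ι) : V i ≤ EE O Q := fun v hv =>
  ⟨h.VO i hv, h.VVQ ((le_iSup V i) hv), fun q hq => h.QV i q hq v hv, h.sq i v hv⟩

theorem three_one (c : ι) {n : G} (hn : n ∈ EE O Q) : ∃ v ∈ V c, ∀ a ∈ A c, a * (n * v) = n * v * a := by
  set E := EE O Q with hE
  set EA := E ⊓ centralizer (A c : Set G) with hEA
  set C := A c ⊓ centralizer (E : Set G) with hC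
  have hEcomm : ∀ a ∈ E, ∀ b ∈ E, a * b = b * a := fun a ha b hb => hb.2.2.1 a ha.2.1
  have hEC : ∀ a ∈ E, ∀ b ∈ C, a * b = b * a := fun a ha b hb => mem_centralizer_iff.1 hb.2 a ha
  have h1 := card_sup_comm hEC
  have hmax : Nat.card ↥(E ⊔ C) ≤ Nat.card (A c) := by
    have hcen : ∀ x ∈ E ⊔ C, ∃ a ∈ E, ∃ b ∈ C, x = a * b := fun x hx =>
      OmThm.SideBase.mem_sup_comm hEC hx
    refine h.Amax c _ (sup_le (fun a ha => ha.1) (inf_le_left.trans (h.AO c))) ?_ ?_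
    · intro x hx
      obtain ⟨a, ha, b, hb, rfl⟩ := hcen x hx
      calc a * b * (a * b) = a * (b * a) * b := by group
        _ = (a * a) * (b * b) := by rw [← hEC a ha b hb]; group
        _ = 1 := by rw [ha.2.2.2, h.Asq c b hb.1, one_mul]
    · intro x hx y hy
      obtain ⟨a, ha, b, hb, rfl⟩ := hcen x hx
      obtain ⟨a', ha', b', hb', rfl⟩ := hcen y hy
      calc a * b * (a' * b') = a * (b * a') * b' := by group
        _ = (a * a') * (b * b') := by rw [← hEC a' ha' b hb]; group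
        _ = (a' * a) * (b' * b) := by rw [hEcomm a ha a' ha', h.Acomm c b hb.1 b' hb'.1]
        _ = a' * (a * b') * b := by group
        _ = a' * b' * (a * b) := by rw [hEC a ha b' hb']; group
  have h2 : Nat.card ↥(E ⊓ C) ≤ Nat.card EA := by
    refine Subgroup.card_le_of_le fun x hx => ⟨hx.1, mem_centralizer_iff.2 fun a ha => ?_⟩
    exact h.Acomm c a ha x hx.2.1
  have h3 : C.relIndex (A c) ≤ Nat.card (Z c) := by
    refine le_trans ?_ (h.Aidx c)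
    rw [← inf_relIndex_right (centralizer (V c : Set G))]
    refine relIndex_le_of_le_left ?_ (rne _ _)
    rintro a ⟨ha, haA⟩
    refine ⟨haA, mem_centralizer_iff.2 fun n hn => ?_⟩
    have haQ := h.AQ haA fun v hv => (mem_centralizer_iff.1 ha v hv).symm
    exact (hn.2.2.1 a haQ).symm
  have h4 : C.relIndex (A c) * Nat.card C = Nat.card (A c) := rmc inf_le_left
  have hVE : V c ≤ E := h.V_le_EE c
  have hVEA : ∀ a ∈ V c, ∀ b ∈ EA, a * b = b * a := fun a ha b hb => hEcomm a (hVE ha) b hb.1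
  have h5 := card_sup_comm hVEA
  have h6 : Nat.card ↥(V c ⊓ EA) ≤ Nat.card (Z c) := by
    refine Subgroup.card_le_of_le fun x hx => h.mem_Z hx.1 fun a ha => ?_
    exact mem_centralizer_iff.1 hx.2.2 a ha
  have hpos : 0 < Nat.card C := Nat.card_pos
  have h7 : Nat.card E ≤ Nat.card (Z c) * Nat.card EA := by
    have h8 : Nat.card E * Nat.card C ≤ (Nat.card (Z c) * Nat.card EA) * Nat.card C := by
      calc Nat.card E * Nat.card C = Nat.card ↥(E ⊔ C) * Nat.card ↥(E ⊓ C) := h1.symm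
        _ ≤ Nat.card (A c) * Nat.card EA := Nat.mul_le_mul hmax h2
        _ = C.relIndex (A c) * Nat.card C * Nat.card EA := by rw [h4]
        _ ≤ Nat.card (Z c) * Nat.card C * Nat.card EA := by gcongr
        _ = _ := by ring
    exact Nat.le_of_mul_le_mul_right h8 hpos
  have hZ : 0 < Nat.card (Z c) := Nat.card_pos
  have h9 : Nat.card (Z c) * Nat.card EA ≤ Nat.card ↥(V c ⊔ EA) := by
    rw [h.card c] at h5
    have h10 : (Nat.card (Z c) * Nat.card EA) * Nat.card (Z c) ≤ Nat.card ↥(V c ⊔ EA) * Nat.card (Z c) := by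
      calc (Nat.card (Z c) * Nat.card EA) * Nat.card (Z c) = Nat.card (Z c) ^ 2 * Nat.card EA := by ring
        _ = Nat.card ↥(V c ⊔ EA) * Nat.card ↥(V c ⊓ EA) := h5.symm
        _ ≤ _ := Nat.mul_le_mul_left _ h6
    exact Nat.le_of_mul_le_mul_right h10 hZ
  have h11 : V c ⊔ EA = E := Subgroup.eq_of_le_of_card_ge (sup_le hVE inf_le_left) (h7.trans h9)
  rw [← h11] at hn
  obtain ⟨v, hv, u, hu, rfl⟩ := OmThm.SideBase.mem_sup_comm hVEA hn
  refine ⟨v, hv, fun a ha => ?_⟩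
  have e : v * u * v = u := by
    rw [hVEA v hv u hu, mul_assoc, h.sq c v hv, mul_one]
  rw [e]
  exact mem_centralizer_iff.1 hu.2 a ha

/-- **(3)** : `Ω₁(Z(Q)) ∩ O ≤ V*` -/
theorem three {n : G} (hn : n ∈ EE O Q) : n ∈ ⨆ i, V i := by
  classical
  have := Fintype.ofFinite ι
  have key : ∀ s : Finset ι, ∃ v ∈ ⨆ i, V i, ∀ c ∈ s, ∀ a ∈ A c, a * (n * v) = n * v * a := by
    intro s
    induction s using Finset.induction_on with
    | empty => exact ⟨1, one_mem _, fun c hc => absurd hc (Finset.notMem_empty c)⟩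
    | insert c s hcs ih =>
      obtain ⟨v, hv, h1⟩ := ih
      have hnv : n * v ∈ EE O Q := mul_mem hn ((iSup_le h.V_le_EE) hv)
      obtain ⟨w, hw, h2⟩ := h.three_one c hnv
      refine ⟨v * w, mul_mem hv ((le_iSup V c) hw), fun d hd a ha => ?_⟩
      have e2 : n * (v * w) = n * v * w := (mul_assoc n v w).symm
      rw [e2]
      rcases Finset.mem_insert.1 hd with rfl | hd
      · exact h2 a ha
      · have hdc : c ≠ d := fun h0 => hcs (h0 ▸ hd)
        calc a * (n * v * w) = a * (n * v) * w := by group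
          _ = n * v * (a * w) := by rw [h1 d hd a ha, mul_assoc]
          _ = n * v * w * a := by rw [h.Aoff d c hdc a ha w hw]; group
  obtain ⟨v, hv, h1⟩ := key Finset.univ
  have hnv : n * v ∈ EE O Q := mul_mem hn ((iSup_le h.V_le_EE) hv)
  have h2 : B ≤ centralizer ({n * v} : Set G) := by
    refine h.gen.trans (sup_le (fun q hq => mem_centralizer_singleton_iff.2 (hnv.2.2.1 q hq)) ?_)
    exact iSup_le fun c a ha => mem_centralizer_singleton_iff.2 (h1 c (Finset.mem_univ c) a ha)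
  have h3 : n * v ∈ ⨆ i, V i :=
    h.fixB _ hnv.1 hnv.2.2.2 fun b hb => mem_centralizer_singleton_iff.1 (h2 hb)
  have e : n = n * v * v⁻¹ := by group
  rw [e]
  exact mul_mem h3 (inv_mem hv)

end three

section mv

variable (h : Fr O Q B V Z A col N) {x : G} (hx : Mv B V Z col N x)
include h hx

theorem rtx (b : ι) : Rt B (cj x (V b)) (cj x (Z b)) := (h.rt b).conj hx.nB

theorem conj_B {g : G} (hg : g ∈ B) : x * g * x⁻¹ ∈ B := (mem_normalizer_iff.1 hx.nB g).1 hg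

theorem WB (b : ι) : cj x (V b) ≤ B := fun w hw => by
  have h1 := h.conj_B hx (h.VB b (mem_cj'.1 hw))
  have e : x * (x⁻¹ * w * x) * x⁻¹ = w := by group
  rwa [e] at h1

theorem WN (b : ι) : cj x (V b) ≤ N (col b) := fun w hw => by
  have h1 := (mem_normalizer_iff.1 (hx.nN (col b)) _).1 (h.VN b (mem_cj'.1 hw))
  have e : x * (x⁻¹ * w * x) * x⁻¹ = w := by group
  rwa [e] at h1

theorem Zx_le {b : ι} : cj x (Z b) ≤ ⨆ i, Z i := fun w hw => by
  have h1 := hx.nZ _ ((le_iSup Z b) (mem_cj'.1 hw))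
  have e : x * (x⁻¹ * w * x) * x⁻¹ = w := by group
  rwa [e] at h1

/-- `[w, B] = Z b ^ x` -/
theorem rootx {b : ι} {w : G} (hw : w ∈ cj x (V b)) (hwZ : w ∉ cj x (Z b)) {z : G} (hz : z ∈ cj x (Z b)) :
    ∃ g ∈ B, g * w * g⁻¹ * w⁻¹ = z := by
  rw [mem_cj'] at hw hz hwZ
  obtain ⟨a, ha, e⟩ := h.root b _ hw hwZ _ hz
  refine ⟨x * a * x⁻¹, h.conj_B hx (h.AB b ha), ?_⟩
  calc x * a * x⁻¹ * w * (x * a * x⁻¹)⁻¹ * w⁻¹ = x * (a * (x⁻¹ * w * x) * a⁻¹ * (x⁻¹ * w * x)⁻¹) * x⁻¹ := by group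
    _ = z := by rw [e]; group

/-- **(1)** -/
theorem one {b c : ι} {w v : G} (hw : w ∈ cj x (V b)) (hv : v ∈ V c) (hne : w * v ≠ v * w) :
    cj x (Z b) = Z c := by
  apply le_antisymm
  · intro z hz
    obtain ⟨w', hw', e⟩ := (h.rtx hx b).full v (h.VB c hv) ⟨w, hw, Ne.symm hne⟩ z hz
    have h1 := inv_mem ((h.rt c).com w' (h.WB hx b hw') v hv)
    have e1 : (w' * v * w'⁻¹ * v⁻¹)⁻¹ = v * w' * v⁻¹ * w'⁻¹ := by group
    rwa [e1, e] at h1
  · intro z hz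
    obtain ⟨v', hv', e⟩ := (h.rt c).full w (h.WB hx b hw) ⟨v, hv, hne⟩ z hz
    have h1 := inv_mem ((h.rtx hx b).com v' (h.VB c hv') w hw)
    have e1 : (v' * w * v'⁻¹ * w⁻¹)⁻¹ = w * v' * w⁻¹ * v'⁻¹ := by group
    rwa [e1, e] at h1

/-- **(2)** -/
theorem two {b : ι} (hW : cj x (V b) ≤ ⨆ i, V i) : ∃ c, cj x (Z b) = Z c := by
  obtain ⟨e, he⟩ := exists_co h.comm h.ind
  obtain ⟨n, hn, hnZ⟩ := h.exists_not b
  set n' := x * n * x⁻¹ with hn'
  have hnW : n' ∈ cj x (V b) := conj_mem_cj hn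
  have hn'Z : n' ∉ cj x (Z b) := by
    rw [mem_cj', hn']
    have e1 : x⁻¹ * (x * n * x⁻¹) * x = n := by group
    rwa [e1]
  have hBV : ∀ g ∈ B, ∀ i, ∀ v ∈ V i, g * v * g⁻¹ ∈ V i := fun g hg i v hv => h.BV hg hv
  obtain ⟨z₀, hz₀, hz₀1⟩ : ∃ z ∈ cj x (Z b), z ≠ 1 := by
    obtain ⟨z, hz, hz1⟩ := (Subgroup.bot_or_exists_ne_one _).resolve_left (h.Zne b)
    refine ⟨x * z * x⁻¹, conj_mem_cj hz, fun h0 => hz1 ?_⟩
    calc z = x⁻¹ * (x * z * x⁻¹) * x := by group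
      _ = 1 := by rw [h0]; group
  obtain ⟨c, hc⟩ : ∃ c, e n' c ∉ Z c := by
    by_contra hcon
    push Not at hcon
    obtain ⟨g, hg, e1⟩ := h.rootx hx hnW hn'Z hz₀
    have h1 := he.comm_of (hBV g hg) (hW hnW) fun c => (h.rt c).cen g hg _ (hcon c)
    rw [h1, mul_inv_cancel_right, mul_inv_cancel] at e1
    exact hz₀1 e1.symm
  have hZc : Z c ≤ cj x (Z b) := by
    intro z hz
    obtain ⟨a, ha, e1⟩ := h.root c (e n' c) (he.mem n' (hW hnW) c) hc z hz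
    have haB := h.AB c ha
    have h1 := (h.rtx hx b).com a haB n' hnW
    have h2 : a * n' * a⁻¹ * n'⁻¹ = z := by
      refine he.ext' (he.e_comm (hBV a haB) (hW hnW) c).1 ((le_iSup V c) (h.ZV c hz)) fun i => ?_
      rw [(he.e_comm (hBV a haB) (hW hnW) i).2]
      by_cases hi : i = c
      · subst hi
        rw [e1, he.self _ _ (h.ZV _ hz)]
      · rw [h.Aoff c i hi a ha _ (he.mem n' (hW hnW) i), mul_inv_cancel_right, mul_inv_cancel,
          he.off c z (h.ZV c hz) i hi]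
    rwa [h2] at h1
  obtain ⟨z₁, hz₁, hz₁1⟩ := (Subgroup.bot_or_exists_ne_one _).resolve_left (h.Zne c)
  have hker : ∀ w ∈ cj x (V b), e w c ∈ Z c → w ∈ cj x (Z b) := by
    intro w hw hwc
    by_contra hwZ
    obtain ⟨g, hg, e1⟩ := h.rootx hx hw hwZ (hZc hz₁)
    have h1 := (he.e_comm (hBV g hg) (hW hw) c).2
    rw [e1, (h.rt c).cen g hg _ hwc, mul_inv_cancel_right, mul_inv_cancel, he.self c z₁ (h.ZV c hz₁)] at h1
    exact hz₁1 h1
  refine ⟨c, (Subgroup.eq_of_le_of_card_ge hZc ?_).symm⟩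
  -- `|Z b| ≤ |Z c|`
  let φ : ↥(cj x (V b)) →* G :=
    { toFun := fun w => e w c
      map_one' := he.one c
      map_mul' := fun w w' => he.mul _ (hW w.2) _ (hW w'.2) c }
  have h1 : (Z c).comap φ ≤ (cj x (Z b)).subgroupOf (cj x (V b)) := fun w hw =>
    mem_subgroupOf.2 (hker w w.2 hw)
  have h2 : ((cj x (Z b)).subgroupOf (cj x (V b))).index ≤ ((Z c).comap φ).index :=
    index_antitone h1
  rw [index_comap] at h2
  have h3 : (Z c).relIndex φ.range ≤ (Z c).relIndex (V c) := by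
    refine relIndex_le_of_le_right ?_ (rne _ _)
    rintro _ ⟨w, rfl⟩
    exact he.mem _ (hW w.2) c
  have h4 : (Z c).relIndex (V c) * Nat.card (Z c) = Nat.card (V c) := rmc (h.ZV c)
  have h5 : (cj x (Z b)).relIndex (cj x (V b)) * Nat.card ↥(cj x (Z b)) = Nat.card ↥(cj x (V b)) :=
    rmc (cj_mono x (h.ZV b))
  rw [card_cj, card_cj, h.card b] at h5
  rw [h.card c] at h4
  have hb := h.one_lt b
  have hc' := h.one_lt c
  have h6 : (Z c).relIndex (V c) = Nat.card (Z c) := by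
    have : (Z c).relIndex (V c) * Nat.card (Z c) = Nat.card (Z c) * Nat.card (Z c) := by rw [h4]; ring
    exact Nat.eq_of_mul_eq_mul_right (by omega) this
  have h7 : (cj x (Z b)).relIndex (cj x (V b)) = Nat.card (Z b) := by
    have : (cj x (Z b)).relIndex (cj x (V b)) * Nat.card (Z b) = Nat.card (Z b) * Nat.card (Z b) := by
      rw [h5]; ring
    exact Nat.eq_of_mul_eq_mul_right (by omega) this
  rw [card_cj]
  have h8 : (cj x (Z b)).relIndex (cj x (V b)) ≤ Nat.card (Z c) := by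
    rw [← h6]
    exact le_trans h2 h3
  rwa [h7] at h8

/-- `D ≤ C(a)`, `a ∈ A c` moves `V c`: `|V* : V* ∩ D| ≥ |Z c|` -/
theorem VV_idx {c : ι} {a : G} (ha : a ∈ A c) (hmv : ∃ v ∈ V c, a * v ≠ v * a) {D : Subgroup G}
    (hD : ∀ d ∈ D, a * d = d * a) : Nat.card (Z c) ≤ D.relIndex (⨆ i, V i) := by
  have _ := hx
  have h1 : D.relIndex (V c) ≤ D.relIndex (⨆ i, V i) := relIndex_le_of_le_right (le_iSup V c) (rne _ _)
  refine le_trans ?_ h1
  have h2 : D.relIndex (V c) * Nat.card ↥(D ⊓ V c) = Nat.card (V c) := by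
    rw [← inf_relIndex_right]
    exact rmc inf_le_right
  have h3 : Nat.card ↥(D ⊓ V c) ≤ Nat.card (Z c) := by
    refine Subgroup.card_le_of_le fun d hd => ?_
    exact (h.rt c).fix a (h.AB c ha) hmv d hd.2 (hD d hd.1)
  rw [h.card c] at h2
  have hc := h.one_lt c
  have h4 : Nat.card (Z c) * Nat.card (Z c) ≤ D.relIndex (V c) * Nat.card (Z c) := by
    calc Nat.card (Z c) * Nat.card (Z c) = Nat.card (Z c) ^ 2 := by ring
      _ = D.relIndex (V c) * Nat.card ↥(D ⊓ V c) := h2.symm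
      _ ≤ _ := Nat.mul_le_mul_left _ h3
  exact Nat.le_of_mul_le_mul_right h4 (by omega)

end mv

end Fr

section sup

variable {A B : Subgroup G}

theorem comm_sup (hA : ∀ a ∈ A, ∀ a' ∈ A, a * a' = a' * a) (hB : ∀ a ∈ B, ∀ a' ∈ B, a * a' = a' * a)
    (hAB : ∀ a ∈ A, ∀ b ∈ B, a * b = b * a) : ∀ a ∈ A ⊔ B, ∀ b ∈ A ⊔ B, a * b = b * a := by
  intro x hx y hy
  obtain ⟨a, ha, b, hb, rfl⟩ := OmThm.SideBase.mem_sup_comm hAB hx
  obtain ⟨a', ha', b', hb', rfl⟩ := OmThm.SideBase.mem_sup_comm hAB hy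
  calc a * b * (a' * b') = a * (b * a') * b' := by group
    _ = (a * a') * (b * b') := by rw [← hAB a' ha' b hb]; group
    _ = (a' * a) * (b' * b) := by rw [hA a ha a' ha', hB b hb b' hb']
    _ = a' * (a * b') * b := by group
    _ = a' * b' * (a * b) := by rw [hAB a ha b' hb']; group

theorem sq_sup (hA : ∀ a ∈ A, a * a = 1) (hB : ∀ a ∈ B, a * a = 1)
    (hAB : ∀ a ∈ A, ∀ b ∈ B, a * b = b * a) : ∀ a ∈ A ⊔ B, a * a = 1 := by
  intro x hx
  obtain ⟨a, ha, b, hb, rfl⟩ := OmThm.SideBase.mem_sup_comm hAB hx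
  calc a * b * (a * b) = a * (b * a) * b := by group
    _ = (a * a) * (b * b) := by rw [← hAB a ha b hb]; group
    _ = 1 := by rw [hA a ha, hB b hb, one_mul]

theorem comm_sup_right {C : Subgroup G} (hA : ∀ c ∈ C, ∀ a ∈ A, c * a = a * c)
    (hB : ∀ c ∈ C, ∀ b ∈ B, c * b = b * c) : ∀ c ∈ C, ∀ x ∈ A ⊔ B, c * x = x * c := by
  intro c hc x hx
  have h1 : A ⊔ B ≤ centralizer ({c} : Set G) :=
    sup_le (fun a ha => mem_centralizer_singleton_iff.2 (hA c hc a ha).symm)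
      fun b hb => mem_centralizer_singleton_iff.2 (hB c hc b hb).symm
  exact (mem_centralizer_singleton_iff.1 (h1 hx)).symm

end sup

namespace Fr

variable [Finite G] [Finite ι] {O Q B : Subgroup G} {V Z A : ι → Subgroup G} {col : ι → Bool}
  {N : Bool → Subgroup G}

/-- **(4)** -/
theorem four (h : Fr O Q B V Z A col N) {x : G} (hx : Mv B V Z col N x) {e : G → ι → G} (he : Co V e) {b c : ι}
    (hcol : col c = col b) (hWc : ∀ w ∈ cj x (V b), ∀ i, ∀ v ∈ V i, w * v = v * w) {z' : G}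
    (hz' : z' ∈ cj x (Z b)) (hz'c : e z' c ≠ 1) : cj x (V b) ≤ ⨆ i, V i := by
  obtain ⟨l, hlQ, hlN, hlV, hloff, hlZ⟩ := h.ell c
  obtain ⟨a, ha, hau⟩ := h.exists_mover c
  have haB := h.AB c ha
  have haQ : a ∈ normalizer (Q : Set G) := h.BQ haB
  have haact : ∀ i, ∀ v ∈ V i, a * v * a⁻¹ ∈ V i := fun i v hv => h.BV haB hv
  have hlact : ∀ i, ∀ v ∈ V i, l * v * l⁻¹ ∈ V i := by
    intro i v hv
    by_cases hi : i = c
    · subst hi; exact (mem_normalizer_iff.1 hlV v).1 hv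
    · rw [hloff i hi v hv, mul_inv_cancel_right]; exact hv
  set W := cj l (cj x (V b)) with hW
  set ZW := cj l (cj x (Z b)) with hZW
  set Wa := cj a W with hWa
  set ZWa := cj a ZW with hZWa
  have hW'Q : cj x (V b) ≤ Q := fun w hw => h.memQ w (h.WB hx b hw) (hWc w hw)
  have hWQ : W ≤ Q := by
    have := cj_mono l hW'Q
    rwa [cj_eq_of_mem_normalizer hlQ] at this
  have hWaQ : Wa ≤ Q := by
    have := cj_mono a hWQ
    rwa [cj_eq_of_mem_normalizer haQ] at this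
  have rW : Rt Q W ZW := ((h.rtx hx b).mono h.QB).conj hlQ
  have rWa : Rt Q Wa ZWa := rW.conj haQ
  rw [hcol] at hlN
  have hlN' : cj l (N (col b)) = N (col b) := cj_eq_of_mem_normalizer hlN
  have haN' : cj a (N (col b)) = N (col b) := cj_eq_of_mem_normalizer (h.AN c (col b) ha)
  have hWN : W ≤ N (col b) := (cj_mono l (h.WN hx b)).trans hlN'.le
  have hWaN : Wa ≤ N (col b) := (cj_mono a hWN).trans haN'.le
  have hZWW : ZW ≤ W := cj_mono l (cj_mono x (h.ZV b))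
  -- the components of the elements of `ZW`
  have hZ' : ∀ z ∈ cj x (Z b), z ∈ ⨆ i, V i ∧ ∀ i, e z i ∈ Z i := fun z hz =>
    he.mem_of_sup h.ZV (h.Zx_le hx hz)
  have hcomp : ∀ y ∈ ZW, y ∈ ⨆ i, V i ∧ (∃ z ∈ Z c, e y c = l * z * l⁻¹) := by
    intro y hy
    have h1 := hZ' _ (mem_cj'.1 hy)
    have h2 := he.conj hlact h1.1
    have e1 : l * (l⁻¹ * y * l) * l⁻¹ = y := by group
    rw [e1] at h2
    exact ⟨h2.1, _, h1.2 c, h2.2 c⟩
  -- claim A
  have hA : ∀ y ∈ ZW, y ∈ ZWa → e y c = 1 := by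
    intro y hy hya
    obtain ⟨hyV, z₁, hz₁, e₁⟩ := hcomp y hy
    obtain ⟨hyV₂, z₂, hz₂, e₂⟩ := hcomp _ (mem_cj'.1 hya)
    have h2 := (he.conj haact hyV₂).2 c
    have e3 : a * (a⁻¹ * y * a) * a⁻¹ = y := by group
    rw [e3, e₂] at h2
    set u := l * z₂ * l⁻¹ with hu
    have huV : u ∈ V c := hlact c _ (h.ZV c hz₂)
    have h3 : a * u * a⁻¹ * u⁻¹ = l * (z₁ * z₂⁻¹) * l⁻¹ := by
      rw [← h2, e₁, hu]; group
    have h4 : z₁ * z₂⁻¹ = 1 := hlZ _ (mul_mem hz₁ (inv_mem hz₂)) (by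
      rw [← h3]; exact (h.rt c).com a haB u huV)
    rw [h4, mul_one, mul_inv_cancel] at h3
    have h5 : a * u = u * a := mul_inv_eq_iff_eq_mul.1 (mul_inv_eq_one.1 h3)
    have h6 : u ∈ Z c := (h.rt c).fix a haB hau u huV h5
    have h7 : z₂ = 1 := hlZ _ hz₂ h6
    rw [h2, hu, h7]; group
  set A₀ := A c ⊓ centralizer (V c : Set G) with hA₀
  have hA₀Q : A₀ ≤ Q := fun g hg => h.AQ hg.1 fun v hv => (mem_centralizer_iff.1 hg.2 v hv).symm
  have haA₀ : ∀ g ∈ A₀, a * g = g * a := fun g hg => h.Acomm c a ha g hg.1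
  have hcard : Nat.card (A c) ≤ Nat.card (Z c) * Nat.card A₀ := by
    have h1 : A₀.relIndex (A c) * Nat.card A₀ = Nat.card (A c) := rmc inf_le_left
    have h2 : A₀.relIndex (A c) ≤ Nat.card (Z c) := by
      rw [hA₀, inf_comm, inf_relIndex_right]
      exact h.Aidx c
    rw [← h1]
    exact Nat.mul_le_mul_right _ h2
  have hζ : l * z' * l⁻¹ ∈ ZW := conj_mem_cj hz'
  have hζV := he.conj hlact (hZ' z' hz').1
  have hWsq : ∀ w ∈ W, w * w = 1 := by
    intro w hw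
    have h1 := h.sq b _ (mem_cj'.1 (mem_cj'.1 hw))
    calc w * w = l * (x * ((x⁻¹ * (l⁻¹ * w * l) * x) * (x⁻¹ * (l⁻¹ * w * l) * x)) * x⁻¹) * l⁻¹ := by group
      _ = 1 := by rw [h1]; group
  have hWcomm : ∀ w ∈ W, ∀ w' ∈ W, w * w' = w' * w := fun w hw w' hw' => h.Ncomm _ w (hWN hw) w' (hWN hw')
  have hA₀VV : ∀ g ∈ A₀, ∀ v ∈ ⨆ i, V i, g * v = v * g := fun g hg v hv => h.QVV (hA₀Q hg) hv
  have hWVV : ∀ g ∈ W, ∀ v ∈ ⨆ i, V i, g * v = v * g := fun g hg v hv => h.QVV (hWQ hg) hv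
  have hA₀comm : ∀ g ∈ A₀, ∀ g' ∈ A₀, g * g' = g' * g := fun g hg g' hg' => h.Acomm c g hg.1 g' hg'.1
  have hA₀O : A₀ ≤ O := inf_le_left.trans (h.AO c)
  have hWO : W ≤ O := hWN.trans (h.NO _)
  by_cases hmv : ∃ e₀ ∈ A₀, ∃ y₀ ∈ W, e₀ * y₀ ≠ y₀ * e₀
  · -- (a)
    exfalso
    obtain ⟨e₀, he₀, y₀, hy₀, hne⟩ := hmv
    obtain ⟨y, hy, hyζ⟩ := rW.full e₀ (hA₀Q he₀) ⟨y₀, hy₀, hne⟩ _ hζ
    set ζ := l * z' * l⁻¹ with hζdef
    set η := ζ * (a * ζ * a⁻¹) with hη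
    have haζV := he.conj haact hζV.1
    have hηV : η ∈ ⨆ i, V i := mul_mem hζV.1 haζV.1
    have hy' : e₀ * (y * (a * y * a⁻¹)) * e₀⁻¹ * (y * (a * y * a⁻¹))⁻¹ = η := by
      have h1 : e₀ * y = ζ * y * e₀ := by rw [← hyζ]; group
      have h2 : e₀ * (a * y * a⁻¹) = a * ζ * a⁻¹ * (a * y * a⁻¹) * e₀ := by
        have h3 : e₀ * a = a * e₀ := (haA₀ e₀ he₀).symm
        have h4 : e₀ * a⁻¹ = a⁻¹ * e₀ := (show Commute e₀ a from h3).inv_right
        calc e₀ * (a * y * a⁻¹) = (e₀ * a) * y * a⁻¹ := by group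
          _ = a * (e₀ * y) * a⁻¹ := by rw [h3]; group
          _ = a * ζ * y * (e₀ * a⁻¹) := by rw [h1]; group
          _ = _ := by rw [h4]; group
      have h5 : y * (a * ζ * a⁻¹) = a * ζ * a⁻¹ * y := hWVV y hy _ haζV.1
      have h6 : e₀ * (y * (a * y * a⁻¹)) = η * (y * (a * y * a⁻¹)) * e₀ := by
        calc e₀ * (y * (a * y * a⁻¹)) = (e₀ * y) * (a * y * a⁻¹) := by group
          _ = ζ * y * (e₀ * (a * y * a⁻¹)) := by rw [h1]; group
          _ = ζ * (y * (a * ζ * a⁻¹)) * (a * y * a⁻¹) * e₀ := by rw [h2]; group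
          _ = _ := by rw [h5, hη]; group
      rw [h6]; group
    -- `η ∈ Z c`
    obtain ⟨-, z₁, hz₁, e₁⟩ := hcomp ζ hζ
    have hζc : e ζ c ∈ V c := he.mem ζ hζV.1 c
    have hηc : e η c = e ζ c * (a * e ζ c * a⁻¹) := by
      rw [hη, he.mul _ hζV.1 _ haζV.1, haζV.2]
    have hηc' : e η c = a * e ζ c * a⁻¹ * (e ζ c)⁻¹ := by
      have h1 : (e ζ c)⁻¹ = e ζ c := inv_eq_of_mul_eq_one_left (h.sq c _ hζc)
      rw [hηc, h1, h.comm c c _ hζc _ (haact c _ hζc)]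
    have hηZ : e η c ∈ Z c := by rw [hηc']; exact (h.rt c).com a haB _ hζc
    have hηe : η = e η c := by
      refine he.ext' hηV ((le_iSup V c) (h.ZV c hηZ)) fun i => ?_
      by_cases hi : i = c
      · rw [hi, he.self c _ (h.ZV c hηZ)]
      · rw [he.off c _ (h.ZV c hηZ) i hi, hη, he.mul _ hζV.1 _ haζV.1, haζV.2,
          h.Aoff c i hi a ha _ (he.mem ζ hζV.1 i), mul_inv_cancel_right, h.sq i _ (he.mem ζ hζV.1 i)]
    have hη1 : η ≠ 1 := by
      intro h0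
      rw [h0, he.one] at hηc'
      have h1 : a * e ζ c = e ζ c * a := mul_inv_eq_iff_eq_mul.1 (mul_inv_eq_one.1 hηc'.symm)
      have h2 := (h.rt c).fix a haB hau _ hζc h1
      rw [e₁] at h2
      have h3 := hlZ _ hz₁ h2
      have h4 := hζV.2 c
      rw [e₁, h3] at h4
      apply hz'c
      calc e z' c = l⁻¹ * (l * e z' c * l⁻¹) * l := by group
        _ = 1 := by rw [← h4]; group
    -- the groups
    set X := (W ⊔ Wa) ⊔ ⨆ i, V i with hX
    have hWaVV : ∀ g ∈ Wa, ∀ v ∈ ⨆ i, V i, g * v = v * g := fun g hg v hv => h.QVV (hWaQ hg) hv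
    have hWWa : ∀ g ∈ W, ∀ g' ∈ Wa, g * g' = g' * g := fun g hg g' hg' => h.Ncomm _ g (hWN hg) g' (hWaN hg')
    have hWaWa : ∀ g ∈ Wa, ∀ g' ∈ Wa, g * g' = g' * g := fun g hg g' hg' => h.Ncomm _ g (hWaN hg) g' (hWaN hg')
    have hWW : ∀ g ∈ W ⊔ Wa, ∀ g' ∈ W ⊔ Wa, g * g' = g' * g := comm_sup hWcomm hWaWa hWWa
    have hWWVV : ∀ g ∈ W ⊔ Wa, ∀ v ∈ ⨆ i, V i, g * v = v * g := fun g hg v hv =>
      (comm_sup_right (fun c hc a ha => (hWVV a ha c hc).symm) (fun c hc a ha => (hWaVV a ha c hc).symm) v hv g hg).symm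
    have hXcomm : ∀ g ∈ X, ∀ g' ∈ X, g * g' = g' * g := comm_sup hWW h.commVV hWWVV
    have hWasq : ∀ w ∈ Wa, w * w = 1 := by
      intro w hw
      have h1 := hWsq _ (mem_cj'.1 hw)
      calc w * w = a * ((a⁻¹ * w * a) * (a⁻¹ * w * a)) * a⁻¹ := by group
        _ = 1 := by rw [h1]; group
    have hXsq : ∀ g ∈ X, g * g = 1 := sq_sup (sq_sup hWsq hWasq hWWa) (h.sqVV he) hWWVV
    have hXO : X ≤ O := sup_le (sup_le hWO (hWaN.trans (h.NO _))) h.VVO
    have hWX : W ≤ X := le_sup_left.trans le_sup_left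
    have hVX : (⨆ i, V i) ≤ X := le_sup_right
    have hyX : y * (a * y * a⁻¹) ∈ X := mul_mem (hWX hy) ((le_sup_right.trans le_sup_left : Wa ≤ X) (conj_mem_cj hy))
    set C := X ⊓ centralizer (A₀ : Set G) with hC
    have hCcomm : ∀ g ∈ C, ∀ g' ∈ W, g * g' = g' * g := fun g hg g' hg' => hXcomm g hg.1 g' (hWX hg')
    have hyn : y * (a * y * a⁻¹) ∉ C ⊔ W := by
      intro hmem
      obtain ⟨u, hu, w, hw, e2⟩ := OmThm.SideBase.mem_sup_comm hCcomm hmem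
      have hue : e₀ * u = u * e₀ := mem_centralizer_iff.1 hu.2 e₀ he₀
      have h1 : η = e₀ * w * e₀⁻¹ * w⁻¹ := by
        rw [← hy', e2]
        have h2 : u * (e₀ * w * e₀⁻¹) = e₀ * w * e₀⁻¹ * u := by
          have h3 : e₀ * w * e₀⁻¹ = (e₀ * w * e₀⁻¹ * w⁻¹) * w := by group
          have h4 : e₀ * w * e₀⁻¹ ∈ X := by
            rw [h3]; exact mul_mem (hWX (hZWW (rW.com e₀ (hA₀Q he₀) w hw))) (hWX hw)
          exact hXcomm u hu.1 _ h4
        calc e₀ * (u * w) * e₀⁻¹ * (u * w)⁻¹ = (e₀ * u) * w * e₀⁻¹ * w⁻¹ * u⁻¹ := by group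
          _ = u * (e₀ * w * e₀⁻¹) * w⁻¹ * u⁻¹ := by rw [hue]; group
          _ = e₀ * w * e₀⁻¹ * (u * w⁻¹) * u⁻¹ := by rw [h2]; group
          _ = e₀ * w * e₀⁻¹ * w⁻¹ := by
            rw [(show Commute u w from hCcomm u hu w hw).inv_right.eq]; group
      have h5 : η ∈ ZW := by rw [h1]; exact rW.com e₀ (hA₀Q he₀) w hw
      obtain ⟨-, z₂, hz₂, e₂⟩ := hcomp η h5
      rw [e₂] at hηZ
      have h6 := hlZ _ hz₂ hηZ
      rw [h6, mul_one, mul_inv_cancel] at e₂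
      rw [e₂] at hηe
      exact hη1 hηe
    have hCX : C ⊔ W ≤ X := sup_le inf_le_left hWX
    have hqb := h.one_lt b
    have hqc := h.one_lt c
    -- (i)
    have i1 : Nat.card (Z b) ≤ C.relIndex (C ⊔ W) := by
      rw [rel_sup hCcomm]
      have h1 : C.relIndex W * Nat.card ↥(C ⊓ W) = Nat.card W := by
        rw [← inf_relIndex_right]
        exact rmc inf_le_right
      have h2 : Nat.card ↥(C ⊓ W) ≤ Nat.card (Z b) := by
        have h3 : C ⊓ W ≤ ZW := fun w hw =>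
          rW.fix e₀ (hA₀Q he₀) ⟨y₀, hy₀, hne⟩ w hw.2 (mem_centralizer_iff.1 hw.1.2 e₀ he₀)
        have h4 := Subgroup.card_le_of_le h3
        rwa [hZW, card_cj, card_cj] at h4
      rw [hW, card_cj, card_cj, h.card b] at h1
      have h5 : Nat.card (Z b) * Nat.card (Z b) ≤ C.relIndex W * Nat.card (Z b) := by
        calc Nat.card (Z b) * Nat.card (Z b) = Nat.card (Z b) ^ 2 := by ring
          _ = C.relIndex W * Nat.card ↥(C ⊓ W) := h1.symm
          _ ≤ _ := Nat.mul_le_mul_left _ h2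
      exact Nat.le_of_mul_le_mul_right h5 (by omega)
    -- (ii)
    have i2 : 2 ≤ (C ⊔ W).relIndex X := by
      have h1 : (C ⊔ W).relIndex X ≠ 0 := rne _ _
      have h2 : (C ⊔ W).relIndex X ≠ 1 := fun h3 => hyn (relIndex_eq_one.1 h3 hyX)
      omega
    -- (iii)
    set D := A₀ ⊓ X with hD
    have hDC : D ≤ C := fun d hd => ⟨hd.2, mem_centralizer_iff.2 fun g hg => hA₀comm g hg d hd.1⟩
    have hVC : (⨆ i, V i) ≤ C := fun v hv => ⟨hVX hv, mem_centralizer_iff.2 fun g hg => hA₀VV g hg v hv⟩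
    have i3 : Nat.card (Z c) ≤ D.relIndex C :=
      (h.VV_idx (D := D) hx ha hau fun d hd => haA₀ d hd.1).trans (relIndex_le_of_le_right hVC (rne _ _))
    have i4 : D.relIndex X = D.relIndex C * C.relIndex (C ⊔ W) * (C ⊔ W).relIndex X := by
      rw [relIndex_mul_relIndex D C (C ⊔ W) hDC le_sup_left,
        relIndex_mul_relIndex D (C ⊔ W) X (hDC.trans le_sup_left) hCX]
    -- (iv)
    set A₁ := A₀ ⊓ centralizer (W : Set G) with hA₁
    have hA₁W : ∀ g ∈ A₁, ∀ w ∈ W, g * w = w * g := fun g hg w hw => (mem_centralizer_iff.1 hg.2 w hw).symm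
    have hA₁Wa : ∀ g ∈ A₁, ∀ w ∈ Wa, g * w = w * g := by
      intro g hg w hw
      have h1 := hA₁W g hg _ (mem_cj'.1 hw)
      have h2 : a * g = g * a := haA₀ g hg.1
      calc g * w = (g * a) * (a⁻¹ * w * a) * a⁻¹ := by group
        _ = a * (g * (a⁻¹ * w * a)) * a⁻¹ := by rw [← h2]; group
        _ = w * (a * g) * a⁻¹ := by rw [h1]; group
        _ = w * g := by rw [h2]; group
    have hA₁X : ∀ g ∈ A₁, ∀ w ∈ X, g * w = w * g :=
      comm_sup_right (comm_sup_right hA₁W hA₁Wa) fun g hg v hv => hA₀VV g hg.1 v hv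
    have i5 : Nat.card ↥(A₁ ⊔ X) ≤ Nat.card (A c) := by
      refine h.Amax c _ (sup_le (inf_le_left.trans hA₀O) hXO) ?_ ?_
      · exact sq_sup (fun g hg => h.Asq c g hg.1.1) hXsq hA₁X
      · exact comm_sup (fun g hg g' hg' => hA₀comm g hg.1 g' hg'.1) hXcomm hA₁X
    have i6 : D.relIndex X ≤ A₁.relIndex (A₁ ⊔ X) := by
      rw [rel_sup hA₁X, ← inf_relIndex_right A₁ X]
      exact relIndex_le_of_le_left (fun g hg => ⟨hg.1.1, hg.2⟩) (rne _ _)
    have i7 : A₁.relIndex (A₁ ⊔ X) * Nat.card A₁ = Nat.card ↥(A₁ ⊔ X) := rmc le_sup_left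
    have i8 : Nat.card A₀ ≤ Nat.card (Z b) * Nat.card A₁ := by
      have h1 : A₁.relIndex A₀ * Nat.card A₁ = Nat.card A₀ := rmc inf_le_left
      have h2 : A₁.relIndex A₀ ≤ Nat.card (Z b) := by
        rw [hA₁, inf_comm, inf_relIndex_right]
        have h3 := (relIndex_le_of_le_right (H := centralizer (W : Set G)) hA₀Q (rne _ _)).trans rW.idx
        rwa [hZW, card_cj, card_cj] at h3
      rw [← h1]
      exact Nat.mul_le_mul_right _ h2
    have hA₁pos : 0 < Nat.card A₁ := Nat.card_pos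
    have hApos : 0 < Nat.card (A c) := Nat.card_pos
    have i9 : 2 * Nat.card (A c) ≤ Nat.card (A c) := by
      calc 2 * Nat.card (A c) ≤ 2 * (Nat.card (Z c) * Nat.card A₀) := by gcongr
        _ ≤ 2 * (Nat.card (Z c) * (Nat.card (Z b) * Nat.card A₁)) := by gcongr
        _ = (Nat.card (Z c) * Nat.card (Z b) * 2) * Nat.card A₁ := by ring
        _ ≤ (D.relIndex C * C.relIndex (C ⊔ W) * (C ⊔ W).relIndex X) * Nat.card A₁ := by gcongr
        _ = D.relIndex X * Nat.card A₁ := by rw [i4]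
        _ ≤ A₁.relIndex (A₁ ⊔ X) * Nat.card A₁ := by gcongr
        _ = Nat.card ↥(A₁ ⊔ X) := i7
        _ ≤ Nat.card (A c) := i5
    omega
  · -- (b)
    push Not at hmv
    have hE₀comm : ∀ g ∈ W, ∀ g' ∈ A₀ ⊔ ⨆ i, V i, g * g' = g' * g :=
      comm_sup_right (fun w hw g hg => (hmv g hg w hw).symm) hWVV
    have hle : Nat.card ↥(W ⊔ (A₀ ⊔ ⨆ i, V i)) ≤ Nat.card (A c) := by
      refine h.Amax c _ (sup_le hWO (sup_le hA₀O h.VVO)) ?_ ?_
      · exact sq_sup hWsq (sq_sup (fun g hg => h.Asq c g hg.1) (h.sqVV he) hA₀VV) hE₀comm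
      · exact comm_sup hWcomm (comm_sup hA₀comm h.commVV hA₀VV) hE₀comm
    have hge : Nat.card (A c) ≤ Nat.card ↥(A₀ ⊔ ⨆ i, V i) := by
      have h1 : A₀.relIndex (A₀ ⊔ ⨆ i, V i) * Nat.card A₀ = Nat.card ↥(A₀ ⊔ ⨆ i, V i) := rmc le_sup_left
      rw [rel_sup hA₀VV] at h1
      rw [← h1]
      exact hcard.trans (Nat.mul_le_mul_right _ (h.VV_idx hx ha hau haA₀))
    have hEq : A₀ ⊔ (⨆ i, V i) = W ⊔ (A₀ ⊔ ⨆ i, V i) :=
      Subgroup.eq_of_le_of_card_ge le_sup_right (hle.trans hge)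
    have hWE : W ≤ A₀ ⊔ ⨆ i, V i := by rw [hEq]; exact le_sup_left
    -- `[y, g] = [y ^ a, g]`
    have hkey : ∀ g ∈ Q, ∀ y ∈ W, e (g * y * g⁻¹ * y⁻¹) c = 1 := by
      intro g hg y hy
      have h1 := rW.com g hg y hy
      refine hA _ h1 ?_
      obtain ⟨e₀, he₀, v, hv, e1⟩ := OmThm.SideBase.mem_sup_comm hA₀VV (hWE hy)
      have h2 := he.e_comm haact hv c
      have h3 : a * y * a⁻¹ = (a * v * a⁻¹ * v⁻¹) * y := by
        have h4 := hA₀VV e₀ he₀ v hv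
        have h5 := hA₀VV e₀ he₀ _ h2.1
        calc a * y * a⁻¹ = (a * e₀) * v * a⁻¹ := by rw [e1]; group
          _ = e₀ * (a * v * a⁻¹ * v⁻¹) * v := by rw [haA₀ e₀ he₀]; group
          _ = _ := by rw [h5, e1]; group
      have h4 : g * (a * y * a⁻¹) * g⁻¹ * (a * y * a⁻¹)⁻¹ = g * y * g⁻¹ * y⁻¹ := by
        rw [h3]
        set ξ := a * v * a⁻¹ * v⁻¹ with hξ
        have h5 : g * ξ = ξ * g := h.QVV hg h2.1
        have h6 : (g * y * g⁻¹ * y⁻¹) * ξ⁻¹ = ξ⁻¹ * (g * y * g⁻¹ * y⁻¹) :=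
          hWVV _ (hZWW h1) _ (inv_mem h2.1)
        calc g * (ξ * y) * g⁻¹ * (ξ * y)⁻¹ = (g * ξ) * y * g⁻¹ * y⁻¹ * ξ⁻¹ := by group
          _ = ξ * ((g * y * g⁻¹ * y⁻¹) * ξ⁻¹) := by rw [h5]; group
          _ = _ := by rw [h6]; group
      rw [← h4]
      exact rWa.com g hg _ (conj_mem_cj hy)
    have hQW : ∀ g ∈ Q, ∀ y ∈ W, g * y = y * g := by
      by_contra hcon
      push Not at hcon
      obtain ⟨g, hg, y, hy, hne⟩ := hcon
      obtain ⟨w, hw, e1⟩ := rW.full g hg ⟨y, hy, hne⟩ _ hζ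
      have h1 := hkey g hg w hw
      rw [e1, hζV.2 c] at h1
      apply hz'c
      calc e z' c = l⁻¹ * (l * e z' c * l⁻¹) * l := by group
        _ = 1 := by rw [h1]; group
    intro w hw
    refine h.three ⟨(h.NO _) (h.WN hx b hw), hW'Q hw, fun q hq => ?_, ?_⟩
    · have h1 := hQW _ ((mem_normalizer_iff.1 hlQ q).1 hq) _ (conj_mem_cj hw)
      calc q * w = l⁻¹ * ((l * q * l⁻¹) * (l * w * l⁻¹)) * l := by group
        _ = w * q := by rw [h1]; group
    · have h1 := h.sq b _ (mem_cj'.1 hw)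
      calc w * w = x * ((x⁻¹ * w * x) * (x⁻¹ * w * x)) * x⁻¹ := by group
        _ = 1 := by rw [h1]; group

end Fr

/-! ### (5) -/

/-- the elements of `V*` with trivial components at the indices `c` with `p c` -/
def CO {V : ι → Subgroup G} {e : G → ι → G} (he : Co V e) (p : ι → Prop) : Subgroup G where
  carrier := {v | v ∈ ⨆ i, V i ∧ ∀ c, p c → e v c = 1}
  one_mem' := ⟨one_mem _, fun c _ => he.one c⟩
  mul_mem' := by
    rintro v w ⟨h1, h2⟩ ⟨h3, h4⟩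
    exact ⟨mul_mem h1 h3, fun c hc => by rw [he.mul v h1 w h3, h2 c hc, h4 c hc, one_mul]⟩
  inv_mem' := by
    rintro v ⟨h1, h2⟩
    exact ⟨inv_mem h1, fun c hc => by rw [he.inv h1, h2 c hc, inv_one]⟩

namespace Fr

variable [Finite G] [Finite ι] {O Q B : Subgroup G} {V Z A : ι → Subgroup G} {col : ι → Bool}
  {N : Bool → Subgroup G}

theorem good_of (h : Fr O Q B V Z A col N) {x : G} (hx : Mv B V Z col N x) {e : G → ι → G} (he : Co V e) {b c : ι}
    (hcol : col c = col b) {z : G} (hz : z ∈ cj x (Z b)) (hzc : e z c ≠ 1) : cj x (Z b) = Z c := by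
  have key : ∀ i, cj x (Z b) = Z i → cj x (Z b) = Z c := by
    intro i hi
    have h1 : z ∈ V i := h.ZV i (hi ▸ hz)
    have h2 : c = i := by
      by_contra hne
      exact hzc (he.off i z h1 c hne)
    rw [h2]; exact hi
  by_cases hW : ∃ w ∈ cj x (V b), ∃ i, ∃ v ∈ V i, w * v ≠ v * w
  · obtain ⟨w, hw, i, v, hv, hne⟩ := hW
    exact key i (h.one hx hw hv hne)
  · push Not at hW
    obtain ⟨i, hi⟩ := h.two hx (h.four hx he hcol hW hz hzc)
    exact key i hi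

/-- **LEMMA PERM** (helper892, #23931) -/
theorem perm (h : Fr O Q B V Z A col N) {x : G} (hx : Mv B V Z col N x) (b : ι) :
    ∃ c, col c = col b ∧ cj x (Z b) = Z c := by
  classical
  obtain ⟨e, he⟩ := exists_co h.comm h.ind
  by_contra hbad
  set a := col b with ha
  let good : ι → Prop := fun i => ∃ c, col c = col i ∧ cj x (Z i) = Z c
  obtain ⟨z, hz, hxz, hzb⟩ := hx.z a
  have hsub : (⨆ (i) (_ : col i = a), Z i) ≤ (⨆ (i) (_ : col i = a ∧ good i), Z i) ⊔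
      ⨆ (i) (_ : col i = a ∧ ¬ good i), Z i := by
    refine iSup₂_le fun i hi => ?_
    by_cases hg : good i
    · exact (le_iSup₂ (f := fun i (_ : col i = a ∧ good i) => Z i) i ⟨hi, hg⟩).trans le_sup_left
    · exact (le_iSup₂ (f := fun i (_ : col i = a ∧ ¬ good i) => Z i) i ⟨hi, hg⟩).trans le_sup_right
  have hleG : (⨆ (i) (_ : col i = a ∧ good i), Z i) ≤ ⨆ i, V i :=
    iSup₂_le fun i _ => (h.ZV i).trans (le_iSup V i)
  have hleD : (⨆ (i) (_ : col i = a ∧ ¬ good i), Z i) ≤ ⨆ i, V i :=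
    iSup₂_le fun i _ => (h.ZV i).trans (le_iSup V i)
  obtain ⟨g, hg, d, hd, rfl⟩ := OmThm.SideBase.mem_sup_comm
    (fun p hp q hq => h.commVV p (hleG hp) q (hleD hq)) (hsub hz)
  -- `z` has trivial components outside the colour `a`
  have hz1 : g * d ∈ CO he (fun c => col c ≠ a) := by
    refine (iSup₂_le (f := fun i (_ : col i = a) => Z i) fun i hi v hv => ?_) hz
    refine ⟨(le_iSup V i) (h.ZV i hv), fun c hc => he.off i v (h.ZV i hv) c ?_⟩
    rintro rfl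
    exact hc hi
  have hxg : x * g * x⁻¹ ∈ CO he (fun c => col c ≠ a) := by
    have h1 : (⨆ (i) (_ : col i = a ∧ good i), Z i) ≤ cj x⁻¹ (CO he (fun c => col c ≠ a)) := by
      refine iSup₂_le fun i hi v hv => ?_
      rw [mem_cj', inv_inv]
      obtain ⟨c', hc', e1⟩ := hi.2
      have h2 : x * v * x⁻¹ ∈ Z c' := by rw [← e1]; exact conj_mem_cj hv
      refine ⟨(le_iSup V c') (h.ZV c' h2), fun c hc => he.off c' _ (h.ZV c' h2) c ?_⟩
      rintro rfl
      exact hc (hc'.trans hi.1)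
    have h2 := mem_cj'.1 (h1 hg)
    rwa [inv_inv] at h2
  have hxd : x * d * x⁻¹ ∈ CO he (fun c => col c = a) := by
    have h1 : (⨆ (i) (_ : col i = a ∧ ¬ good i), Z i) ≤ cj x⁻¹ (CO he (fun c => col c = a)) := by
      refine iSup₂_le fun i hi v hv => ?_
      rw [mem_cj', inv_inv]
      have h2 : x * v * x⁻¹ ∈ cj x (Z i) := conj_mem_cj hv
      refine ⟨(he.mem_of_sup h.ZV (h.Zx_le hx h2)).1, fun c hc => ?_⟩
      by_contra hne
      exact hi.2 ⟨c, hc.trans hi.1.symm, h.good_of hx he (hc.trans hi.1.symm) h2 hne⟩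
    have h2 := mem_cj'.1 (h1 hd)
    rwa [inv_inv] at h2
  have hprod : (x * g * x⁻¹) * (x * d * x⁻¹) = g * d := by
    calc (x * g * x⁻¹) * (x * d * x⁻¹) = (x * (g * d)) * x⁻¹ := by group
      _ = g * d := by rw [hxz, mul_inv_cancel_right]
  have hd1 : x * d * x⁻¹ = 1 := by
    refine he.ext _ hxd.1 fun c => ?_
    by_cases hc : col c = a
    · exact hxd.2 c hc
    · have h1 := he.mul _ hxg.1 _ hxd.1 c
      rw [hprod, hz1.2 c hc, hxg.2 c hc, one_mul] at h1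
      exact h1.symm
  have hd0 : d = 1 := by
    calc d = x⁻¹ * (x * d * x⁻¹) * x := by group
      _ = 1 := by rw [hd1]; group
  rw [hd0, mul_one] at hzb
  refine hzb b ha.symm ((iSup₂_le (f := fun i (_ : col i = a ∧ good i) => Z i) fun i hi => ?_) hg)
  refine (h.ZV i).trans (le_iSup₂ (f := fun i (_ : i ≠ b) => V i) i ?_)
  rintro rfl
  exact hbad hi.2

end Fr

end Cfsg.Agent.Omega.NOThreeL.RWide
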