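import Mathlib

/-!
# THEOREM PERM+ (helper278, #24948, #25094), the count of (A5), abstract

`F` acts on the abelian group `M` and on the finite set `Λ` of lines, `M` is "direct modulo `W₀`" with summands
`W_l` (`dir`), every `F`-orbit on `Λ` has at most two elements (`two`), `F₀` is the kernel of `F` on `Λ`, `e l ∈ W_l - W₀` is
fixed by `F₀` if `l` is moved, `n ∈ W₀` is fixed by `F₀` and not by `F`. Then `2 |F| |C_M(F)| ≤ |F₀| |C_M(F₀)|`.
-/

set_option autoImplicit false
set_option linter.unusedSectionVars false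

namespace Cfsg.Agent.Omega.NOThreeL.RWide.PermCount

open Subgroup

variable {M F Λ : Type*} [CommGroup M] [Finite M] [Group F] [Finite F] [MulDistribMulAction F M]
  [MulAction F Λ] [Finite Λ]

/-- fixed points -/
def fx (M : Type*) [CommGroup M] {F : Type*} [Group F] [MulDistribMulAction F M] (B : Subgroup F) : Subgroup M where
  carrier := {m | ∀ b ∈ B, b • m = m}
  one_mem' := fun b _ => smul_one b
  mul_mem' := fun {x y} hx hy b hb => by rw [smul_mul', hx b hb, hy b hb]
  inv_mem' := fun {x} hx b hb => by rw [smul_inv', hx b hb]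

theorem mem_fx {B : Subgroup F} {m : M} : m ∈ fx M B ↔ ∀ b ∈ B, b • m = m := Iff.rfl

theorem fx_anti {B C : Subgroup F} (h : B ≤ C) : fx M C ≤ fx M B := fun _ hm b hb => hm b (h hb)

/-- representatives of the orbits of the moved lines -/
def Rep (F Λ : Type*) [Group F] [MulAction F Λ] : Type _ :=
  {l : Λ // (∃ f : F, f • l ≠ l) ∧ (Quotient.mk'' l : MulAction.orbitRel.Quotient F Λ).out = l}

instance : Finite (Rep F Λ) := Subtype.finite

theorem exists_rep {l : Λ} (h : ∃ f : F, f • l ≠ l) : ∃ r : Rep F Λ, ∃ g : F, g • r.1 = l := by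
  obtain ⟨f, hf⟩ := h
  set r := (Quotient.mk'' l : MulAction.orbitRel.Quotient F Λ).out with hr
  have h1 : (Quotient.mk'' r : MulAction.orbitRel.Quotient F Λ) = Quotient.mk'' l := by
    rw [hr]; exact Quotient.out_eq _
  have h2 : (MulAction.orbitRel F Λ).r r l := Quotient.exact h1
  have h3 : r ∈ MulAction.orbit F l := h2
  obtain ⟨g, hg⟩ := h3
  have hg' : g • l = r := hg
  refine ⟨⟨r, ⟨g * f * g⁻¹, ?_⟩, ?_⟩, g⁻¹, ?_⟩
  · intro e
    apply hf
    rw [← hg', ← mul_smul, mul_assoc, mul_assoc, inv_mul_cancel, mul_one, mul_smul] at e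
    exact smul_left_cancel g e
  · rw [h1]
  · show g⁻¹ • r = l
    rw [← hg', inv_smul_smul]

theorem rep_eq {r s : Rep F Λ} {g : F} (h : g • r.1 = s.1) : r = s := by
  apply Subtype.ext
  have h1 : (Quotient.mk'' r.1 : MulAction.orbitRel.Quotient F Λ) = Quotient.mk'' s.1 := by
    apply Quotient.sound
    show r.1 ∈ MulAction.orbit F s.1
    exact ⟨g⁻¹, by show g⁻¹ • s.1 = r.1; rw [← h, inv_smul_smul]⟩
  rw [← r.2.2, ← s.2.2, h1]

open Classical in
/-- **The count.** -/
theorem count (Wl : Λ → Subgroup M) (W₀ : Subgroup M)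
    (hWl : ∀ (f : F) (l : Λ) (m : M), m ∈ Wl l → f • m ∈ Wl (f • l))
    (hW₀ : ∀ (f : F) (m : M), m ∈ W₀ → f • m ∈ W₀)
    (dir : ∀ (l : Λ) (m : M), m ∈ Wl l → m ∈ W₀ ⊔ ⨆ (k : Λ) (_ : k ≠ l), Wl k → m ∈ W₀)
    (two : ∀ (f g : F) (l : Λ), f • l ≠ l → g • l ≠ l → f • l = g • l)
    (comm : ∀ (f g : F) (l : Λ), f • g • l = g • f • l)
    (F₀ : Subgroup F) (hF₀ : ∀ f : F, f ∈ F₀ ↔ ∀ l : Λ, f • l = l)
    (e : Λ → M) (he : ∀ l, e l ∈ Wl l) (hne : ∀ l, e l ∉ W₀)
    (fix : ∀ l : Λ, (∃ f : F, f • l ≠ l) → ∀ f ∈ F₀, f • e l = e l)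
    {n : M} (hn : n ∈ W₀) (hnF : ∀ f ∈ F₀, f • n = n) (hnm : ∃ f : F, f • n ≠ n) :
    2 * (Nat.card F * Nat.card (fx M (⊤ : Subgroup F))) ≤ Nat.card F₀ * Nat.card (fx M F₀) := by
  have : Fintype (Rep F Λ) := Fintype.ofFinite _
  -- `F / F₀` embeds in the functions on `Rep`
  let α : F ⧸ F₀ → (Rep F Λ → Bool) := Quotient.lift (fun f l => decide (f • l.1 ≠ l.1)) (by
    intro f g hfg
    have h1 : f⁻¹ * g ∈ F₀ := QuotientGroup.leftRel_apply.1 hfg
    funext l
    have h2 : f • l.1 = g • l.1 := by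
      have := (hF₀ _).1 h1 l.1
      rw [mul_smul] at this
      rw [inv_smul_eq_iff] at this
      exact this.symm
    simp only [h2])
  have hα : Function.Injective α := by
    intro x y
    induction x using Quotient.inductionOn' with
    | h f =>
      induction y using Quotient.inductionOn' with
      | h g =>
        intro h
        have h1 : ∀ l : Rep F Λ, f • l.1 = g • l.1 := by
          intro l
          have h2 : decide (f • l.1 ≠ l.1) = decide (g • l.1 ≠ l.1) := congrFun h l
          by_cases h3 : f • l.1 = l.1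
          · have h4 : ¬ (g • l.1 ≠ l.1) := by
              intro h5
              rw [decide_eq_true h5, decide_eq_true_iff] at h2
              exact h2 h3
            rw [h3, not_not.1 h4]
          · have h4 : g • l.1 ≠ l.1 := by
              rw [decide_eq_true h3] at h2
              exact decide_eq_true_iff.1 h2.symm
            exact two f g l.1 h3 h4
        apply Quotient.sound'
        rw [QuotientGroup.leftRel_apply, hF₀]
        intro l
        rw [mul_smul, inv_smul_eq_iff]
        by_cases hl : ∃ k : F, k • l ≠ l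
        · obtain ⟨r, k, rfl⟩ := exists_rep hl
          rw [comm g k, comm f k, h1 r]
        · have h2 : ∀ k : F, k • l = l := fun k => not_not.1 fun h3 => hl ⟨k, h3⟩
          rw [h2, h2]
  -- the vectors
  let w : (Rep F Λ → Bool) → Bool → M := fun T ε => (∏ l : Rep F Λ, if T l then e l.1 else 1) * if ε then n else 1
  have hw : ∀ T ε, w T ε ∈ fx M F₀ := by
    intro T ε f hf
    have h1 : ∀ l : Rep F Λ, f • (if T l then e l.1 else 1) = if T l then e l.1 else 1 := by
      intro l
      split_ifs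
      · exact fix l.1 l.2.1 f hf
      · exact smul_one f
    show f • ((∏ l : Rep F Λ, if T l then e l.1 else 1) * if ε then n else 1) = _
    rw [smul_mul', Finset.smul_prod']
    congr 1
    · exact Finset.prod_congr rfl fun l _ => h1 l
    · split_ifs
      · exact hnF f hf
      · exact smul_one f
  have hinj : ∀ T ε T' ε', (w T ε)⁻¹ * w T' ε' ∈ fx M (⊤ : Subgroup F) → T = T' ∧ ε = ε' := by
    intro T ε T' ε' h
    let c : Rep F Λ → M := fun l => (if T l then e l.1 else 1)⁻¹ * (if T' l then e l.1 else 1)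
    let d : M := (if ε then n else 1)⁻¹ * (if ε' then n else 1)
    have hd : d ∈ W₀ := by
      refine mul_mem (inv_mem ?_) ?_ <;> split_ifs <;> first | exact hn | exact one_mem _
    have hx : (w T ε)⁻¹ * w T' ε' = (∏ l, c l) * d := by
      show ((∏ l : Rep F Λ, if T l then e l.1 else 1) * if ε then n else 1)⁻¹ *
        ((∏ l : Rep F Λ, if T' l then e l.1 else 1) * if ε' then n else 1) = _
      rw [mul_inv, ← Finset.prod_inv_distrib, mul_mul_mul_comm, ← Finset.prod_mul_distrib]
    have hc : ∀ l, c l ∈ Wl l.1 := by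
      intro l
      refine mul_mem (inv_mem ?_) ?_ <;> split_ifs <;> first | exact he _ | exact one_mem _
    rw [hx] at h
    have hT : T = T' := by
      by_contra hne'
      obtain ⟨l₀, hl₀⟩ := Function.ne_iff.1 hne'
      obtain ⟨f, hf⟩ := l₀.2.1
      have h1 : f • ((∏ l, c l) * d) = (∏ l, c l) * d := h f (mem_top f)
      set P : Subgroup M := W₀ ⊔ ⨆ (k : Λ) (_ : k ≠ l₀.1), Wl k with hP
      have hle : ∀ k, k ≠ l₀.1 → Wl k ≤ P := fun k hk =>
        (le_iSup₂_of_le (f := fun (k : Λ) (_ : k ≠ l₀.1) => Wl k) k hk le_rfl).trans le_sup_right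
      have h2 : f • ((∏ l, c l) * d) ∈ P := by
        rw [smul_mul', Finset.smul_prod']
        refine mul_mem (prod_mem fun l _ => ?_) (mem_sup_left (hW₀ f d hd))
        refine hle (f • l.1) ?_ (hWl f l.1 _ (hc l))
        intro h3
        have h4 := rep_eq h3
        rw [h4] at h3
        exact hf h3
      rw [h1, ← Finset.mul_prod_erase Finset.univ c (Finset.mem_univ l₀), mul_assoc] at h2
      have h3 : (∏ l ∈ Finset.univ.erase l₀, c l) * d ∈ P := by
        refine mul_mem (prod_mem fun l hl => ?_) (mem_sup_left hd)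
        refine hle l.1 (fun h4 => ?_) (hc l)
        exact (Finset.mem_erase.1 hl).1 (Subtype.ext h4)
      have h4 : c l₀ ∈ P := by
        have := mul_mem h2 (inv_mem h3)
        rwa [mul_inv_cancel_right] at this
      have h5 := dir l₀.1 _ (hc l₀) h4
      have h6 : e l₀.1 ∈ W₀ := by
        cases hTl : T l₀ <;> cases hTl' : T' l₀
        · rw [hTl, hTl'] at hl₀; exact absurd rfl hl₀
        · have : c l₀ = e l₀.1 := by simp [c, hTl, hTl']
          rwa [this] at h5
        · have : c l₀ = (e l₀.1)⁻¹ := by simp [c, hTl, hTl']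
          rw [this] at h5
          exact (inv_mem_iff).1 h5
        · rw [hTl, hTl'] at hl₀; exact absurd rfl hl₀
      exact hne _ h6
    refine ⟨hT, ?_⟩
    have h7 : (∏ l, c l) = 1 := by
      refine Finset.prod_eq_one fun l _ => ?_
      simp only [c, hT]
      exact inv_mul_cancel _
    rw [h7, one_mul] at h
    by_contra hε
    have h8 : n ∈ fx M (⊤ : Subgroup F) := by
      cases hε1 : ε <;> cases hε2 : ε'
      · rw [hε1, hε2] at hε; exact absurd rfl hε
      · have : d = n := by simp [d, hε1, hε2]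
        rwa [this] at h
      · have : d = n⁻¹ := by simp [d, hε1, hε2]
        rw [this] at h
        exact inv_mem_iff.1 h
      · rw [hε1, hε2] at hε; exact absurd rfl hε
    obtain ⟨f, hf⟩ := hnm
    exact hf (h8 f (mem_top f))
  -- counting
  have c1 : F₀.index ≤ Nat.card (Rep F Λ → Bool) := Nat.card_le_card_of_injective α hα
  have c2 : Nat.card ((Rep F Λ → Bool) × Bool) ≤ (fx M (⊤ : Subgroup F)).relIndex (fx M F₀) := by
    refine Nat.card_le_card_of_injective
      (fun p => (QuotientGroup.mk ⟨w p.1 p.2, hw p.1 p.2⟩ : fx M F₀ ⧸ (fx M (⊤ : Subgroup F)).subgroupOf (fx M F₀))) ?_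
    rintro ⟨T, ε⟩ ⟨T', ε'⟩ h
    have h1 := QuotientGroup.eq.1 h
    have h2 := hinj T ε T' ε' (mem_subgroupOf.1 h1)
    rw [h2.1, h2.2]
  have c3 : Nat.card ((Rep F Λ → Bool) × Bool) = Nat.card (Rep F Λ → Bool) * 2 := by
    rw [Nat.card_prod]; simp
  have c4 : Nat.card F = Nat.card F₀ * F₀.index := F₀.card_mul_index.symm
  have c5 : Nat.card (fx M F₀) = Nat.card (fx M (⊤ : Subgroup F)) * (fx M (⊤ : Subgroup F)).relIndex (fx M F₀) := by
    have h1 := relIndex_mul_relIndex (⊥ : Subgroup M) (fx M (⊤ : Subgroup F)) (fx M F₀) bot_le (fx_anti le_top)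
    rw [relIndex_bot_left, relIndex_bot_left] at h1
    exact h1.symm
  rw [c4, c5]
  calc 2 * (Nat.card F₀ * F₀.index * Nat.card (fx M (⊤ : Subgroup F)))
      = Nat.card F₀ * Nat.card (fx M (⊤ : Subgroup F)) * (F₀.index * 2) := by ring
    _ ≤ Nat.card F₀ * Nat.card (fx M (⊤ : Subgroup F)) * (fx M (⊤ : Subgroup F)).relIndex (fx M F₀) := by
        refine Nat.mul_le_mul_left _ ?_
        calc F₀.index * 2 ≤ Nat.card (Rep F Λ → Bool) * 2 := Nat.mul_le_mul_right _ c1
          _ = Nat.card ((Rep F Λ → Bool) × Bool) := c3.symm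
          _ ≤ _ := c2
    _ = _ := by ring

end Cfsg.Agent.Omega.NOThreeL.RWide.PermCount
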