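import Cfsg.Agent.Omega.NOThreeL.RWide.PIn
import Cfsg.Agent.Omega.NOThreeL.RWide.PermCount

/-!
# THEOREM PERM+, case A (helper278, #24948 (A), #25094)

`PA R S K W V Z AA` : `R` is a minimal parabolic over `S` (`min`), `K = O₂(R)`, `W ≥ ⨆ (cj r (V i))` elementary abelian and
normal in `R`, best offenders of `S` on `W` act on the blocks as full root groups, `AA` the `R`-invariant set of pure
groups (a pure group moves only blocks with one and the same line).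

* **`PA.perm_of`** : if some best offender `F ≤ S` of `W` does not lie in `K`, then `R` permutes the lines `Z i`.
-/

set_option autoImplicit false
set_option linter.unusedSectionVars false

namespace Cfsg.Agent.Omega.NOThreeL.RWide

open Subgroup Cfsg Cfsg.Agent.ZN.ChoiceBase
open Cfsg.Agent.Omega.NO3S.SN2.BA (bo_quad bo_cj)
open scoped commutatorElement

universe u

variable {G : Type u} [Group G] {ι : Type*}

/-- The input of case A. -/
structure PA (R S K W : Subgroup G) (V Z : ι → Subgroup G) (AA : Set (Subgroup G)) : Prop where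
  SR : S ≤ R
  KS : K ≤ S
  RK : R ≤ normalizer (K : Set G)
  min : ∀ N : Subgroup G, N ≤ R → R ≤ normalizer (N : Set G) → N ⊓ S ≤ K ∨ R ≤ N ⊔ S
  Wel : IsElementaryAbelian 2 W
  RW : R ≤ normalizer (W : Set G)
  VW : ∀ i, V i ≤ W
  ZV : ∀ i, Z i ≤ V i
  perm : ∀ s ∈ S, ∀ i, ∃ j, cj s (V i) = V j ∧ cj s (Z i) = Z j
  inj : ∀ i j, Z i = Z j → i = j
  root : ∀ i, ∀ g ∈ S, (∀ v ∈ V i, g * v * g⁻¹ * v⁻¹ ∈ Z i) → (∀ v ∈ V i, g * v = v * g) ∨
    ∀ z ∈ Z i, ∃ v ∈ V i, g * v * g⁻¹ * v⁻¹ = z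
  ne : ∀ i, ¬ V i ≤ Z i
  off : ∀ F : Subgroup G, F ≤ S → IsBestOffenderOn 2 W F → ∀ i, RootOn F (V i) (Z i)
  AAc : ∀ r ∈ R, ∀ A ∈ AA, cj r A ∈ AA
  AAone : ∀ A ∈ AA, ∀ r ∈ R, ∀ i, ∀ s ∈ R, ∀ j, ¬ A ≤ centralizer (cj r (V i) : Set G) →
    ¬ A ≤ centralizer (cj s (V j) : Set G) → cj r (Z i) = cj s (Z j)
  AAex : ∀ i, ∃ A ∈ AA, ∀ v ∈ V i, (∀ a ∈ A, a * v = v * a) → v ∈ Z i
  AAz : ∀ A ∈ AA, ∀ i, ∀ a ∈ A, ∀ z ∈ Z i, a * z = z * a

theorem RootOn.cj' {F V Z : Subgroup G} (h : RootOn F V Z) (r : G) : RootOn (cj r F) (cj r V) (cj r Z) where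
  norm := fun f hf => by
    have h1 := h.norm (mem_cj.1 hf)
    rw [← SetLike.mem_coe] at h1 ⊢
    rw [SetLike.mem_coe, ← cj_normalizer, mem_cj]
    exact h1
  fixZ := fun f hf z hz => by
    have h1 := h.fixZ _ (mem_cj.1 hf) _ (mem_cj.1 hz)
    calc f * z = r * (r⁻¹ * f * r * (r⁻¹ * z * r)) * r⁻¹ := by group
      _ = r * (r⁻¹ * z * r * (r⁻¹ * f * r)) * r⁻¹ := by rw [h1]
      _ = z * f := by group
  comm := fun f hf v hv => by
    have h1 := h.comm _ (mem_cj.1 hf) _ (mem_cj.1 hv)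
    rw [mem_cj]
    have e : r⁻¹ * (f * v * f⁻¹ * v⁻¹) * r =
        r⁻¹ * f * r * (r⁻¹ * v * r) * (r⁻¹ * f * r)⁻¹ * (r⁻¹ * v * r)⁻¹ := by group
    rwa [e]
  full := by
    rcases h.full with h1 | h1
    · left
      intro f hf
      have h2 := h1 (mem_cj.1 hf)
      rw [← cj_centralizer, mem_cj]
      exact h2
    · right
      intro v hv hvZ
      obtain ⟨h2, h3⟩ := h1 _ (mem_cj.1 hv) (fun h4 => hvZ (mem_cj.2 h4))
      refine ⟨fun z hz => ?_, fun f hf hfv => ?_⟩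
      · obtain ⟨f, hf, e⟩ := h2 _ (mem_cj.1 hz)
        refine ⟨r * f * r⁻¹, mem_cj.2 (by
          have : r⁻¹ * (r * f * r⁻¹) * r = f := by group
          rwa [this]), ?_⟩
        calc r * f * r⁻¹ * v * (r * f * r⁻¹)⁻¹ * v⁻¹
            = r * (f * (r⁻¹ * v * r) * f⁻¹ * (r⁻¹ * v * r)⁻¹) * r⁻¹ := by group
          _ = z := by rw [e]; group
      · have h4 := h3 _ (mem_cj.1 hf) (by
          calc r⁻¹ * f * r * (r⁻¹ * v * r) = r⁻¹ * (f * v) * r := by group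
            _ = r⁻¹ * (v * f) * r := by rw [hfv]
            _ = _ := by group)
        rw [← cj_centralizer, mem_cj]
        exact h4

namespace PA

variable {R S K W : Subgroup G} {V Z : ι → Subgroup G} {AA : Set (Subgroup G)} (h : PA R S K W V Z AA)
include h

theorem Wab {a b : G} (ha : a ∈ W) (hb : b ∈ W) : a * b = b * a :=
  congrArg Subtype.val (h.Wel.1.1.1 (⟨a, ha⟩ : W) (⟨b, hb⟩ : W))

theorem Wsq {a : G} (ha : a ∈ W) : a * a = 1 := by
  have := h.Wel.2 a ha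
  rwa [pow_two] at this

theorem KR : K ≤ R := h.KS.trans h.SR

theorem cjV_le {r : G} (hr : r ∈ R) (i : ι) : cj r (V i) ≤ W := by
  refine (cj_mono r (h.VW i)).trans ?_
  rw [cj_eq_of_mem_normalizer (h.RW hr)]

theorem cjZ_le (r : G) (i : ι) : cj r (Z i) ≤ cj r (V i) := cj_mono r (h.ZV i)

theorem exR {r : G} (hr : r ∈ R) (i : ι) : ∃ A ∈ AA, ∀ v ∈ cj r (V i), (∀ a ∈ A, a * v = v * a) → v ∈ cj r (Z i) := by
  obtain ⟨A, hA, h1⟩ := h.AAex i
  refine ⟨cj r A, h.AAc r hr A hA, fun v hv hc => mem_cj.2 (h1 _ (mem_cj.1 hv) fun a ha => ?_)⟩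
  have h2 := hc (r * a * r⁻¹) (mem_cj.2 (by
    have : r⁻¹ * (r * a * r⁻¹) * r = a := by group
    rwa [this]))
  calc a * (r⁻¹ * v * r) = r⁻¹ * (r * a * r⁻¹ * v) * r := by group
    _ = r⁻¹ * (v * (r * a * r⁻¹)) * r := by rw [h2]
    _ = _ := by group

theorem zR {r : G} (hr : r ∈ R) {A : Subgroup G} (hA : A ∈ AA) (i : ι) {a z : G} (ha : a ∈ A) (hz : z ∈ cj r (Z i)) :
    a * z = z * a := by
  have h1 := h.AAz _ (h.AAc r⁻¹ (inv_mem hr) A hA) i (r⁻¹ * a * r) (mem_cj.2 (by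
    have : r⁻¹⁻¹ * (r⁻¹ * a * r) * r⁻¹ = a := by group
    rwa [this])) _ (mem_cj.1 hz)
  calc a * z = r * (r⁻¹ * a * r * (r⁻¹ * z * r)) * r⁻¹ := by group
    _ = r * (r⁻¹ * z * r * (r⁻¹ * a * r)) * r⁻¹ := by rw [h1]
    _ = _ := by group

theorem cj_mem_K {r g : G} (hr : r ∈ R) (hg : g ∈ K) : r⁻¹ * g * r ∈ K := by
  have h1 := (mem_normalizer_iff.1 (inv_mem (h.RK hr)) g).1 hg
  rwa [inv_inv] at h1

theorem offR [Finite G] {F : Subgroup G} (hF : F ≤ K) (hb : IsBestOffenderOn 2 W F) {r : G} (hr : r ∈ R) (i : ι) :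
    RootOn F (cj r (V i)) (cj r (Z i)) := by
  have h1 : cj r⁻¹ F ≤ S := by
    intro g hg
    have h2 := mem_cj.1 hg
    rw [inv_inv] at h2
    have h3 := h.cj_mem_K hr (hF h2)
    have e : r⁻¹ * (r * g * r⁻¹) * r = g := by group
    rw [e] at h3
    exact h.KS h3
  have h2 := h.off _ h1 (bo_cj hb (h.RW (inv_mem hr))) i
  have h3 := h2.cj' r
  rwa [cj_cj_inv] at h3

theorem permR {g r : G} (hg : g ∈ K) (hr : r ∈ R) (i : ι) (hz : cj g (cj r (Z i)) = cj r (Z i)) :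
    cj g (cj r (V i)) = cj r (V i) := by
  have hgS : r⁻¹ * g * r ∈ S := h.KS (h.cj_mem_K hr hg)
  obtain ⟨j, hj1, hj2⟩ := h.perm _ hgS i
  have e : ∀ X : Subgroup G, cj g (cj r X) = cj r (cj (r⁻¹ * g * r) X) := by
    intro X
    rw [cj_cj, cj_cj]
    congr 1
    group
  have h1 : cj (r⁻¹ * g * r) (Z i) = Z i := by
    rw [e] at hz
    have := congrArg (cj r⁻¹) hz
    rwa [cj_inv_cj, cj_inv_cj] at this
  have h2 : i = j := h.inj i j (by rw [← hj2, h1])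
  rw [e, hj1, ← h2]

theorem rootR {g r : G} (hg : g ∈ K) (hr : r ∈ R) (i : ι)
    (hc : ∀ v ∈ cj r (V i), g * v * g⁻¹ * v⁻¹ ∈ cj r (Z i)) :
    (∀ v ∈ cj r (V i), g * v = v * g) ∨ ∀ z ∈ cj r (Z i), ∃ v ∈ cj r (V i), g * v * g⁻¹ * v⁻¹ = z := by
  have hgS : r⁻¹ * g * r ∈ S := h.KS (h.cj_mem_K hr hg)
  have hm : ∀ {X : Subgroup G} {x : G}, x ∈ X → r * x * r⁻¹ ∈ cj r X := fun {X x} hx => mem_cj.2 (by
    have : r⁻¹ * (r * x * r⁻¹) * r = x := by group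
    rwa [this])
  rcases h.root i _ hgS (fun v hv => by
    have h1 := mem_cj.1 (hc _ (hm hv))
    have e : r⁻¹ * (g * (r * v * r⁻¹) * g⁻¹ * (r * v * r⁻¹)⁻¹) * r =
      r⁻¹ * g * r * v * (r⁻¹ * g * r)⁻¹ * v⁻¹ := by group
    rwa [e] at h1) with h1 | h1
  · left
    intro v hv
    have h2 := h1 _ (mem_cj.1 hv)
    calc g * v = r * (r⁻¹ * g * r * (r⁻¹ * v * r)) * r⁻¹ := by group
      _ = r * (r⁻¹ * v * r * (r⁻¹ * g * r)) * r⁻¹ := by rw [h2]
      _ = _ := by group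
  · right
    intro z hz
    obtain ⟨v, hv, e⟩ := h1 _ (mem_cj.1 hz)
    refine ⟨r * v * r⁻¹, hm hv, ?_⟩
    calc g * (r * v * r⁻¹) * g⁻¹ * (r * v * r⁻¹)⁻¹ = r * (r⁻¹ * g * r * v * (r⁻¹ * g * r)⁻¹ * v⁻¹) * r⁻¹ := by group
      _ = z := by rw [e]; group

/-- two elements of an offender commute on `W` -/
theorem commW {F : Subgroup G} (_hF : F ≤ R) (hb : IsBestOffenderOn 2 W F) {f g w : G} (hf : f ∈ F) (hg : g ∈ F)
    (hw : w ∈ W) : f * (g * w * g⁻¹) * f⁻¹ = g * (f * w * f⁻¹) * g⁻¹ := by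
  have h1 : ⁅f⁻¹, g⁻¹⁆ ∈ centralizer (W : Set G) := hb.2.1 (commutator_mem_commutator (inv_mem hf) (inv_mem hg))
  have h2 := mem_centralizer_iff.1 h1 w hw
  rw [commutatorElement_def, inv_inv, inv_inv] at h2
  -- `w (f⁻¹ g⁻¹ f g) = (f⁻¹ g⁻¹ f g) w`
  calc f * (g * w * g⁻¹) * f⁻¹ = g * f * ((f⁻¹ * g⁻¹ * f * g) * w) * (f⁻¹ * g⁻¹ * f * g)⁻¹ * (g * f)⁻¹ := by group
    _ = g * f * (w * (f⁻¹ * g⁻¹ * f * g)) * (f⁻¹ * g⁻¹ * f * g)⁻¹ * (g * f)⁻¹ := by rw [h2]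
    _ = _ := by group

theorem memW {f w : G} (hf : f ∈ R) (hw : w ∈ W) : f * w * f⁻¹ ∈ W := (mem_normalizer_iff.1 (h.RW hf) w).1 hw

/-- **(A4)**: a minimal best offender outside `K` is quadratic on the blocks with moved lines. -/
theorem quad [Finite G] {F : Subgroup G} (hFS : F ≤ S) (hb : IsBestOffenderOn 2 W F)
    (hmin : ∀ F' : Subgroup G, F' ≤ S → IsBestOffenderOn 2 W F' → ¬ F' ≤ K → Nat.card F ≤ Nat.card F')
    {r : G} (hr : r ∈ R) (i : ι) {f₀ : G} (hf₀ : f₀ ∈ F) (hmv : cj f₀ (cj r (Z i)) ≠ cj r (Z i))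
    {f g v : G} (hf : f ∈ F) (hg : g ∈ F) (hv : v ∈ cj r (V i)) :
    g * (f * v * f⁻¹ * v⁻¹) = f * v * f⁻¹ * v⁻¹ * g := by
  have hFR : F ≤ R := hFS.trans h.SR
  have hVW := h.cjV_le hr i
  -- the group `U`
  set U : Subgroup G := ⨆ (k) (_ : k ∈ F), cj k (cj r (V i)) with hU
  have hkU : ∀ k ∈ F, cj k (cj r (V i)) ≤ U := fun k hk =>
    le_iSup₂_of_le (f := fun (k : G) (_ : k ∈ F) => cj k (cj r (V i))) k hk le_rfl
  have hVU : cj r (V i) ≤ U := by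
    have := hkU 1 (one_mem F)
    rwa [cj_one] at this
  have hUW : U ≤ W := by
    refine iSup₂_le fun k hk => ?_
    rw [cj_cj]
    exact h.cjV_le (mul_mem (hFR hk) hr) i
  have hFU : F ≤ normalizer (U : Set G) := by
    intro k hk
    apply mem_normalizer_of_cj_le
    rw [hU]
    show Subgroup.map _ _ ≤ _
    rw [Subgroup.map_iSup]
    refine iSup_le fun l => ?_
    rw [Subgroup.map_iSup]
    refine iSup_le fun hl => ?_
    show cj k (cj l (cj r (V i))) ≤ _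
    rw [cj_cj k l]
    exact hkU (k * l) (mul_mem hk hl)
  have hFW : F ≤ normalizer (W : Set G) := hFR.trans h.RW
  have hneU : ¬ U ≤ centralizer (F : Set G) := by
    intro hc
    apply hmv
    apply cj_eq_of_mem_normalizer
    rw [mem_normalizer_iff]
    intro z
    constructor
    · intro hz
      have h1 := mem_centralizer_iff.1 (hc (hVU (h.cjZ_le r i hz))) f₀ hf₀
      rw [h1, mul_inv_cancel_right]; exact hz
    · intro hz
      have h1 := mem_centralizer_iff.1 (hc (hVU (h.cjZ_le r i hz))) f₀ hf₀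
      have e : z = f₀ * z * f₀⁻¹ := by
        have h2 : f₀ * (f₀ * z * f₀⁻¹) = f₀ * z * f₀⁻¹ * f₀ := h1
        have h3 : f₀ * z * f₀⁻¹ = z := by
          have h4 := congrArg (fun t => f₀⁻¹ * t) h2
          simpa [mul_assoc] using h4
        exact h3.symm
      rw [e]; exact hz
  obtain ⟨hb', hne'⟩ := bo_quad h.Wel hFW hb hUW hFU hneU
  set F' : Subgroup G := F ⊓ centralizer ((⁅U, F⁆ : Subgroup G) : Set G) with hF'
  have hcm : ∀ k ∈ F, ∀ u ∈ U, ∀ g ∈ F', g * (k * u * k⁻¹ * u⁻¹) = k * u * k⁻¹ * u⁻¹ * g := by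
    intro k hk u hu g hg
    have h1 : ⁅u, k⁆ ∈ ⁅U, F⁆ := commutator_mem_commutator hu hk
    have h2 : k * u * k⁻¹ * u⁻¹ ∈ ⁅U, F⁆ := by
      have e : k * u * k⁻¹ * u⁻¹ = (⁅u, k⁆)⁻¹ := by
        rw [commutatorElement_def]; group
      rw [e]
      exact inv_mem h1
    exact (mem_centralizer_iff.1 hg.2 _ h2).symm
  by_cases hK : F' ≤ K
  · exfalso
    apply hne'
    rw [hU]
    refine iSup₂_le fun k hk => ?_
    have hkr : k * r ∈ R := mul_mem (hFR hk) hr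
    have h1 := h.offR hK hb' hkr i
    rw [← cj_cj k r (V i), ← cj_cj k r (Z i)] at h1
    rcases h1.full with h2 | h2
    · intro v hv
      rw [mem_centralizer_iff]
      intro g hg
      exact ((mem_centralizer_iff.1 (h2 hg)) v hv).symm
    · exfalso
      -- `f₁` centralises the line
      set f₁ : G := k * f₀ * k⁻¹ with hf₁
      have hf₁F : f₁ ∈ F := mul_mem (mul_mem hk hf₀) (inv_mem hk)
      have h3 : cj f₁ (cj k (cj r (Z i))) ≠ cj k (cj r (Z i)) := by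
        intro e
        apply hmv
        rw [cj_cj f₁ k, hf₁, inv_mul_cancel_right, ← cj_cj k f₀] at e
        have := congrArg (cj k⁻¹) e
        rwa [cj_inv_cj, cj_inv_cj] at this
      apply h3
      apply cj_eq_of_mem_normalizer
      have hfix : ∀ z ∈ cj k (cj r (Z i)), f₁ * z * f₁⁻¹ = z := by
        intro z hz
        obtain ⟨v₀, hv₀, hv₀Z⟩ : ∃ v₀ ∈ cj k (cj r (V i)), v₀ ∉ cj k (cj r (Z i)) := by
          by_contra hc
          push Not at hc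
          apply h.ne i
          intro x hx
          have e1 : ∀ {X : Subgroup G} {x : G}, x ∈ X ↔ (k * r) * x * (k * r)⁻¹ ∈ cj k (cj r X) := by
            intro X x
            rw [cj_cj, mem_cj]
            have : (k * r)⁻¹ * ((k * r) * x * (k * r)⁻¹) * (k * r) = x := by group
            rw [this]
          exact e1.2 (hc _ (e1.1 hx))
        obtain ⟨g, hg, e⟩ := (h2 v₀ hv₀ hv₀Z).1 z hz
        have hv₀U : v₀ ∈ U := hkU k hk hv₀
        have hv₀W : v₀ ∈ W := hUW hv₀U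
        have hgF : g ∈ F := hg.1
        have hgR := hFR hgF
        have hf₁R := hFR hf₁F
        have h4 := hcm f₁ hf₁F v₀ hv₀U g hg
        -- `x = f₁ v₀ f₁⁻¹`
        have e1 : f₁ * z * f₁⁻¹ = g * (f₁ * v₀ * f₁⁻¹) * g⁻¹ * (f₁ * v₀ * f₁⁻¹)⁻¹ := by
          rw [← e]
          have h5 := h.commW hFR hb hgF hf₁F hv₀W
          calc f₁ * (g * v₀ * g⁻¹ * v₀⁻¹) * f₁⁻¹ = f₁ * (g * v₀ * g⁻¹) * f₁⁻¹ * (f₁ * v₀ * f₁⁻¹)⁻¹ := by group
            _ = _ := by rw [← h5]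
        have hx : f₁ * v₀ * f₁⁻¹ * v₀⁻¹ ∈ W := mul_mem (h.memW hf₁R hv₀W) (inv_mem hv₀W)
        have hy : g * v₀ * g⁻¹ * v₀⁻¹ ∈ W := mul_mem (h.memW hgR hv₀W) (inv_mem hv₀W)
        have h6 := h.Wab hx hy
        rw [e1]
        set x := f₁ * v₀ * f₁⁻¹ * v₀⁻¹ with hxd
        have e2 : f₁ * v₀ * f₁⁻¹ = x * v₀ := by rw [hxd]; group
        rw [e2]
        calc g * (x * v₀) * g⁻¹ * (x * v₀)⁻¹ = (g * x) * (v₀ * g⁻¹ * v₀⁻¹) * x⁻¹ := by group
          _ = (x * g) * (v₀ * g⁻¹ * v₀⁻¹) * x⁻¹ := by rw [h4]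
          _ = x * (g * v₀ * g⁻¹ * v₀⁻¹) * x⁻¹ := by group
          _ = g * v₀ * g⁻¹ * v₀⁻¹ * x * x⁻¹ := by rw [h6]
          _ = z := by rw [mul_inv_cancel_right, e]
      rw [mem_normalizer_iff]
      intro z
      constructor
      · intro hz
        rw [hfix z hz]; exact hz
      · intro hz
        have h4 := hfix _ hz
        have e : f₁ * z * f₁⁻¹ = z := mul_left_cancel (mul_right_cancel h4)
        rwa [e] at hz
  · have h1 := hmin F' (inf_le_left.trans hFS) hb' hK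
    have h2 : F' = F := eq_of_le_of_card_ge inf_le_left h1
    have hg' : g ∈ F' := h2.ge hg
    exact hcm f hf v (hVU hv) g hg'

end PA

end Cfsg.Agent.Omega.NOThreeL.RWide
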