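import Cfsg.Agent.Omega.NOThreeL.RWide.PermA

/-!
# THEOREM PERM+, case A: the end (helper278, #24948 (A5), #25094)

* **`PA.perm_of`** : if some best offender `F ≤ S` of `W` does not lie in `K`, then `R` permutes the lines `Z i`.
-/

set_option autoImplicit false
set_option linter.unusedSectionVars false

namespace Cfsg.Agent.Omega.NOThreeL.RWide

open Subgroup Cfsg Cfsg.Agent.ZN.ChoiceBase
open Cfsg.Agent.Omega.NO3S.SN2.BA (bo_quad bo_cj)
open scoped commutatorElement

universe u

variable {G : Type u} [Group G] {ι : Type*}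

/-- the elements of `R` which fix all lines -/
def R0 (R : Subgroup G) (Z : ι → Subgroup G) : Subgroup G where
  carrier := {x | x ∈ R ∧ ∀ r ∈ R, ∀ i, cj x (cj r (Z i)) = cj r (Z i)}
  one_mem' := ⟨one_mem _, fun r _ i => cj_one _⟩
  mul_mem' := fun {a b} ha hb => ⟨mul_mem ha.1 hb.1, fun r hr i => by
    rw [← cj_cj a b, hb.2 r hr i, ha.2 r hr i]⟩
  inv_mem' := fun {a} ha => ⟨inv_mem ha.1, fun r hr i => by
    conv_lhs => rw [← ha.2 r hr i]
    rw [cj_inv_cj]⟩

theorem le_normalizer_R0 (R : Subgroup G) (Z : ι → Subgroup G) : R ≤ normalizer (R0 R Z : Set G) := by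
  have key : ∀ y ∈ R, ∀ x ∈ R0 R Z, y * x * y⁻¹ ∈ R0 R Z := by
    intro y hy x hx
    refine ⟨mul_mem (mul_mem hy hx.1) (inv_mem hy), fun r hr i => ?_⟩
    have h1 := hx.2 (y⁻¹ * r) (mul_mem (inv_mem hy) hr) i
    have e : cj (y * x * y⁻¹) (cj r (Z i)) = cj y (cj x (cj (y⁻¹ * r) (Z i))) := by
      rw [cj_cj, cj_cj, cj_cj]
      congr 1
      group
    rw [e, h1, cj_cj]
    congr 1
    group
  intro y hy
  rw [mem_normalizer_iff]
  intro x
  constructor
  · exact key y hy x
  · intro h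
    have := key y⁻¹ (inv_mem hy) _ h
    have e : y⁻¹ * (y * x * y⁻¹) * y⁻¹⁻¹ = x := by group
    rwa [e] at this

/-- the lines -/
abbrev Lam (R : Subgroup G) (Z : ι → Subgroup G) : Type u := {l : Subgroup G // ∃ r ∈ R, ∃ i, cj r (Z i) = l}

/-- the blocks with line `l` generate `WG l` -/
def WG (R : Subgroup G) (V Z : ι → Subgroup G) (l : Subgroup G) : Subgroup G :=
  sSup {X | ∃ r ∈ R, ∃ i, cj r (Z i) = l ∧ X = cj r (V i)}

theorem le_WG {R : Subgroup G} {V Z : ι → Subgroup G} {l : Subgroup G} {r : G} (hr : r ∈ R) {i : ι}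
    (e : cj r (Z i) = l) : cj r (V i) ≤ WG R V Z l := le_sSup ⟨r, hr, i, e, rfl⟩

theorem cj_WG_le {R : Subgroup G} {V Z : ι → Subgroup G} {l : Subgroup G} {f : G} (hf : f ∈ R) :
    cj f (WG R V Z l) ≤ WG R V Z (cj f l) := by
  rw [cj_le_iff]
  refine sSup_le ?_
  rintro X ⟨r, hr, i, e, rfl⟩
  rw [← cj_le_iff, cj_cj]
  exact le_WG (mul_mem hf hr) (by rw [← cj_cj, e])

/-- an elementary abelian group is a commutative group -/
abbrev cgW {W : Subgroup G} (hW : IsElementaryAbelian 2 W) : CommGroup W :=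
  { (inferInstance : Group W) with mul_comm := fun a b => hW.1.1.1 a b }

namespace PA

variable {R S K W : Subgroup G} {V Z : ι → Subgroup G} {AA : Set (Subgroup G)} (h : PA R S K W V Z AA)
include h

theorem neR {r : G} (i : ι) : ∃ v ∈ cj r (V i), v ∉ cj r (Z i) := by
  by_contra hc
  push Not at hc
  apply h.ne i
  intro x hx
  have e1 : ∀ {X : Subgroup G} {x : G}, x ∈ X ↔ r * x * r⁻¹ ∈ cj r X := by
    intro X x
    rw [mem_cj]
    have : r⁻¹ * (r * x * r⁻¹) * r = x := by group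
    rw [this]
  exact e1.2 (hc _ (e1.1 hx))

/-- **Case A of PERM+.** -/
theorem perm_of [Finite G] {F₁ : Subgroup G} (hF₁ : F₁ ≤ S) (hb₁ : IsBestOffenderOn 2 W F₁) (hK₁ : ¬ F₁ ≤ K) :
    ∀ r ∈ R, ∀ i, ∃ j, cj r (Z i) = Z j := by
  rcases h.min (R0 R Z) (fun x hx => hx.1) (le_normalizer_R0 R Z) with hR0 | hR0
  swap
  · let Y : Subgroup G :=
      { carrier := {x | (∀ i, ∃ j, cj x (Z i) = Z j) ∧ ∀ i, ∃ j, cj x⁻¹ (Z i) = Z j}
        one_mem' := ⟨fun i => ⟨i, cj_one _⟩, fun i => ⟨i, by rw [inv_one, cj_one]⟩⟩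
        mul_mem' := by
          rintro a b ⟨ha, ha'⟩ ⟨hb, hb'⟩
          constructor
          · intro i
            obtain ⟨j, hj⟩ := hb i
            obtain ⟨k, hk⟩ := ha j
            exact ⟨k, by rw [← cj_cj, hj, hk]⟩
          · intro i
            obtain ⟨j, hj⟩ := ha' i
            obtain ⟨k, hk⟩ := hb' j
            exact ⟨k, by rw [mul_inv_rev, ← cj_cj, hj, hk]⟩
        inv_mem' := by
          rintro a ⟨ha, ha'⟩
          exact ⟨ha', fun i => by rw [inv_inv]; exact ha i⟩ }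
    have h1 : R0 R Z ≤ Y := by
      intro x hx
      have key : ∀ x ∈ R0 R Z, ∀ i, cj x (Z i) = Z i := by
        intro x hx i
        have := hx.2 1 (one_mem _) i
        rwa [cj_one] at this
      exact ⟨fun i => ⟨i, key x hx i⟩, fun i => ⟨i, key _ (inv_mem hx) i⟩⟩
    have h2 : S ≤ Y := fun s hs => ⟨fun i => (h.perm s hs i).imp fun _ h => h.2,
      fun i => (h.perm _ (inv_mem hs) i).imp fun _ h => h.2⟩
    intro r hr i
    exact ((hR0.trans (sup_le h1 h2)) hr).1 i
  · exfalso
    -- a minimal offender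
    obtain ⟨F, ⟨hFS, hb, hFK⟩, hmin⟩ := Set.exists_min_image
      {F : Subgroup G | F ≤ S ∧ IsBestOffenderOn 2 W F ∧ ¬ F ≤ K} (fun F => Nat.card F) (Set.toFinite _)
      ⟨F₁, hF₁, hb₁, hK₁⟩
    have hmin' : ∀ F' : Subgroup G, F' ≤ S → IsBestOffenderOn 2 W F' → ¬ F' ≤ K → Nat.card F ≤ Nat.card F' :=
      fun F' h1 h2 h3 => hmin F' ⟨h1, h2, h3⟩
    have hFR : F ≤ R := hFS.trans h.SR
    let _ : CommGroup W := cgW h.Wel
    let _ : MulDistribMulAction F W :=
      { smul := fun f w => ⟨f * w * (f : G)⁻¹, h.memW (hFR f.2) w.2⟩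
        one_smul := fun w => Subtype.ext (by
          show (1 : G) * (w : G) * (1 : G)⁻¹ = w
          rw [one_mul, inv_one, mul_one])
        mul_smul := fun f g w => Subtype.ext (by
          show (f : G) * g * w * ((f : G) * g)⁻¹ = f * (g * w * (g : G)⁻¹) * (f : G)⁻¹
          group)
        smul_mul := fun f v w => Subtype.ext (by
          show (f : G) * (v * w) * (f : G)⁻¹ = f * v * (f : G)⁻¹ * (f * w * (f : G)⁻¹)
          group)
        smul_one := fun f => Subtype.ext (by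
          show (f : G) * 1 * (f : G)⁻¹ = 1
          group) }
    let _ : MulAction F (Lam R Z) :=
      { smul := fun f l => ⟨cj (f : G) l.1, by
          obtain ⟨r, hr, i, e⟩ := l.2
          exact ⟨f * r, mul_mem (hFR f.2) hr, i, by rw [← cj_cj, e]⟩⟩
        one_smul := fun l => Subtype.ext (cj_one _)
        mul_smul := fun f g l => Subtype.ext (cj_cj _ _ _).symm }
    have hsm : ∀ (f : F) (w : W), ((f • w : W) : G) = f * w * (f : G)⁻¹ := fun _ _ => rfl
    have hsl : ∀ (f : F) (l : Lam R Z), (f • l).1 = cj (f : G) l.1 := fun _ _ => rfl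
    have hl : ∀ l : Lam R Z, ∃ r ∈ R, ∃ i, cj r (Z i) = l.1 := fun l => l.2
    choose ρ hρ κ hκ using hl
    have hVW : ∀ l : Lam R Z, cj (ρ l) (V (κ l)) ≤ W := fun l => h.cjV_le (hρ l) _
    have hlW : ∀ l : Lam R Z, l.1 ≤ W := fun l => by
      rw [← hκ l]
      exact (h.cjZ_le _ _).trans (hVW l)
    let Wl : Lam R Z → Subgroup W := fun l => (WG R V Z l.1).subgroupOf W
    let W₀ : Subgroup W :=
      { carrier := {w | ∀ A ∈ AA, ∀ a ∈ A, a * (w : G) = w * a}
        one_mem' := fun A _ a _ => by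
          show a * (1 : G) = 1 * a
          rw [mul_one, one_mul]
        mul_mem' := fun {x y} hx hy A hA a ha => by
          show a * ((x : G) * y) = x * y * a
          rw [← mul_assoc, hx A hA a ha, mul_assoc, hy A hA a ha, mul_assoc]
        inv_mem' := fun {x} hx A hA a ha => by
          show a * (x : G)⁻¹ = (x : G)⁻¹ * a
          have h1 : a * (x : G) = x * a := hx A hA a ha
          calc a * (x : G)⁻¹ = (x : G)⁻¹ * (x * a) * (x : G)⁻¹ := by group
            _ = (x : G)⁻¹ * (a * x) * (x : G)⁻¹ := by rw [h1]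
            _ = _ := by group }
    -- `V' ∩ W₀ ≤ Z'`
    have hV0 : ∀ (l : Lam R Z) (v : W), (v : G) ∈ cj (ρ l) (V (κ l)) → v ∈ W₀ → (v : G) ∈ l.1 := by
      intro l v hv hv0
      obtain ⟨A, hA, h1⟩ := h.exR (hρ l) (κ l)
      rw [← hκ l]
      exact h1 _ hv fun a ha => hv0 A hA a ha
    have hWl : ∀ (f : F) (l : Lam R Z) (m : W), m ∈ Wl l → f • m ∈ Wl (f • l) := by
      intro f l m hm
      have h1 : (m : G) ∈ WG R V Z l.1 := hm
      show (f : G) * m * (f : G)⁻¹ ∈ WG R V Z (cj (f : G) l.1)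
      refine cj_WG_le (hFR f.2) (mem_cj.2 ?_)
      have e : (f : G)⁻¹ * ((f : G) * m * (f : G)⁻¹) * f = m := by group
      rwa [e]
    have hVl : ∀ (l : Lam R Z) (v : W), (v : G) ∈ cj (ρ l) (V (κ l)) → v ∈ Wl l :=
      fun l v hv => le_WG (hρ l) (hκ l) hv
    have hW₀ : ∀ (f : F) (m : W), m ∈ W₀ → f • m ∈ W₀ := by
      intro f m hm A hA a ha
      have h1 := hm _ (h.AAc (f : G)⁻¹ (inv_mem (hFR f.2)) A hA) ((f : G)⁻¹ * a * f) (mem_cj.2 (by
        have : (f : G)⁻¹⁻¹ * ((f : G)⁻¹ * a * f) * (f : G)⁻¹ = a := by group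
        rwa [this]))
      show a * ((f : G) * m * (f : G)⁻¹) = (f : G) * m * (f : G)⁻¹ * a
      calc a * ((f : G) * m * (f : G)⁻¹) = f * ((f : G)⁻¹ * a * f * m) * (f : G)⁻¹ := by group
        _ = f * (m * ((f : G)⁻¹ * a * f)) * (f : G)⁻¹ := by rw [h1]
        _ = _ := by group
    have dir : ∀ (l : Lam R Z) (m : W), m ∈ Wl l → m ∈ W₀ ⊔ ⨆ (k : Lam R Z) (_ : k ≠ l), Wl k → m ∈ W₀ := by
      intro l m hm hm' A hA
      have hCA : m ∈ (centralizer (A : Set G)).subgroupOf W := by
        by_cases hc : ∀ r ∈ R, ∀ i, cj r (Z i) = l.1 → A ≤ centralizer (cj r (V i) : Set G)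
        · have h1 : WG R V Z l.1 ≤ centralizer (A : Set G) := by
            refine sSup_le ?_
            rintro X ⟨r, hr, i, e, rfl⟩
            exact le_centralizer_iff.1 (hc r hr i e)
          exact h1 hm
        · push Not at hc
          obtain ⟨r, hr, i, e, h1⟩ := hc
          refine (sup_le ?_ (iSup₂_le fun k hk => ?_) :
            W₀ ⊔ ⨆ (k : Lam R Z) (_ : k ≠ l), Wl k ≤ (centralizer (A : Set G)).subgroupOf W) hm'
          · intro w hw
            exact mem_centralizer_iff.2 fun a ha => hw A hA a ha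
          · intro w hw
            have h2 : WG R V Z k.1 ≤ centralizer (A : Set G) := by
              refine sSup_le ?_
              rintro X ⟨s, hs, j, e', rfl⟩
              refine le_centralizer_iff.1 ?_
              by_contra h3
              exact hk (Subtype.ext (by rw [← e', ← e]; exact (h.AAone A hA r hr i s hs j h1 h3).symm))
            exact h2 hw
      intro a ha
      exact mem_centralizer_iff.1 hCA a ha
    have hk : ∀ {k l : Lam R Z}, k ≠ l → Wl k ≤ W₀ ⊔ ⨆ (k : Lam R Z) (_ : k ≠ l), Wl k := fun {k l} hkl =>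
      (le_iSup₂_of_le (f := fun (k : Lam R Z) (_ : k ≠ l) => Wl k) k hkl le_rfl).trans le_sup_right
    -- quadratic
    have hq : ∀ (l : Lam R Z) (f₀ : F), f₀ • l ≠ l → ∀ (f g : F) (v : W), (v : G) ∈ cj (ρ l) (V (κ l)) →
        g • (f • v * v⁻¹) = f • v * v⁻¹ := by
      intro l f₀ hf₀ f g v hv
      have h1 : cj (f₀ : G) (cj (ρ l) (Z (κ l))) ≠ cj (ρ l) (Z (κ l)) := by
        rw [hκ l]
        intro e
        exact hf₀ (Subtype.ext e)
      have h2 := h.quad hFS hb hmin' (hρ l) (κ l) f₀.2 h1 f.2 g.2 hv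
      apply Subtype.ext
      show (g : G) * (f * v * (f : G)⁻¹ * (v : G)⁻¹) * (g : G)⁻¹ = f * v * (f : G)⁻¹ * (v : G)⁻¹
      rw [h2, mul_inv_cancel_right]
    have hq2 : ∀ (l : Lam R Z) (f₀ : F), f₀ • l ≠ l → ∀ (f g : F) (v : W), (v : G) ∈ cj (ρ l) (V (κ l)) →
        g • v * v⁻¹ = g • f • v * (f • v)⁻¹ := by
      intro l f₀ hf₀ f g v hv
      have h1 := hq l f₀ hf₀ f g v hv
      rw [smul_mul', smul_inv'] at h1
      have h2 : g • f • v = f • v * v⁻¹ * g • v := by rw [← h1, inv_mul_cancel_right]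
      rw [h2, mul_comm (f • v * v⁻¹ * g • v) (f • v)⁻¹, mul_assoc (f • v), inv_mul_cancel_left, mul_comm]
    -- commuting and squares on the lines
    have hcen : ∀ {x : G}, x ∈ centralizer (W : Set G) → ∀ {X : Subgroup G}, X ≤ W → cj x X = X := by
      intro x hx X hX
      refine cj_eq_of_mem_normalizer (centralizer_le_normalizer _ ?_)
      exact centralizer_le (SetLike.coe_subset_coe.2 hX) hx
    have hsq : ∀ (g : F) (l : Lam R Z), g • g • l = l := by
      intro g l
      apply Subtype.ext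
      show cj (g : G) (cj (g : G) l.1) = l.1
      rw [cj_cj]
      have h1 := hb.2.2 (g : G) g.2
      rw [pow_two] at h1
      exact hcen h1 (hlW l)
    have comm : ∀ (f g : F) (l : Lam R Z), f • g • l = g • f • l := by
      intro f g l
      apply Subtype.ext
      show cj (f : G) (cj (g : G) l.1) = cj (g : G) (cj (f : G) l.1)
      have h1 : ⁅(f : G)⁻¹, (g : G)⁻¹⁆ ∈ centralizer (W : Set G) :=
        hb.2.1 (commutator_mem_commutator (inv_mem f.2) (inv_mem g.2))
      have h2 := hcen h1 (hlW l)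
      have e : cj (f : G) (cj (g : G) l.1) = cj (g : G) (cj (f : G) (cj ⁅(f : G)⁻¹, (g : G)⁻¹⁆ l.1)) := by
        rw [cj_cj, cj_cj, cj_cj, commutatorElement_def]
        congr 1
        group
      rw [e, h2]
    -- representatives `e l`
    have hev : ∀ l : Lam R Z, ∃ v : W, (v : G) ∈ cj (ρ l) (V (κ l)) ∧ (v : G) ∉ l.1 := by
      intro l
      obtain ⟨v, hv, hv'⟩ := h.neR (r := ρ l) (κ l)
      exact ⟨⟨v, hVW l hv⟩, hv, by rw [← hκ l]; exact hv'⟩
    choose e he he' using hev
    have hne : ∀ l, e l ∉ W₀ := fun l hl => he' l (hV0 l _ (he l) hl)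
    have two : ∀ (f g : F) (l : Lam R Z), f • l ≠ l → g • l ≠ l → f • l = g • l := by
      intro f g l hf hg
      by_contra hfg
      apply hne l
      apply dir l _ (hVl l _ (he l))
      have h1 := hq2 l f hf f g (e l) (he l)
      have h2 : e l = f • e l * (g • f • e l)⁻¹ * g • e l := by
        have h3 : g • e l = g • f • e l * (f • e l)⁻¹ * e l := by rw [← h1, inv_mul_cancel_right]
        rw [h3, mul_comm (f • e l), mul_assoc (g • f • e l)⁻¹, mul_assoc (g • f • e l),
          mul_left_comm (f • e l), inv_mul_cancel_left, mul_inv_cancel_left]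
      have h4 : g • f • l ≠ l := by
        intro h5
        apply hfg
        have h6 : g • g • f • l = g • l := by rw [h5]
        rw [hsq] at h6
        exact h6
      rw [h2]
      exact mul_mem (mul_mem (hk hf (hWl f l _ (hVl l _ (he l))))
        (inv_mem (hk h4 (hWl g _ _ (hWl f l _ (hVl l _ (he l))))))) (hk hg (hWl g l _ (hVl l _ (he l))))
    -- the kernel
    let F₀ : Subgroup F :=
      { carrier := {f | ∀ l : Lam R Z, f • l = l}
        one_mem' := fun l => one_smul F l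
        mul_mem' := fun {a b} ha hb l => by
          show (a * b) • l = l
          rw [mul_smul, hb l, ha l]
        inv_mem' := fun {a} ha l => by
          show a⁻¹ • l = l
          rw [inv_smul_eq_iff, ha l] }
    have hF₀ : ∀ f : F, f ∈ F₀ ↔ ∀ l : Lam R Z, f • l = l := fun _ => Iff.rfl
    have hFK₀ : ∀ f ∈ F₀, (f : G) ∈ K := by
      intro f hf
      refine hR0 ⟨⟨hFR f.2, fun r hr i => ?_⟩, hFS f.2⟩
      exact congrArg Subtype.val (hf ⟨cj r (Z i), r, hr, i, rfl⟩)
    have fixV : ∀ l : Lam R Z, (∃ f : F, f • l ≠ l) → ∀ f ∈ F₀, ∀ v : W, (v : G) ∈ cj (ρ l) (V (κ l)) →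
        f • v = v := by
      rintro l ⟨f₁, hf₁⟩ f hf
      have hfK := hFK₀ f hf
      have hfl : cj (f : G) l.1 = l.1 := congrArg Subtype.val (hf l)
      have hn : cj (f : G) (cj (ρ l) (V (κ l))) = cj (ρ l) (V (κ l)) :=
        h.permR hfK (hρ l) (κ l) (by rw [hκ l]; exact hfl)
      have hc : ∀ v ∈ cj (ρ l) (V (κ l)), (f : G) * v * (f : G)⁻¹ * v⁻¹ ∈ cj (ρ l) (Z (κ l)) := by
        intro v hv
        let w : W := ⟨v, hVW l hv⟩
        have h1 : f • w * w⁻¹ ∈ W₀ := by
          apply dir l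
          · refine mul_mem ?_ (inv_mem (hVl l w hv))
            have := hWl f l w (hVl l w hv)
            rwa [hf l] at this
          · rw [hq2 l f₁ hf₁ f₁ f w hv]
            have h2 := hWl f₁ l w (hVl l w hv)
            have h3 := hWl f _ _ h2
            rw [hf] at h3
            exact mul_mem (hk hf₁ h3) (inv_mem (hk hf₁ h2))
        have h2 : ((f • w * w⁻¹ : W) : G) ∈ cj (ρ l) (V (κ l)) := by
          show (f : G) * v * (f : G)⁻¹ * v⁻¹ ∈ _
          refine mul_mem ?_ (inv_mem hv)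
          rw [← hn, mem_cj]
          have e : (f : G)⁻¹ * ((f : G) * v * (f : G)⁻¹) * f = v := by group
          rwa [e]
        have h3 := hV0 l _ h2 h1
        rw [hκ l]
        exact h3
      rcases h.rootR hfK (hρ l) (κ l) hc with h1 | h1
      · intro v hv
        apply Subtype.ext
        show (f : G) * v * (f : G)⁻¹ = v
        rw [h1 _ hv, mul_inv_cancel_right]
      · exfalso
        apply hf₁
        apply Subtype.ext
        show cj (f₁ : G) l.1 = l.1
        have hfix : ∀ z ∈ l.1, (f₁ : G) * z * (f₁ : G)⁻¹ = z := by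
          intro z hz
          rw [← hκ l] at hz
          obtain ⟨v, hv, e⟩ := h1 z hz
          have h2 := hq l f₁ hf₁ f f₁ ⟨v, hVW l hv⟩ hv
          have h3 : (f₁ : G) * ((f : G) * v * (f : G)⁻¹ * v⁻¹) * (f₁ : G)⁻¹ = (f : G) * v * (f : G)⁻¹ * v⁻¹ :=
            congrArg Subtype.val h2
          rwa [e] at h3
        apply cj_eq_of_mem_normalizer
        rw [mem_normalizer_iff]
        intro z
        constructor
        · intro hz
          rw [hfix z hz]; exact hz
        · intro hz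
          have h4 := hfix _ hz
          have e : (f₁ : G) * z * (f₁ : G)⁻¹ = z := mul_left_cancel (mul_right_cancel h4)
          rwa [e] at hz
    -- a moved line
    obtain ⟨l₁, f₁, hl₁⟩ : ∃ (l : Lam R Z) (f : F), f • l ≠ l := by
      by_contra hc
      push Not at hc
      apply hFK
      intro f hf
      exact hFK₀ ⟨f, hf⟩ fun l => hc l ⟨f, hf⟩
    obtain ⟨n, hn, f₂, hn'⟩ : ∃ n : W, (n : G) ∈ l₁.1 ∧ ∃ f : F, f • n ≠ n := by
      by_contra hc
      push Not at hc
      apply hl₁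
      apply Subtype.ext
      show cj (f₁ : G) l₁.1 = l₁.1
      have hfix : ∀ z ∈ l₁.1, (f₁ : G) * z * (f₁ : G)⁻¹ = z := fun z hz =>
        congrArg Subtype.val (hc ⟨z, hlW l₁ hz⟩ hz f₁)
      apply cj_eq_of_mem_normalizer
      rw [mem_normalizer_iff]
      intro z
      constructor
      · intro hz
        rw [hfix z hz]; exact hz
      · intro hz
        have h4 := hfix _ hz
        have e : (f₁ : G) * z * (f₁ : G)⁻¹ = z := mul_left_cancel (mul_right_cancel h4)
        rwa [e] at hz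
    have hnZ : (n : G) ∈ cj (ρ l₁) (Z (κ l₁)) := by rw [hκ l₁]; exact hn
    have hcount := PermCount.count Wl W₀ hWl hW₀ dir two comm F₀ hF₀ e (fun l => hVl l _ (he l)) hne
      (fun l hl f hf => fixV l hl f hf _ (he l)) (n := n)
      (fun A hA a ha => h.zR (hρ l₁) hA (κ l₁) ha hnZ)
      (fun f hf => fixV l₁ ⟨f₁, hl₁⟩ f hf n (h.cjZ_le _ _ hnZ)) ⟨f₂, hn'⟩
    -- comparison with bestness
    have hfx : ∀ B : Subgroup F, Nat.card (PermCount.fx W B) =
        Nat.card ↥(W ⊓ centralizer ((B.map F.subtype : Subgroup G) : Set G)) := by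
      intro B
      refine Nat.card_congr ⟨fun w => ⟨w.1.1, w.1.2, ?_⟩, fun w => ⟨⟨w.1, w.2.1⟩, ?_⟩, fun w => rfl, fun w => rfl⟩
      · refine mem_centralizer_iff.2 ?_
        rintro _ ⟨b, hb', rfl⟩
        have h1 : (b : G) * w.1.1 * (b : G)⁻¹ = w.1.1 := congrArg Subtype.val (w.2 b hb')
        show (b : G) * w.1.1 = w.1.1 * b
        calc (b : G) * w.1.1 = (b : G) * w.1.1 * (b : G)⁻¹ * b := by group
          _ = _ := by rw [h1]
      · intro b hb'
        apply Subtype.ext
        show (b : G) * w.1 * (b : G)⁻¹ = w.1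
        have h1 := mem_centralizer_iff.1 w.2.2 (b : G) ⟨b, hb', rfl⟩
        rw [h1, mul_inv_cancel_right]
    have hcF₀ : Nat.card ↥(F₀.map F.subtype) = Nat.card F₀ :=
      Nat.card_congr (F₀.equivMapOfInjective F.subtype F.subtype_injective).symm.toEquiv
    have h1 := hb.1 (F₀.map F.subtype) (by rintro _ ⟨f, _, rfl⟩; exact f.2)
    rw [hcF₀, ← hfx F₀] at h1
    have h2 : (⊤ : Subgroup F).map F.subtype = F := by
      rw [← MonoidHom.range_eq_map, Subgroup.range_subtype]
    have h3 := hfx ⊤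
    rw [h2] at h3
    rw [← h3] at h1
    have h4 : 0 < Nat.card F * Nat.card (PermCount.fx W (⊤ : Subgroup F)) := Nat.mul_pos Nat.card_pos Nat.card_pos
    omega

end PA

end Cfsg.Agent.Omega.NOThreeL.RWide
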