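import Cfsg.Agent.Omega.NO1.BestOff
import Cfsg.Agent.Omega.NOThreeL.RWide.Coord
import Cfsg.Agent.Omega.NOThreeL.RWide.PIn

/-!
# THEOREM PERM+ (helper278, bb OMEGA #24948 / #25094), case (B): all best offenders of `S` on `U` lie in `K = O_2(R)`

`PB S P R K Q U V Z` : `P`, `R ≥ S`, `K = O_2(R)`, `Q = O_2(P) = C_S(⨆ V)`, `U = ⟨(⨆ V)^⟨P, R⟩⟩ ≤ S` abelian,
all best offenders of `S` on `U` act on every block as root groups (`RootOn`) and lie in `K`, one of them moves `⨆ V`,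
`P` is irreducible on `⨆ V`, `R` centralises an element of `⨆ Z` of full support.

* `Best.sub`, `Best.cut` : restriction of best offenders, cutting;
* **`PB.perm`** : `R` permutes the `Z b`.
-/

set_option autoImplicit false
set_option linter.unusedSectionVars false

namespace Cfsg.Agent.Omega.NOThreeL.RWide.PermB

open Subgroup Cfsg Cfsg.Agent.ZN.ChoiceBase Cfsg.Agent.Omega.FFThm Cfsg.Agent.Omega.NO1.BestOff
open Cfsg.Agent.Omega.OmThm.SideBase (card_sup_comm)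

universe u

variable {G : Type u} [Group G]

section tools

variable [Finite G]

/-- `|W| |K| ≤ |W ∩ K| |J|` for `W, K ≤ J` -/
theorem card_mul_le {W K J : Subgroup G} (hW : W ≤ J) (hK : K ≤ J) :
    Nat.card W * Nat.card K ≤ Nat.card ↥(W ⊓ K) * Nat.card J := by
  have h1 : K.relIndex W ≤ K.relIndex J := relIndex_le_of_le_right hW (rne _ _)
  have h2 : K.relIndex W * Nat.card ↥(W ⊓ K) = Nat.card W := by
    rw [inf_comm, ← inf_relIndex_right]
    exact rmc inf_le_right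
  have h3 := rmc hK
  calc Nat.card W * Nat.card K = K.relIndex W * (Nat.card ↥(W ⊓ K) * Nat.card K) := by rw [← h2]; ring
    _ ≤ K.relIndex J * (Nat.card ↥(W ⊓ K) * Nat.card K) := Nat.mul_le_mul_right _ h1
    _ = _ := by rw [← h3]; ring

/-- a best offender on `V` is a best offender on every `W ≤ V` -/
theorem Best.sub {V W X : Subgroup G} (h : Best V X) (hWV : W ≤ V) : Best W X where
  sq := fun a ha => centralizer_le hWV (h.sq a ha)
  comm := fun a ha b hb => centralizer_le hWV (h.comm a ha b hb)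
  max := by
    intro Y hYX hY
    have h1 := h.max Y hYX ((inf_le_inf_left X (centralizer_le hWV)).trans hY)
    have h2 := card_mul_le (W := W ⊓ centralizer (Y : Set G)) (K := V ⊓ centralizer (X : Set G))
      (J := V ⊓ centralizer (Y : Set G)) (inf_le_inf_right _ hWV)
      (inf_le_inf_left _ (centralizer_le hYX))
    have h3 : W ⊓ centralizer (Y : Set G) ⊓ (V ⊓ centralizer (X : Set G)) = W ⊓ centralizer (X : Set G) := by
      apply le_antisymm
      · exact le_inf (inf_le_left.trans inf_le_left) (inf_le_right.trans inf_le_right)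
      · exact le_inf (le_inf inf_le_left (inf_le_right.trans (centralizer_le hYX)))
          (le_inf (inf_le_left.trans hWV) inf_le_right)
    rw [h3] at h2
    have hpos : 0 < Nat.card ↥(V ⊓ centralizer (X : Set G)) := Nat.card_pos
    refine Nat.le_of_mul_le_mul_right ?_ hpos
    calc Nat.card Y * Nat.card ↥(W ⊓ centralizer (Y : Set G)) * Nat.card ↥(V ⊓ centralizer (X : Set G))
        = Nat.card Y * (Nat.card ↥(W ⊓ centralizer (Y : Set G)) * Nat.card ↥(V ⊓ centralizer (X : Set G))) := by ring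
      _ ≤ Nat.card Y * (Nat.card ↥(W ⊓ centralizer (X : Set G)) * Nat.card ↥(V ⊓ centralizer (Y : Set G))) :=
          Nat.mul_le_mul_left _ h2
      _ = Nat.card ↥(W ⊓ centralizer (X : Set G)) * (Nat.card Y * Nat.card ↥(V ⊓ centralizer (Y : Set G))) := by ring
      _ ≤ Nat.card ↥(W ⊓ centralizer (X : Set G)) * (Nat.card X * Nat.card ↥(V ⊓ centralizer (X : Set G))) :=
          Nat.mul_le_mul_left _ h1
      _ = _ := by ring

/-- cutting: `|A : C_A(V')| ≤ |V' : C_{V'}(A)|` implies that `C_A(V')` is best -/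
theorem Best.cut {U V' A : Subgroup G} (h : Best U A) (hV : V' ≤ U)
    (hc : Nat.card A * Nat.card ↥(V' ⊓ centralizer (A : Set G)) ≤
      Nat.card V' * Nat.card ↥(A ⊓ centralizer (V' : Set G))) : Best U (A ⊓ centralizer (V' : Set G)) where
  sq := fun a ha => h.sq a ha.1
  comm := fun a ha b hb => h.comm a ha.1 b hb.1
  max := by
    intro Y hY hYc
    set A₁ : Subgroup G := A ⊓ centralizer (V' : Set G) with hA₁
    have h1 := h.max Y (hY.trans inf_le_left)
      ((le_inf (le_inf inf_le_left (inf_le_right.trans (centralizer_le hV))) inf_le_right).trans hYc)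
    refine h1.trans ?_
    have h2 := card_mul_le (W := V') (K := U ⊓ centralizer (A : Set G)) (J := U ⊓ centralizer (A₁ : Set G))
      (le_inf hV (le_centralizer_iff.1 inf_le_right)) (inf_le_inf_left _ (centralizer_le inf_le_left))
    have h3 : V' ⊓ (U ⊓ centralizer (A : Set G)) = V' ⊓ centralizer (A : Set G) := by
      rw [← inf_assoc, inf_eq_left.2 hV]
    rw [h3] at h2
    have hpos : 0 < Nat.card V' := Nat.card_pos
    refine Nat.le_of_mul_le_mul_left ?_ hpos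
    calc Nat.card V' * (Nat.card A * Nat.card ↥(U ⊓ centralizer (A : Set G)))
        = Nat.card A * (Nat.card V' * Nat.card ↥(U ⊓ centralizer (A : Set G))) := by ring
      _ ≤ Nat.card A * (Nat.card ↥(V' ⊓ centralizer (A : Set G)) * Nat.card ↥(U ⊓ centralizer (A₁ : Set G))) :=
          Nat.mul_le_mul_left _ h2
      _ = (Nat.card A * Nat.card ↥(V' ⊓ centralizer (A : Set G))) * Nat.card ↥(U ⊓ centralizer (A₁ : Set G)) := by ring
      _ ≤ (Nat.card V' * Nat.card A₁) * Nat.card ↥(U ⊓ centralizer (A₁ : Set G)) := Nat.mul_le_mul_right _ hc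
      _ = _ := by ring

theorem mem_sup_comm {X Y : Subgroup G} (h : ∀ x ∈ X, ∀ y ∈ Y, x * y = y * x) {u : G} (hu : u ∈ X ⊔ Y) :
    ∃ x ∈ X, ∃ y ∈ Y, u = x * y := by
  let Z : Subgroup G :=
    { carrier := {u | ∃ x ∈ X, ∃ y ∈ Y, u = x * y}
      mul_mem' := by
        rintro _ _ ⟨x, hx, y, hy, rfl⟩ ⟨x', hx', y', hy', rfl⟩
        refine ⟨x * x', mul_mem hx hx', y * y', mul_mem hy hy', ?_⟩
        calc x * y * (x' * y') = x * (y * x') * y' := by group
          _ = x * (x' * y) * y' := by rw [h x' hx' y hy]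
          _ = _ := by group
      one_mem' := ⟨1, one_mem _, 1, one_mem _, (mul_one 1).symm⟩
      inv_mem' := by
        rintro _ ⟨x, hx, y, hy, rfl⟩
        exact ⟨x⁻¹, inv_mem hx, y⁻¹, inv_mem hy, by rw [mul_inv_rev, h _ (inv_mem hx) _ (inv_mem hy)]⟩ }
  have h1 : X ⊔ Y ≤ Z := sup_le (fun x hx => ⟨x, hx, 1, one_mem _, (mul_one x).symm⟩)
    fun y hy => ⟨1, one_mem _, y, hy, (one_mul y).symm⟩
  exact h1 hu

theorem le_cent_iff {A W : Subgroup G} : A ≤ centralizer (W : Set G) ↔ ∀ a ∈ A, ∀ w ∈ W, a * w = w * a := by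
  constructor
  · intro h a ha w hw
    exact (mem_centralizer_iff.1 (h ha) w hw).symm
  · intro h a ha
    exact mem_centralizer_iff.2 fun w hw => (h a ha w hw).symm

/-- a 2-group `S`, `M ≤ S`, `M ≤ [M, S]`: then `M = 1` -/
theorem eq_bot_of_le_commutator {S M : Subgroup G} (hS : IsPGroup 2 S) (hMS : M ≤ S) (h : M ≤ ⁅M, S⁆) : M = ⊥ := by
  have hf : Fact (Nat.Prime 2) := ⟨Nat.prime_two⟩
  have key : ∀ n, M ≤ S.lowerCentralSeries n := by
    intro n
    induction n with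
    | zero => exact hMS
    | succ n ih => exact h.trans (commutator_mono ih le_rfl)
  obtain ⟨n, hn'⟩ := (isNilpotent_iff_lowerCentralSeries S).1 hS.isNilpotent
  have h2 := key n
  rw [hn'] at h2
  exact le_bot_iff.1 h2

end tools

/-! ### Full root groups on one block -/

section root

variable [Finite G] {U A W Z : Subgroup G}

/-- a root group `A` which moves `W`: `C_W(A) = Z` -/
theorem inf_cent (hr : RootOn A W Z) (hZW : Z ≤ W) (hm : ¬ A ≤ centralizer (W : Set G)) :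
    W ⊓ centralizer (A : Set G) = Z := by
  apply le_antisymm
  · intro v hv
    by_contra hvZ
    obtain ⟨-, h2⟩ := (hr.full.resolve_left hm) v hv.1 hvZ
    exact hm fun a ha => h2 a ha (mem_centralizer_iff.1 hv.2 a ha)
  · exact le_inf hZW (le_centralizer_iff.1 (le_cent_iff.2 fun b hb z hz => hr.fixZ b hb z hz))

theorem exists_not_mem (hc : Nat.card W = Nat.card Z ^ 2) (hZ : Z ≠ ⊥) : ∃ v ∈ W, v ∉ Z := by
  by_contra hcon
  push Not at hcon
  have h1 : Nat.card W ≤ Nat.card Z := Subgroup.card_le_of_le hcon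
  rw [hc] at h1
  have h2 : 1 < Nat.card Z := (Subgroup.one_lt_card_iff_ne_bot _).2 hZ
  nlinarith

/-- `|A| = |Z| |C_A(W)|` -/
theorem card_eq (hab : ∀ u ∈ W, ∀ v ∈ W, u * v = v * u) (hr : RootOn A W Z) (hZW : Z ≤ W)
    (hc : Nat.card W = Nat.card Z ^ 2) (hZ : Z ≠ ⊥) (hm : ¬ A ≤ centralizer (W : Set G)) :
    Nat.card A = Nat.card Z * Nat.card ↥(A ⊓ centralizer (W : Set G)) := by
  obtain ⟨v, hv, hvZ⟩ := exists_not_mem hc hZ
  obtain ⟨hf1, hf2⟩ := (hr.full.resolve_left hm) v hv hvZ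
  let φ : A →* Z :=
    { toFun := fun a => ⟨(a : G) * v * (a : G)⁻¹ * v⁻¹, hr.comm a a.2 v hv⟩
      map_one' := by
        apply Subtype.ext
        show (1 : G) * v * (1 : G)⁻¹ * v⁻¹ = 1
        group
      map_mul' := by
        intro a b
        apply Subtype.ext
        show ((a : G) * (b : G)) * v * ((a : G) * (b : G))⁻¹ * v⁻¹ =
          ((a : G) * v * (a : G)⁻¹ * v⁻¹) * ((b : G) * v * (b : G)⁻¹ * v⁻¹)
        set c : G := (b : G) * v * (b : G)⁻¹ * v⁻¹ with hc'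
        have h1 : c ∈ Z := hr.comm b b.2 v hv
        have h2 : (a : G) * c = c * (a : G) := hr.fixZ a a.2 c h1
        have h3 : c * ((a : G) * v * (a : G)⁻¹ * v⁻¹) = ((a : G) * v * (a : G)⁻¹ * v⁻¹) * c :=
          hab _ (hZW h1) _ (hZW (hr.comm a a.2 v hv))
        have h4 : (b : G) * v * (b : G)⁻¹ = c * v := by rw [hc']; group
        calc ((a : G) * (b : G)) * v * ((a : G) * (b : G))⁻¹ * v⁻¹
            = (a : G) * ((b : G) * v * (b : G)⁻¹) * (a : G)⁻¹ * v⁻¹ := by group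
          _ = (a : G) * c * v * (a : G)⁻¹ * v⁻¹ := by rw [h4]; group
          _ = c * ((a : G) * v * (a : G)⁻¹ * v⁻¹) := by rw [h2]; group
          _ = _ := h3 }
  have hker : φ.ker = (A ⊓ centralizer (W : Set G)).subgroupOf A := by
    ext a
    rw [MonoidHom.mem_ker, mem_subgroupOf, Subtype.ext_iff]
    show (a : G) * v * (a : G)⁻¹ * v⁻¹ = 1 ↔ _
    rw [mul_inv_eq_one, mul_inv_eq_iff_eq_mul]
    constructor
    · intro h
      exact ⟨a.2, hf2 a a.2 h⟩
    · intro h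
      exact (mem_centralizer_iff.1 h.2 v hv).symm
  have hr' : φ.range = ⊤ := by
    rw [eq_top_iff]
    rintro ⟨z, hz⟩ -
    obtain ⟨a, ha, e⟩ := hf1 z hz
    exact ⟨⟨a, ha⟩, Subtype.ext e⟩
  have h2 : Nat.card φ.ker * Nat.card φ.range = Nat.card A := by
    rw [← index_ker]
    exact card_mul_index φ.ker
  have h3 : Nat.card φ.range = Nat.card Z := by
    rw [hr']
    exact card_top
  rw [hker, Nat.card_congr (subgroupOfEquivOfLe inf_le_left).toEquiv, h3] at h2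
  rw [← h2, mul_comm]

/-- `C_A(W)` is best -/
theorem best_cut (hb : Best U A) (hWU : W ≤ U) (hab : ∀ u ∈ U, ∀ v ∈ U, u * v = v * u) (hr : RootOn A W Z)
    (hZW : Z ≤ W) (hc : Nat.card W = Nat.card Z ^ 2) (hZ : Z ≠ ⊥) (hm : ¬ A ≤ centralizer (W : Set G)) :
    Best U (A ⊓ centralizer (W : Set G)) := by
  refine Best.cut hb hWU ?_
  rw [inf_cent hr hZW hm, card_eq (fun u hu v hv => hab u (hWU hu) v (hWU hv)) hr hZW hc hZ hm, hc]
  exact le_of_eq (by ring)

end root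

/-! ### The frame -/

variable {ι : Type*}

/-- The frame of case (B). -/
structure PB (S P R K Q U : Subgroup G) (V Z : ι → Subgroup G) : Prop where
  two : IsPGroup 2 S
  SP : S ≤ P
  SR : S ≤ R
  KS : K ≤ S
  nK : R ≤ normalizer (K : Set G)
  QS : Q ≤ S
  nQ : P ≤ normalizer (Q : Set G)
  memQ : S ⊓ centralizer ((⨆ b, V b : Subgroup G) : Set G) ≤ Q
  QV : Q ≤ centralizer ((⨆ b, V b : Subgroup G) : Set G)
  nV : P ≤ normalizer ((⨆ b, V b : Subgroup G) : Set G)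
  nU : P ⊔ R ≤ normalizer (U : Set G)
  US : U ≤ S
  ab : ∀ u ∈ U, ∀ v ∈ U, u * v = v * u
  VU : ∀ b, V b ≤ U
  gen : U ≤ ⨆ h : ↥(P ⊔ R), cj (h : G) (⨆ b, V b)
  ZV : ∀ b, Z b ≤ V b
  Zne : ∀ b, Z b ≠ ⊥
  dj : ∀ b c, b ≠ c → ∀ v ∈ V b, v ∈ V c → v = 1
  card : ∀ b, Nat.card (V b) = Nat.card (Z b) ^ 2
  ro : ∀ A ≤ S, Best U A → ∀ b, RootOn A (V b) (Z b)
  bK : ∀ A ≤ S, Best U A → A ≤ K
  mv : ∃ A ≤ S, Best U A ∧ ¬ A ≤ centralizer ((⨆ b, V b : Subgroup G) : Set G)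
  irr : ∀ X ≤ ⨆ b, V b, P ≤ normalizer (X : Set G) → X = ⊥ ∨ (⨆ b, V b) ≤ X
  tr : ∀ b c, ∃ s ∈ S, cj s (V b) = V c ∧ cj s (Z b) = Z c
  z : ∃ z ∈ ⨆ b, Z b, (∀ r ∈ R, r * z = z * r) ∧ ∀ b, z ∉ ⨆ (c) (_ : c ≠ b), Z c

/-- `|A : C_A(U)|` -/
noncomputable def dd (U A : Subgroup G) : ℕ := (centralizer (U : Set G)).relIndex A

/-- pure members -/
structure Pu (S U A : Subgroup G) : Prop where
  le : A ≤ S
  best : Best U A
  mv : ¬ A ≤ centralizer (U : Set G)
  min : ∀ A' ≤ S, Best U A' → ¬ A' ≤ centralizer (U : Set G) → dd U A ≤ dd U A'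

section pure

variable [Finite G]

theorem dd_mul (U A : Subgroup G) : dd U A * Nat.card ↥(A ⊓ centralizer (U : Set G)) = Nat.card A := by
  rw [dd, inf_comm, ← inf_relIndex_right]
  exact rmc inf_le_right

theorem dd_cj {U A : Subgroup G} {h : G} (hh : h ∈ normalizer (U : Set G)) : dd U (cj h A) = dd U A := by
  rw [dd, dd]
  nth_rw 1 [← cj_eq_of_mem_normalizer hh]
  rw [← cj_centralizer, relIndex_cj]

theorem dd_lt {U A A' : Subgroup G} (h : A' ≤ A) (hne : ¬ A ≤ A') (hc : A ⊓ centralizer (U : Set G) ≤ A') :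
    dd U A' < dd U A := by
  have h1 := dd_mul U A
  have h2 := dd_mul U A'
  have h3 : A' ⊓ centralizer (U : Set G) = A ⊓ centralizer (U : Set G) :=
    le_antisymm (inf_le_inf_right _ h) (le_inf hc inf_le_right)
  rw [h3] at h2
  have h4 : Nat.card A' < Nat.card A := by
    refine lt_of_le_of_ne (card_le_of_le h) fun e => hne ?_
    exact (eq_of_le_of_card_ge h e.ge).ge
  rw [← h1, ← h2] at h4
  exact lt_of_mul_lt_mul_right h4 (Nat.zero_le _)

theorem cent_cj_iff {U A : Subgroup G} {h : G} (hh : h ∈ normalizer (U : Set G)) :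
    cj h A ≤ centralizer (U : Set G) ↔ A ≤ centralizer (U : Set G) := by
  have h1 : cj h (centralizer (U : Set G)) = centralizer (U : Set G) := by
    rw [cj_centralizer, cj_eq_of_mem_normalizer hh]
  constructor
  · intro h2
    rw [← h1] at h2
    have := cj_mono h⁻¹ h2
    rwa [cj_inv_cj, cj_inv_cj] at this
  · intro h2
    rw [← h1]
    exact cj_mono h h2

theorem Pu.cj {S U A : Subgroup G} (hp : Pu S U A) {h : G} (hh : h ∈ normalizer (U : Set G)) (hS : cj h A ≤ S) :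
    Pu S U (cj h A) where
  le := hS
  best := hp.best.conj hh
  mv := fun h1 => hp.mv ((cent_cj_iff hh).1 h1)
  min := fun A' h1 h2 h3 => by rw [dd_cj hh]; exact hp.min A' h1 h2 h3

end pure

namespace PB

variable [Finite G] {S P R K Q U : Subgroup G} {V Z : ι → Subgroup G} (h : PB S P R K Q U V Z)
include h

theorem nUh {x : G} (hx : x ∈ P ⊔ R) : x ∈ normalizer (U : Set G) := h.nU hx

theorem Sn : S ≤ P ⊔ R := h.SP.trans le_sup_left

/-- (B1), (B2) : the gallery -/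
theorem gallery {A A' : Subgroup G} (hA : A ≤ S) (hAb : Best U A) (hA' : A' ≤ S) (hAb' : Best U A')
    (hm : ¬ A ≤ centralizer (U : Set G)) :
    ∃ x ∈ P ⊔ R, A ≤ cj x S ∧ A' ≤ cj x S ∧
      (¬ A ≤ centralizer ((cj x (⨆ b, V b) : Subgroup G) : Set G) ∨
        ¬ A' ≤ centralizer ((cj x (⨆ b, V b) : Subgroup G) : Set G)) := by
  by_contra hcon
  push Not at hcon
  -- one step
  have step : ∀ E : Subgroup G, Best U E → ∀ x ∈ P ⊔ R, E ≤ cj x S →
      E ≤ centralizer ((cj x (⨆ b, V b) : Subgroup G) : Set G) →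
        (∀ p ∈ P, E ≤ cj (x * p) S) ∧ ∀ r ∈ R, E ≤ cj (x * r) S := by
    intro E hE x hx hES hEV
    have e1 : cj x⁻¹ E ≤ S := by
      have := cj_mono x⁻¹ hES
      rwa [cj_inv_cj] at this
    have e2 : cj x⁻¹ E ≤ centralizer ((⨆ b, V b : Subgroup G) : Set G) := by
      have := cj_mono x⁻¹ hEV
      rwa [cj_centralizer, cj_inv_cj] at this
    have e3 : Best U (cj x⁻¹ E) := hE.conj (h.nUh (inv_mem hx))
    constructor
    · intro p hp
      have e4 : cj x⁻¹ E ≤ cj p S := by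
        refine (le_trans (le_inf e1 e2) h.memQ).trans ?_
        have := cj_mono p h.QS
        rwa [cj_eq_of_mem_normalizer (h.nQ hp)] at this
      have := cj_mono x e4
      rwa [cj_cj_inv, cj_cj] at this
    · intro r hr
      have e4 : cj x⁻¹ E ≤ cj r S := by
        refine (h.bK _ e1 e3).trans ?_
        have := cj_mono r h.KS
        rwa [cj_eq_of_mem_normalizer (h.nK hr)] at this
      have := cj_mono x e4
      rwa [cj_cj_inv, cj_cj] at this
  have key : ∀ x ∈ P ⊔ R, A ≤ cj x S ∧ A' ≤ cj x S := by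
    intro x hx
    rw [sup_eq_closure] at hx
    induction hx using closure_induction_right with
    | one => rw [cj_one]; exact ⟨hA, hA'⟩
    | mul_right x hx y hy ih =>
      rw [← sup_eq_closure] at hx
      obtain ⟨h1, h2⟩ := hcon x hx ih.1 ih.2
      obtain ⟨s1, s2⟩ := step A hAb x hx ih.1 h1
      obtain ⟨t1, t2⟩ := step A' hAb' x hx ih.2 h2
      rcases hy with hy | hy
      · exact ⟨s1 y hy, t1 y hy⟩
      · exact ⟨s2 y hy, t2 y hy⟩
    | mul_inv_cancel x hx y hy ih =>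
      rw [← sup_eq_closure] at hx
      obtain ⟨h1, h2⟩ := hcon x hx ih.1 ih.2
      obtain ⟨s1, s2⟩ := step A hAb x hx ih.1 h1
      obtain ⟨t1, t2⟩ := step A' hAb' x hx ih.2 h2
      rcases hy with hy | hy
      · exact ⟨s1 _ (inv_mem hy), t1 _ (inv_mem hy)⟩
      · exact ⟨s2 _ (inv_mem hy), t2 _ (inv_mem hy)⟩
  apply hm
  rw [le_centralizer_iff]
  refine h.gen.trans (iSup_le fun x => ?_)
  obtain ⟨h1, h2⟩ := key x x.2
  rw [← le_centralizer_iff]
  exact (hcon x x.2 h1 h2).1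

/-- a pure member of `S` which moves `⨆ V` moves some `V b` -/
theorem exists_b {A : Subgroup G} (hm : ¬ A ≤ centralizer ((⨆ b, V b : Subgroup G) : Set G)) :
    ∃ b, ¬ A ≤ centralizer (V b : Set G) := by
  by_contra hcon
  push Not at hcon
  apply hm
  rw [le_centralizer_iff]
  exact iSup_le fun b => le_centralizer_iff.1 (hcon b)

section block

variable {A : Subgroup G} (hp : Pu S U A) {b : ι} (hb : ¬ A ≤ centralizer (V b : Set G))
include hp hb

/-- `C_A(V b) ≤ C(U)` -/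
theorem p1 : A ⊓ centralizer (V b : Set G) ≤ centralizer (U : Set G) := by
  by_contra hcon
  have h1 := best_cut hp.best (h.VU b) h.ab (h.ro A hp.le hp.best b) (h.ZV b) (h.card b) (h.Zne b) hb
  have h2 := hp.min _ (inf_le_left.trans hp.le) h1 hcon
  have h3 : dd U (A ⊓ centralizer (V b : Set G)) < dd U A :=
    dd_lt inf_le_left (fun h4 => hb (h4.trans inf_le_right))
      (le_inf inf_le_left (inf_le_right.trans (centralizer_le (h.VU b))))
  omega

theorem p1' : A ⊓ centralizer (V b : Set G) = A ⊓ centralizer (U : Set G) :=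
  le_antisymm (le_inf inf_le_left (h.p1 hp hb)) (le_inf inf_le_left (inf_le_right.trans (centralizer_le (h.VU b))))

theorem dd_eq : dd U A = Nat.card (Z b) := by
  have h1 := card_eq (fun u hu v hv => h.ab u (h.VU b hu) v (h.VU b hv)) (h.ro A hp.le hp.best b) (h.ZV b)
    (h.card b) (h.Zne b) hb
  rw [h.p1' hp hb, ← dd_mul U A] at h1
  exact Nat.eq_of_mul_eq_mul_right Nat.card_pos h1

/-- `U = V b C_U(A)` -/
theorem p2 {u : G} (hu : u ∈ U) : ∃ v ∈ V b, ∃ c ∈ U ⊓ centralizer (A : Set G), u = v * c := by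
  have hab : ∀ x ∈ V b, ∀ y ∈ U ⊓ centralizer (A : Set G), x * y = y * x :=
    fun x hx y hy => h.ab x (h.VU b hx) y hy.1
  have h1 := card_sup_comm hab
  have h2 : V b ⊓ (U ⊓ centralizer (A : Set G)) = Z b := by
    rw [← inf_assoc, inf_eq_left.2 (h.VU b)]
    exact inf_cent (h.ro A hp.le hp.best b) (h.ZV b) hb
  rw [h2, h.card b] at h1
  have h3 : Nat.card ↥(V b ⊔ U ⊓ centralizer (A : Set G)) = Nat.card (Z b) * Nat.card ↥(U ⊓ centralizer (A : Set G)) := by
    have hpos : 0 < Nat.card (Z b) := Nat.card_pos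
    refine Nat.eq_of_mul_eq_mul_right hpos ?_
    rw [h1]; ring
  have h4 := hp.best.max (A ⊓ centralizer (U : Set G)) inf_le_left le_rfl
  have h5 : U ⊓ centralizer ((A ⊓ centralizer (U : Set G) : Subgroup G) : Set G) = U :=
    inf_eq_left.2 (le_centralizer_iff.1 inf_le_right)
  rw [h5, ← dd_mul U A, h.dd_eq hp hb] at h4
  have h6 : Nat.card U ≤ Nat.card ↥(V b ⊔ U ⊓ centralizer (A : Set G)) := by
    rw [h3]
    have hpos : 0 < Nat.card ↥(A ⊓ centralizer (U : Set G)) := Nat.card_pos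
    refine Nat.le_of_mul_le_mul_left ?_ hpos
    calc _ ≤ _ := h4
      _ = _ := by ring
  have h7 : V b ⊔ U ⊓ centralizer (A : Set G) = U :=
    eq_of_le_of_card_ge (sup_le (h.VU b) inf_le_left) h6
  rw [← h7] at hu
  exact mem_sup_comm hab hu

/-- `[U, A] ≤ Z b` -/
theorem p4 {u a : G} (hu : u ∈ U) (ha : a ∈ A) : a * u * a⁻¹ * u⁻¹ ∈ Z b := by
  obtain ⟨v, hv, c, hc, rfl⟩ := h.p2 hp hb hu
  have h1 : a * c = c * a := mem_centralizer_iff.1 hc.2 a ha
  have h2 : a * (v * c) * a⁻¹ * (v * c)⁻¹ = a * v * a⁻¹ * v⁻¹ := by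
    calc a * (v * c) * a⁻¹ * (v * c)⁻¹ = a * v * (c * a⁻¹) * c⁻¹ * v⁻¹ := by group
      _ = a * v * (a⁻¹ * c) * c⁻¹ * v⁻¹ := by
          have h3 : c * a⁻¹ = a⁻¹ * c := by
            calc c * a⁻¹ = a⁻¹ * (a * c) * a⁻¹ := by group
              _ = a⁻¹ * (c * a) * a⁻¹ := by rw [h1]
              _ = _ := by group
          rw [h3]
      _ = _ := by group
  rw [h2]
  exact (h.ro A hp.le hp.best b).comm a ha v hv

/-- the other blocks are centralised -/
theorem p3 {c : ι} (hc : c ≠ b) : A ≤ centralizer (V c : Set G) := by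
  rw [le_cent_iff]
  intro a ha w hw
  have h1 := h.p4 hp hb (h.VU c hw) ha
  have h2 := (h.ro A hp.le hp.best c).comm a ha w hw
  have h3 := h.dj b c (Ne.symm hc) _ (h.ZV b h1) (h.ZV c h2)
  rw [mul_inv_eq_one, mul_inv_eq_iff_eq_mul] at h3
  exact h3

/-- the root property on `U` -/
theorem p5 {x z : G} (hx : x ∈ U) (hxA : x ∉ centralizer (A : Set G)) (hz : z ∈ Z b) :
    ∃ a ∈ A, a * x * a⁻¹ * x⁻¹ = z := by
  obtain ⟨v, hv, c, hc, rfl⟩ := h.p2 hp hb hx
  have hro := h.ro A hp.le hp.best b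
  have hvZ : v ∉ Z b := by
    intro h1
    apply hxA
    refine mul_mem (mem_centralizer_iff.2 fun a ha => hro.fixZ a ha v h1) hc.2
  obtain ⟨a, ha, e⟩ := ((hro.full.resolve_left hb) v hv hvZ).1 z hz
  refine ⟨a, ha, ?_⟩
  have h1 : a * c = c * a := mem_centralizer_iff.1 hc.2 a ha
  rw [← e]
  calc a * (v * c) * a⁻¹ * (v * c)⁻¹ = a * v * (c * a⁻¹) * c⁻¹ * v⁻¹ := by group
    _ = a * v * (a⁻¹ * c) * c⁻¹ * v⁻¹ := by
        have h3 : c * a⁻¹ = a⁻¹ * c := by
          calc c * a⁻¹ = a⁻¹ * (a * c) * a⁻¹ := by group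
            _ = a⁻¹ * (c * a) * a⁻¹ := by rw [h1]
            _ = _ := by group
        rw [h3]
    _ = _ := by group

/-- `[A, U] = Z b` -/
theorem cc_eq : ⁅A, U⁆ = Z b := by
  apply le_antisymm
  · rw [commutator_le]
    intro a ha u hu
    exact h.p4 hp hb hu ha
  · intro z hz
    have h1 : ∃ x ∈ U, x ∉ centralizer (A : Set G) := by
      by_contra hcon
      push Not at hcon
      exact hp.mv (le_centralizer_iff.1 hcon)
    obtain ⟨x, hx, hxA⟩ := h1
    obtain ⟨a, ha, e⟩ := h.p5 hp hb hx hxA hz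
    rw [← e]
    exact commutator_mem_commutator ha hx

end block

omit h in
theorem cc_cj {A : Subgroup G} {x : G} (hx : x ∈ normalizer (U : Set G)) : ⁅cj x A, U⁆ = cj x ⁅A, U⁆ := by
  have h1 : cj x ⁅A, U⁆ = ⁅cj x A, cj x U⁆ := map_commutator _ _ _
  rw [h1, cj_eq_of_mem_normalizer hx]

omit h in
theorem ax_cj {A : Subgroup G} {x : G} (hx : x ∈ normalizer (U : Set G)) :
    U ⊓ centralizer ((cj x A : Subgroup G) : Set G) = cj x (U ⊓ centralizer (A : Set G)) := by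
  rw [cj_inf, cj_eq_of_mem_normalizer hx, cj_centralizer]

theorem exists_mv {A : Subgroup G} (hp : Pu S U A) :
    ∃ x ∈ P ⊔ R, A ≤ cj x S ∧ ∃ b, Pu S U (cj x⁻¹ A) ∧ ¬ cj x⁻¹ A ≤ centralizer (V b : Set G) := by
  obtain ⟨x, hx, h1, -, h2⟩ := h.gallery hp.le hp.best hp.le hp.best hp.mv
  rw [or_self] at h2
  have h3 : cj x⁻¹ A ≤ S := by
    have := cj_mono x⁻¹ h1
    rwa [cj_inv_cj] at this
  have h4 : ¬ cj x⁻¹ A ≤ centralizer ((⨆ b, V b : Subgroup G) : Set G) := by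
    intro h5
    apply h2
    have := cj_mono x h5
    rwa [cj_cj_inv, cj_centralizer] at this
  obtain ⟨b, hb⟩ := h.exists_b h4
  exact ⟨x, hx, h1, b, hp.cj (h.nUh (inv_mem hx)) h3, hb⟩

theorem cc_le {A : Subgroup G} (hp : Pu S U A) : ⁅A, U⁆ ≤ U := by
  rw [commutator_comm]
  exact le_normalizer_iff_commutator_le_left.1 ((hp.le.trans h.Sn).trans h.nU)

theorem q2 {A : Subgroup G} (hp : Pu S U A) : A ≤ centralizer ((⁅A, U⁆ : Subgroup G) : Set G) := by
  obtain ⟨x, hx, -, b, hp', hb⟩ := h.exists_mv hp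
  have h1 := h.cc_eq hp' hb
  rw [cc_cj (h.nUh (inv_mem hx))] at h1
  have h2 : cj x⁻¹ A ≤ centralizer (Z b : Set G) := by
    rw [le_cent_iff]
    exact fun a ha z hz => (h.ro _ hp'.le hp'.best b).fixZ a ha z hz
  rw [← h1, ← cj_centralizer] at h2
  have := cj_mono x h2
  rwa [cj_cj_inv, cj_cj_inv] at this

theorem q3 {A : Subgroup G} (hp : Pu S U A) : Nat.card ↥(⁅A, U⁆) = dd U A := by
  obtain ⟨x, hx, -, b, hp', hb⟩ := h.exists_mv hp
  have h1 := h.cc_eq hp' hb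
  have h2 := h.dd_eq hp' hb
  rw [cc_cj (h.nUh (inv_mem hx))] at h1
  rw [dd_cj (h.nUh (inv_mem hx)), ← h1, card_cj] at h2
  exact h2.symm

theorem q1 {A : Subgroup G} (hp : Pu S U A) {u z : G} (hu : u ∈ U) (huA : u ∉ centralizer (A : Set G))
    (hz : z ∈ ⁅A, U⁆) : ∃ a ∈ A, a * u * a⁻¹ * u⁻¹ = z := by
  obtain ⟨x, hx, -, b, hp', hb⟩ := h.exists_mv hp
  have hxU := h.nUh (inv_mem hx)
  have h1 := h.cc_eq hp' hb
  rw [cc_cj hxU] at h1
  have hz' : x⁻¹ * z * x ∈ Z b := by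
    rw [← h1, mem_cj, inv_inv]
    have e : x * (x⁻¹ * z * x) * x⁻¹ = z := by group
    rwa [e]
  have hu' : x⁻¹ * u * x ∈ U := by
    have := (mem_normalizer_iff.1 hxU u).1 hu
    rwa [inv_inv] at this
  have huA' : x⁻¹ * u * x ∉ centralizer ((cj x⁻¹ A : Subgroup G) : Set G) := by
    rw [← cj_centralizer, mem_cj, inv_inv]
    have e : x * (x⁻¹ * u * x) * x⁻¹ = u := by group
    rwa [e]
  obtain ⟨a, ha, e⟩ := h.p5 hp' hb hu' huA' hz'
  rw [mem_cj, inv_inv] at ha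
  refine ⟨x * a * x⁻¹, ha, ?_⟩
  calc x * a * x⁻¹ * u * (x * a * x⁻¹)⁻¹ * u⁻¹
      = x * (a * (x⁻¹ * u * x) * a⁻¹ * (x⁻¹ * u * x)⁻¹) * x⁻¹ := by group
    _ = z := by rw [e]; group

/-- (B2) -/
theorem b2 {A A' : Subgroup G} (hp : Pu S U A) (hp' : Pu S U A')
    (hax : U ⊓ centralizer (A : Set G) = U ⊓ centralizer (A' : Set G)) : ⁅A, U⁆ = ⁅A', U⁆ := by
  obtain ⟨x, hx, h1, h1', h2⟩ := h.gallery hp.le hp.best hp'.le hp'.best hp.mv
  have hxU := h.nUh (inv_mem hx)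
  have h3 : cj x⁻¹ A ≤ S := by
    have := cj_mono x⁻¹ h1
    rwa [cj_inv_cj] at this
  have h3' : cj x⁻¹ A' ≤ S := by
    have := cj_mono x⁻¹ h1'
    rwa [cj_inv_cj] at this
  have k := hp.cj hxU h3
  have k' := hp'.cj hxU h3'
  have hax' : U ⊓ centralizer ((cj x⁻¹ A : Subgroup G) : Set G) = U ⊓ centralizer ((cj x⁻¹ A' : Subgroup G) : Set G) := by
    rw [ax_cj hxU, ax_cj hxU, hax]
  have hiff : ∀ b, cj x⁻¹ A ≤ centralizer (V b : Set G) ↔ cj x⁻¹ A' ≤ centralizer (V b : Set G) := by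
    intro b
    have e : ∀ E : Subgroup G, E ≤ centralizer (V b : Set G) ↔ V b ≤ U ⊓ centralizer (E : Set G) := fun E =>
      ⟨fun h5 => le_inf (h.VU b) (le_centralizer_iff.1 h5), fun h5 => le_centralizer_iff.1 (h5.trans inf_le_right)⟩
    rw [e, e, hax']
  have key : ⁅cj x⁻¹ A, U⁆ = ⁅cj x⁻¹ A', U⁆ := by
    rcases h2 with h2 | h2
    · have h4 : ¬ cj x⁻¹ A ≤ centralizer ((⨆ b, V b : Subgroup G) : Set G) := by
        intro h5
        apply h2
        have := cj_mono x h5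
        rwa [cj_cj_inv, cj_centralizer] at this
      obtain ⟨b, hb⟩ := h.exists_b h4
      rw [h.cc_eq k hb, h.cc_eq k' (fun h5 => hb ((hiff b).2 h5))]
    · have h4 : ¬ cj x⁻¹ A' ≤ centralizer ((⨆ b, V b : Subgroup G) : Set G) := by
        intro h5
        apply h2
        have := cj_mono x h5
        rwa [cj_cj_inv, cj_centralizer] at this
      obtain ⟨b, hb⟩ := h.exists_b h4
      rw [h.cc_eq k' hb, h.cc_eq k (fun h5 => hb ((hiff b).1 h5))]
  rw [cc_cj hxU, cc_cj hxU] at key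
  have := congrArg (cj x) key
  rwa [cj_cj_inv, cj_cj_inv] at this

/-- (B3) -/
theorem b3 {A A' : Subgroup G} (hp : Pu S U A) (hp' : Pu S U A') :
    A' ≤ centralizer ((⁅A, U⁆ : Subgroup G) : Set G) := by
  by_contra hcon
  have hx : ∃ x ∈ ⁅A, U⁆, x ∉ centralizer (A' : Set G) := by
    by_contra hc
    push Not at hc
    exact hcon (le_centralizer_iff.1 hc)
  obtain ⟨x, hx, hxA'⟩ := hx
  have hxU : x ∈ U := h.cc_le hp hx
  -- `A` centralises `[A', U]`
  have h1 : A ≤ centralizer ((⁅A', U⁆ : Subgroup G) : Set G) := by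
    by_contra hc
    have hy : ∃ y ∈ ⁅A', U⁆, y ∉ centralizer (A : Set G) := by
      by_contra hc'
      push Not at hc'
      exact hc (le_centralizer_iff.1 hc')
    obtain ⟨y, hy, hyA⟩ := hy
    have hyU : y ∈ U := h.cc_le hp' hy
    set M : Subgroup G := ⁅A, U⁆ ⊔ ⁅A', U⁆ with hM
    have hMS : M ≤ S := sup_le ((h.cc_le hp).trans h.US) ((h.cc_le hp').trans h.US)
    have h2 : M ≤ ⁅M, S⁆ := by
      refine sup_le ?_ ?_
      · intro z hz
        obtain ⟨a, ha, e⟩ := h.q1 hp hyU hyA hz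
        rw [commutator_comm, ← e]
        exact commutator_mem_commutator (hp.le ha) ((le_sup_right : ⁅A', U⁆ ≤ M) hy)
      · intro z hz
        obtain ⟨a, ha, e⟩ := h.q1 hp' hxU hxA' hz
        rw [commutator_comm, ← e]
        exact commutator_mem_commutator (hp'.le ha) ((le_sup_left : ⁅A, U⁆ ≤ M) hx)
    have h3 := eq_bot_of_le_commutator h.two hMS h2
    have h4 : x = 1 := by
      have : x ∈ M := (le_sup_left : ⁅A, U⁆ ≤ M) hx
      rw [h3, mem_bot] at this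
      exact this
    exact hxA' (h4 ▸ one_mem _)
  -- `A'` normalises `C_U(A)`
  have h2 : ∀ a' ∈ A', cj a' (U ⊓ centralizer (A : Set G)) = U ⊓ centralizer (A : Set G) := by
    have h3 : ∀ a' ∈ A', cj a' (U ⊓ centralizer (A : Set G)) ≤ U ⊓ centralizer (A : Set G) := by
      rintro a' ha' _ ⟨u, hu, rfl⟩
      show a' * u * a'⁻¹ ∈ _
      have h4 : a' * u * a'⁻¹ * u⁻¹ ∈ ⁅A', U⁆ := commutator_mem_commutator ha' hu.1
      have h5 : a' * u * a'⁻¹ * u⁻¹ ∈ U ⊓ centralizer (A : Set G) :=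
        ⟨h.cc_le hp' h4, (le_centralizer_iff.1 h1) h4⟩
      have h6 := mul_mem h5 hu
      rwa [inv_mul_cancel_right] at h6
    intro a' ha'
    refine le_antisymm (h3 a' ha') ?_
    have := cj_mono a' (h3 a'⁻¹ (inv_mem ha'))
    rwa [cj_cj_inv] at this
  -- `A'` normalises `[A, U]`
  have h3 : ∀ a' ∈ A', cj a' ⁅A, U⁆ = ⁅A, U⁆ := by
    intro a' ha'
    have hn : a' ∈ normalizer (U : Set G) := h.nUh (h.Sn (hp'.le ha'))
    have hS : cj a' A ≤ S := by
      have := cj_mono a' hp.le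
      rwa [cj_eq_of_mem_normalizer (le_normalizer (hp'.le ha'))] at this
    have hq := hp.cj hn hS
    have h4 := h.b2 hq hp (by rw [ax_cj hn, h2 a' ha'])
    rw [cc_cj hn] at h4
    exact h4
  have h4 : ⁅A', U⁆ ≤ ⁅A, U⁆ := by
    intro z hz
    obtain ⟨a', ha', e⟩ := h.q1 hp' hxU hxA' hz
    rw [← e]
    refine mul_mem ?_ (inv_mem hx)
    rw [← h3 a' ha']
    exact conj_mem_cj hx
  have h5 : ⁅A', U⁆ = ⁅A, U⁆ := by
    refine eq_of_le_of_card_ge h4 ?_
    rw [h.q3 hp, h.q3 hp']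
    exact hp.min A' hp'.le hp'.best hp'.mv
  apply hcon
  rw [← h5]
  exact h.q2 hp'

/-- pure members of `O₂(P)` -/
def UQ (S U : Subgroup G) (V : ι → Subgroup G) : Subgroup G :=
  ⨆ (A : Subgroup G) (_ : Pu S U A ∧ A ≤ centralizer ((⨆ b, V b : Subgroup G) : Set G)), ⁅A, U⁆

omit h in
theorem cc_le_UQ {A : Subgroup G} (hp : Pu S U A) (hA : A ≤ centralizer ((⨆ b, V b : Subgroup G) : Set G)) :
    ⁅A, U⁆ ≤ UQ S U V :=
  le_iSup₂ (f := fun (A : Subgroup G) (_ : Pu S U A ∧ A ≤ centralizer ((⨆ b, V b : Subgroup G) : Set G)) => ⁅A, U⁆)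
    A ⟨hp, hA⟩

theorem UQ_le : UQ S U V ≤ U := iSup₂_le fun _ hA => h.cc_le hA.1

theorem UQ_n : P ≤ normalizer (UQ S U V : Set G) := by
  intro p hp
  refine mem_normalizer_of_cj_le ?_
  rw [cj_le_iff]
  refine iSup₂_le fun A hA => ?_
  rw [← cj_le_iff]
  have hn : p ∈ normalizer (U : Set G) := h.nUh ((le_sup_left : P ≤ P ⊔ R) hp)
  have h1 : A ≤ Q := (le_inf hA.1.le hA.2).trans h.memQ
  have h2 : cj p A ≤ Q := by
    have := cj_mono p h1
    rwa [cj_eq_of_mem_normalizer (h.nQ hp)] at this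
  rw [← cc_cj hn]
  exact cc_le_UQ (hA.1.cj hn (h2.trans h.QS)) (h2.trans h.QV)

/-- some pure member of `S` moves `⨆ V` -/
theorem exists_pure : ∃ (A : Subgroup G) (b : ι), Pu S U A ∧ ¬ A ≤ centralizer (V b : Set G) := by
  obtain ⟨A, hA, hAb, hAm⟩ := h.mv
  have hVU : (⨆ b, V b) ≤ U := iSup_le h.VU
  have hne : {E : Subgroup G | E ≤ S ∧ Best U E ∧ ¬ E ≤ centralizer (U : Set G)}.Nonempty :=
    ⟨A, hA, hAb, fun h1 => hAm (h1.trans (centralizer_le hVU))⟩
  obtain ⟨E, hE, hmin⟩ := Set.exists_min_image _ (dd U) (Set.toFinite _) hne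
  have hp : Pu S U E := ⟨hE.1, hE.2.1, hE.2.2, fun A' h1 h2 h3 => hmin A' ⟨h1, h2, h3⟩⟩
  obtain ⟨x, -, -, b, h1, h2⟩ := h.exists_mv hp
  exact ⟨_, b, h1, h2⟩

/-- for every `b` some pure member moves `V b` -/
theorem exists_pure_b (b : ι) : ∃ A : Subgroup G, Pu S U A ∧ ¬ A ≤ centralizer (V b : Set G) := by
  obtain ⟨A, c, hp, hc⟩ := h.exists_pure
  obtain ⟨s, hs, e, -⟩ := h.tr c b
  have hn : s ∈ normalizer (U : Set G) := h.nUh (h.Sn hs)
  have hS : cj s A ≤ S := by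
    have := cj_mono s hp.le
    rwa [cj_eq_of_mem_normalizer (le_normalizer hs)] at this
  refine ⟨cj s A, hp.cj hn hS, fun h1 => hc ?_⟩
  rw [← e, ← cj_centralizer] at h1
  have := cj_mono s⁻¹ h1
  rwa [cj_inv_cj, cj_inv_cj] at this

theorem inf_UQ : UQ S U V ⊓ (⨆ b, V b) = ⊥ := by
  have h1 : P ≤ normalizer ((UQ S U V ⊓ (⨆ b, V b) : Subgroup G) : Set G) := by
    intro p hp
    rw [mem_normalizer_iff_cj, cj_inf, cj_eq_of_mem_normalizer (h.UQ_n hp), cj_eq_of_mem_normalizer (h.nV hp)]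
  refine (h.irr _ inf_le_right h1).resolve_right fun h2 => ?_
  obtain ⟨A, b, hp, hb⟩ := h.exists_pure
  apply hb
  have h3 : A ≤ centralizer (UQ S U V : Set G) := by
    rw [le_centralizer_iff]
    exact iSup₂_le fun E hE => le_centralizer_iff.1 (h.b3 hE.1 hp)
  exact h3.trans (centralizer_le (((le_iSup V b).trans h2).trans inf_le_left))

/-- (B5) : the image of a line -/
theorem line {r : G} (hr : r ∈ R) (b : ι) : (∃ c, cj r (Z b) = Z c) ∨ cj r (Z b) ≤ UQ S U V := by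
  obtain ⟨A, hp, hb⟩ := h.exists_pure_b b
  have hn : r ∈ normalizer (U : Set G) := h.nUh ((le_sup_right : R ≤ P ⊔ R) hr)
  have hS : cj r A ≤ S := by
    have := cj_mono r (h.bK A hp.le hp.best)
    rw [cj_eq_of_mem_normalizer (h.nK hr)] at this
    exact this.trans h.KS
  have hq := hp.cj hn hS
  have h1 : ⁅cj r A, U⁆ = cj r (Z b) := by rw [cc_cj hn, h.cc_eq hp hb]
  by_cases hm : cj r A ≤ centralizer ((⨆ b, V b : Subgroup G) : Set G)
  · right
    rw [← h1]
    exact cc_le_UQ hq hm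
  · left
    obtain ⟨c, hc⟩ := h.exists_b hm
    exact ⟨c, by rw [← h1, h.cc_eq hq hc]⟩

/-- **THEOREM PERM+, case (B)** -/
theorem perm {r : G} (hr : r ∈ R) (b : ι) : ∃ c, cj r (Z b) = Z c := by
  classical
  by_contra hcon
  obtain ⟨z, hz, hzR, hzn⟩ := h.z
  set Z1 : Subgroup G := ⨆ (c) (_ : ∃ d, cj r (Z c) = Z d), Z c with hZ1
  set Z2 : Subgroup G := ⨆ (c) (_ : ¬ ∃ d, cj r (Z c) = Z d), Z c with hZ2
  have h1 : (⨆ c, Z c) ≤ Z1 ⊔ Z2 := iSup_le fun c => by
    by_cases hc : ∃ d, cj r (Z c) = Z d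
    · exact (le_iSup₂ (f := fun c (_ : ∃ d, cj r (Z c) = Z d) => Z c) c hc).trans le_sup_left
    · exact (le_iSup₂ (f := fun c (_ : ¬ ∃ d, cj r (Z c) = Z d) => Z c) c hc).trans le_sup_right
  have hZV : (⨆ c, Z c) ≤ ⨆ c, V c := iSup_mono h.ZV
  have hVU : (⨆ b, V b) ≤ U := iSup_le h.VU
  have h1a : Z1 ≤ ⨆ c, Z c := iSup₂_le fun c _ => le_iSup Z c
  have h1b : Z2 ≤ ⨆ c, Z c := iSup₂_le fun c _ => le_iSup Z c
  obtain ⟨z1, hz1, z2, hz2, e⟩ := mem_sup_comm (X := Z1) (Y := Z2)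
    (fun x hx y hy => h.ab x (hVU (hZV (h1a hx))) y (hVU (hZV (h1b hy)))) (h1 hz)
  have h2 : cj r Z1 ≤ ⨆ c, V c := by
    rw [cj_le_iff]
    refine iSup₂_le fun c hc => ?_
    rw [← cj_le_iff]
    obtain ⟨d, hd⟩ := hc
    rw [hd]
    exact (h.ZV d).trans (le_iSup V d)
  have h3 : cj r Z2 ≤ UQ S U V := by
    rw [cj_le_iff]
    refine iSup₂_le fun c hc => ?_
    rw [← cj_le_iff]
    exact (h.line hr c).resolve_left hc
  have h4 : r * z2 * r⁻¹ ∈ UQ S U V ⊓ (⨆ b, V b) := by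
    refine mem_inf.2 ⟨h3 (conj_mem_cj hz2), ?_⟩
    have h5 : r * z2 * r⁻¹ = (r * z1 * r⁻¹)⁻¹ * z := by
      have h6 := hzR r hr
      calc r * z2 * r⁻¹ = (r * z1 * r⁻¹)⁻¹ * (r * (z1 * z2) * r⁻¹) := by group
        _ = (r * z1 * r⁻¹)⁻¹ * (r * z * r⁻¹) := by rw [← e]
        _ = _ := by rw [h6]; group
    rw [h5]
    exact mul_mem (inv_mem (h2 (conj_mem_cj hz1))) (hZV hz)
  rw [h.inf_UQ, mem_bot] at h4
  have h5 : z2 = 1 := by
    have h6 : r * z2 = r := mul_inv_eq_one.1 h4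
    exact mul_eq_left.1 h6
  refine hzn b ?_
  rw [e, h5, mul_one]
  refine (iSup₂_le fun c hc => ?_ : Z1 ≤ _) hz1
  refine le_iSup₂ (f := fun c (_ : c ≠ b) => Z c) c ?_
  rintro rfl
  exact hcon hc

end PB

end Cfsg.Agent.Omega.NOThreeL.RWide.PermB
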