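import Cfsg.Agent.Omega.NOThreeL.RWide.PermAMain
import Cfsg.Agent.Omega.NOThreeL.RWide.PInO
import Cfsg.Agent.PLocal.ElemAbSup

/-!
# THEOREM PERM+ (helper278, #24948 / #25094) over `PInO`: pure members, case (A), the theorem

* `Pure O R V Z` : the `A ∈ AA O` such that all blocks `cj r (V i)` (`r ∈ R`) moved by `A` have one and the same line;
* `PInO.exists_pure` : every block `V i` is moved by a pure member;
* `PInO.permA` : case (A) (some best offender of `S` on `⟨(⨆ V)^R⟩` is not in `O₂(R)`);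
* **`PInO.permD`** : `D` permutes the lines `Z i` (`PermAll.lean` is the case `O = O₂(D)`).
-/

set_option autoImplicit false
set_option linter.unusedSectionVars false

namespace Cfsg.Agent.Omega.NOThreeL.RWide

open Subgroup Cfsg Cfsg.Agent.ZN Cfsg.Agent.ZN.ChoiceBase Cfsg.Agent.MinSimple.MinParabolic
open Cfsg.Agent.Omega.FFThm Cfsg.Agent.Omega.NO1.BestOff Cfsg.Agent.MinSimple.VModule
open scoped commutatorElement

universe u

variable {G : Type u} [Group G]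

/-- the pure members of `AA O` -/
def Pure (O R : Subgroup G) {ι : Type*} (V Z : ι → Subgroup G) : Set (Subgroup G) :=
  {A | A ∈ AA O ∧ ∀ r ∈ R, ∀ i, ∀ s ∈ R, ∀ j, ¬ A ≤ centralizer (cj r (V i) : Set G) →
    ¬ A ≤ centralizer (cj s (V j) : Set G) → cj r (Z i) = cj s (Z j)}

theorem not_le_cent_cj {A U : Subgroup G} {g : G} (h : ¬ cj g A ≤ centralizer (U : Set G)) :
    ¬ A ≤ centralizer (cj g⁻¹ U : Set G) := by
  intro h1
  apply h
  rw [cj_le_iff, cj_centralizer]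
  exact h1

theorem pure_cj {O R : Subgroup G} {ι : Type*} {V Z : ι → Subgroup G} {A : Subgroup G} (hA : A ∈ Pure O R V Z) {g : G}
    (hg : g ∈ R) (hO : cj g O = O) : cj g A ∈ Pure O R V Z := by
  refine ⟨by have := cj_mem_AA g hA.1; rwa [hO] at this, fun r hr i s hs j h1 h2 => ?_⟩
  have h3 := not_le_cent_cj h1
  have h4 := not_le_cent_cj h2
  rw [cj_cj] at h3 h4
  have h5 := hA.2 (g⁻¹ * r) (mul_mem (inv_mem hg) hr) i (g⁻¹ * s) (mul_mem (inv_mem hg) hs) j h3 h4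
  have h6 := congrArg (ChoiceBase.cj g) h5
  rwa [cj_cj, cj_cj, mul_inv_cancel_left, mul_inv_cancel_left] at h6

/-- (A1) `C_A(U)U ∈ AA O` -/
theorem cut_mem [Finite G] {O A U L : Subgroup G} (hA : A ∈ AA O) (hUO : U ≤ O)
    (hab : ∀ u ∈ U, ∀ v ∈ U, u * v = v * u) (hsq : ∀ u ∈ U, u * u = 1) (hr : RootOn A U L) (hLU : L ≤ U)
    (hc : Nat.card U = Nat.card L ^ 2) (hL : L ≠ ⊥) (hm : ¬ A ≤ centralizer (U : Set G)) :
    (A ⊓ centralizer (U : Set G)) ⊔ U ∈ AA O := by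
  have hAab : ∀ a ∈ A, ∀ b ∈ A, a * b = b * a := fun a ha b hb =>
    congrArg Subtype.val (hA.1.1.1.1 (⟨a, ha⟩ : A) (⟨b, hb⟩ : A))
  have hAe : IsElementaryAbelian 2 (A ⊓ centralizer (U : Set G) : Subgroup G) :=
    ⟨⟨⟨fun a b => Subtype.ext (hAab a a.2.1 b b.2.1)⟩⟩, fun a ha => hA.1.2 a ha.1⟩
  have hUe : IsElementaryAbelian 2 U :=
    ⟨⟨⟨fun a b => Subtype.ext (hab a a.2 b b.2)⟩⟩, fun a ha => by rw [pow_two]; exact hsq a ha⟩
  have hcm : ∀ a ∈ A ⊓ centralizer (U : Set G), ∀ u ∈ U, a * u = u * a := fun a ha u hu =>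
    (mem_centralizer_iff.1 ha.2 u hu).symm
  have hE : IsElementaryAbelian 2 (A ⊓ centralizer (U : Set G) ⊔ U : Subgroup G) :=
    Cfsg.Agent.PLocal.ElemAbSup.isElementaryAbelian_sup hAe hUe (le_centralizer_iff.1 (inf_le_right))
  refine ⟨hE, sup_le (inf_le_left.trans hA.2.1) hUO, fun B hB hBO => (hA.2.2 B hB hBO).trans ?_⟩
  have h1 := card_sup_comm' hcm
  have h2 : Nat.card ↥(A ⊓ centralizer (U : Set G) ⊓ U) ≤ Nat.card L := by
    refine card_le_of_le ?_
    rw [← PermB.inf_cent hr hLU hm]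
    exact le_inf inf_le_right fun x hx => mem_centralizer_iff.2 fun a ha => hAab a ha x hx.1.1
  have h3 := PermB.card_eq hab hr hLU hc hL hm
  have h4 : 0 < Nat.card L := Nat.card_pos
  rw [h3]
  refine Nat.le_of_mul_le_mul_right ?_ h4
  calc Nat.card L * Nat.card ↥(A ⊓ centralizer (U : Set G)) * Nat.card L
      = Nat.card ↥(A ⊓ centralizer (U : Set G)) * Nat.card U := by rw [hc]; ring
    _ = Nat.card ↥(A ⊓ centralizer (U : Set G) ⊔ U) * Nat.card ↥(A ⊓ centralizer (U : Set G) ⊓ U) := h1.symm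
    _ ≤ _ := Nat.mul_le_mul_left _ h2

section

variable [Finite G] {S : Sylow 2 G} {D P N O : Subgroup G} {ι : Type*} {V Z : ι → Subgroup G}

theorem PInO.cjO (h : PInO S D P N O V Z) {r : G} (hr : r ∈ D) : cj r O = O := cj_eq_of_mem_normalizer (h.DO hr)

theorem PInO.cjVN (h : PInO S D P N O V Z) {r : G} (hr : r ∈ D) (i : ι) : cj r (V i) ≤ N := by
  have h1 := cj_mono r (h.VN i)
  rwa [cj_eq_of_mem_normalizer (h.DN hr)] at h1

/-- members of `AA O` act on every `cj r (V i)` as full root groups -/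
theorem PInO.rootA (h : PInO S D P N O V Z) {A : Subgroup G} (hA : A ∈ AA O) {r : G} (hr : r ∈ D) (i : ι) :
    RootOn A (cj r (V i)) (cj r (Z i)) := by
  have h1 : cj r⁻¹ A ∈ AA O := by
    have h1 := cj_mem_AA r⁻¹ hA
    rwa [h.cjO (inv_mem hr)] at h1
  have h2 : Best (⨆ i, V i) (cj r⁻¹ A) :=
    best_of_AA h1 ((iSup_le h.VN).trans h.NO) h.comm fun u hu => h.Nsq u ((iSup_le h.VN) hu)
  have h3 := (h.ffp _ (h1.2.1.trans h.OS) (best_iff.2 h2) i).cj' r
  rwa [cj_cj_inv] at h3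

theorem PInO.cutA (h : PInO S D P N O V Z) {A : Subgroup G} (hA : A ∈ AA O) {r : G} (hr : r ∈ D) (i : ι)
    (hm : ¬ A ≤ centralizer (cj r (V i) : Set G)) :
    (A ⊓ centralizer (cj r (V i) : Set G)) ⊔ cj r (V i) ∈ AA O := by
  have hN := h.cjVN hr i
  refine cut_mem hA (hN.trans h.NO) (fun u hu v hv => h.Nab u (hN hu) v (hN hv)) (fun u hu => h.Nsq u (hN hu))
    (h.rootA hA hr i) (cj_mono r (h.ZV i)) ?_ ?_ hm
  · rw [card_cj, card_cj, h.card]
  · intro h0
    apply h.Zne i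
    have h1 := congrArg (ChoiceBase.cj r⁻¹) h0
    rw [cj_inv_cj] at h1
    rw [h1]
    exact Subgroup.map_bot _

/-- (A1): the lines of all blocks moved by `A` are equal, if `|C_A(W)|` is maximal -/
theorem PInO.line_eq (h : PInO S D P N O V Z) {A : Subgroup G} (hA : A ∈ AA O) {r s : G} (hr : r ∈ D) (hs : s ∈ D)
    {i j : ι} {W : Subgroup G} (hVs : cj s (V j) ≤ W) (hWN : W ≤ N)
    (hmax : ∀ B ∈ AA O, ¬ B ≤ centralizer (cj r (V i) : Set G) →
      Nat.card ↥(B ⊓ centralizer (W : Set G)) ≤ Nat.card ↥(A ⊓ centralizer (W : Set G)))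
    (h1 : ¬ A ≤ centralizer (cj r (V i) : Set G)) (h2 : ¬ A ≤ centralizer (cj s (V j) : Set G)) :
    cj s (Z j) = cj r (Z i) := by
  have hAab : ∀ a ∈ A, ∀ b ∈ A, a * b = b * a := fun a ha b hb =>
    congrArg Subtype.val (hA.1.1.1.1 (⟨a, ha⟩ : A) (⟨b, hb⟩ : A))
  have hN1 := h.cjVN hr i
  have hN2 := h.cjVN hs j
  have hr1 := h.rootA hA hr i
  have hr2 := h.rootA hA hs j
  have hc1 := h.cutA hA hr i h1
  have hc2 := h.cutA hA hs j h2
  set V1 := cj r (V i) with hV1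
  set V2 := cj s (V j) with hV2
  set Z1 := cj r (Z i) with hZ1
  set Z2 := cj s (Z j) with hZ2
  have hZne : ∀ (x : G) (k : ι), cj x (Z k) ≠ ⊥ := by
    intro x k h0
    apply h.Zne k
    have h1 := congrArg (ChoiceBase.cj x⁻¹) h0
    rw [cj_inv_cj] at h1
    rw [h1]
    exact Subgroup.map_bot _
  have hex : ∀ (x : G) (k : ι), ∃ v ∈ cj x (V k), v ∉ cj x (Z k) := fun x k =>
    PermB.exists_not_mem (by rw [card_cj, card_cj, h.card]) (hZne x k)
  -- `C_A(V2) ≤ C(V1)`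
  have h3 : A ⊓ centralizer (V2 : Set G) ≤ centralizer (V1 : Set G) := by
    by_contra hcon
    have h4 : ¬ (A ⊓ centralizer (V2 : Set G)) ⊔ V2 ≤ centralizer (V1 : Set G) := fun h5 =>
      hcon (le_sup_left.trans h5)
    have h5 := hmax _ hc2 h4
    have h6 : A ⊓ centralizer (W : Set G) ≤ ((A ⊓ centralizer (V2 : Set G)) ⊔ V2) ⊓ centralizer (W : Set G) :=
      le_inf ((inf_le_inf_left _ (centralizer_le hVs)).trans le_sup_left) inf_le_right
    have h7 := Subgroup.eq_of_le_of_card_ge h6 h5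
    have h8 : V2 ≤ ((A ⊓ centralizer (V2 : Set G)) ⊔ V2) ⊓ centralizer (W : Set G) := by
      refine le_inf le_sup_right fun v hv => mem_centralizer_iff.2 fun w hw => ?_
      exact h.Nab w (hWN hw) v (hN2 hv)
    rw [← h7] at h8
    apply h2
    intro a ha
    exact mem_centralizer_iff.2 fun v hv => hAab v (h8 hv).1 a ha
  -- `C_A(V1) ≤ C(V2)`
  have h4 : A ⊓ centralizer (V1 : Set G) ≤ centralizer (V2 : Set G) := by
    by_contra hcon
    have h5 : ¬ (A ⊓ centralizer (V1 : Set G)) ⊔ V1 ≤ centralizer (V2 : Set G) := fun h6 =>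
      hcon (le_sup_left.trans h6)
    have h6 := h.rootA hc1 hs j
    obtain ⟨v, hv, hvZ⟩ := hex s j
    obtain ⟨h7, -⟩ := (h6.full.resolve_left h5) v hv hvZ
    obtain ⟨-, h8⟩ := (hr2.full.resolve_left h2) v hv hvZ
    apply h1
    intro a ha
    obtain ⟨f, hf, e⟩ := h7 _ (hr2.comm a ha v hv)
    have hcm : ∀ c ∈ A ⊓ centralizer (V1 : Set G), ∀ w ∈ V1, c * w = w * c := fun c hc w hw =>
      (mem_centralizer_iff.1 hc.2 w hw).symm
    obtain ⟨c, hc, w, hw, ew⟩ := PermB.mem_sup_comm hcm hf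
    have hwv : w * v = v * w := h.Nab w (hN1 hw) v (hN2 hv)
    have e1 : c * v * c⁻¹ * v⁻¹ = a * v * a⁻¹ * v⁻¹ := by
      rw [← e, ew]
      calc c * v * c⁻¹ * v⁻¹ = c * (v * w) * w⁻¹ * c⁻¹ * v⁻¹ := by group
        _ = c * (w * v) * w⁻¹ * c⁻¹ * v⁻¹ := by rw [hwv]
        _ = _ := by group
    have e2 : c⁻¹ * a * v = v * (c⁻¹ * a) := by
      have e3 : c * v * c⁻¹ = a * v * a⁻¹ := mul_right_cancel e1
      calc c⁻¹ * a * v = c⁻¹ * (a * v * a⁻¹) * a := by group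
        _ = c⁻¹ * (c * v * c⁻¹) * a := by rw [e3]
        _ = _ := by group
    have hcA : c ∈ A := hc.1
    have h12 : c⁻¹ * a ∈ A := A.mul_mem (A.inv_mem hcA) ha
    have h9 : c⁻¹ * a ∈ centralizer (V2 : Set G) := h8 _ h12 e2
    have h10 := h3 ⟨h12, h9⟩
    have h11 := mul_mem hc.2 h10
    rwa [mul_inv_cancel_left] at h11
  -- `V2 ≤ C_A(V1) V1`
  have h5 : V2 ≤ (A ⊓ centralizer (V1 : Set G)) ⊔ V1 := by
    have hcm : (A ⊓ centralizer (V1 : Set G)) ⊔ V1 ≤ centralizer (V2 : Set G) :=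
      sup_le h4 fun w hw => mem_centralizer_iff.2 fun v hv => h.Nab v (hN2 hv) w (hN1 hw)
    have hV2e : IsElementaryAbelian 2 V2 :=
      ⟨⟨⟨fun a b => Subtype.ext (h.Nab a (hN2 a.2) b (hN2 b.2))⟩⟩, fun a ha => by
        rw [pow_two]; exact h.Nsq a (hN2 ha)⟩
    have hE : IsElementaryAbelian 2 ((A ⊓ centralizer (V1 : Set G)) ⊔ V1 ⊔ V2 : Subgroup G) :=
      Cfsg.Agent.PLocal.ElemAbSup.isElementaryAbelian_sup hc1.1 hV2e (le_centralizer_iff.1 hcm)
    have h6 := hc1.2.2 _ hE (sup_le hc1.2.1 (hN2.trans h.NO))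
    have h7 := Subgroup.eq_of_le_of_card_ge (le_sup_left : _ ≤ (A ⊓ centralizer (V1 : Set G)) ⊔ V1 ⊔ V2) h6
    rw [h7]
    exact le_sup_right
  obtain ⟨v, hv, hvZ⟩ := hex s j
  have hcm : ∀ c ∈ A ⊓ centralizer (V1 : Set G), ∀ w ∈ V1, c * w = w * c := fun c hc w hw =>
    (mem_centralizer_iff.1 hc.2 w hw).symm
  obtain ⟨c, hc, w, hw, ew⟩ := PermB.mem_sup_comm hcm (h5 hv)
  have key : ∀ a ∈ A, a * v * a⁻¹ * v⁻¹ = a * w * a⁻¹ * w⁻¹ := by
    intro a ha
    have h6 : a * w * a⁻¹ * w⁻¹ ∈ V1 := mul_mem ((mem_normalizer_iff.1 (hr1.norm ha) w).1 hw) (inv_mem hw)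
    have h7 : (a * w * a⁻¹ * w⁻¹) * c = c * (a * w * a⁻¹ * w⁻¹) := mem_centralizer_iff.1 hc.2 _ h6
    calc a * v * a⁻¹ * v⁻¹ = (a * c) * w * a⁻¹ * w⁻¹ * c⁻¹ := by rw [ew]; group
      _ = (c * a) * w * a⁻¹ * w⁻¹ * c⁻¹ := by rw [hAab a ha c hc.1]
      _ = c * (a * w * a⁻¹ * w⁻¹) * c⁻¹ := by group
      _ = (a * w * a⁻¹ * w⁻¹) * c * c⁻¹ := by rw [h7]
      _ = _ := by group
  have hwZ : w ∉ Z1 := by
    intro hwZ
    obtain ⟨⟨z, hz⟩, hz1⟩ := (Subgroup.ne_bot_iff_exists_ne_one).1 (hZne s j)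
    obtain ⟨f, hf, e⟩ := ((hr2.full.resolve_left h2) v hv hvZ).1 z hz
    apply hz1
    apply Subtype.ext
    show z = 1
    rw [← e, key f hf, hr1.fixZ f hf w hwZ]
    group
  apply le_antisymm
  · intro z hz
    obtain ⟨f, hf, e⟩ := ((hr2.full.resolve_left h2) v hv hvZ).1 z hz
    rw [← e, key f hf]
    exact hr1.comm f hf w hw
  · intro z hz
    obtain ⟨f, hf, e⟩ := ((hr1.full.resolve_left h1) w hw hwZ).1 z hz
    rw [← e, ← key f hf]
    exact hr2.comm f hf v hv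

/-- every block `V i` is moved by a member of `AA O` -/
theorem PInO.exists_mov (h : PInO S D P N O V Z) (i : ι) : ∃ A ∈ AA O, ¬ A ≤ centralizer (V i : Set G) := by
  obtain ⟨A, hA, hm⟩ := h.mov
  obtain ⟨j, hj⟩ : ∃ j, ¬ A ≤ centralizer (V j : Set G) := by
    by_contra hcon
    push Not at hcon
    apply hm
    rw [le_centralizer_iff]
    exact iSup_le fun j => le_centralizer_iff.1 (hcon j)
  obtain ⟨s, hs, e⟩ := h.trans j i
  refine ⟨cj s A, ?_, fun hc => hj ?_⟩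
  · have h1 := cj_mem_AA s hA
    rwa [h.cjO (h.SD hs)] at h1
  · rw [cj_le_iff, cj_centralizer, ← e, cj_inv_cj] at hc
    exact hc

/-- (A1) every block `V i` is moved by a pure member -/
theorem PInO.exists_pure (h : PInO S D P N O V Z) {R W : Subgroup G} (hRD : R ≤ D)
    (hVW : ∀ r ∈ R, ∀ i, cj r (V i) ≤ W) (hWN : W ≤ N) (i : ι) :
    ∃ A ∈ Pure O R V Z, ¬ A ≤ centralizer (V i : Set G) := by
  classical
  obtain ⟨A, hA, hmax⟩ := Set.exists_max_image {A : Subgroup G | A ∈ AA O ∧ ¬ A ≤ centralizer (V i : Set G)}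
    (fun A => Nat.card ↥(A ⊓ centralizer (W : Set G))) (Set.toFinite _) (h.exists_mov i)
  have hl : ∀ r ∈ R, ∀ j, ¬ A ≤ centralizer (cj r (V j) : Set G) → cj r (Z j) = Z i := by
    intro r hr j hj
    have h1 := h.line_eq hA.1 (r := 1) (s := r) (i := i) (j := j) (one_mem _) (hRD hr) (hVW r hr j) hWN
      (fun B hB hm => hmax B ⟨hB, by rwa [cj_one] at hm⟩) (by rw [cj_one]; exact hA.2) hj
    rwa [cj_one] at h1
  refine ⟨A, ⟨hA.1, fun r hr j s hs k h1 h2 => ?_⟩, hA.2⟩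
  rw [hl r hr j h1, hl s hs k h2]

/-- **THEOREM PERM+, case (A)** -/
theorem PInO.permA (h : PInO S D P N O V Z) {R : Subgroup G} (hR : IsMinPar (S : Subgroup G) R) (hRD : R ≤ D)
    {F : Subgroup G} (hF : F ≤ (S : Subgroup G))
    (hb : IsBestOffenderOn 2 (⨆ r : R, cj (r : G) (⨆ i, V i)) F) (hFK : ¬ F ≤ o2 R) :
    ∀ r ∈ R, ∀ i, ∃ j, cj r (Z i) = Z j := by
  have hf2 : Fact (Nat.Prime 2) := ⟨Nat.prime_two⟩
  set W : Subgroup G := ⨆ r : R, cj (r : G) (⨆ i, V i) with hW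
  have hWN : W ≤ N := by
    refine iSup_le fun r => ?_
    have h2 := cj_mono (r : G) (iSup_le h.VN : (⨆ i, V i) ≤ N)
    rwa [cj_eq_of_mem_normalizer (h.DN (hRD r.2))] at h2
  have hrW : ∀ r ∈ R, cj r (⨆ i, V i) ≤ W := fun r hr => le_iSup (fun r : R => cj (r : G) (⨆ i, V i)) ⟨r, hr⟩
  have hVsW : (⨆ i, V i) ≤ W := by
    have h1 := hrW 1 (one_mem _)
    rwa [cj_one] at h1
  have hVW : ∀ r ∈ R, ∀ i, cj r (V i) ≤ W := fun r hr i => (cj_mono r (le_iSup V i)).trans (hrW r hr)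
  have hSyl := MinSimple.Basic.not_dvd_relIndex S hR.le
  have key : PA R (S : Subgroup G) (o2 R) W V Z (Pure O R V Z) :=
    { SR := hR.le
      KS := o2_le_of_sylow S.isPGroup' hSyl
      RK := le_normalizer_o2 R
      min := fun M hM hn => by
        rcases hR.sup_eq_or_inf_le S.isPGroup' hSyl hM hn with h1 | h1
        · exact Or.inr h1.ge
        · left
          rw [inf_comm]
          exact h1
      Wel := ⟨⟨⟨fun a b => Subtype.ext (h.Nab a (hWN a.2) b (hWN b.2))⟩⟩, fun a ha => by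
        rw [pow_two]; exact h.Nsq a (hWN ha)⟩
      RW := by
        intro g hg
        refine mem_normalizer_of_cj_le ?_
        rw [cj_le_iff]
        refine iSup_le fun r => ?_
        rw [← cj_le_iff, cj_cj]
        exact hrW _ (mul_mem hg r.2)
      VW := fun i => (le_iSup V i).trans hVsW
      ZV := h.ZV
      perm := fun s hs i => h.perm s ⟨le_normalizer hs, h.SD hs⟩ i
      inj := by
        intro i j e
        by_contra hne
        have h2 : Disjoint (V i) (V j) := h.ind.pairwiseDisjoint hne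
        have h3 : Z i ≤ V i ⊓ V j := le_inf (h.ZV i) (by rw [e]; exact h.ZV j)
        rw [disjoint_iff.1 h2, le_bot_iff] at h3
        exact h.Zne i h3
      root := h.root
      ne := by
        intro i hi
        obtain ⟨v, hv, hvZ⟩ := PermB.exists_not_mem (h.card i) (h.Zne i)
        exact hvZ (hi hv)
      off := fun F' hF' hb' i => h.ffp F' hF' (best_iff.2 (PermB.Best.sub (best_iff.1 hb') hVsW)) i
      AAc := fun r hr A hA => pure_cj hA hr (h.cjO (hRD hr))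
      AAone := fun A hA r hr i s hs j h1 h2 => hA.2 r hr i s hs j h1 h2
      AAex := by
        intro i
        obtain ⟨A, hA, hm⟩ := h.exists_pure hRD hVW hWN i
        refine ⟨A, hA, fun v hv hc => ?_⟩
        have h1 := h.rootA hA.1 (one_mem D) i
        rw [cj_one, cj_one] at h1
        by_contra hvZ
        exact hm fun a ha => ((h1.full.resolve_left hm) v hv hvZ).2 a ha (hc a ha)
      AAz := by
        intro A hA i a ha z hz
        have h1 := h.rootA hA.1 (one_mem D) i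
        rw [cj_one, cj_one] at h1
        exact h1.fixZ a ha z hz }
  exact key.perm_of hF hb hFK

/-- **THEOREM PERM+** : `D` permutes the lines. -/
theorem PInO.permD (h : PInO S D P N O V Z) : ∀ x ∈ D, ∀ i, ∃ j, cj x (Z i) = Z j := by
  -- the elements which permute the lines (together with their inverses)
  let Y : Subgroup G :=
    { carrier := {x | (∀ i, ∃ j, cj x (Z i) = Z j) ∧ ∀ i, ∃ j, cj x⁻¹ (Z i) = Z j}
      one_mem' := ⟨fun i => ⟨i, cj_one _⟩, fun i => ⟨i, by rw [inv_one, cj_one]⟩⟩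
      mul_mem' := by
        rintro a b ⟨ha, ha'⟩ ⟨hb, hb'⟩
        constructor
        · intro i
          obtain ⟨j, hj⟩ := hb i
          obtain ⟨k, hk⟩ := ha j
          exact ⟨k, by rw [← cj_cj, hj, hk]⟩
        · intro i
          obtain ⟨j, hj⟩ := ha' i
          obtain ⟨k, hk⟩ := hb' j
          exact ⟨k, by rw [mul_inv_rev, ← cj_cj, hj, hk]⟩
      inv_mem' := by
        rintro a ⟨ha, ha'⟩
        exact ⟨ha', fun i => by rw [inv_inv]; exact ha i⟩ }
  have hY : D ≤ Y := by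
    refine le_of_forall h.SD ?_ fun R hR hRD => ?_
    · rintro x ⟨hx1, hx2⟩
      refine ⟨fun i => ?_, fun i => ?_⟩
      · obtain ⟨j, -, e⟩ := h.perm x ⟨hx2, hx1⟩ i
        exact ⟨j, e⟩
      · obtain ⟨j, -, e⟩ := h.perm x⁻¹ ⟨Subgroup.inv_mem _ hx2, Subgroup.inv_mem _ hx1⟩ i
        exact ⟨j, e⟩
    · have key : ∀ r ∈ R, ∀ i, ∃ j, cj r (Z i) = Z j := by
        by_cases hc : ∃ F : Subgroup G, F ≤ (S : Subgroup G) ∧
            IsBestOffenderOn 2 (⨆ r : R, cj (r : G) (⨆ i, V i)) F ∧ ¬ F ≤ o2 R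
        · obtain ⟨F, hF, hb, hK⟩ := hc
          exact h.permA hR hRD hF hb hK
        · push Not at hc
          refine h.permB hR.le hRD (iSup_le fun r => ?_) hc
          exact le_iSup (fun r : ↥(P ⊔ R) => cj (r : G) (⨆ i, V i)) ⟨r, mem_sup_right r.2⟩
      exact fun r hr => ⟨key r hr, key r⁻¹ (inv_mem hr)⟩
  exact fun x hx => (hY hx).1

end

end Cfsg.Agent.Omega.NOThreeL.RWide
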