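import Cfsg.Agent.Omega.NOThreeL.RWide.PermOne

/-!
# THEOREM PERM+, (A1): pure members; case A over `PIn` (helper278, #24948, #25094)

* `PIn.AAp` : the pure members of `AA (o2 D)` with respect to `wr R V`;
* `PIn.permA` : if a best offender `F ≤ S` on `wr R V` does not lie in `o2 R`, then `R` permutes the lines.
-/

set_option autoImplicit false
set_option linter.unusedSectionVars false

namespace Cfsg.Agent.Omega.NOThreeL.RWide

open Subgroup Cfsg Cfsg.Agent.ZN Cfsg.Agent.ZN.ChoiceBase Cfsg.Agent.MinSimple.MinParabolic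
open Cfsg.Agent.PLocal.Timmesfeld (card_mul_card_le)
open Cfsg.Agent.MinSimple.VModule (le_o2 le_normalizer_o2 o2_isPGroup o2_le_of_sylow)
open scoped commutatorElement

universe u

variable {G : Type u} [Group G] {ι : Type*}

/-- the pure members -/
def AAp (D R : Subgroup G) (V : ι → Subgroup G) : Set (Subgroup G) :=
  {A | A ∈ AA (o2 D) ∧ ¬ wr R V ≤ centralizer (A : Set G) ∧ ∀ B ∈ AA (o2 D), ¬ wr R V ≤ centralizer (B : Set G) →
    Nat.card ↥(B ⊓ centralizer (wr R V : Set G)) ≤ Nat.card ↥(A ⊓ centralizer (wr R V : Set G))}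

namespace PIn

variable {S : Sylow 2 G} {D P N R : Subgroup G} {V Z : ι → Subgroup G} (h : PIn S D P N V Z)
include h

theorem AAp_cj [Finite G] (hRD : R ≤ D) {r : G} (hr : r ∈ R) {A : Subgroup G} (hA : A ∈ AAp D R V) :
    cj r A ∈ AAp D R V := by
  obtain ⟨h1, h2, h3⟩ := hA
  refine ⟨?_, ?_, ?_⟩
  · have := cj_mem_AA r h1
    rwa [h.cj_o2 (hRD hr)] at this
  · intro h4
    apply h2
    have h5 := cj_mono r⁻¹ h4
    rwa [cj_wr (inv_mem hr), cj_centralizer, cj_inv_cj] at h5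
  · intro B hB hB'
    have h6 : Nat.card ↥(cj r A ⊓ centralizer (wr R V : Set G)) = Nat.card ↥(A ⊓ centralizer (wr R V : Set G)) := by
      have e : cj r A ⊓ centralizer (wr R V : Set G) = cj r (A ⊓ centralizer (wr R V : Set G)) := by
        rw [cj_inf, cj_centralizer, cj_wr hr]
      rw [e, card_cj]
    rw [h6]
    exact h3 B hB hB'

theorem cjV_le_o2 (hRD : R ≤ D) {r : G} (hr : r ∈ R) (i : ι) : cj r (V i) ≤ o2 D :=
  (cj_le_wr hr i).trans (h.wr_le_o2 hRD)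

theorem pure_key [Finite G] (hRD : R ≤ D) {A : Subgroup G} (hA : A ∈ AAp D R V) {r : G} (hr : r ∈ R) (i : ι)
    (hm : ¬ A ≤ centralizer (cj r (V i) : Set G)) :
    A ⊓ centralizer (cj r (V i) : Set G) ≤ centralizer (wr R V : Set G) ∧
      wr R V ≤ cj r (V i) ⊔ (wr R V ⊓ centralizer (A : Set G)) ∧
      ∀ v ∈ cj r (V i), v ∉ cj r (Z i) → ∀ z ∈ cj r (Z i), ∃ f ∈ A, f * v * f⁻¹ * v⁻¹ = z := by
  obtain ⟨hAA, hAm, hmax⟩ := hA
  have hWel := h.wr_el hRD
  have hWO := h.wr_le_o2 hRD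
  have hVW : cj r (V i) ≤ wr R V := cj_le_wr hr i
  have hVel : IsElementaryAbelian 2 (cj r (V i)) :=
    ea_mk (fun a ha b hb => ea_comm hWel (hVW ha) (hVW hb)) fun a ha => ea_sq hWel (hVW ha)
  have hroot := h.rootAA hAA (hRD hr) i
  have hfull : ∀ v ∈ cj r (V i), v ∉ cj r (Z i) →
      (∀ z ∈ cj r (Z i), ∃ f ∈ A, f * v * f⁻¹ * v⁻¹ = z) ∧
        ∀ f ∈ A, f * v = v * f → f ∈ centralizer (cj r (V i) : Set G) := hroot.full.resolve_left hm
  set V' := cj r (V i) with hV'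
  set Z' := cj r (Z i) with hZ'
  have hq : 1 < Nat.card Z' := h.one_lt r i
  have hcard : Nat.card V' = Nat.card Z' ^ 2 := h.card_cjV r i
  obtain ⟨v, hv, hvZ⟩ := h.exists_not r i
  -- (ii)
  have hmv : ∀ x ∈ V', (∀ a ∈ A, a * x = x * a) → x ∈ Z' := by
    intro x hx hc
    by_contra hxZ
    obtain ⟨z, hz, hz1⟩ : ∃ z ∈ Z', z ≠ 1 := by
      by_contra hc'
      push Not at hc'
      have : Z' = ⊥ := (Subgroup.eq_bot_iff_forall _).2 hc'
      rw [this, Subgroup.card_bot] at hq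
      exact lt_irrefl _ hq
    obtain ⟨f, hf, e⟩ := (hfull x hx hxZ).1 z hz
    apply hz1
    rw [← e, hc f hf, mul_inv_cancel_right, mul_inv_cancel]
  -- (i)
  have hi : Nat.card A ≤ Nat.card Z' * Nat.card ↥(A ⊓ centralizer (V' : Set G)) := by
    have h1 := (hfull v hv hvZ).1
    choose s hs hs' using h1
    have hcomm : ∀ a : A, (a : G) * v * (a : G)⁻¹ * v⁻¹ ∈ Z' := fun a => hroot.comm a a.2 v hv
    let φ : A → Z' × ↥(A ⊓ centralizer (V' : Set G)) := fun a =>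
      (⟨(a : G) * v * (a : G)⁻¹ * v⁻¹, hcomm a⟩, ⟨(s _ (hcomm a))⁻¹ * a, by
        have h1 : (s _ (hcomm a))⁻¹ * (a : G) ∈ A := A.mul_mem (A.inv_mem (hs _ _)) a.2
        refine Subgroup.mem_inf.2 ⟨h1, (hfull v hv hvZ).2 _ h1 ?_⟩
        have h2 := hs' _ (hcomm a)
        set t := s _ (hcomm a) with ht
        have h3 : t * v * t⁻¹ = (a : G) * v * (a : G)⁻¹ := mul_right_cancel h2
        calc t⁻¹ * (a : G) * v = t⁻¹ * ((a : G) * v * (a : G)⁻¹) * a := by group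
          _ = t⁻¹ * (t * v * t⁻¹) * a := by rw [h3]
          _ = v * (t⁻¹ * a) := by group⟩)
    have hφ : Function.Injective φ := by
      intro a b hab
      have h2 : (⟨(a : G) * v * (a : G)⁻¹ * v⁻¹, hcomm a⟩ : Z') = ⟨(b : G) * v * (b : G)⁻¹ * v⁻¹, hcomm b⟩ :=
        congrArg Prod.fst hab
      have h3 : (a : G) * v * (a : G)⁻¹ * v⁻¹ = (b : G) * v * (b : G)⁻¹ * v⁻¹ := congrArg Subtype.val h2
      have h4 : (s _ (hcomm a))⁻¹ * (a : G) = (s _ (hcomm b))⁻¹ * b :=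
        congrArg Subtype.val (congrArg Prod.snd hab)
      have h5 : s _ (hcomm a) = s _ (hcomm b) := by
        congr 1
      rw [h5] at h4
      exact Subtype.ext (mul_left_cancel h4)
    have h6 := Nat.card_le_card_of_injective φ hφ
    rwa [Nat.card_prod] at h6
  -- intersections
  have hint : ∀ X : Subgroup G, X ≤ A → Nat.card ↥(X ⊓ V' : Subgroup G) ≤ Nat.card Z' := by
    intro X hX
    refine Nat.card_mono (Set.toFinite _) ?_
    rintro x ⟨hx, hx'⟩
    exact hmv x hx' fun a ha => ea_comm hAA.1 ha (hX hx)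
  have hprod : ∀ X : Subgroup G, X ≤ A → Nat.card X * Nat.card Z' ≤ Nat.card ↥(X ⊔ V' : Subgroup G) := by
    intro X hX
    have h1 := card_mul_card_le (B₁ := X) (B₂ := V') (B₃ := X ⊔ V') le_sup_left le_sup_right
    have h2 : Nat.card X * Nat.card V' ≤ Nat.card Z' * Nat.card ↥(X ⊔ V' : Subgroup G) :=
      h1.trans (Nat.mul_le_mul_right _ (hint X hX))
    rw [hcard] at h2
    have h3 : 0 < Nat.card Z' := Nat.card_pos
    refine Nat.le_of_mul_le_mul_left ?_ h3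
    calc Nat.card Z' * (Nat.card X * Nat.card Z') = Nat.card X * Nat.card Z' ^ 2 := by ring
      _ ≤ _ := h2
  -- (iii)
  have hXel : IsElementaryAbelian 2 (A ⊓ centralizer (V' : Set G) : Subgroup G) :=
    ea_mk (fun a ha b hb => ea_comm hAA.1 ha.1 hb.1) fun a ha => ea_sq hAA.1 ha.1
  have hA'el : IsElementaryAbelian 2 ((A ⊓ centralizer (V' : Set G)) ⊔ V' : Subgroup G) :=
    ea_sup hXel hVel fun a ha x hx => (mem_centralizer_iff.1 ha.2 x hx).symm
  have hA'O : (A ⊓ centralizer (V' : Set G)) ⊔ V' ≤ o2 D :=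
    sup_le (inf_le_left.trans hAA.2.1) (h.cjV_le_o2 hRD hr i)
  have hA'AA : (A ⊓ centralizer (V' : Set G)) ⊔ V' ∈ AA (o2 D) := by
    refine ⟨hA'el, hA'O, fun B hB hBO => (hAA.2.2 B hB hBO).trans ?_⟩
    have h1 := hprod (A ⊓ centralizer (V' : Set G)) inf_le_left
    rw [mul_comm] at h1
    exact hi.trans h1
  -- (iv)
  have hVC : V' ≤ centralizer (wr R V : Set G) := fun x hx =>
    mem_centralizer_iff.2 fun w hw => ea_comm hWel hw (hVW hx)
  have hlt : Nat.card ↥(A ⊓ centralizer (wr R V : Set G)) <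
      Nat.card ↥(((A ⊓ centralizer (V' : Set G)) ⊔ V' : Subgroup G) ⊓ centralizer (wr R V : Set G)) := by
    have h1 := hprod (A ⊓ centralizer (wr R V : Set G)) inf_le_left
    have h2 : (A ⊓ centralizer (wr R V : Set G)) ⊔ V' ≤
        ((A ⊓ centralizer (V' : Set G)) ⊔ V') ⊓ centralizer (wr R V : Set G) :=
      le_inf (sup_le_sup_right (inf_le_inf_left _ (centralizer_le (SetLike.coe_subset_coe.2 hVW))) _)
        (sup_le inf_le_right hVC)
    have h3 := Nat.card_mono (Set.toFinite _) (SetLike.coe_subset_coe.2 h2)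
    have h4 : 0 < Nat.card ↥(A ⊓ centralizer (wr R V : Set G)) := Nat.card_pos
    refine lt_of_lt_of_le ?_ (h1.trans h3)
    nlinarith
  have hA'C : (A ⊓ centralizer (V' : Set G)) ⊔ V' ≤ centralizer (wr R V : Set G) := by
    by_contra hc
    have h1 := hmax _ hA'AA fun h2 => hc (le_centralizer_iff.1 h2)
    omega
  have hBC : A ⊓ centralizer (V' : Set G) ≤ centralizer (wr R V : Set G) := le_sup_left.trans hA'C
  refine ⟨hBC, ?_, fun x hx hxZ => (hfull x hx hxZ).1⟩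
  -- (v)
  have h1 := (bo_of_AA hAA hWel hWO).1 (A ⊓ centralizer (V' : Set G)) inf_le_left
  have h2 : wr R V ⊓ centralizer ((A ⊓ centralizer (V' : Set G) : Subgroup G) : Set G) = wr R V :=
    inf_eq_left.2 (le_centralizer_iff.1 hBC)
  rw [h2] at h1
  have h3 : Nat.card ↥(wr R V) ≤ Nat.card Z' * Nat.card ↥(wr R V ⊓ centralizer (A : Set G)) := by
    have h4 : 0 < Nat.card ↥(A ⊓ centralizer (V' : Set G)) := Nat.card_pos
    refine Nat.le_of_mul_le_mul_left (h1.trans ?_) h4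
    calc Nat.card A * Nat.card ↥(wr R V ⊓ centralizer (A : Set G))
        ≤ Nat.card Z' * Nat.card ↥(A ⊓ centralizer (V' : Set G)) * Nat.card ↥(wr R V ⊓ centralizer (A : Set G)) :=
          Nat.mul_le_mul_right _ hi
      _ = _ := by ring
  have h5 := card_mul_card_le (B₁ := V') (B₂ := wr R V ⊓ centralizer (A : Set G))
    (B₃ := V' ⊔ (wr R V ⊓ centralizer (A : Set G))) le_sup_left le_sup_right
  have h6 : Nat.card ↥(V' ⊓ (wr R V ⊓ centralizer (A : Set G)) : Subgroup G) ≤ Nat.card Z' := by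
    refine Nat.card_mono (Set.toFinite _) ?_
    rintro x ⟨hx, -, hx'⟩
    exact hmv x hx fun a ha => mem_centralizer_iff.1 hx' a ha
  have h7 : V' ⊔ (wr R V ⊓ centralizer (A : Set G)) ≤ wr R V := sup_le hVW inf_le_left
  have h8 : V' ⊔ (wr R V ⊓ centralizer (A : Set G)) = wr R V := by
    apply eq_of_le_of_card_ge h7
    have h9 : 0 < Nat.card Z' := Nat.card_pos
    refine Nat.le_of_mul_le_mul_left ?_ h9
    calc Nat.card Z' * Nat.card ↥(wr R V)
        ≤ Nat.card Z' * (Nat.card Z' * Nat.card ↥(wr R V ⊓ centralizer (A : Set G))) := Nat.mul_le_mul_left _ h3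
      _ = Nat.card V' * Nat.card ↥(wr R V ⊓ centralizer (A : Set G)) := by rw [hcard]; ring
      _ ≤ Nat.card ↥(V' ⊓ (wr R V ⊓ centralizer (A : Set G)) : Subgroup G) *
          Nat.card ↥(V' ⊔ (wr R V ⊓ centralizer (A : Set G)) : Subgroup G) := h5
      _ ≤ _ := Nat.mul_le_mul_right _ h6
  exact h8.ge

theorem one_aux [Finite G] (hRD : R ≤ D) {A : Subgroup G} (hA : A ∈ AAp D R V) {r s : G} (hr : r ∈ R) (hs : s ∈ R)
    (i j : ι) (hm : ¬ A ≤ centralizer (cj r (V i) : Set G)) (hm' : ¬ A ≤ centralizer (cj s (V j) : Set G)) :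
    cj s (Z j) ≤ cj r (Z i) := by
  obtain ⟨-, h1, -⟩ := h.pure_key hRD hA hr i hm
  obtain ⟨-, -, h2⟩ := h.pure_key hRD hA hs j hm'
  obtain ⟨v, hv, hvZ⟩ := h.exists_not s j
  have hWel := h.wr_el hRD
  have hroot := h.rootAA hA.1 (hRD hr) i
  intro z hz
  obtain ⟨f, hf, e⟩ := h2 v hv hvZ z hz
  obtain ⟨x, hx, c, hc, e'⟩ := NO3S.SN2.BA.mem_sup_of_comm
    (X := cj r (V i)) (Y := wr R V ⊓ centralizer (A : Set G))
    (fun x hx c hc => ea_comm hWel (cj_le_wr hr i hx) hc.1) (h1 (cj_le_wr hs j hv))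
  have h3 := mem_centralizer_iff.1 hc.2 f hf
  have h4 := ea_comm hWel (cj_le_wr hr i hx) hc.1
  rw [← e, ← e']
  have e2 : f * (x * c) * f⁻¹ * (x * c)⁻¹ = f * x * f⁻¹ * x⁻¹ := by
    calc f * (x * c) * f⁻¹ * (x * c)⁻¹ = f * x * (c * f⁻¹ * c⁻¹) * x⁻¹ := by group
      _ = f * x * f⁻¹ * x⁻¹ := by
        have h5 : c * f⁻¹ * c⁻¹ = f⁻¹ := by
          calc c * f⁻¹ * c⁻¹ = f⁻¹ * (f * c) * f⁻¹ * c⁻¹ := by group
            _ = f⁻¹ * (c * f) * f⁻¹ * c⁻¹ := by rw [h3]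
            _ = f⁻¹ := by group
        rw [h5]
  rw [e2]
  exact hroot.comm f hf x hx

theorem exists_pure [Finite G] (hRD : R ≤ D) (hSR : (S : Subgroup G) ≤ R) (i : ι) :
    ∃ A ∈ AAp D R V, ∀ v ∈ V i, (∀ a ∈ A, a * v = v * a) → v ∈ Z i := by
  obtain ⟨A₀, hA₀, hA₀m⟩ := h.mov
  obtain ⟨A, ⟨hA1, hA2⟩, hmax⟩ := Set.exists_max_image
    {A : Subgroup G | A ∈ AA (o2 D) ∧ ¬ wr R V ≤ centralizer (A : Set G)}
    (fun A => Nat.card ↥(A ⊓ centralizer (wr R V : Set G))) (Set.toFinite _)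
    ⟨A₀, hA₀, fun hc => hA₀m (le_centralizer_iff.1 ((iSup_le_wr R V).trans hc))⟩
  have hA : A ∈ AAp D R V := ⟨hA1, hA2, fun B hB hB' => hmax B ⟨hB, hB'⟩⟩
  obtain ⟨r, hr, j, hj⟩ : ∃ r ∈ R, ∃ j, ¬ A ≤ centralizer (cj r (V j) : Set G) := by
    by_contra hc
    push Not at hc
    exact hA2 (wr_le fun r hr i => le_centralizer_iff.1 (hc r hr i))
  obtain ⟨s, hs, hsj⟩ := h.trans j i
  have hsr : s * r⁻¹ ∈ R := mul_mem (hSR hs) (inv_mem hr)
  have hA' := h.AAp_cj hRD hsr hA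
  refine ⟨_, hA', fun v hv hc => ?_⟩
  have hm : ¬ cj (s * r⁻¹) A ≤ centralizer (cj (1 : G) (V i) : Set G) := by
    intro h1
    apply hj
    rw [cj_one, ← hsj] at h1
    have h2 := cj_mono (s * r⁻¹)⁻¹ h1
    rw [cj_inv_cj, cj_centralizer, cj_cj] at h2
    have e : (s * r⁻¹)⁻¹ * s = r := by group
    rwa [e] at h2
  obtain ⟨-, -, h3⟩ := h.pure_key hRD hA' (one_mem R) i hm
  by_contra hvZ
  obtain ⟨z, hz, hz1⟩ : ∃ z ∈ Z i, z ≠ 1 := by
    by_contra hc'
    push Not at hc'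
    exact h.Zne i ((Subgroup.eq_bot_iff_forall _).2 hc')
  obtain ⟨f, hf, e⟩ := h3 v (by rw [cj_one]; exact hv) (by rw [cj_one]; exact hvZ) z (by rw [cj_one]; exact hz)
  apply hz1
  rw [← e, hc f hf, mul_inv_cancel_right, mul_inv_cancel]

/-- `PA` over `PIn` -/
theorem pa [Finite G] (hR : IsMinPar (S : Subgroup G) R) (hRD : R ≤ D) :
    PA R (S : Subgroup G) (o2 R) (wr R V) V Z (AAp D R V) where
  SR := hR.le
  KS := o2_le_of_sylow S.isPGroup' (MinSimple.Basic.not_dvd_relIndex S hR.le)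
  RK := le_normalizer_o2 R
  min := fun N hNR hN => by
    rcases hR.sup_eq_or_inf_le S.isPGroup' (MinSimple.Basic.not_dvd_relIndex S hR.le) hNR hN with h1 | h1
    · exact Or.inr h1.ge
    · left
      rw [inf_comm]
      exact h1
  Wel := h.wr_el hRD
  RW := le_normalizer_wr R V
  VW := le_wr R V
  ZV := h.ZV
  perm := fun s hs i => h.perm s ⟨Subgroup.le_normalizer hs, h.SD hs⟩ i
  inj := fun i j hij => by
    by_contra hne
    apply h.Zne i
    rw [eq_bot_iff]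
    have h1 := h.ind.pairwiseDisjoint hne
    exact h1 (h.ZV i) (hij ▸ h.ZV j)
  root := h.root
  ne := fun i hi => by
    obtain ⟨v, hv, hvZ⟩ := h.exists_not 1 i
    rw [cj_one] at hv hvZ
    exact hvZ (hi hv)
  off := fun F hF hb i => h.ffp F hF (bo_restrict hb (iSup_le_wr R V)) i
  AAc := fun r hr A hA => h.AAp_cj hRD hr hA
  AAone := fun A hA r hr i s hs j h1 h2 =>
    le_antisymm (h.one_aux hRD hA hs hr j i h2 h1) (h.one_aux hRD hA hr hs i j h1 h2)
  AAex := h.exists_pure hRD hR.le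
  AAz := fun A hA i a ha z hz => by
    have h1 := h.rootAA hA.1 (one_mem D) i
    rw [cj_one, cj_one] at h1
    exact h1.fixZ a ha z hz

/-- **Case A over `PIn`.** -/
theorem permA [Finite G] (hR : IsMinPar (S : Subgroup G) R) (hRD : R ≤ D) {F : Subgroup G}
    (hF : F ≤ (S : Subgroup G)) (hb : IsBestOffenderOn 2 (wr R V) F) (hK : ¬ F ≤ o2 R) :
    ∀ r ∈ R, ∀ i, ∃ j, cj r (Z i) = Z j := (h.pa hR hRD).perm_of hF hb hK

end PIn

end Cfsg.Agent.Omega.NOThreeL.RWide
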