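import Cfsg.Agent.Omega.NOThreeL.RWide.ExnB
import Cfsg.Agent.Omega.OM.KTwo.StepF

/-!
# NO-3L, box R: `Typed` from the types of the parabolics

`TT` : an `N_G(S)`-invariant set of `P ∈ P*(S)`, `⟨C_G(Z), TT⟩` nonlocal, `Z = ∏ Z_i`.

* `Ty S Z V i P` : `P` is of type `i`: it centralises the `Z_l`, `l ≠ i`, `C_{Z_i}(P) = 1`, `V_i = ⟨Z_i^P⟩`, and its elements
  of odd order centralise the `V_l`, `l ≠ i`;
* `Types S TT Z V` : every `P ∈ TT` has a type; the other `P ∈ P*(S)` with `P ≤ Y_j` normalise `V_j`, and their elements of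
  odd order centralise the `V_l`, `l ≠ j`;
* **`Types.typed`** : `Types S TT Z V → Typed S Z V`;  **`Types.false_of`** : contradiction (with (ML) and EXT).
-/

set_option autoImplicit false
set_option linter.unusedSectionVars false

namespace Cfsg.Agent.Omega.NOThreeL.RWide

open Subgroup Cfsg Cfsg.Agent.ZN Cfsg.Agent.Omega.MinPar Cfsg.Agent.Omega.Frame Cfsg.Agent.Omega.FrameNOFF
open Cfsg.Agent.Omega.Node.NO3L
open Cfsg.Agent.ZN.ChoiceBase (cj cj_mono cj_inf cj_centralizer cj_eq_of_mem_normalizer mem_cj mem_normalizer_iff_cj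
  cj_cj_inv cj_inv_cj)
open Cfsg.Agent.Omega.NoFF.Basic (comm_symm comm_mono)
open Cfsg.Agent.Omega.OM.KTwo (exists_mul_of_mem_sup)
open Cfsg.Agent.Omega.ML.Final (MLK)

universe u v

section defs

variable {G : Type u} [Group G] {ι : Type v}

/-- `P` is of type `i` -/
structure Ty (S : Subgroup G) (Z V : ι → Subgroup G) (i : ι) (P : Subgroup G) : Prop where
  par : IsParS S P
  cent : ∀ l, l ≠ i → P ≤ centralizer (Z l : Set G)
  free : Z i ⊓ centralizer (P : Set G) = ⊥
  gen : XS (Z i) P = V i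
  odd : ∀ l, l ≠ i → ∀ g ∈ P, Odd (orderOf g) → g ∈ centralizer (V l : Set G)

/-- at least three types -/
structure Types (S : Subgroup G) (TT : Set (Subgroup G)) (Z V : ι → Subgroup G) : Prop where
  three : ∀ i j : ι, ∃ l, l ≠ i ∧ l ≠ j
  ne : ∀ i, Z i ≠ ⊥
  le : ∀ i, Z i ≤ zc S
  sup : zc S ≤ ⨆ i, Z i
  cV : ∀ i, V i ⊓ zc S ≤ Z i
  inv : ∀ n ∈ normalizer (S : Set G), ∀ P ∈ TT, cj n P ∈ TT
  uni : ∀ P ∈ TT, ∃ i, Ty S Z V i P
  two : ∀ P, IsParS S P → P ∉ TT → ∀ j, P ≤ YY Z j →
    P ≤ normalizer (V j : Set G) ∧ ∀ i, i ≠ j → ∀ g ∈ P, Odd (orderOf g) → g ∈ centralizer (V i : Set G)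
  non : ∀ U : Subgroup G, IsPGroup 2 U → CZ S ≤ normalizer (U : Set G) → (∀ P ∈ TT, P ≤ normalizer (U : Set G)) →
    U = ⊥

theorem Ty.le_YY {S : Subgroup G} {Z V : ι → Subgroup G} {i : ι} {P : Subgroup G} (h : Ty S Z V i P) : P ≤ YY Z i :=
  RWide.le_YY h.cent

/-- a parabolic of type `i` moves `Z i` -/
theorem Ty.not_le {S : Subgroup G} {Z V : ι → Subgroup G} {i : ι} {P : Subgroup G} (h : Ty S Z V i P) (hi : Z i ≠ ⊥) :
    ¬ P ≤ centralizer (Z i : Set G) := by
  intro h1
  apply hi
  rw [← h.free, eq_comm, inf_eq_left]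
  exact comm_symm h1

/-- the type is determined by a `Z_j` which is moved -/
theorem Ty.eq {S : Subgroup G} {Z V : ι → Subgroup G} {i j : ι} {P : Subgroup G} (h : Ty S Z V i P)
    (hj : ¬ P ≤ centralizer (Z j : Set G)) : j = i := by
  by_contra hne
  exact hj (h.cent j hne)

end defs

namespace Types

variable {G : Type u} [Group G] [Finite G] {S : Sylow 2 G} {ι : Type v} {TT : Set (Subgroup G)} {Z V : ι → Subgroup G}
  (T : Types (S : Subgroup G) TT Z V)
include T

theorem exists_ty (i : ι) : ∃ P ∈ TT, Ty (S : Subgroup G) Z V i P := by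
  by_contra hcon
  push Not at hcon
  refine T.ne i (T.non (Z i) (S.isPGroup'.to_le ((T.le i).trans (MinSimple.VModule.zc_le _))) ?_ fun P hP => ?_)
  · exact (centralizer_le (T.le i)).trans (centralizer_le_normalizer _)
  · obtain ⟨l, hl⟩ := T.uni P hP
    refine (hl.cent i ?_).trans (centralizer_le_normalizer _)
    rintro rfl
    exact hcon P hP hl

/-- the type of a conjugate -/
theorem ty_cj {j : ι} {n : G} (hn : n ∈ normalizer ((S : Subgroup G) : Set G)) (hnY : n ∈ YY Z j) {i : ι}
    {P : Subgroup G} (hPT : P ∈ TT) (hP : Ty (S : Subgroup G) Z V i P) : Ty (S : Subgroup G) Z V i (cj n P) := by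
  obtain ⟨i', h'⟩ := T.uni _ (T.inv n hn P hPT)
  have hZn : ∀ l, l ≠ j → cj n (Z l) = Z l := fun l hl =>
    cj_eq_of_mem_normalizer (centralizer_le_normalizer _ (YY_le_cent hl hnY))
  have key : ∀ l, l ≠ j → ∀ Q : Subgroup G, cj n Q ≤ centralizer (Z l : Set G) ↔ Q ≤ centralizer (Z l : Set G) := by
    intro l hl Q
    have e : centralizer (Z l : Set G) = cj n (centralizer (Z l : Set G)) := by
      rw [cj_centralizer, hZn l hl]
    constructor
    · intro h1
      rw [e] at h1
      have := cj_mono n⁻¹ h1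
      rwa [cj_inv_cj, cj_inv_cj] at this
    · intro h1
      rw [e]
      exact cj_mono n h1
  have e : i' = i := by
    by_cases hij : i = j
    · subst hij
      by_contra hne
      refine h'.not_le (T.ne i') ((key i' hne P).2 (hP.cent i' hne))
    · exact (h'.eq fun h1 => hP.not_le (T.ne i) ((key i hij P).1 h1)).symm
  rwa [e] at h'

/-- the fixed points in `Z` of the parabolics of types `≠ j` -/
theorem mem_of_cent [Finite ι] {j : ι} {z : G} (hz : z ∈ zc (S : Subgroup G))
    (h : ∀ l, l ≠ j → ∃ P, Ty (S : Subgroup G) Z V l P ∧ z ∈ centralizer (P : Set G)) : z ∈ Z j := by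
  classical
  have := Fintype.ofFinite ι
  have hcomm : ∀ {K : Subgroup G}, K ≤ zc (S : Subgroup G) → ∀ {K' : Subgroup G}, K' ≤ zc (S : Subgroup G) →
      K ≤ normalizer (K' : Set G) := by
    intro K hK K' hK'
    refine le_trans ?_ (centralizer_le_normalizer _)
    intro x hx
    rw [mem_centralizer_iff]
    intro y hy
    exact MinSimple.VModule.zc_comm _ y (hK' hy) x (hK hx)
  have key : ∀ s : Finset ι, ∀ z : G, z ∈ (⨆ l ∈ s, Z l : Subgroup G) →
      (∀ l, l ≠ j → ∃ P, Ty (S : Subgroup G) Z V l P ∧ z ∈ centralizer (P : Set G)) → z ∈ Z j := by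
    intro s
    induction s using Finset.induction_on with
    | empty =>
      intro z hz _
      simp only [Finset.notMem_empty, iSup_false, iSup_bot, mem_bot] at hz
      rw [hz]
      exact one_mem _
    | insert a s ha ih =>
      intro z hz hc
      rw [Finset.iSup_insert] at hz
      have hs : (⨆ l ∈ s, Z l : Subgroup G) ≤ zc (S : Subgroup G) := iSup₂_le fun l _ => T.le l
      obtain ⟨x, hx, y, hy, rfl⟩ := exists_mul_of_mem_sup (hcomm hs (T.le a)) hz
      by_cases haj : a = j
      · subst haj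
        refine mul_mem hx (ih y hy fun l hl => ?_)
        obtain ⟨P, hP, hzP⟩ := hc l hl
        refine ⟨P, hP, ?_⟩
        have h1 : x ∈ centralizer (P : Set G) := comm_symm (hP.cent a hl.symm) hx
        have h2 := mul_mem (inv_mem h1) hzP
        rwa [inv_mul_cancel_left] at h2
      · obtain ⟨P, hP, hzP⟩ := hc a haj
        have h1 : (⨆ l ∈ s, Z l : Subgroup G) ≤ centralizer (P : Set G) := by
          refine iSup₂_le fun l hl => comm_symm (hP.cent l ?_)
          rintro rfl
          exact ha hl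
        have h2 : x ∈ Z a ⊓ centralizer (P : Set G) := by
          refine ⟨hx, ?_⟩
          have h3 := mul_mem hzP (inv_mem (h1 hy))
          rwa [mul_inv_cancel_right] at h3
        rw [hP.free, mem_bot] at h2
        subst h2
        rw [one_mul] at hc ⊢
        exact ih y hy hc
  refine key Finset.univ z ?_ h
  have h1 := T.sup hz
  simpa using h1

/-- **`Typed` from the types.** -/
theorem typed [Finite ι] (hS : (S : Subgroup G) ≠ ⊥) : Typed (S : Subgroup G) Z V := by
  have hgen : ∀ i, ∃ P ∈ TT, Ty (S : Subgroup G) Z V i P := T.exists_ty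
  have hZn : ∀ j, ∀ n ∈ normalizer ((S : Subgroup G) : Set G), n ∈ YY Z j → cj n (Z j) ≤ Z j := by
    intro j n hn hnY
    intro z hz
    rw [mem_cj] at hz
    have hzc : z ∈ zc (S : Subgroup G) := by
      have h1 := MinSimple.VModule.normalizer_le_normalizer_zc _ hn
      rw [mem_normalizer_iff_cj] at h1
      rw [← h1, mem_cj]
      exact T.le j hz
    refine T.mem_of_cent hzc fun l hl => ?_
    obtain ⟨P, hPT, hP⟩ := hgen l
    refine ⟨cj n P, T.ty_cj hn hnY hPT hP, ?_⟩
    rw [← cj_centralizer, mem_cj]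
    exact comm_symm (hP.cent j hl.symm) hz
  have hZN : ∀ j, ∀ n ∈ normalizer ((S : Subgroup G) : Set G), n ∈ YY Z j → n ∈ normalizer (Z j : Set G) := by
    intro j n hn hnY
    rw [mem_normalizer_iff_cj]
    refine le_antisymm (hZn j n hn hnY) ?_
    have h1 := cj_mono n (hZn j n⁻¹ (inv_mem hn) (inv_mem hnY))
    rwa [cj_cj_inv] at h1
  refine ⟨T.three, T.ne, T.le, T.sup, ?_, ?_, T.cV, ?_, ?_, ?_⟩
  · intro i
    obtain ⟨P, -, hP⟩ := hgen i
    rw [← hP.gen]
    exact le_XS _ _
  · intro i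
    obtain ⟨P, -, hP⟩ := hgen i
    rw [← hP.gen]
    exact XS_mono hP.le_YY
  · intro j n hn hnY
    refine ⟨hZN j n hn hnY, fun i => ?_⟩
    obtain ⟨P, hPT, hP⟩ := hgen i
    have hP' := T.ty_cj hn hnY hPT hP
    have h1 : n ∈ normalizer (Z i : Set G) := by
      by_cases hij : i = j
      · subst hij
        exact hZN i n hn hnY
      · exact centralizer_le_normalizer _ (YY_le_cent hij hnY)
    rw [mem_normalizer_iff_cj] at h1 ⊢
    conv_rhs => rw [← hP'.gen]
    rw [← hP.gen]
    have key : ∀ (g : G) (A R : Subgroup G), cj g (XS A R) ≤ XS (cj g A) (cj g R) := by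
      intro g A R
      rw [cj, map_le_iff_le_comap]
      refine XS_le fun r hr a ha => ?_
      have h2 : g * r * g⁻¹ ∈ cj g R := by
        rw [mem_cj]
        have e : g⁻¹ * (g * r * g⁻¹) * g = r := by group
        rwa [e]
      have h3 : g * a * g⁻¹ ∈ cj g A := by
        rw [mem_cj]
        have e : g⁻¹ * (g * a * g⁻¹) * g = a := by group
        rwa [e]
      have h4 := conj_mem_XS h2 h3
      have e : g * r * g⁻¹ * (g * a * g⁻¹) * (g * r * g⁻¹)⁻¹ = g * (r * a * r⁻¹) * g⁻¹ := by group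
      rw [e] at h4
      exact h4
    refine le_antisymm ?_ ?_
    · have h2 := key n (Z i) P
      rwa [h1] at h2
    · have h2 := cj_mono n (key n⁻¹ (Z i) (cj n P))
      have h3 : cj n⁻¹ (Z i) = Z i := by
        conv_lhs => rw [← h1]
        rw [cj_inv_cj]
      rwa [h3, cj_inv_cj, cj_cj_inv] at h2
  · intro j P hP hPY
    by_cases hPT : P ∈ TT
    · obtain ⟨i, hi⟩ := T.uni P hPT
      have e : j = i := by
        by_contra hne
        exact hi.not_le (T.ne i) (hPY.trans (YY_le_cent (Ne.symm hne)))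
      subst e
      refine ⟨?_, fun i hij => hi.odd i hij⟩
      rw [← hi.gen]
      exact le_normalizer_XS _ _
    · exact T.two P hP hPT j hPY
  · intro U hU h
    refine T.non U hU ?_ fun P hP => ?_
    · have hz := MinSimple.Basic.zc_ne_bot S.isPGroup' hS
      have hne : Nonempty ι := by
        by_contra hcon
        rw [not_nonempty_iff] at hcon
        have h1 := T.sup
        rw [iSup_of_empty, le_bot_iff] at h1
        exact hz h1
      obtain ⟨j⟩ := hne
      exact (le_YY fun l _ => centralizer_le (T.le l)).trans (h j)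
    · obtain ⟨i, hi⟩ := T.uni P hP
      exact hi.le_YY.trans (h i)

/-- **At least three types are impossible.** -/
theorem false_of [Finite ι] (hc : IsCharacteristicTwoType G) (ml : MLK.{u, u})
    (kg : ∀ R : Subgroup G, IsLoc (S : Subgroup G) R → IsKGroup R) (hS : (S : Subgroup G) ≠ ⊥)
    (hE : ML.Ex.Two.Ext.{u, u}) : False :=
  (T.typed hS).false_of hc ml kg hS hE

end Types

end Cfsg.Agent.Omega.NOThreeL.RWide
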