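import Cfsg.Agent.Omega.NOThreeL.RWide.ExnM
import Cfsg.Agent.Omega.NOThreeL.RWide.TypOf
import Cfsg.Agent.Omega.NOThreeL.RTree

/-!
# NO-3L, box R: at least three class modules (#24537, #24089)

`V* = ⟨Z^M₀⟩ = zl S (MZ S)`, `M₀ = MZ S = ⟨P*(S)⟩`.

* `CMod S W` : `V* = ∏ W i` (direct), the `W i` are `M₀`-invariant, permuted by `N_G(S)`, and
  `W i ≤ ⟨(W i ∩ Z)^(C_(M₀)(W j : j ≠ i))⟩`;
* `NonLocF S W` : `⟨C_G(W l ∩ Z : l ≠ j) : j⟩` is nonlocal;
* `CMod.typedM` : at least three `W i` give `TypedM S (W i ∩ Z) W`;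
* **`CMod.false_of`** : at least three `W i` are impossible (with (ML) and `NoInpM`).
-/

set_option autoImplicit false
set_option linter.unusedSectionVars false

namespace Cfsg.Agent.Omega.NOThreeL.RWide

open Subgroup Cfsg Cfsg.Agent.ZN Cfsg.Agent.Omega.MinPar Cfsg.Agent.Omega.Frame Cfsg.Agent.Omega.FrameNOFF
open Cfsg.Agent.Omega.Node.NO3L
open Cfsg.Agent.Omega.NOThreeL.Merge (MZ le_MZ S_le_MZ)
open Cfsg.Agent.Omega.NOThreeL.RTree (RB)
open Cfsg.Agent.ZN.ChoiceBase (cj cj_mono cj_inf mem_cj mem_normalizer_iff_cj cj_eq_of_mem_normalizer cj_cj_inv cj_inv_cj)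
open Cfsg.Agent.Omega.OM.KTwo (exists_mul_of_mem_sup)
open Cfsg.Agent.Omega.ML.Final (MLK)
open Cfsg.Agent.Omega.KL.StarM (NoInpM)
open scoped Pointwise

universe u v

/-- **Class modules** (what is used for at least three classes). -/
structure CMod {G : Type u} [Group G] (S : Subgroup G) {ι : Type v} (W : ι → Subgroup G) : Prop where
  ne : ∀ i, W i ≠ ⊥
  sup : ⨆ i, W i = zl S (MZ S)
  ind : ∀ i, W i ⊓ (⨆ j : {j // j ≠ i}, W j) = ⊥
  inv : ∀ i, MZ S ≤ normalizer (W i : Set G)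
  nS : ∀ n ∈ normalizer (S : Set G), ∀ i, ∃ j, MulAut.conj n • W i = W j
  gen : ∀ i, W i ≤ NoFF.Basic.V (W i ⊓ zc S) (MZ S ⊓ centralizer {x : G | ∃ j, j ≠ i ∧ x ∈ W j})

/-- `⟨C_G(W l ∩ Z : l ≠ j) : j⟩` is nonlocal. -/
def NonLocF {G : Type u} [Group G] (S : Subgroup G) {ι : Type v} (W : ι → Subgroup G) : Prop :=
  ∀ U : Subgroup G, IsPGroup 2 U → (∀ j, YY (fun i => W i ⊓ zc S) j ≤ normalizer (U : Set G)) → U = ⊥

namespace CMod

variable {G : Type u} [Group G] [Finite G] {S : Sylow 2 G} {ι : Type v} {W : ι → Subgroup G}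
  (c : CMod (S : Subgroup G) W)
include c

theorem W_le (i : ι) : W i ≤ zl (S : Subgroup G) (MZ (S : Subgroup G)) := by
  rw [← c.sup]
  exact le_iSup W i

theorem dis {i j : ι} (h : i ≠ j) : W i ⊓ W j = ⊥ := by
  rw [← le_bot_iff, ← c.ind i]
  exact inf_le_inf_left _ (le_iSup (fun k : {k // k ≠ i} => W k) ⟨j, h.symm⟩)

/-- an element of `N_G(S)` which fixes all `W i ∩ Z`, `i ≠ j`, pointwise normalises all `W i` -/
theorem nrm (hne : ∀ i, W i ⊓ zc (S : Subgroup G) ≠ ⊥) {j : ι} {n : G} (hn : n ∈ normalizer ((S : Subgroup G) : Set G))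
    (hY : n ∈ YY (fun i => W i ⊓ zc (S : Subgroup G)) j) (i : ι) : n ∈ normalizer (W i : Set G) := by
  have h1 : ∀ i, i ≠ j → MulAut.conj n • W i = W i := by
    intro i hij
    obtain ⟨k, hk⟩ := c.nS n hn i
    have h2 : W i ⊓ zc (S : Subgroup G) ≤ W i ⊓ W k := by
      refine le_inf inf_le_left ?_
      intro x hx
      have h3 : x * n = n * x := mem_centralizer_iff.1 (YY_le_cent hij hY) x hx
      rw [← hk]
      have h4 := Subgroup.smul_mem_pointwise_smul x (MulAut.conj n) (W i) hx.1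
      have e : MulAut.conj n • x = x := by
        rw [MulAut.smul_def, MulAut.conj_apply, ← h3, mul_inv_cancel_right]
      rwa [e] at h4
    by_cases hik : i = k
    · rw [hk, ← hik]
    · rw [c.dis hik] at h2
      exact absurd (le_bot_iff.1 h2) (hne i)
  have h2 : MulAut.conj n • W j = W j := by
    obtain ⟨k, hk⟩ := c.nS n hn j
    by_cases hjk : k = j
    · rw [hk, hjk]
    · have h3 : MulAut.conj n • W j = MulAut.conj n • W k := by rw [hk, h1 k hjk]
      have h4 : W j = W k := smul_left_cancel _ h3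
      have h5 := c.dis hjk
      rw [← h4, inf_idem] at h5
      exact absurd h5 (c.ne j)
  rw [mem_normalizer_iff_cj]
  by_cases hij : i = j
  · subst hij; exact h2
  · exact h1 i hij

variable (h : RB S)
include h

theorem comm (i j : ι) : W i ≤ centralizer (W j : Set G) :=
  (c.W_le i).trans ((Star.zl_comm h.ctx.char2 h.data.noff).trans (centralizer_le (c.W_le j)))

theorem sq (i : ι) : ∀ x ∈ W i, x ^ 2 = 1 := fun x hx => Star.zl_sq h.ctx.char2 h.data.noff x (c.W_le i hx)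

theorem pg (i : ι) : IsPGroup 2 (W i) := by
  rintro ⟨x, hx⟩
  refine ⟨1, Subtype.ext ?_⟩
  simpa using c.sq h i x hx

theorem SW (i : ι) : (S : Subgroup G) ≤ normalizer (W i : Set G) := (S_le_MZ h.ctx h.full).trans (c.inv i)

/-- an element of `W i` which is centralised by `S` is in `Z` -/
theorem mem_zc_of {i : ι} {x : G} (hx : x ∈ W i) (hS : ∀ s ∈ (S : Subgroup G), s * x = x * s) :
    x ∈ zc (S : Subgroup G) := by
  refine MinSimple.VModule.mem_zc.2 ⟨?_, hS, c.sq h i x hx⟩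
  have hn : zpowers x ≤ normalizer ((S : Subgroup G) : Set G) := by
    rw [zpowers_le]
    refine centralizer_le_normalizer _ (mem_centralizer_iff.2 fun s hs => hS s hs)
  have hp : IsPGroup 2 (zpowers x) := (c.pg h i).to_le (by rwa [zpowers_le])
  have h1 : IsPGroup 2 ((S : Subgroup G) ⊔ zpowers x : Subgroup G) := S.isPGroup'.to_sup_of_normal_left' hp hn
  have h2 := S.is_maximal' h1 le_sup_left
  rw [← h2]
  exact mem_sup_right (mem_zpowers x)

theorem Z_ne (i : ι) : W i ⊓ zc (S : Subgroup G) ≠ ⊥ := by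
  have : Fact (Nat.Prime 2) := ⟨Nat.prime_two⟩
  have h1 := PLocal.OffenderStep.inf_centralizer_ne_bot (W i) (S : Subgroup G) (c.pg h i) S.isPGroup' (c.SW h i)
    (c.ne i)
  intro h2
  apply h1
  rw [eq_bot_iff, ← h2]
  rintro x ⟨hx, hxS⟩
  refine mem_inf.2 ⟨hx, c.mem_zc_of h hx fun s hs => mem_centralizer_iff.1 hxS s hs⟩

/-- `Z = ∏ W i ∩ Z` -/
theorem zc_le [Finite ι] : zc (S : Subgroup G) ≤ ⨆ i, (W i ⊓ zc (S : Subgroup G)) := by
  classical
  have := Fintype.ofFinite ι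
  have key : ∀ s : Finset ι, ∀ z ∈ (⨆ i ∈ s, W i : Subgroup G), (∀ t ∈ (S : Subgroup G), t * z = z * t) →
      z ∈ (⨆ i ∈ s, (W i ⊓ zc (S : Subgroup G)) : Subgroup G) := by
    intro s
    induction s using Finset.induction_on with
    | empty =>
      intro z hz _
      simpa using hz
    | insert a s ha ih =>
      intro z hz hfix
      rw [Finset.iSup_insert] at hz
      have hc : (⨆ i ∈ s, W i : Subgroup G) ≤ normalizer (W a : Set G) :=
        (iSup₂_le fun i _ => c.comm h i a).trans (centralizer_le_normalizer _)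
      obtain ⟨x, hx, y, hy, rfl⟩ := exists_mul_of_mem_sup hc hz
      have hle : (⨆ i ∈ s, W i : Subgroup G) ≤ ⨆ k : {k // k ≠ a}, W k := by
        refine iSup₂_le fun i hi => ?_
        exact le_iSup (fun k : {k // k ≠ a} => W k) ⟨i, fun e => ha (e ▸ hi)⟩
      have hnS : (S : Subgroup G) ≤ normalizer ((⨆ i ∈ s, W i : Subgroup G) : Set G) := by
        have key2 : ∀ t ∈ (S : Subgroup G), cj t (⨆ i ∈ s, W i : Subgroup G) ≤ ⨆ i ∈ s, W i := by
          intro t ht
          rw [cj, map_le_iff_le_comap]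
          refine iSup₂_le fun i hi => ?_
          rw [← map_le_iff_le_comap]
          refine le_trans ?_ (le_iSup₂ (f := fun i (_ : i ∈ s) => W i) i hi)
          exact (cj_eq_of_mem_normalizer (c.SW h i ht)).le
        intro t ht
        rw [mem_normalizer_iff_cj]
        refine le_antisymm (key2 t ht) ?_
        have h1 := cj_mono t (key2 t⁻¹ (inv_mem ht))
        rwa [cj_cj_inv] at h1
      have key3 : ∀ t ∈ (S : Subgroup G), t * x = x * t ∧ t * y = y * t := by
        intro t ht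
        have hz : t * (x * y) * t⁻¹ = x * y := by rw [hfix t ht, mul_inv_cancel_right]
        have hx' : t * x * t⁻¹ ∈ W a := (mem_normalizer_iff.1 (c.SW h a ht) x).1 hx
        have hy' : t * y * t⁻¹ ∈ (⨆ i ∈ s, W i : Subgroup G) := (mem_normalizer_iff.1 (hnS ht) y).1 hy
        have h5 : (t * x * t⁻¹) * (t * y * t⁻¹) = x * y := by
          rw [← hz]; group
        have h6 : x⁻¹ * (t * x * t⁻¹) = y * (t * y * t⁻¹)⁻¹ := by
          calc x⁻¹ * (t * x * t⁻¹) = x⁻¹ * ((t * x * t⁻¹) * (t * y * t⁻¹)) * (t * y * t⁻¹)⁻¹ := by group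
            _ = y * (t * y * t⁻¹)⁻¹ := by rw [h5]; group
        have h7 : x⁻¹ * (t * x * t⁻¹) ∈ W a ⊓ (⨆ k : {k // k ≠ a}, W k : Subgroup G) :=
          mem_inf.2 ⟨mul_mem (inv_mem hx) hx', by rw [h6]; exact hle (mul_mem hy (inv_mem hy'))⟩
        rw [c.ind a, mem_bot] at h7
        have h8 : t * x * t⁻¹ = x := (inv_mul_eq_one.1 h7).symm
        have h9 : t * y * t⁻¹ = y := by
          rw [h8] at h5
          exact mul_left_cancel h5
        exact ⟨mul_inv_eq_iff_eq_mul.1 h8, mul_inv_eq_iff_eq_mul.1 h9⟩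
      rw [Finset.iSup_insert]
      exact mul_mem_sup ⟨hx, c.mem_zc_of h hx fun t ht => (key3 t ht).1⟩ (ih y hy fun t ht => (key3 t ht).2)
  intro z hz
  have h1 : z ∈ (⨆ i ∈ (Finset.univ : Finset ι), W i : Subgroup G) := by
    have h2 : z ∈ (⨆ i, W i : Subgroup G) := by
      rw [c.sup]
      exact zc_le_zl hz
    simpa using h2
  have h3 := key Finset.univ z h1 fun t ht => (MinSimple.VModule.mem_zc.1 hz).2.1 t ht
  simpa using h3

/-- **`TypedM` from at least three class modules.** -/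
theorem typedM [Finite ι] (h3 : ∀ i j : ι, ∃ k, k ≠ i ∧ k ≠ j) (hn : NonLocF (S : Subgroup G) W) :
    TypedM (S : Subgroup G) (fun i => W i ⊓ zc (S : Subgroup G)) W where
  three := h3
  ne := c.Z_ne h
  le _ := inf_le_right
  sup := c.zc_le h
  ZV _ := inf_le_left
  VX i := by
    refine (c.gen i).trans (NoFF.Basic.V_le fun p hp => ?_)
    have hpY : p ∈ YY (fun i => W i ⊓ zc (S : Subgroup G)) i := by
      refine centralizer_le ?_ hp.2
      rintro x ⟨l, hl, hx⟩
      exact ⟨l, hl, hx.1⟩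
    rintro _ ⟨x, hx, rfl⟩
    exact conj_mem_XS hpY hx
  cV _ := le_rfl
  dis _ _ hij := c.dis hij
  nrm j n hn hY := by
    have h1 := fun i => c.nrm (c.Z_ne h) hn hY i
    refine ⟨?_, h1⟩
    rw [mem_normalizer_iff_cj, cj_inf, cj_eq_of_mem_normalizer (h1 j),
      cj_eq_of_mem_normalizer (MinSimple.VModule.normalizer_le_normalizer_zc _ hn)]
  par _ _ hP _ i := (le_MZ hP).trans (c.inv i)
  non := hn

/-- **At least three class modules are impossible.** -/
theorem false_of [Finite ι] (ml : MLK.{u, u}) (hE : NoInpM.{u, u}) (h3 : ∀ i j : ι, ∃ k, k ≠ i ∧ k ≠ j)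
    (hn : NonLocF (S : Subgroup G) W) : False :=
  (c.typedM h h3 hn).false_of h.ctx.char2 ml (fun R hR => Sigma.kg_of h.ctx R hR) (h.ctx.sylow_ne_bot S) hE

end CMod

end Cfsg.Agent.Omega.NOThreeL.RWide
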