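import Cfsg.Agent.Omega.KL.FlagNO
import Cfsg.Agent.Omega.NOThreeL.RWide.ExnM
import Cfsg.Agent.Omega.EDel.ThmUT

/-!
# NO-3L, box R: at least three types over an arbitrary 2-subgroup `T` (#25339)

`T` any 2-subgroup (the kernel of `S` on the index set), `F i = C_(R_i)(T)`, `Ω₁(Z(T)) = ∏ F i`, `V i` the `i`-th line
module, `Y_j = C_G(F_l : l ≠ j)`; no `q`, fields allowed.

* `TypT T F V` : the situation: `T` is Sylow in the `Y_j`, `O₂(C_G(F_l : l ≠ i, j)) ≤ T`, `N_(Y_j)(T)` normalises `F_j`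
  and all the `V_i`, every `T`-minimal `P ≤ Y_j` centralises `F_j` or normalises all the `V_i`, `⟨Y_j : j⟩` is nonlocal;
* `TypT.of` : `TypT` from the action of `N_G(T)` on the index set.
-/

set_option autoImplicit false
set_option linter.unusedSectionVars false

namespace Cfsg.Agent.Omega.NOThreeL.RWide

open Subgroup Cfsg Cfsg.Agent.ZN Cfsg.Agent.Omega.MinPar Cfsg.Agent.Omega.Frame Cfsg.Agent.Omega.FrameNOFF
open Cfsg.Agent.ZN.ChoiceBase (cj cj_mono cj_inf cj_centralizer cj_eq_of_mem_normalizer mem_cj mem_normalizer_iff_cj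
  cj_cj_inv cj_inv_cj)
open Cfsg.Agent.MinSimple.MinParabolic (IsMinPar)
open Cfsg.Agent.Omega.EDel.ThmU (XF XF_le sylow_of_two)

universe u v

/-- **At least three types over `T`.** -/
structure TypT {G : Type u} [Group G] {ι : Type v} (T : Subgroup G) (F V : ι → Subgroup G) : Prop where
  two : IsPGroup 2 T
  three : ∀ i j : ι, ∃ l, l ≠ i ∧ l ≠ j
  ne : ∀ i, F i ≠ ⊥
  le : ∀ i, F i ≤ zc T
  sup : zc T ≤ ⨆ i, F i
  FV : ∀ i, F i ≤ V i
  VX : ∀ i, V i ≤ XS (F i) (YY F i)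
  cV : ∀ i, V i ⊓ zc T ≤ F i
  dis : ∀ i j, i ≠ j → V i ⊓ V j = ⊥
  syl : ∀ j, ¬ 2 ∣ T.relIndex (YY F j)
  oT : ∀ i j, i ≠ j → o2 (XF F i j) ≤ T
  nrm : ∀ j, ∀ n ∈ normalizer (T : Set G), n ∈ YY F j →
    n ∈ normalizer (F j : Set G) ∧ ∀ i, n ∈ normalizer (V i : Set G)
  /-- the `T`-minimal `P` in `Y_j` centralise `F_j` or normalise all the `V_i` -/
  par : ∀ j P, IsMinPar T P → P ≤ YY F j → P ≤ centralizer (F j : Set G) ∨ ∀ i, P ≤ normalizer (V i : Set G)
  non : ∀ U : Subgroup G, IsPGroup 2 U → (∀ j, YY F j ≤ normalizer (U : Set G)) → U = ⊥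

/-- **`TypT` from the action of `N_G(T)` on the index set.** -/
theorem TypT.of {G : Type u} [Group G] [Finite G] {ι : Type v} {T : Subgroup G} {F V : ι → Subgroup G}
    (two : IsPGroup 2 T) (three : ∀ i j : ι, ∃ l, l ≠ i ∧ l ≠ j) (ne : ∀ i, F i ≠ ⊥) (le : ∀ i, F i ≤ zc T)
    (sup : zc T ≤ ⨆ i, F i) (FV : ∀ i, F i ≤ V i) (VX : ∀ i, V i ≤ XS (F i) (YY F i)) (cV : ∀ i, V i ⊓ zc T ≤ F i)
    (dis : ∀ i j, i ≠ j → V i ⊓ V j = ⊥) (oT : ∀ i j, i ≠ j → o2 (XF F i j) ≤ T)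
    (NT : ∀ n ∈ normalizer (T : Set G), ∃ σ : Equiv.Perm ι, ∀ i, cj n (F i) = F (σ i) ∧ cj n (V i) = V (σ i))
    (ker : ∀ n ∈ normalizer (T : Set G), (∃ k : ℕ, n ^ 2 ^ k = 1) → (∀ i, cj n (F i) = F i) → n ∈ T)
    (par : ∀ j P, IsMinPar T P → P ≤ YY F j → P ≤ centralizer (F j : Set G) ∨ ∀ i, P ≤ normalizer (V i : Set G))
    (non : ∀ U : Subgroup G, IsPGroup 2 U → (∀ j, YY F j ≤ normalizer (U : Set G)) → U = ⊥) : TypT T F V := by
  have inj : ∀ i j, F i = F j → i = j := by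
    intro i j h
    by_contra hij
    apply ne i
    rw [eq_bot_iff, ← dis i j hij]
    exact le_inf (FV i) (h.le.trans (FV j))
  have key : ∀ j, ∀ n ∈ normalizer (T : Set G), n ∈ YY F j → ∀ i, cj n (F i) = F i ∧ cj n (V i) = V i := by
    intro j n hn hj
    obtain ⟨σ, hσ⟩ := NT n hn
    have h1 : ∀ l, l ≠ j → σ l = l := by
      intro l hl
      apply inj
      rw [← (hσ l).1]
      exact cj_eq_of_mem_normalizer (centralizer_le_normalizer _ (YY_le_cent hl hj))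
    have h2 : σ j = j := by
      by_contra hne
      exact hne (σ.injective (h1 _ hne))
    intro i
    have h3 : σ i = i := by
      by_cases hi : i = j
      · rw [hi]; exact h2
      · exact h1 i hi
    have h4 := hσ i
    rw [h3] at h4
    exact h4
  have hTc : ∀ i, T ≤ centralizer (F i : Set G) := fun i => by
    intro t ht
    rw [mem_centralizer_iff]
    intro x hx
    exact ((MinSimple.VModule.mem_zc.1 (le i hx)).2.1 t ht).symm
  refine ⟨two, three, ne, le, sup, FV, VX, cV, dis, fun j => ?_, oT, fun j n hn hj => ?_, par, non⟩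
  · exact sylow_of_two two (le_YY fun l _ => hTc l) fun g hg h2 => ker g hg.2 h2 fun i => (key j g hg.2 hg.1 i).1
  · exact ⟨mem_normalizer_iff_cj.2 (key j n hn hj j).1, fun i => mem_normalizer_iff_cj.2 (key j n hn hj i).2⟩

end Cfsg.Agent.Omega.NOThreeL.RWide
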