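import Cfsg.Agent.Omega.EDel.ThmUT
import Cfsg.Agent.Omega.NOThreeL.RWide.Typ

/-!
# Box R, at least three blocks over `T` (helper848 #25339 (3)): `syl`, `nrm`, `o2` from `NT` and `ker`

`T` a 2-group, `F i` centralised by `T`, `V i` the `i`-th line module.

* `TPerm T F V` : `N_G(T)` permutes the pairs `(F i, V i)`, and a 2-element of `N_G(T)` which normalises all `F i` is in `T`;
* `TPerm.nrm`, `TPerm.syl`, **`TPerm.o2_le`** : the fields `nrm`, `syl`, `o2` of `TypT`.
-/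

set_option autoImplicit false
set_option linter.unusedSectionVars false

namespace Cfsg.Agent.Omega.NOThreeL.RWide

open Subgroup Cfsg Cfsg.Agent.ZN Cfsg.Agent.Omega.MinPar Cfsg.Agent.Omega.Frame
open Cfsg.Agent.ZN.ChoiceBase (cj cj_mono cj_inf cj_centralizer cj_eq_of_mem_normalizer mem_cj mem_normalizer_iff_cj
  cj_cj_inv cj_inv_cj)
open Cfsg.Agent.Omega.EDel.ThmU (XF XF_le sylow_of_two)

universe u v

variable {G : Type u} [Group G] {ι : Type v}

/-- `N_G(T)` permutes the pairs `(F i, V i)`; `T` is the kernel on the 2-elements -/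
structure TPerm (T : Subgroup G) (F V : ι → Subgroup G) : Prop where
  two : IsPGroup 2 T
  cT : ∀ i, T ≤ centralizer (F i : Set G)
  inj : Function.Injective F
  NT : ∀ g ∈ normalizer (T : Set G), ∃ σ : Equiv.Perm ι, ∀ i, cj g (F i) = F (σ i) ∧ cj g (V i) = V (σ i)
  ker : ∀ g ∈ normalizer (T : Set G), (∃ k : ℕ, g ^ 2 ^ k = 1) → (∀ i, cj g (F i) = F i) → g ∈ T

theorem mem_sup_norm' {A B : Subgroup G} (h : A ≤ normalizer (B : Set G)) {x : G} (hx : x ∈ A ⊔ B) :
    ∃ a ∈ A, ∃ b ∈ B, a * b = x := by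
  have h1 : x ∈ ((A ⊔ B : Subgroup G) : Set G) := hx
  rw [coe_mul_of_left_le_normalizer_right A B h] at h1
  exact Set.mem_mul.mp h1

/-- `C(V)` is normal in `N(V)` -/
theorem conj_mem_cent_of_norm {V : Subgroup G} {a x : G} (ha : a ∈ centralizer (V : Set G))
    (hx : x ∈ normalizer (V : Set G)) : x * a * x⁻¹ ∈ centralizer (V : Set G) := by
  rw [mem_centralizer_iff]
  intro v hv
  have h1 : x⁻¹ * v * x⁻¹⁻¹ ∈ V := (mem_normalizer_iff.1 (inv_mem hx) v).1 hv
  have h2 := mem_centralizer_iff.1 ha _ h1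
  have e1 : v = x * (x⁻¹ * v * x⁻¹⁻¹) * x⁻¹ := by group
  rw [e1]
  have e2 : x * (x⁻¹ * v * x⁻¹⁻¹) * x⁻¹ * (x * a * x⁻¹) = x * ((x⁻¹ * v * x⁻¹⁻¹) * a) * x⁻¹ := by group
  have e3 : x * a * x⁻¹ * (x * (x⁻¹ * v * x⁻¹⁻¹) * x⁻¹) = x * (a * (x⁻¹ * v * x⁻¹⁻¹)) * x⁻¹ := by group
  rw [e2, e3, h2]

/-- powers modulo `C(V)` -/
theorem pow_mod_cent {V : Subgroup G} {a x : G} (ha : a ∈ centralizer (V : Set G)) (hx : x ∈ normalizer (V : Set G))
    (n : ℕ) : (a * x) ^ n * (x ^ n)⁻¹ ∈ centralizer (V : Set G) := by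
  induction n with
  | zero => simp [one_mem]
  | succ n ih =>
    have h2 := mul_mem ih (conj_mem_cent_of_norm ha (pow_mem hx n))
    have e : (a * x) ^ (n + 1) * (x ^ (n + 1))⁻¹ = (a * x) ^ n * (x ^ n)⁻¹ * (x ^ n * a * (x ^ n)⁻¹) := by
      rw [pow_succ, pow_succ]; group
    rw [e]; exact h2

/-- an element of odd order which acts as a 2-element acts trivially -/
theorem mem_cent_of_odd {V : Subgroup G} {a x : G} (ha : a ∈ centralizer (V : Set G)) (hx : x ∈ normalizer (V : Set G))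
    (ho : Odd (orderOf x)) {k : ℕ} (hk : (a * x) ^ 2 ^ k = 1) : x ∈ centralizer (V : Set G) := by
  have h1 := pow_mod_cent ha hx (2 ^ k)
  rw [hk, one_mul] at h1
  have h2 : x ^ 2 ^ k ∈ centralizer (V : Set G) := by
    have := inv_mem h1
    rwa [inv_inv] at this
  have h3 : Nat.Coprime (orderOf x) (2 ^ k) := Nat.Coprime.pow_right _ ho.coprime_two_right
  obtain ⟨m, hm⟩ := exists_pow_eq_self_of_coprime h3.symm
  rw [← hm]
  exact pow_mem h2 m

namespace TPerm

variable {T : Subgroup G} {F V : ι → Subgroup G} (h : TPerm T F V)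
include h

/-- an element of `N_G(T)` centralising all `F l`, `l ≠ j`, fixes all indices -/
theorem fix_one {j : ι} {g : G} (hg : g ∈ normalizer (T : Set G)) (hY : g ∈ YY F j) (i : ι) :
    cj g (F i) = F i ∧ cj g (V i) = V i := by
  obtain ⟨σ, hσ⟩ := h.NT g hg
  have hfix : ∀ l, l ≠ j → σ l = l := by
    intro l hl
    apply h.inj
    rw [← (hσ l).1]
    exact cj_eq_of_mem_normalizer (centralizer_le_normalizer _ (YY_le_cent hl hY))
  have hi : σ i = i := by
    by_cases hij : i = j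
    · subst hij
      by_contra hne
      exact hne (σ.injective (hfix _ hne))
    · exact hfix i hij
  have h1 := hσ i
  rw [hi] at h1
  exact h1

/-- the field `nrm` -/
theorem nrm (j : ι) : ∀ n ∈ normalizer (T : Set G), n ∈ YY F j →
    n ∈ normalizer (F j : Set G) ∧ ∀ i, n ∈ normalizer (V i : Set G) := fun n hn hY =>
  ⟨mem_normalizer_iff_cj.2 (h.fix_one hn hY j).1, fun i => mem_normalizer_iff_cj.2 (h.fix_one hn hY i).2⟩

theorem T_le (j : ι) : T ≤ YY F j := le_YY fun l _ => h.cT l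

theorem T_le' (i j : ι) : T ≤ XF F i j := by
  intro t ht
  rw [XF, mem_centralizer_iff]
  rintro x ⟨n, -, -, hx⟩
  exact mem_centralizer_iff.1 (h.cT n ht) x hx

/-- the field `syl` -/
theorem syl [Finite G] (j : ι) : ¬ 2 ∣ T.relIndex (YY F j) :=
  sylow_of_two h.two (h.T_le j) fun g hg h2 => h.ker g hg.2 h2 fun i => (h.fix_one hg.2 hg.1 i).1

/-- `O₂(X) ≤ T` if `T` contains the 2-elements of `N_G(T) ∩ O₂(X)` -/
theorem o2_le_of [Finite G] {X : Subgroup G} (hX : T ≤ X)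
    (hn : ∀ g ∈ normalizer (T : Set G), g ∈ o2 X → g ∈ T) : o2 X ≤ T := by
  have hTn : T ≤ normalizer (o2 X : Set G) := hX.trans (MinSimple.VModule.le_normalizer_o2 _)
  have hp : IsPGroup 2 (T ⊔ o2 X : Subgroup G) :=
    IsPGroup.to_sup_of_normal_right' h.two (MinSimple.VModule.o2_isPGroup _) hTn
  have h1 : ¬ 2 ∣ T.relIndex (T ⊔ o2 X) := by
    refine sylow_of_two h.two le_sup_left ?_
    intro g hg _
    obtain ⟨t, ht, q, hq, rfl⟩ := mem_sup_norm' hTn hg.1
    have hqn : q ∈ normalizer (T : Set G) := by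
      have := mul_mem (inv_mem (le_normalizer ht : t ∈ normalizer (T : Set G))) hg.2
      rwa [inv_mul_cancel_left] at this
    exact mul_mem ht (hn q hqn hq)
  have h2 : T.relIndex (T ⊔ o2 X) = 1 := by
    obtain ⟨n, hn⟩ := (IsPGroup.iff_card (p := 2)).1 hp
    have hd : T.relIndex (T ⊔ o2 X) ∣ 2 ^ n := hn ▸ Subgroup.relIndex_dvd_card _ _
    obtain ⟨m, -, hm⟩ := (Nat.dvd_prime_pow Nat.prime_two).1 hd
    cases m with
    | zero => simpa using hm
    | succ m => exact absurd (hm ▸ dvd_pow_self 2 (Nat.succ_ne_zero m)) h1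
  exact le_sup_right.trans (relIndex_eq_one.1 h2)

/-- the field `o2` -/
theorem o2_le [Finite G] (FV : ∀ i, F i ≤ V i)
    (mv : ∀ i, ∃ x : G, Odd (orderOf x) ∧ x ∈ normalizer (V i : Set G) ∧ x ∉ centralizer (V i : Set G) ∧
      ∀ j, j ≠ i → x ∈ centralizer (V j : Set G)) (i j : ι) :
    o2 (centralizer {x | ∃ l, l ≠ i ∧ l ≠ j ∧ x ∈ F l}) ≤ T := by
  change o2 (XF F i j) ≤ T
  refine h.o2_le_of (h.T_le' i j) ?_
  intro g hg hgo
  have hgX : g ∈ XF F i j := MinSimple.VModule.o2_le _ hgo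
  have h2 : ∃ k : ℕ, g ^ 2 ^ k = 1 := by
    obtain ⟨k, hk⟩ := (MinSimple.VModule.o2_isPGroup (XF F i j)) ⟨g, hgo⟩
    exact ⟨k, by simpa using congrArg Subtype.val hk⟩
  obtain ⟨σ, hσ⟩ := h.NT g hg
  have hfix : ∀ n, n ≠ i → n ≠ j → σ n = n := by
    intro n hn1 hn2
    apply h.inj
    rw [← (hσ n).1]
    exact cj_eq_of_mem_normalizer (centralizer_le_normalizer _ (XF_le F hn1 hn2 hgX))
  by_cases hi : σ i = i
  · -- all indices are fixed
    refine h.ker g hg h2 fun n => ?_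
    have hn : σ n = n := by
      by_cases h1 : n = i
      · rw [h1]; exact hi
      by_cases h2 : n = j
      · subst h2
        by_contra hne
        by_cases h3 : σ n = i
        · exact h1 (σ.injective (h3.trans hi.symm))
        · exact hne (σ.injective (hfix _ h3 hne))
      · exact hfix n h1 h2
    rw [(hσ n).1, hn]
  · -- `g` moves `i` to `j`
    exfalso
    have hij : σ i = j := by
      by_contra hne
      exact hi (σ.injective (hfix _ hi hne))
    have hij' : i ≠ j := fun e => hi (hij.trans e.symm)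
    have hji : σ j = i := by
      by_contra hne
      have h3 : σ j ≠ j := fun e => hij' (σ.injective (hij.trans e.symm))
      exact h3 (σ.injective (hfix _ hne h3))
    obtain ⟨x, hxo, hxn, hxc, hx⟩ := mv i
    have hxX : x ∈ XF F i j := by
      rw [XF, mem_centralizer_iff]
      rintro y ⟨n, hn, -, hy⟩
      exact mem_centralizer_iff.1 (hx n hn) y (FV n hy)
    -- `c = g⁻¹ x⁻¹ g x`
    have hc : g⁻¹ * x⁻¹ * g * x ∈ o2 (XF F i j) := by
      have h3 : x⁻¹ * g * x⁻¹⁻¹ ∈ o2 (XF F i j) :=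
        (mem_normalizer_iff.1 (MinSimple.VModule.le_normalizer_o2 _ (inv_mem hxX)) g).1 hgo
      have h4 := mul_mem (inv_mem hgo) h3
      have e : g⁻¹ * (x⁻¹ * g * x⁻¹⁻¹) = g⁻¹ * x⁻¹ * g * x := by group
      rwa [e] at h4
    have ha : g⁻¹ * x⁻¹ * g ∈ centralizer (V i : Set G) := by
      have h5 : cj g (V i) = V j := by rw [(hσ i).2, hij]
      have h6 : x⁻¹ ∈ centralizer (cj g (V i) : Set G) := by
        rw [h5]; exact inv_mem (hx j fun e => hij' e.symm)
      rw [← cj_centralizer, mem_cj] at h6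
      exact h6
    obtain ⟨k, hk⟩ := (MinSimple.VModule.o2_isPGroup (XF F i j)) ⟨_, hc⟩
    have hk' : (g⁻¹ * x⁻¹ * g * x) ^ 2 ^ k = 1 := by simpa using congrArg Subtype.val hk
    exact hxc (mem_cent_of_odd ha hxn hxo hk')

end TPerm

end Cfsg.Agent.Omega.NOThreeL.RWide
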