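import Cfsg.Agent.Omega.EDel.Bx.LamZJ

/-!
# LEMMA ZJ+(q), step (2) (helper371 #26038 (f1)-(f3), over helper285 #25856; general `q`)

`E` elementary abelian (`E = Ω₁Z(J(Q_b))`), `A` of maximal order in `O`, `E ≤ N C_E(A)`, `Le ≤ N` (a line `≠` the
fixed line `R`), `[A, Le] ≤ R`, `C_A(e) = C_A(Le) ≤ Q` for all `1 ≠ e ∈ Le`, `R` centralised by `A` and `Q`, `X`
centralised by `A`, `R ∩ Le X = 1`, `|R| ≤ |Le|`, some `t ∈ A` which moves `Le` normalises `Q`. If `y ∈ E` and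
`[Q, y] ≤ Le X` then `[Q, y] ≤ X`.

* **`step2Q`**.
-/

set_option autoImplicit false
set_option linter.unusedVariables false

namespace Cfsg.Agent.Omega.NOThreeL.RWide.ZJQ

open Subgroup
open Cfsg.Agent.Omega.KL.TwoS (Mx comm_of_sq sq_sup)
open Cfsg.Agent.Omega.NoFF.ThmJFam (card_sup_inf)
open Cfsg.Agent.Omega.NoFF.Basic (comm_symm)
open Cfsg.Agent.Omega.OM.KTwo (exists_mul_of_mem_sup)
open Cfsg.Agent.Omega.EDel.LamZJ (cnt)

universe u

variable {G : Type u} [Group G] [Finite G]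

omit [Finite G] in
/-- `|A| = |A / A₀| |A₀|` -/
theorem card_quot {A A0 : Subgroup G} (h : A0 ≤ A) :
    Nat.card A = Nat.card (A ⧸ A0.subgroupOf A) * Nat.card A0 := by
  have h1 := Subgroup.card_eq_card_quotient_mul_card_subgroup (A0.subgroupOf A)
  rwa [Nat.card_congr (Subgroup.subgroupOfEquivOfLe h).toEquiv] at h1

/-- `|A / A₀| ≤ |S|` from a map to `S` which separates the cosets -/
theorem card_quot_le {A A0 S : Subgroup G} (f : G → G) (hf : ∀ a ∈ A, f a ∈ S)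
    (hi : ∀ a ∈ A, ∀ b ∈ A, f a = f b → a⁻¹ * b ∈ A0) : Nat.card (A ⧸ A0.subgroupOf A) ≤ Nat.card S := by
  classical
  refine Nat.card_le_card_of_injective
    (fun τ : A ⧸ A0.subgroupOf A => (⟨f (τ.out : A), hf _ (τ.out : A).2⟩ : S)) ?_
  intro τ σ h
  have h1 : f (τ.out : A) = f (σ.out : A) := congrArg Subtype.val h
  have h2 := hi _ (τ.out : A).2 _ (σ.out : A).2 h1
  have h3 : ((τ.out : A) : A ⧸ A0.subgroupOf A) = ((σ.out : A) : A ⧸ A0.subgroupOf A) := by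
    rw [QuotientGroup.eq, mem_subgroupOf]
    exact h2
  rwa [QuotientGroup.out_eq', QuotientGroup.out_eq'] at h3

/-- the cosets `f t M` (`t` mod `A₀`) are different: `|A / A₀| |M| ≤ |L|`, and they cover `L` in case of equality -/
theorem card_cosets {A A0 L M : Subgroup G} (f : G → G) (hf : ∀ a ∈ A, f a ∈ L) (ML : M ≤ L)
    (hi : ∀ a ∈ A, ∀ b ∈ A, ∀ m ∈ M, f a = f b * m → a⁻¹ * b ∈ A0) :
    Nat.card (A ⧸ A0.subgroupOf A) * Nat.card M ≤ Nat.card L ∧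
      (Nat.card L ≤ Nat.card (A ⧸ A0.subgroupOf A) * Nat.card M → ∀ y ∈ L, ∃ a ∈ A, ∃ m ∈ M, y = f a * m) := by
  classical
  let φ : (A ⧸ A0.subgroupOf A) × M → L :=
    fun p => ⟨f (p.1.out : A) * p.2, mul_mem (hf _ (p.1.out : A).2) (ML p.2.2)⟩
  have hφ : Function.Injective φ := by
    rintro ⟨τ, m⟩ ⟨σ, n⟩ h
    have h1 : f (τ.out : A) * m = f (σ.out : A) * n := congrArg Subtype.val h
    have h2 := hi _ (τ.out : A).2 _ (σ.out : A).2 (n * (m : G)⁻¹) (mul_mem n.2 (inv_mem m.2)) (by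
      rw [← mul_assoc, ← h1, mul_inv_cancel_right])
    have h3 : ((τ.out : A) : A ⧸ A0.subgroupOf A) = ((σ.out : A) : A ⧸ A0.subgroupOf A) := by
      rw [QuotientGroup.eq, mem_subgroupOf]
      exact h2
    rw [QuotientGroup.out_eq', QuotientGroup.out_eq'] at h3
    subst h3
    have h4 : (m : G) = n := mul_left_cancel h1
    rw [Subtype.ext h4]
  have h1 := Nat.card_le_card_of_injective φ hφ
  rw [Nat.card_prod] at h1
  refine ⟨h1, fun h2 y hy => ?_⟩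
  have h3 : Function.Bijective φ := by
    have : Fintype ((A ⧸ A0.subgroupOf A) × M) := Fintype.ofFinite _
    have : Fintype L := Fintype.ofFinite _
    rw [Fintype.bijective_iff_injective_and_card]
    refine ⟨hφ, ?_⟩
    rw [← Nat.card_eq_fintype_card, ← Nat.card_eq_fintype_card, Nat.card_prod]
    exact le_antisymm h1 h2
  obtain ⟨⟨τ, m⟩, h4⟩ := h3.2 ⟨y, hy⟩
  exact ⟨(τ.out : A), (τ.out : A).2, m, m.2, (congrArg Subtype.val h4).symm⟩

/-- **Step (2) of LEMMA ZJ+(q).** -/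
theorem step2Q {O E N X Q A Le R : Subgroup G} {t y : G} (hA : Mx O A) (EO : E ≤ O) (Esq : ∀ x ∈ E, x ^ 2 = 1)
    (NE : N ≤ E) (EN : E ≤ N ⊔ (E ⊓ centralizer (A : Set G))) (AE : A ≤ normalizer (E : Set G)) (LN : Le ≤ N)
    (RE : R ≤ E) (XE : X ≤ E) (RA : ∀ r ∈ R, ∀ a ∈ A, a * r = r * a) (RQ : ∀ r ∈ R, ∀ g ∈ Q, g * r = r * g)
    (XA : ∀ x ∈ X, ∀ a ∈ A, a * x = x * a) (LR : ∀ a ∈ A, ∀ e ∈ Le, a * e * a⁻¹ * e⁻¹ ∈ R)
    (dis : ∀ x ∈ R, x ∈ Le ⊔ X → x = 1)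
    (reg : ∀ a ∈ A, ∀ e ∈ Le, e ≠ 1 → a * e = e * a → ∀ e' ∈ Le, a * e' = e' * a)
    (cR : Nat.card R ≤ Nat.card Le) (ht : t ∈ A) (htL : ∃ e ∈ Le, t * e ≠ e * t)
    (AQ : ∀ a ∈ A, (∀ e ∈ Le, a * e = e * a) → a ∈ Q) (tQ : t ∈ normalizer (Q : Set G))
    (k3 : ∀ A' : Subgroup G, Mx O A' → ∀ w ∈ N, (∀ a ∈ A', a * w * a⁻¹ * w⁻¹ ∈ X) → ∀ a ∈ A', a * w = w * a)
    (hy : y ∈ E) (hyQ : ∀ g ∈ Q, g * y * g⁻¹ * y⁻¹ ∈ Le ⊔ X) :
    ∀ g ∈ Q, g * y * g⁻¹ * y⁻¹ ∈ X := by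
  have hEc : ∀ a ∈ E, ∀ b ∈ E, a * b = b * a := fun a ha b hb =>
    (mem_centralizer_iff.1 (comm_of_sq Esq ha) b hb).symm
  have hAc : ∀ a ∈ A, ∀ b ∈ A, a * b = b * a := fun a ha b hb => (mem_centralizer_iff.1 (hA.comm ha) b hb).symm
  have LE : Le ≤ E := LN.trans NE
  have conjE : ∀ a ∈ A, ∀ x ∈ E, a * x * a⁻¹ ∈ E := fun a ha x hx => (mem_normalizer_iff.1 (AE ha) x).1 hx
  have XAc : ∀ a ∈ A, ∀ x ∈ X, a * x * a⁻¹ = x := fun a ha x hx => by rw [XA x hx a ha, mul_inv_cancel_right]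
  -- elements of `Le X`
  have hLX : ∀ x ∈ Le ⊔ X, ∃ e ∈ Le, ∃ c ∈ X, x = e * c := fun x hx =>
    exists_mul_of_mem_sup (((XE.trans (comm_of_sq Esq)).trans (centralizer_le LE)).trans (centralizer_le_normalizer _)) hx
  -- `[t, e x] = [t, e]`
  have hLXc : ∀ a ∈ A, ∀ e ∈ Le, ∀ c ∈ X, a * (e * c) * a⁻¹ * (e * c)⁻¹ = a * e * a⁻¹ * e⁻¹ := by
    intro a ha e he c hc
    calc a * (e * c) * a⁻¹ * (e * c)⁻¹ = (a * e * a⁻¹) * (a * c * a⁻¹) * c⁻¹ * e⁻¹ := by group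
      _ = a * e * a⁻¹ * e⁻¹ := by rw [XAc a ha c hc, mul_inv_cancel_right]
  -- `A₀ = C_A(Le)`
  set A0 : Subgroup G := A ⊓ centralizer (Le : Set G) with hA0
  have mem0 : ∀ {a : G}, a ∈ A0 ↔ a ∈ A ∧ ∀ e ∈ Le, a * e = e * a := by
    intro a
    rw [hA0, mem_inf, mem_centralizer_iff]
    exact and_congr_right fun _ => ⟨fun h e he => (h e he).symm, fun h e he => (h e he).symm⟩
  have A0A : A0 ≤ A := inf_le_left
  obtain ⟨e0, he0, hte0⟩ := htL
  have e0ne : e0 ≠ 1 := by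
    rintro rfl
    exact hte0 (by rw [mul_one, one_mul])
  have htA0 : t ∉ A0 := fun h => hte0 ((mem0.1 h).2 e0 he0)
  -- `a e a⁻¹ = b e b⁻¹` ⟹ `a⁻¹ b ∈ A₀`
  have sep : ∀ e ∈ Le, e ≠ 1 → ∀ a ∈ A, ∀ b ∈ A, a * e * a⁻¹ = b * e * b⁻¹ → a⁻¹ * b ∈ A0 := by
    intro e he hne a ha b hb hab
    have hm := mul_mem (inv_mem ha) hb
    refine mem0.2 ⟨hm, reg _ hm e he hne ?_⟩
    calc a⁻¹ * b * e = a⁻¹ * (b * e * b⁻¹) * b := by group
      _ = a⁻¹ * (a * e * a⁻¹) * b := by rw [hab]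
      _ = e * (a⁻¹ * b) := by group
  have cAR : Nat.card (A ⧸ A0.subgroupOf A) ≤ Nat.card R := by
    refine card_quot_le (fun a => a * e0 * a⁻¹ * e0⁻¹) (fun a ha => LR a ha e0 he0) fun a ha b hb hab => ?_
    exact sep e0 he0 e0ne a ha b hb (mul_right_cancel hab)
  have cA := card_quot A0A
  -- the group `H = C_E(A)` and the decomposition `y = w c`
  set H : Subgroup G := E ⊓ centralizer (A : Set G) with hH
  have memH : ∀ {x : G}, x ∈ H ↔ x ∈ E ∧ ∀ a ∈ A, a * x = x * a := by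
    intro x
    rw [hH, mem_inf, mem_centralizer_iff]
    exact Iff.rfl
  -- `Le ∩ H = 1`
  have LH : Le ⊓ H = ⊥ := by
    rw [eq_bot_iff]
    intro x hx
    rw [mem_bot]
    by_contra hne
    exact hte0 (reg t ht x hx.1 hne ((memH.1 hx.2).2 t ht) e0 he0)
  have LHc : Le ≤ centralizer (H : Set G) := (LE.trans (comm_of_sq Esq)).trans (centralizer_le inf_le_left)
  have cLH : Nat.card Le * Nat.card H = Nat.card (Le ⊔ H : Subgroup G) := by
    have h1 := card_sup_inf (A := Le) (B := H) LHc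
    rw [LH, card_bot, mul_one] at h1
    exact h1.symm
  obtain ⟨w, hw, c, hc, rfl⟩ := exists_mul_of_mem_sup (F := N) (N := H)
    (((inf_le_left.trans (comm_of_sq Esq)).trans (centralizer_le NE)).trans (centralizer_le_normalizer _)) (EN hy)
  have hwE : w ∈ E := NE hw
  have hcE : c ∈ E := (memH.1 hc).1
  have hcA := (memH.1 hc).2
  -- `k3` for `F C_E(F)`
  have use : ∀ F : Subgroup G, F ≤ A → (∀ f ∈ F, f * (w * c) * f⁻¹ * (w * c)⁻¹ ∈ X) →
      Mx O (F ⊔ E ⊓ centralizer (F : Set G)) → w * c ∈ E ⊓ centralizer (F : Set G) := by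
    intro F FA hF hMx
    refine mem_inf.2 ⟨hy, ?_⟩
    have h1 : ∀ a ∈ F ⊔ E ⊓ centralizer (F : Set G), a * w * a⁻¹ * w⁻¹ ∈ X := by
      intro a ha
      obtain ⟨f, hf, d, hd, rfl⟩ := exists_mul_of_mem_sup (F := F) (N := E ⊓ centralizer (F : Set G))
        (inf_le_right.trans (centralizer_le_normalizer _)) ha
      have e1 : f * d * w * (f * d)⁻¹ * w⁻¹ = f * (w * c) * f⁻¹ * (w * c)⁻¹ := by
        have e2 : d * w * d⁻¹ = w := by rw [hEc d hd.1 w hwE, mul_inv_cancel_right]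
        have e3 : f * c * f⁻¹ = c := by rw [hcA f (FA hf), mul_inv_cancel_right]
        calc f * d * w * (f * d)⁻¹ * w⁻¹ = f * (d * w * d⁻¹) * f⁻¹ * w⁻¹ := by group
          _ = f * w * f⁻¹ * w⁻¹ := by rw [e2]
          _ = f * w * f⁻¹ * (c * c⁻¹) * w⁻¹ := by group
          _ = f * w * f⁻¹ * ((f * c * f⁻¹) * c⁻¹) * w⁻¹ := by rw [e3]
          _ = f * (w * c) * f⁻¹ * (w * c)⁻¹ := by group
      rw [e1]
      exact hF f hf
    have h2 := k3 _ hMx w hw h1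
    rw [mem_centralizer_iff]
    intro f hf
    have h3 := h2 f (mem_sup_left hf)
    calc f * (w * c) = f * w * c := by group
      _ = w * (f * c) := by rw [h3]; group
      _ = w * c * f := by rw [hcA f (FA hf)]; group
  set y : G := w * c with hydef
  have kE : ∀ a ∈ A, a * y * a⁻¹ * y⁻¹ ∈ E := fun a ha => mul_mem (conjE a ha y hy) (inv_mem hy)
  have pH : 0 < Nat.card H := Nat.card_pos
  have p0 : 0 < Nat.card A0 := Nat.card_pos
  by_cases hb : ∀ x ∈ A0, x * y * x⁻¹ * y⁻¹ ∈ X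
  · -- β = 1
    have cF := cnt (E := E) hA A0A
    rw [← hH] at cF
    set L : Subgroup G := E ⊓ centralizer (A0 : Set G) with hL
    have HL : H ≤ L := le_inf inf_le_left (inf_le_right.trans (centralizer_le inf_le_left))
    have LeL : Le ≤ L := fun e he => ⟨LE he, mem_centralizer_iff.2 fun a ha => (mem0.1 ha).2 e he⟩
    have hsupL : Le ⊔ H ≤ L := sup_le LeL HL
    have cL := Subgroup.card_le_of_le hsupL
    rw [← cLH] at cL
    have hle : A0 ⊔ L ≤ O := sup_le (inf_le_left.trans hA.le) (inf_le_left.trans EO)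
    have hsq : ∀ a ∈ A0 ⊔ L, a ^ 2 = 1 :=
      sq_sup (fun a ha => hA.sq a ha.1) (fun a ha => Esq a ha.1) (comm_symm inf_le_right)
    have hmax := hA.max _ hle hsq
    have cAq : Nat.card A ≤ Nat.card Le * Nat.card A0 := by
      rw [cA]
      exact Nat.mul_le_mul_right _ (cAR.trans cR)
    have hMx : Mx O (A0 ⊔ L) := by
      refine hA.of_card hle hsq ?_
      apply Nat.le_of_mul_le_mul_right _ pH
      calc Nat.card A * Nat.card H ≤ Nat.card Le * Nat.card A0 * Nat.card H := Nat.mul_le_mul_right _ cAq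
        _ = Nat.card A0 * (Nat.card Le * Nat.card H) := by ring
        _ ≤ Nat.card A0 * Nat.card L := Nat.mul_le_mul_left _ cL
        _ ≤ _ := cF
    have hLcard : Nat.card L ≤ Nat.card Le * Nat.card H := by
      apply Nat.le_of_mul_le_mul_left _ p0
      calc Nat.card A0 * Nat.card L ≤ Nat.card (A0 ⊔ L : Subgroup G) * Nat.card H := cF
        _ ≤ Nat.card A * Nat.card H := Nat.mul_le_mul_right _ hmax
        _ ≤ Nat.card Le * Nat.card A0 * Nat.card H := Nat.mul_le_mul_right _ cAq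
        _ = _ := by ring
    have hLeq : Le ⊔ H = L := Subgroup.eq_of_le_of_card_ge hsupL (by rw [← cLH]; exact hLcard)
    have hyL : y ∈ L := use A0 A0A hb hMx
    rw [← hLeq] at hyL
    obtain ⟨e1, he1, d, hd, hyd⟩ := exists_mul_of_mem_sup (F := Le) (N := H)
      ((comm_symm LHc).trans (centralizer_le_normalizer _)) hyL
    -- `t y t⁻¹ = r y`
    have hr := LR t ht e1 he1
    set r : G := t * e1 * t⁻¹ * e1⁻¹ with hrdef
    have hty : t * y * t⁻¹ = r * y := by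
      have h1 : t * d * t⁻¹ = d := by rw [(memH.1 hd).2 t ht, mul_inv_cancel_right]
      calc t * y * t⁻¹ = (t * e1 * t⁻¹) * (t * d * t⁻¹) := by rw [hyd]; group
        _ = t * e1 * t⁻¹ * e1⁻¹ * (e1 * d) := by rw [h1]; group
        _ = r * y := by rw [← hyd]
    have htg : ∀ g ∈ Q, g * (t * y * t⁻¹) * g⁻¹ * (t * y * t⁻¹)⁻¹ = g * y * g⁻¹ * y⁻¹ := by
      intro g hg
      have h1 : g * r * g⁻¹ = r := by rw [RQ r hr g hg, mul_inv_cancel_right]
      have h2 : g * y * g⁻¹ * y⁻¹ ∈ E := (sup_le LE XE) (hyQ g hg)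
      have h3 := hEc r (RE hr) _ h2
      rw [hty]
      calc g * (r * y) * g⁻¹ * (r * y)⁻¹ = (g * r * g⁻¹) * (g * y * g⁻¹ * y⁻¹) * r⁻¹ := by group
        _ = g * y * g⁻¹ * y⁻¹ := by rw [h1, h3, mul_inv_cancel_right]
    intro g hg
    have hg' : t⁻¹ * g * t ∈ Q := by
      have h2 := (mem_normalizer_iff.1 (inv_mem tQ) g).1 hg
      rwa [inv_inv] at h2
    obtain ⟨e2, he2, x2, hx2, h2⟩ := hLX _ (hyQ _ hg')
    have e1' : t * (t⁻¹ * g * t * y * (t⁻¹ * g * t)⁻¹ * y⁻¹) * t⁻¹ = g * y * g⁻¹ * y⁻¹ := by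
      rw [← htg g hg]
      group
    rw [h2] at e1'
    have h3 : t * (e2 * x2) * t⁻¹ = (t * e2 * t⁻¹ * e2⁻¹) * (e2 * x2) := by
      calc t * (e2 * x2) * t⁻¹ = (t * e2 * t⁻¹) * (t * x2 * t⁻¹) := by group
        _ = (t * e2 * t⁻¹ * e2⁻¹) * (e2 * x2) := by rw [XAc t ht x2 hx2]; group
    have h4 : t * e2 * t⁻¹ * e2⁻¹ ∈ Le ⊔ X := by
      have h5 : t * e2 * t⁻¹ * e2⁻¹ = (g * y * g⁻¹ * y⁻¹) * (e2 * x2)⁻¹ := by
        rw [← e1', h3, mul_inv_cancel_right]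
      rw [h5]
      exact mul_mem (hyQ g hg) (inv_mem (mul_mem (mem_sup_left he2) (mem_sup_right hx2)))
    have h5 := dis _ (LR t ht e2 he2) h4
    have h6 : e2 = 1 := by
      by_contra hne
      refine hte0 (reg t ht e2 he2 hne ?_ e0 he0)
      calc t * e2 = (t * e2 * t⁻¹ * e2⁻¹) * (e2 * t) := by group
        _ = e2 * t := by rw [h5, one_mul]
    rw [h3, h5, one_mul, h6, one_mul] at e1'
    rw [← e1']
    exact hx2
  · -- β ≠ 1
    exfalso
    push Not at hb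
    obtain ⟨x0, hx0, hx0'⟩ := hb
    have hx0A := (mem0.1 hx0).1
    have k0 : ∀ x ∈ A0, ∃ e ∈ Le, ∃ ξ ∈ X, x * y * x⁻¹ * y⁻¹ = e * ξ := fun x hx =>
      hLX _ (hyQ x (AQ x (mem0.1 hx).1 (mem0.1 hx).2))
    -- the elements of `A₀` centralise `Le X`
    have c0 : ∀ x ∈ A0, ∀ m ∈ Le ⊔ X, x * m * x⁻¹ = m := by
      intro x hx m hm
      obtain ⟨e, he, ξ, hξ, rfl⟩ := hLX m hm
      have h1 : x * e * x⁻¹ = e := by rw [(mem0.1 hx).2 e he, mul_inv_cancel_right]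
      calc x * (e * ξ) * x⁻¹ = (x * e * x⁻¹) * (x * ξ * x⁻¹) := by group
        _ = e * ξ := by rw [h1, XAc x (mem0.1 hx).1 ξ hξ]
    have m0 : ∀ x ∈ A0, x * y * x⁻¹ * y⁻¹ ∈ Le ⊔ X := fun x hx => hyQ x (AQ x (mem0.1 hx).1 (mem0.1 hx).2)
    -- the product formula
    have hprod : ∀ a ∈ A0, ∀ b ∈ A0, a * b * y * (a * b)⁻¹ * y⁻¹ = (b * y * b⁻¹ * y⁻¹) * (a * y * a⁻¹ * y⁻¹) := by
      intro a ha b hb
      calc a * b * y * (a * b)⁻¹ * y⁻¹ = a * (b * y * b⁻¹ * y⁻¹) * a⁻¹ * (a * y * a⁻¹ * y⁻¹) := by group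
        _ = _ := by rw [c0 a ha _ (m0 b hb)]
    -- `K = ker β`
    let K : Subgroup G :=
      { carrier := {x | x ∈ A0 ∧ x * y * x⁻¹ * y⁻¹ ∈ X}
        one_mem' := ⟨one_mem _, by simp⟩
        mul_mem' := by
          rintro a b ⟨ha, ha'⟩ ⟨hb, hb'⟩
          refine ⟨mul_mem ha hb, ?_⟩
          rw [hprod a ha b hb]
          exact mul_mem hb' ha'
        inv_mem' := by
          rintro a ⟨ha, ha'⟩
          have h2 : a⁻¹ = a := inv_eq_of_mul_eq_one_right (by rw [← pow_two]; exact hA.sq a (mem0.1 ha).1)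
          rw [h2]
          exact ⟨ha, ha'⟩ }
    have memK : ∀ {x : G}, x ∈ K ↔ x ∈ A0 ∧ x * y * x⁻¹ * y⁻¹ ∈ X := Iff.rfl
    have KA0 : K ≤ A0 := fun x hx => (memK.1 hx).1
    have KA : K ≤ A := KA0.trans inf_le_left
    -- `|A₀ : K| ≤ |Le|`
    have cK0 := card_quot KA0
    have cK1 : Nat.card (A0 ⧸ K.subgroupOf A0) ≤ Nat.card Le := by
      classical
      choose! ε hε ξ hξ hk using k0
      refine card_quot_le ε hε fun a ha b hb hab => ?_
      refine memK.2 ⟨mul_mem (inv_mem ha) hb, ?_⟩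
      have h2 : a⁻¹ = a := inv_eq_of_mul_eq_one_right (by rw [← pow_two]; exact hA.sq a (mem0.1 ha).1)
      rw [h2, hprod a ha b hb, hk a ha, hk b hb, hab]
      have h3 : ε b * ξ b * (ε b * ξ a) = ξ b * ξ a := by
        have h4 : ε b * ε b = 1 := by rw [← pow_two]; exact Esq _ (LE (hε b hb))
        calc ε b * ξ b * (ε b * ξ a) = (ε b * ξ b) * ε b * ξ a := by group
          _ = (ξ b * ε b) * ε b * ξ a := by rw [hEc _ (LE (hε b hb)) _ (XE (hξ b hb))]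
          _ = ξ b * (ε b * ε b) * ξ a := by group
          _ = ξ b * ξ a := by rw [h4, mul_one]
      rw [h3]
      exact mul_mem (hξ b hb) (hξ a ha)
    have cK : Nat.card A0 ≤ Nat.card Le * Nat.card K := by
      rw [cK0]
      exact Nat.mul_le_mul_right _ cK1
    have cF := cnt (E := E) hA KA
    rw [← hH] at cF
    set M1 : Subgroup G := E ⊓ centralizer (A0 : Set G) with hM1
    set L : Subgroup G := E ⊓ centralizer (K : Set G) with hL
    have HM : H ≤ M1 := le_inf inf_le_left (inf_le_right.trans (centralizer_le inf_le_left))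
    have ML : M1 ≤ L := le_inf inf_le_left (inf_le_right.trans (centralizer_le KA0))
    have LeM : Le ≤ M1 := fun e he => ⟨LE he, mem_centralizer_iff.2 fun a ha => (mem0.1 ha).2 e he⟩
    have cM : Nat.card Le * Nat.card H ≤ Nat.card M1 := by
      rw [cLH]
      exact Subgroup.card_le_of_le (sup_le LeM HM)
    -- `y_t = [t, y]`
    have comt : ∀ s ∈ A, ∀ x ∈ A, x * (s * y * s⁻¹ * y⁻¹) * x⁻¹ =
        s * (x * y * x⁻¹ * y⁻¹) * s⁻¹ * (x * y * x⁻¹ * y⁻¹)⁻¹ * (s * y * s⁻¹ * y⁻¹) := by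
      intro s hs x hx
      have h1 : x * s = s * x := hAc x hx s hs
      have h2 : x * (s * y * s⁻¹) * x⁻¹ = s * (x * y * x⁻¹) * s⁻¹ := by
        calc x * (s * y * s⁻¹) * x⁻¹ = (x * s) * y * (x * s)⁻¹ := by group
          _ = s * (x * y * x⁻¹) * s⁻¹ := by rw [h1]; group
      have ytE : s * y * s⁻¹ * y⁻¹ ∈ E := kE s hs
      set yt : G := s * y * s⁻¹ * y⁻¹ with hyt
      set k : G := x * y * x⁻¹ * y⁻¹ with hk
      have h3 : x * y * x⁻¹ = k * y := by rw [hk]; group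
      have h4 : x * yt * x⁻¹ = s * (x * y * x⁻¹) * s⁻¹ * (x * y * x⁻¹)⁻¹ := by
        rw [← h2, hyt]
        group
      rw [h4, h3]
      have h5 : k⁻¹ * yt = yt * k⁻¹ := hEc _ (inv_mem (kE x hx)) _ ytE
      calc s * (k * y) * s⁻¹ * (k * y)⁻¹ = s * k * s⁻¹ * (s * y * s⁻¹ * y⁻¹) * k⁻¹ := by group
        _ = s * k * s⁻¹ * (yt * k⁻¹) := by rw [← hyt]; group
        _ = s * k * s⁻¹ * k⁻¹ * yt := by rw [← h5]; group
    -- `y_s ∈ L`
    have ytL : ∀ s ∈ A, s * y * s⁻¹ * y⁻¹ ∈ L := by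
      intro s hs
      refine ⟨kE s hs, mem_centralizer_iff.2 fun x hx => ?_⟩
      have h1 := comt s hs x (KA hx)
      rw [XAc s hs _ (memK.1 hx).2, mul_inv_cancel, one_mul] at h1
      calc x * (s * y * s⁻¹ * y⁻¹) = x * (s * y * s⁻¹ * y⁻¹) * x⁻¹ * x := by group
        _ = (s * y * s⁻¹ * y⁻¹) * x := by rw [h1]
    obtain ⟨ex, hex, ξx, hξx, hkx⟩ := k0 x0 hx0
    have exne : ex ≠ 1 := by
      rintro rfl
      rw [one_mul] at hkx
      exact hx0' (hkx ▸ hξx)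
    -- `x₀ y_s x₀⁻¹ y_s⁻¹ = [s, e_x]`
    have comx : ∀ s ∈ A, x0 * (s * y * s⁻¹ * y⁻¹) * x0⁻¹ = s * ex * s⁻¹ * ex⁻¹ * (s * y * s⁻¹ * y⁻¹) := by
      intro s hs
      rw [comt s hs x0 hx0A, hkx, hLXc s hs ex hex ξx hξx]
    have hcos := card_cosets (A := A) (A0 := A0) (L := L) (M := M1) (fun s => s * y * s⁻¹ * y⁻¹) ytL ML (by
      intro a ha b hb m hm hab
      refine sep ex hex exne a ha b hb ?_
      have h1 : x0 * m * x0⁻¹ = m := by
        rw [mem_centralizer_iff.1 hm.2 x0 hx0, mul_inv_cancel_right]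
      have h2 := comx a ha
      have h3 := comx b hb
      have hab' : a * y * a⁻¹ * y⁻¹ = (b * y * b⁻¹ * y⁻¹) * m := hab
      rw [hab'] at h2
      have h4 : x0 * ((b * y * b⁻¹ * y⁻¹) * m) * x0⁻¹ =
          b * ex * b⁻¹ * ex⁻¹ * ((b * y * b⁻¹ * y⁻¹) * m) := by
        calc x0 * ((b * y * b⁻¹ * y⁻¹) * m) * x0⁻¹ =
            (x0 * (b * y * b⁻¹ * y⁻¹) * x0⁻¹) * (x0 * m * x0⁻¹) := by group
          _ = b * ex * b⁻¹ * ex⁻¹ * (b * y * b⁻¹ * y⁻¹) * m := by rw [h3, h1]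
          _ = _ := by group
      rw [h4] at h2
      exact (mul_right_cancel (mul_right_cancel h2)).symm)
    obtain ⟨hc1, hc2⟩ := hcos
    set m : ℕ := Nat.card (A ⧸ A0.subgroupOf A) with hm
    have hle : K ⊔ L ≤ O := sup_le (KA.trans hA.le) (inf_le_left.trans EO)
    have hsq : ∀ a ∈ K ⊔ L, a ^ 2 = 1 :=
      sq_sup (fun a ha => hA.sq a (KA ha)) (fun a ha => Esq a ha.1) (comm_symm inf_le_right)
    have hmax := hA.max _ hle hsq
    have hMx : Mx O (K ⊔ L) := by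
      refine hA.of_card hle hsq ?_
      apply Nat.le_of_mul_le_mul_right _ pH
      calc Nat.card A * Nat.card H = m * Nat.card A0 * Nat.card H := by rw [cA]
        _ ≤ m * (Nat.card Le * Nat.card K) * Nat.card H :=
            Nat.mul_le_mul_right _ (Nat.mul_le_mul_left _ cK)
        _ = Nat.card K * (m * (Nat.card Le * Nat.card H)) := by ring
        _ ≤ Nat.card K * (m * Nat.card M1) := Nat.mul_le_mul_left _ (Nat.mul_le_mul_left _ cM)
        _ ≤ Nat.card K * Nat.card L := Nat.mul_le_mul_left _ hc1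
        _ ≤ _ := cF
    have hLcard : Nat.card L ≤ m * Nat.card M1 := by
      have pK : 0 < Nat.card K := Nat.card_pos
      apply Nat.le_of_mul_le_mul_left _ pK
      calc Nat.card K * Nat.card L ≤ Nat.card (K ⊔ L : Subgroup G) * Nat.card H := cF
        _ ≤ Nat.card A * Nat.card H := Nat.mul_le_mul_right _ hmax
        _ = m * Nat.card A0 * Nat.card H := by rw [cA]
        _ ≤ m * (Nat.card Le * Nat.card K) * Nat.card H :=
            Nat.mul_le_mul_right _ (Nat.mul_le_mul_left _ cK)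
        _ = Nat.card K * (m * (Nat.card Le * Nat.card H)) := by ring
        _ ≤ Nat.card K * (m * Nat.card M1) := Nat.mul_le_mul_left _ (Nat.mul_le_mul_left _ cM)
    have hyL : y ∈ L := use K KA (fun f hf => (memK.1 hf).2) hMx
    obtain ⟨s, hs, n, hn, hys⟩ := hc2 hLcard y hyL
    -- `[x₀, y] = [s, e_x] ∈ R`
    have h1 : x0 * n * x0⁻¹ = n := by
      rw [mem_centralizer_iff.1 hn.2 x0 hx0, mul_inv_cancel_right]
    have hys' : y = (s * y * s⁻¹ * y⁻¹) * n := hys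
    have h2 : x0 * y * x0⁻¹ * y⁻¹ = s * ex * s⁻¹ * ex⁻¹ := by
      have h3 : x0 * y * x0⁻¹ = s * ex * s⁻¹ * ex⁻¹ * y := by
        calc x0 * y * x0⁻¹ = x0 * ((s * y * s⁻¹ * y⁻¹) * n) * x0⁻¹ := by rw [← hys']
          _ = (x0 * (s * y * s⁻¹ * y⁻¹) * x0⁻¹) * (x0 * n * x0⁻¹) := by group
          _ = s * ex * s⁻¹ * ex⁻¹ * ((s * y * s⁻¹ * y⁻¹) * n) := by rw [comx s hs, h1]; group
          _ = s * ex * s⁻¹ * ex⁻¹ * y := by rw [← hys']
      rw [h3, mul_inv_cancel_right]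
    have h3 := dis _ (LR s hs ex hex) (h2 ▸ m0 x0 hx0)
    rw [h3] at h2
    exact hx0' (h2 ▸ one_mem _)

end Cfsg.Agent.Omega.NOThreeL.RWide.ZJQ
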