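import Cfsg.Agent.Omega.EDel.Bx.ZJBase
import Cfsg.Agent.Omega.KL.FlagNO
import Cfsg.Agent.Omega.KL.TwoS.Ex

/-!
# LEMMA ZJ+(q), base (helper371 #26038 (f1)): the GROUP form of helper8's `EDel/Bx/ZJBase.lean`

`Y` a K-group with Sylow 2-subgroup `T ≤ D = C_Y(Z₁)`, `X` central in `Y`, `{g ∈ Y | [g, Z₁] ≤ X} = D`,
`N = ⟨Z₁^Y⟩ ≤ Ω₁Z(O₂(Y))`, `LJ O = Ω₁Z(J(O))` (`ZJBase.LJ`).

* `OneF.no` : (NO) on `N X / X` (863's `flag_no` in `Y / X`);
* `OneF.k3` : `w ∈ N`, `[w, A] ≤ X` for `A` of maximal order in `O₂(D)` ⟹ `[w, A] = 1`;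
* `OneF.ex` : `A` is exact on `N`; `OneF.mx`, `OneF.sup_le_o2Y` : `C_A(N) N` is of maximal order and lies in `O₂(Y)`;
* `OneF.LJ_le`, `OneF.N_le_LJ`, `OneF.E_sup`, `OneF.E_cent`.
-/

set_option autoImplicit false
set_option linter.unusedSectionVars false

namespace Cfsg.Agent.Omega.NOThreeL.RWide.ZJQBase

open Subgroup Cfsg
open Cfsg.Agent.ZN (o2 zc)
open Cfsg.Agent.ZN.ChoiceSit (Syl o2_le_syl syl_not_dvd)
open Cfsg.Agent.Omega.EDel.ZJBase (LJ mem_LJ LJ_sq LJ_le_mem LJ_norm)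
open Cfsg.Agent.Omega.KL.TwoS (Mx comm_of_sq sq_sup relIndex_le_of_sup relIndex_anti)
open Cfsg.Agent.Omega.ML.Final (MLK)
open Cfsg.Agent.Omega.NoFF.Basic (V Z_le_V V_le mem_conj comm_symm)
open Cfsg.Agent.Omega.OM.KTwo (exists_mul_of_mem_sup le_normalizer_V)
open Cfsg.Agent.MinSimple.VModule (mem_zc zc_le o2_le o2_isPGroup le_o2 le_normalizer_o2 normalizer_le_normalizer_zc)
open Cfsg.Agent.Omega.TC.LemZ (card_eq le_norm_of)
open Cfsg.Agent.Omega.KL.FlagNO (flag_no flag_inf V_le_of_norm le_V')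
open scoped Pointwise

universe u

variable {G : Type u} [Group G] [Finite G]

/-- the frame of one block `b` : `Y = C_G(F_a : a ≠ b)`, `X = ⟨F_a : a ≠ b⟩`, `D = C_G(Ω₁Z(T))`, `Z₁ = F_b` -/
structure OneF (T D Y X Z₁ : Subgroup G) : Prop where
  kg : IsKGroup Y
  syl : Syl T Y
  TD : T ≤ D
  DY : D ≤ Y
  Dz : D ≤ centralizer (Z₁ : Set G)
  ZQ : Z₁ ≤ zc (o2 Y)
  XQ : X ≤ zc (o2 Y)
  XY : X ≤ centralizer (Y : Set G)
  st : ∀ g ∈ Y, (∀ z ∈ Z₁, g * z * g⁻¹ * z⁻¹ ∈ X) → g ∈ D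

variable {T D Y X Z₁ : Subgroup G}

namespace OneF

variable (h : OneF T D Y X Z₁)
include h

theorem mem_D {g : G} (hg : g ∈ Y) (hz : ∀ z ∈ Z₁, g * z = z * g) : g ∈ D :=
  h.st g hg fun z hzZ => by rw [hz z hzZ, mul_inv_cancel_right, mul_inv_cancel]; exact one_mem _

theorem D_eq : Y ⊓ centralizer (Z₁ : Set G) = D :=
  le_antisymm (fun _ hx => h.mem_D hx.1 fun z hz => (mem_centralizer_iff.1 hx.2 z hz).symm) (le_inf h.DY h.Dz)

theorem Q_le : o2 Y ≤ o2 D :=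
  le_o2 ((o2_le_syl h.syl).trans h.TD) (o2_isPGroup _) (h.DY.trans (le_normalizer_o2 Y))

theorem N_le : V Z₁ Y ≤ zc (o2 Y) :=
  V_le_of_norm h.ZQ ((le_normalizer_o2 Y).trans (normalizer_le_normalizer_zc _))

theorem N_sq {x : G} (hx : x ∈ V Z₁ Y) : x ^ 2 = 1 := (mem_zc.1 (h.N_le hx)).2.2

theorem X_sq {x : G} (hx : x ∈ X) : x ^ 2 = 1 := (mem_zc.1 (h.XQ hx)).2.2

theorem X_comm {y x : G} (hy : y ∈ Y) (hx : x ∈ X) : y * x = x * y := mem_centralizer_iff.1 (h.XY hx) y hy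

theorem X_conj {y x : G} (hy : y ∈ Y) (hx : x ∈ X) : y * x * y⁻¹ = x := by
  rw [h.X_comm hy hx, mul_inv_cancel_right]

theorem NY : V Z₁ Y ≤ Y := h.N_le.trans ((zc_le _).trans (o2_le Y))

theorem XleY : X ≤ Y := h.XQ.trans ((zc_le _).trans (o2_le Y))

theorem ZY : Z₁ ≤ Y := h.ZQ.trans ((zc_le _).trans (o2_le Y))

theorem YX : Y ≤ normalizer (X : Set G) := le_norm_of fun _ hy _ hx => by rw [h.X_conj hy hx]; exact hx

theorem Y_norm_NX : Y ≤ normalizer ((V Z₁ Y ⊔ X : Subgroup G) : Set G) := by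
  refine le_norm_of fun c hc x hx => ?_
  obtain ⟨n, hn, e, he, rfl⟩ := exists_mul_of_mem_sup (h.XleY.trans (le_normalizer_V _ _)) hx
  have e1 : c * (n * e) * c⁻¹ = (c * n * c⁻¹) * (c * e * c⁻¹) := by group
  rw [e1, h.X_conj hc he]
  exact mul_mem (mem_sup_left ((mem_normalizer_iff.1 (le_normalizer_V Z₁ Y hc) n).1 hn)) (mem_sup_right he)

/-- elements of `Y` which centralise `N` modulo `X` centralise `N` -/
theorem ker {g : G} (hg : g ∈ Y) (hN : ∀ x ∈ V Z₁ Y, g * x * g⁻¹ * x⁻¹ ∈ X) : g ∈ centralizer (V Z₁ Y : Set G) := by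
  -- the conjugates of `g` lie in `D`
  have h1 : ∀ y ∈ Y, y⁻¹ * g * y ∈ D := by
    intro y hy
    refine h.st _ (mul_mem (mul_mem (inv_mem hy) hg) hy) fun z hz => ?_
    have hyz : y * z * y⁻¹ ∈ V Z₁ Y := (mem_normalizer_iff.1 (le_normalizer_V Z₁ Y hy) z).1 (le_V' Z₁ Y hz)
    have h2 := hN _ hyz
    have e : y⁻¹ * g * y * z * (y⁻¹ * g * y)⁻¹ * z⁻¹ = y⁻¹ * (g * (y * z * y⁻¹) * g⁻¹ * (y * z * y⁻¹)⁻¹) * y⁻¹⁻¹ := by
      group
    rw [e, h.X_conj (inv_mem hy) h2]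
    exact h2
  -- `g` centralises all conjugates of `Z₁`
  have h2 : V Z₁ Y ≤ centralizer ({g} : Set G) := by
    refine V_le fun p hp => ?_
    intro x hx
    rw [mem_conj] at hx
    have h3 := mem_centralizer_iff.1 (h.Dz (h1 p hp)) _ hx
    rw [mem_centralizer_singleton_iff]
    calc x * g = p * (p⁻¹ * x * p * (p⁻¹ * g * p)) * p⁻¹ := by group
      _ = p * (p⁻¹ * g * p * (p⁻¹ * x * p)) * p⁻¹ := by rw [h3]
      _ = g * x := by group
  rw [mem_centralizer_iff]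
  exact fun x hx => mem_centralizer_singleton_iff.1 (h2 hx)

/-- `O₂(D) ∩ C(N) ≤ O₂(Y)` -/
theorem cent_le {g : G} (hg : g ∈ o2 D) (hN : g ∈ centralizer (V Z₁ Y : Set G)) : g ∈ o2 Y := by
  have h1 := flag_inf (H := Y) (Z := Z₁) (B := o2 D) (by rw [h.D_eq])
  exact h1 ⟨hg, hN⟩

theorem NX_le : V Z₁ Y ⊔ X ≤ o2 D :=
  sup_le (h.N_le.trans ((zc_le _).trans h.Q_le)) (h.XQ.trans ((zc_le _).trans h.Q_le))

theorem NX_sq : ∀ x ∈ V Z₁ Y ⊔ X, x ^ 2 = 1 := fun _ hx => (mem_zc.1 ((sup_le h.N_le h.XQ) hx)).2.2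

theorem X_cent {A : Subgroup G} (hAY : A ≤ Y) : X ≤ centralizer (A : Set G) := h.XY.trans (centralizer_le hAY)

theorem mem_Y {x : G} (hx : x ∈ V Z₁ Y ⊔ X) : x ∈ Y := h.DY (o2_le D (h.NX_le hx))

/-- the elements of `N X` which `A` centralises modulo `X` -/
def CW (A : Subgroup G) : Subgroup G where
  carrier := {x | x ∈ V Z₁ Y ⊔ X ∧ ∀ a ∈ A, a * x * a⁻¹ * x⁻¹ ∈ X}
  one_mem' := ⟨one_mem _, fun a _ => by simp⟩
  mul_mem' := by
    rintro x y ⟨h1, h2⟩ ⟨k1, k2⟩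
    refine ⟨mul_mem h1 k1, fun a ha => ?_⟩
    have h3 : x * (a * y * a⁻¹ * y⁻¹) * x⁻¹ = a * y * a⁻¹ * y⁻¹ := h.X_conj (h.mem_Y h1) (k2 a ha)
    have e : a * (x * y) * a⁻¹ * (x * y)⁻¹ = (a * x * a⁻¹ * x⁻¹) * (x * (a * y * a⁻¹ * y⁻¹) * x⁻¹) := by group
    rw [e, h3]
    exact mul_mem (h2 a ha) (k2 a ha)
  inv_mem' := by
    rintro x ⟨h1, h2⟩
    refine ⟨inv_mem h1, fun a ha => ?_⟩
    have h3 : x⁻¹ * (a * x * a⁻¹ * x⁻¹)⁻¹ * x⁻¹⁻¹ = (a * x * a⁻¹ * x⁻¹)⁻¹ :=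
      h.X_conj (inv_mem (h.mem_Y h1)) (inv_mem (h2 a ha))
    have e : a * x⁻¹ * a⁻¹ * x⁻¹⁻¹ = x⁻¹ * (a * x * a⁻¹ * x⁻¹)⁻¹ * x⁻¹⁻¹ := by group
    rw [e, h3]
    exact inv_mem (h2 a ha)

/-- **(NO)** on `N X / X` -/
theorem no (hML : MLK.{u, u}) {A : Subgroup G} (hA : A ≤ o2 D) (hA2 : ∀ a ∈ A, a ^ 2 = 1) :
    (centralizer (V Z₁ Y : Set G)).relIndex A ≤ (h.CW A).relIndex (V Z₁ Y ⊔ X) := by
  set N : Subgroup G := V Z₁ Y with hN
  have hNC : N ≤ Y := h.NY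
  have hZC : Z₁ ≤ Y := h.ZY
  have hEC : X ≤ Y := h.XleY
  have hAC : A ≤ Y := (hA.trans (o2_le _)).trans h.DY
  have hnor : (X.subgroupOf Y).Normal := normal_subgroupOf_of_le_normalizer h.YX
  let π : Y →* Y ⧸ X.subgroupOf Y := QuotientGroup.mk' (X.subgroupOf Y)
  have hπ : Function.Surjective π := QuotientGroup.mk'_surjective _
  have hone : ∀ x y : Y, π x = π y ↔ (x : G) * (y : G)⁻¹ ∈ X := by
    intro x y
    rw [← mul_inv_eq_one, ← map_inv, ← map_mul, ← MonoidHom.mem_ker, QuotientGroup.ker_mk']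
    exact Iff.rfl
  have hcom : ∀ x y : Y, π x * π y = π y * π x ↔ (x : G) * y * (x : G)⁻¹ * (y : G)⁻¹ ∈ X := by
    intro x y
    rw [← map_mul, ← map_mul, hone]
    have e : ((x * y : Y) : G) * ((y * x : Y) : G)⁻¹ = (x : G) * y * (x : G)⁻¹ * (y : G)⁻¹ := by
      push_cast; group
    rw [e]
  set Zb : Subgroup (Y ⧸ X.subgroupOf Y) := (Z₁.subgroupOf Y).map π with hZb
  set Tb : Subgroup (Y ⧸ X.subgroupOf Y) := (T.subgroupOf Y).map π with hTb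
  set Ab : Subgroup (Y ⧸ X.subgroupOf Y) := (A.subgroupOf Y).map π with hAb
  -- `⟨Zb^Y⟩`
  have hV : V Zb (⊤ : Subgroup (Y ⧸ X.subgroupOf Y)) = ((N ⊔ X).subgroupOf Y).map π := by
    apply le_antisymm
    · refine V_le_of_norm ?_ ?_
      · exact map_mono fun z hz => mem_subgroupOf.2 (mem_sup_left ((le_V' Z₁ Y) (mem_subgroupOf.1 hz)))
      · refine le_norm_of fun g _ x hx => ?_
        obtain ⟨c, rfl⟩ := hπ g
        obtain ⟨y, hy, rfl⟩ := hx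
        rw [← map_inv, ← map_mul, ← map_mul]
        exact mem_map_of_mem π (mem_subgroupOf.2 ((mem_normalizer_iff.1 (h.Y_norm_NX c.2) _).1 (mem_subgroupOf.1 hy)))
    · let U : Subgroup G := ((V Zb (⊤ : Subgroup (Y ⧸ X.subgroupOf Y))).comap π).map Y.subtype
      have hU : ∀ x : Y, (x : G) ∈ U ↔ π x ∈ V Zb (⊤ : Subgroup (Y ⧸ X.subgroupOf Y)) := by
        intro x
        constructor
        · rintro ⟨y, hy, hyx⟩
          rw [← (Subtype.ext hyx : y = x)]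
          exact hy
        · exact fun hx => ⟨x, hx, rfl⟩
      have h1 : N ⊔ X ≤ U := by
        refine sup_le (V_le_of_norm (fun z hz => ?_) (le_norm_of fun c hc x hx => ?_)) fun e he => ?_
        · exact (hU ⟨z, hZC hz⟩).2 (le_V' _ _ (mem_map_of_mem π (mem_subgroupOf.2 hz)))
        · obtain ⟨y, hy, rfl⟩ := hx
          have h2 := (mem_normalizer_iff.1 (le_normalizer_V Zb (⊤ : Subgroup (Y ⧸ X.subgroupOf Y))
            (mem_top (π ⟨c, hc⟩))) (π y)).1 hy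
          rw [← map_inv, ← map_mul, ← map_mul] at h2
          exact (hU (⟨c, hc⟩ * y * ⟨c, hc⟩⁻¹)).2 h2
        · refine (hU ⟨e, hEC he⟩).2 ?_
          have h2 : π ⟨e, hEC he⟩ = 1 := by
            rw [← map_one π, hone]
            simpa using he
          rw [h2]
          exact one_mem _
      rintro _ ⟨y, hy, rfl⟩
      exact (hU y).1 (h1 (mem_subgroupOf.1 hy))
  -- centralisers
  have hcZ : centralizer (Zb : Set (Y ⧸ X.subgroupOf Y)) = (D.subgroupOf Y).map π := by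
    apply le_antisymm
    · intro g hg
      obtain ⟨c, rfl⟩ := hπ g
      refine mem_map_of_mem π (mem_subgroupOf.2 (h.st c c.2 fun z hz => ?_))
      have h1 := mem_centralizer_iff.1 hg (π ⟨z, hZC hz⟩) (mem_map_of_mem π (mem_subgroupOf.2 hz))
      exact (hcom c ⟨z, hZC hz⟩).1 h1.symm
    · rintro _ ⟨c, hc, rfl⟩
      rw [mem_centralizer_iff]
      rintro _ ⟨z, hz, rfl⟩
      rw [← map_mul, ← map_mul]
      exact congrArg π (Subtype.ext (mem_centralizer_iff.1 (h.Dz (mem_subgroupOf.1 hc)) z (mem_subgroupOf.1 hz)))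
  have key := flag_no hML (H := (⊤ : Subgroup (Y ⧸ X.subgroupOf Y))) (Z := Zb) (T := Tb) (B := Ab)
    ((h.syl.2.1.comap_of_injective Y.subtype Y.subtype_injective).map π) le_top (by
      rw [relIndex_top_right]
      exact fun h2 => syl_not_dvd h.syl (h2.trans (index_map_dvd _ hπ))) (by
      rw [hcZ]
      exact map_mono fun t ht => mem_subgroupOf.2 (h.TD (mem_subgroupOf.1 ht)))
    (ML.Final.sec_KG.sub _ (ML.Final.sec_KG.quo Y h.kg _) ⊤) (by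
      rw [hV]
      rintro _ ⟨x, hx, rfl⟩
      have h1 : x ^ 2 = 1 := Subtype.ext (h.NX_sq x (mem_subgroupOf.1 hx))
      rw [← map_pow, h1, map_one]) (by
      rw [top_inf_eq, hcZ]
      have h1 : Ab ≤ ((o2 D).subgroupOf Y).map π :=
        map_mono fun a ha => mem_subgroupOf.2 (hA (mem_subgroupOf.1 ha))
      refine h1.trans (le_o2 (map_mono fun a ha => mem_subgroupOf.2 (o2_le _ (mem_subgroupOf.1 ha)))
        (((o2_isPGroup _).comap_of_injective Y.subtype Y.subtype_injective).map π) ?_)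
      refine (map_mono ?_).trans (le_normalizer_map π)
      intro c hc
      rw [mem_normalizer_iff]
      intro x
      exact mem_normalizer_iff.1 (le_normalizer_o2 _ (mem_subgroupOf.1 hc)) (x : G)) (by
      rintro _ ⟨x, hx, rfl⟩
      have h1 : x ^ 2 = 1 := Subtype.ext (hA2 x (mem_subgroupOf.1 hx))
      rw [← map_pow, h1, map_one])
  -- translate
  have e1 : (centralizer (N : Set G)).relIndex A ≤
      (centralizer (V Zb (⊤ : Subgroup (Y ⧸ X.subgroupOf Y)) : Set (Y ⧸ X.subgroupOf Y))).relIndex Ab := by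
    rw [hAb, ← relIndex_comap, ← relIndex_subgroupOf hAC]
    rw [← inf_relIndex_left (A.subgroupOf Y)
      ((centralizer (V Zb (⊤ : Subgroup (Y ⧸ X.subgroupOf Y)) : Set (Y ⧸ X.subgroupOf Y))).comap π)]
    refine relIndex_anti fun c hc => ?_
    refine mem_subgroupOf.2 (h.ker c.2 fun x hx => ?_)
    have h2 : π ⟨x, hNC hx⟩ ∈ V Zb (⊤ : Subgroup (Y ⧸ X.subgroupOf Y)) := by
      rw [hV]
      exact mem_map_of_mem π (mem_subgroupOf.2 (mem_sup_left hx))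
    have h3 := mem_centralizer_iff.1 (mem_comap.1 hc.2) _ h2
    exact (hcom c ⟨x, hNC hx⟩).1 h3.symm
  have e2 : (centralizer (Ab : Set (Y ⧸ X.subgroupOf Y))).relIndex
      (V Zb (⊤ : Subgroup (Y ⧸ X.subgroupOf Y))) = (h.CW A).relIndex (N ⊔ X) := by
    rw [hV, ← relIndex_comap, ← relIndex_subgroupOf (sup_le hNC hEC), ← inf_relIndex_right,
      ← inf_relIndex_right ((h.CW A).subgroupOf Y)]
    congr 1
    ext x
    constructor
    · rintro ⟨h1, h2⟩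
      refine ⟨mem_subgroupOf.2 ⟨mem_subgroupOf.1 h2, fun a ha => ?_⟩, h2⟩
      have h3 := mem_centralizer_iff.1 (mem_comap.1 h1) (π ⟨a, hAC ha⟩) (mem_map_of_mem π (mem_subgroupOf.2 ha))
      exact (hcom ⟨a, hAC ha⟩ x).1 h3
    · rintro ⟨h1, h2⟩
      refine ⟨mem_comap.2 (mem_centralizer_iff.2 ?_), h2⟩
      rintro _ ⟨a, ha, rfl⟩
      exact (hcom a x).2 ((mem_subgroupOf.1 h1).2 a (mem_subgroupOf.1 ha))
  exact (e1.trans key).trans e2.le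

variable {A : Subgroup G}

theorem A_le (hA : Mx (o2 D) A) : A ≤ Y := hA.le.trans ((o2_le D).trans h.DY)

/-- `C_A(N X) = C_A(N)` -/
theorem cent_NX (hA : Mx (o2 D) A) :
    A ⊓ centralizer ((V Z₁ Y ⊔ X : Subgroup G) : Set G) = A ⊓ centralizer (V Z₁ Y : Set G) := by
  refine le_antisymm (inf_le_inf_left _ (centralizer_le (le_sup_left : V Z₁ Y ≤ V Z₁ Y ⊔ X))) ?_
  refine le_inf inf_le_left ?_
  have h1 : V Z₁ Y ⊔ X ≤ centralizer ((A ⊓ centralizer (V Z₁ Y : Set G) : Subgroup G) : Set G) :=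
    sup_le (comm_symm inf_le_right) ((h.X_cent (h.A_le hA)).trans (centralizer_le inf_le_left))
  exact comm_symm h1

/-- `C_{NX/X}(A)` is the image of `C_{NX}(A)` -/
theorem CW_eq (hML : MLK.{u, u}) (hA : Mx (o2 D) A) :
    (V Z₁ Y ⊔ X) ⊓ centralizer (A : Set G) = h.CW A := by
  have hle : (V Z₁ Y ⊔ X) ⊓ centralizer (A : Set G) ≤ h.CW A := by
    intro x hx
    refine ⟨hx.1, fun a ha => ?_⟩
    rw [mem_centralizer_iff.1 hx.2 a ha, mul_inv_cancel_right, mul_inv_cancel]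
    exact one_mem _
  have h1 := hA.thom h.NX_le h.NX_sq
  have h2 : (centralizer ((V Z₁ Y ⊔ X : Subgroup G) : Set G)).relIndex A = (centralizer (V Z₁ Y : Set G)).relIndex A := by
    rw [← inf_relIndex_left A (centralizer ((V Z₁ Y ⊔ X : Subgroup G) : Set G)), h.cent_NX hA, inf_relIndex_left]
  rw [h2] at h1
  have h3 := h1.trans (h.no hML hA.le hA.sq)
  have h4 := card_eq (V Z₁ Y ⊔ X) (centralizer (A : Set G))
  have h5 := card_eq (V Z₁ Y ⊔ X) (h.CW A)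
  have h6 : (V Z₁ Y ⊔ X) ⊓ h.CW A = h.CW A := inf_eq_right.2 fun x hx => hx.1
  rw [h6] at h5
  refine Subgroup.eq_of_le_of_card_ge hle ?_
  have p1 : 0 < (h.CW A).relIndex (V Z₁ Y ⊔ X) := by
    rcases Nat.eq_zero_or_pos ((h.CW A).relIndex (V Z₁ Y ⊔ X)) with h0 | h0
    · have p2 : 0 < Nat.card (V Z₁ Y ⊔ X : Subgroup G) := Nat.card_pos
      rw [h5, h0, mul_zero] at p2
      exact absurd p2 (lt_irrefl 0)
    · exact h0
  apply Nat.le_of_mul_le_mul_right _ p1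
  calc Nat.card (h.CW A) * (h.CW A).relIndex (V Z₁ Y ⊔ X) = Nat.card (V Z₁ Y ⊔ X : Subgroup G) := h5.symm
    _ = Nat.card ((V Z₁ Y ⊔ X) ⊓ centralizer (A : Set G) : Subgroup G) *
        (centralizer (A : Set G)).relIndex (V Z₁ Y ⊔ X) := h4
    _ ≤ _ := Nat.mul_le_mul_left _ h3

/-- **(K3)** -/
theorem k3 (hML : MLK.{u, u}) (hA : Mx (o2 D) A) {w : G} (hw : w ∈ V Z₁ Y)
    (hX : ∀ a ∈ A, a * w * a⁻¹ * w⁻¹ ∈ X) : ∀ a ∈ A, a * w = w * a := by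
  have h1 : w ∈ h.CW A := ⟨mem_sup_left hw, hX⟩
  rw [← h.CW_eq hML hA] at h1
  exact fun a ha => mem_centralizer_iff.1 h1.2 a ha

/-- **(NO)** : `A` is exact on `N` -/
theorem ex (hML : MLK.{u, u}) (hA : Mx (o2 D) A) :
    (centralizer (V Z₁ Y : Set G)).relIndex A ≤ (centralizer (A : Set G)).relIndex (V Z₁ Y) := by
  refine (h.no hML hA.le hA.sq).trans ?_
  rw [← h.CW_eq hML hA, inf_relIndex_left]
  refine relIndex_le_of_sup le_sup_left (comm_of_sq h.NX_sq) (sup_le le_sup_left ?_)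
  exact (le_inf le_sup_right (h.X_cent (h.A_le hA))).trans le_sup_right

/-- `C_A(N) N` is of maximal order -/
theorem mx (hML : MLK.{u, u}) (hA : Mx (o2 D) A) : Mx (o2 D) (A ⊓ centralizer (V Z₁ Y : Set G) ⊔ V Z₁ Y) :=
  hA.sup (le_sup_left.trans h.NX_le) (fun _ hx => h.N_sq hx) (h.ex hML hA)

theorem sup_le_o2Y (hA : Mx (o2 D) A) : A ⊓ centralizer (V Z₁ Y : Set G) ⊔ V Z₁ Y ≤ o2 Y :=
  sup_le (fun _ hx => h.cent_le (hA.le hx.1) hx.2) (h.N_le.trans (zc_le _))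

theorem mxY (hML : MLK.{u, u}) (hA : Mx (o2 D) A) : Mx (o2 Y) (A ⊓ centralizer (V Z₁ Y : Set G) ⊔ V Z₁ Y) :=
  ⟨h.sup_le_o2Y hA, (h.mx hML hA).sq, fun C hC hC2 => (h.mx hML hA).max C (hC.trans h.Q_le) hC2⟩

/-- `𝒜(O₂(Y)) ⊆ 𝒜(O₂(D))` -/
theorem mx_of (hML : MLK.{u, u}) {A' : Subgroup G} (hA' : Mx (o2 Y) A') : Mx (o2 D) A' := by
  obtain ⟨A, hA⟩ := Mx.exists_mx (o2 D)
  have h1 := h.mx hML hA
  exact h1.of_card (hA'.le.trans h.Q_le) hA'.sq (hA'.max _ (h.sup_le_o2Y hA) h1.sq)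

theorem LJ_le (hML : MLK.{u, u}) : LJ (o2 D) ≤ LJ (o2 Y) := by
  rintro x ⟨h1, h2, h3⟩
  refine ⟨?_, h2, fun A' hA' => h3 A' (h.mx_of hML hA')⟩
  obtain ⟨A, hA⟩ := Mx.exists_mx (o2 D)
  exact h.cent_le h1 (centralizer_le (le_sup_right : V Z₁ Y ≤ A ⊓ centralizer (V Z₁ Y : Set G) ⊔ V Z₁ Y)
    (h3 _ (h.mx hML hA)))

theorem N_le_LJ : V Z₁ Y ≤ LJ (o2 Y) := by
  intro x hx
  have h1 := mem_zc.1 (h.N_le hx)
  exact ⟨h1.1, h1.2.2, fun A hA => mem_centralizer_iff.2 fun a ha => h1.2.1 a (hA.le ha)⟩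

theorem X_le_LJ : X ≤ LJ (o2 Y) := by
  intro x hx
  have h1 := mem_zc.1 (h.XQ hx)
  exact ⟨h1.1, h1.2.2, fun A hA => mem_centralizer_iff.2 fun a ha => h1.2.1 a (hA.le ha)⟩

theorem E_cent : LJ (o2 Y) ≤ centralizer (V Z₁ Y : Set G) := by
  intro x hx
  rw [mem_centralizer_iff]
  intro n hn
  exact ((mem_zc.1 (h.N_le hn)).2.1 x hx.1).symm

theorem Y_norm_LJ : Y ≤ normalizer (LJ (o2 Y) : Set G) := (le_normalizer_o2 Y).trans (LJ_norm _)

/-- `E = N C_E(A)` -/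
theorem E_sup (hML : MLK.{u, u}) (hA : Mx (o2 D) A) :
    LJ (o2 Y) ≤ V Z₁ Y ⊔ (LJ (o2 Y) ⊓ centralizer (A : Set G)) := by
  intro x hx
  have h1 := LJ_le_mem (h.mxY hML hA) hx
  obtain ⟨c, hc, n, hn, rfl⟩ := exists_mul_of_mem_sup
    ((comm_symm inf_le_right).trans (centralizer_le_normalizer _)) h1
  refine mul_mem (mem_sup_right (mem_inf.2 ⟨?_, hA.comm hc.1⟩)) (mem_sup_left hn)
  have h2 := mul_mem hx (inv_mem (h.N_le_LJ hn))
  rwa [mul_inv_cancel_right] at h2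

end OneF

end Cfsg.Agent.Omega.NOThreeL.RWide.ZJQBase
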